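import Mathlib.RingTheory.HopfAlgebra.Convolution
import Mathlib.RingTheory.Bialgebra.Convolution

/-! Antipode of a commutative Hopf algebra: anti-coalgebra map and involutive (helper27). -/

set_option autoImplicit false
open TensorProduct WithConv

namespace Groth.Agent.Lib.Helper27.HopfAnt

variable {k : Type*} [CommRing k] {A : Type*} [CommRing A] [HopfAlgebra k A]

/-- `S ∘ S = id` for a commutative Hopf algebra. -/
theorem antipode_antipode (a : A) :
    HopfAlgebra.antipode k (HopfAlgebra.antipode k a) = a := by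
  have h : ((toConv (AlgHom.id k A))⁻¹)⁻¹ = toConv (AlgHom.id k A) := inv_inv _
  have h2 : ((toConv (AlgHom.id k A))⁻¹)⁻¹ =
      toConv (((AlgHom.id k A).comp (HopfAlgebra.antipodeAlgHom k A)).comp
        (HopfAlgebra.antipodeAlgHom k A)) := rfl
  rw [h2] at h
  have := congrArg (fun f : WithConv (A →ₐ[k] A) => f.ofConv a) h
  simpa using this

/-- the comultiplication as the convolution product of the two inclusions -/
theorem comul_eq_mul :
    toConv (Bialgebra.comulAlgHom k A) =
      toConv (Algebra.TensorProduct.includeLeft : A →ₐ[k] A ⊗[k] A) *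
        toConv (Algebra.TensorProduct.includeRight : A →ₐ[k] A ⊗[k] A) := by
  rw [AlgHom.convMul_def]
  congr 1
  have : (Algebra.TensorProduct.lmul' k).comp
      (Algebra.TensorProduct.map (Algebra.TensorProduct.includeLeft : A →ₐ[k] A ⊗[k] A)
        (Algebra.TensorProduct.includeRight : A →ₐ[k] A ⊗[k] A)) = AlgHom.id k (A ⊗[k] A) := by
    ext <;> simp
  rw [← AlgHom.comp_assoc, ofConv_toConv, ofConv_toConv, this, AlgHom.id_comp]

/-- `Δ ∘ S = (S ⊗ S) ∘ swap ∘ Δ` for a commutative Hopf algebra. -/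
theorem comul_antipode (a : A) :
    Coalgebra.comul (R := k) (HopfAlgebra.antipode k a) =
      TensorProduct.map (HopfAlgebra.antipode k) (HopfAlgebra.antipode k)
        (TensorProduct.comm k A A (Coalgebra.comul (R := k) a)) := by
  have h1 : (toConv (Bialgebra.comulAlgHom k A))⁻¹ =
      (toConv (Algebra.TensorProduct.includeRight : A →ₐ[k] A ⊗[k] A))⁻¹ *
        (toConv (Algebra.TensorProduct.includeLeft : A →ₐ[k] A ⊗[k] A))⁻¹ := by
    rw [comul_eq_mul]
    exact mul_inv_rev (G := WithConv (A →ₐ[k] A ⊗[k] A)) _ _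
  have h2 : (toConv (Bialgebra.comulAlgHom k A))⁻¹ =
      toConv ((Bialgebra.comulAlgHom k A).comp (HopfAlgebra.antipodeAlgHom k A)) := rfl
  have h3 := congrArg (fun f : WithConv (A →ₐ[k] A ⊗[k] A) => f.ofConv a) h1
  simp only [h2, ofConv_toConv] at h3
  have h4 : ((Bialgebra.comulAlgHom k A).comp (HopfAlgebra.antipodeAlgHom k A)) a =
      Coalgebra.comul (R := k) (HopfAlgebra.antipode k a) := rfl
  rw [h4] at h3
  rw [h3]
  change ((toConv (Algebra.TensorProduct.includeRight : A →ₐ[k] A ⊗[k] A))⁻¹ *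
        (toConv (Algebra.TensorProduct.includeLeft : A →ₐ[k] A ⊗[k] A))⁻¹) a = _
  rw [AlgHom.convMul_apply]
  have h5 : (Algebra.TensorProduct.lift
      (toConv (Algebra.TensorProduct.includeRight : A →ₐ[k] A ⊗[k] A))⁻¹.ofConv
      (toConv (Algebra.TensorProduct.includeLeft : A →ₐ[k] A ⊗[k] A))⁻¹.ofConv
      (fun _ _ => Commute.all _ _)).toLinearMap =
      (TensorProduct.map (HopfAlgebra.antipode k) (HopfAlgebra.antipode k)) ∘ₗ
        (TensorProduct.comm k A A).toLinearMap := by
    apply TensorProduct.ext'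
    intro x y
    change (Algebra.TensorProduct.lift _ _ (fun _ _ => Commute.all _ _)) (x ⊗ₜ[k] y) = _
    rw [Algebra.TensorProduct.lift_tmul]
    change ((Algebra.TensorProduct.includeRight : A →ₐ[k] A ⊗[k] A) (HopfAlgebra.antipode k x)) *
      ((Algebra.TensorProduct.includeLeft : A →ₐ[k] A ⊗[k] A) (HopfAlgebra.antipode k y)) = _
    simp
  exact LinearMap.congr_fun h5 _

end Groth.Agent.Lib.Helper27.HopfAnt
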