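import Groth.Agent.Lib.Helper27.SemiGroupLike
import Groth.Prelude.Def_SGA3b

/-! Quotients of diagonalisable groups over a field are diagonalisable (after the same
base change) (helper27). -/

set_option autoImplicit false
open TensorProduct

namespace Groth.Agent.Lib.Helper27.MultRigid

universe u

/-- A commutative Hopf algebra over a field spanned by its group-like elements is a group algebra. -/
theorem isDiag_of_span_groupLike {L : Type u} [Field L] {H : Type u} [CommRing H] [HopfAlgebra L H]
    (hspan : Submodule.span L {h : H | IsGroupLikeElem L h} = ⊤) : SGA3b.IsDiag L H := by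
  refine ⟨GroupLike L H, inferInstance, ⟨(BialgEquiv.ofBijective
    (MonoidAlgebra.liftGroupLikeBialgHom (R := L) (A := H)) ⟨?_, ?_⟩).symm⟩⟩
  · -- injective
    have hlin : ∀ x : MonoidAlgebra L (GroupLike L H),
        MonoidAlgebra.liftGroupLikeBialgHom (R := L) (A := H) x =
          Finsupp.linearCombination L (GroupLike.val (R := L) (A := H))
            (MonoidAlgebra.coeffLinearEquiv L x) := by
      intro x
      induction x using MonoidAlgebra.induction_on with
      | of g => simp [MonoidAlgebra.of_apply]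
      | add x y hx hy => rw [map_add, map_add, map_add, hx, hy]
      | smul r x hx => rw [map_smul, map_smul, map_smul, hx]
    have hli := (linearIndependent_iff_injective_finsuppLinearCombination (R := L)
      (v := (GroupLike.val (R := L) (A := H)))).1 linearIndep_groupLikeVal
    intro x y hxy
    rw [hlin, hlin] at hxy
    exact (MonoidAlgebra.coeffLinearEquiv L).injective (hli hxy)
  · -- surjective
    intro h
    have hh : h ∈ Submodule.span L {h : H | IsGroupLikeElem L h} := by rw [hspan]; trivial
    induction hh using Submodule.span_induction with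
    | mem x hx =>
      refine ⟨MonoidAlgebra.single ⟨x, hx⟩ 1, ?_⟩
      simp
    | zero => exact ⟨0, map_zero _⟩
    | add x y _ _ hx hy =>
      obtain ⟨a, rfl⟩ := hx
      obtain ⟨b, rfl⟩ := hy
      exact ⟨a + b, map_add _ _ _⟩
    | smul r x _ hx =>
      obtain ⟨a, rfl⟩ := hx
      exact ⟨r • a, map_smul _ _ _⟩


/-- If `R' ⊗ A₁` is a group algebra over `R'` and `π : A₁ → Q₁` is a surjective bialgebra map,
then for every maximal ideal `m` of `R'` the base change of `Q₁` to `R' ⧸ m` is diagonalisable. -/
theorem isDiag_quot {F : Type u} [CommRing F] {A₁ Q₁ : Type u} [CommRing A₁] [HopfAlgebra F A₁]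
    [CommRing Q₁] [HopfAlgebra F Q₁] (π : A₁ →ₐc[F] Q₁) (hπ : Function.Surjective π)
    {R' : Type u} [CommRing R'] [Algebra F R'] {M : Type u} [CommGroup M]
    (e : (R' ⊗[F] A₁) ≃ₐc[R'] MonoidAlgebra R' M) (m : Ideal R') [hm : m.IsMaximal] :
    SGA3b.IsDiag (R' ⧸ m) ((R' ⧸ m) ⊗[F] Q₁) := by
  letI : Field (R' ⧸ m) := Ideal.Quotient.field m
  apply isDiag_of_span_groupLike
  set L := R' ⧸ m with hL
  set θ₁ : A₁ →ₗ[F] L ⊗[F] Q₁ :=
    ((bcMap L Q₁).restrictScalars F) ∘ₗ (π : A₁ →ₗc[F] Q₁).toLinearMap with hθ₁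
  have h1 : IsSemiComul (R := F) (R' := L) θ₁ :=
    IsSemiComul.comp (R := F) (R₁ := F) (R₂ := L) (isSemiComul_coalgHom (π : A₁ →ₗc[F] Q₁))
      (isSemiComul_bcMap (R := F) (R' := L) (A := Q₁))
  have h2 : IsSemiCounit (R := F) (R' := L) θ₁ := by
    intro a
    change Coalgebra.counit (R := L) ((1 : L) ⊗ₜ[F] π a) = _
    rw [TensorProduct.counit_tmul]
    have : Coalgebra.counit (R := F) (π a) = Coalgebra.counit (R := F) a :=
      CoalgHomClass.counit_comp_apply π a
    rw [this, Algebra.algebraMap_eq_smul_one]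
    rfl
  set Θ : R' ⊗[F] A₁ →ₗ[R'] L ⊗[F] Q₁ := θ₁.liftBaseChange R' with hΘ
  have H1 : IsSemiComul (R := R') (R' := L) Θ := h1.liftBaseChange
  have H2 : IsSemiCounit (R := R') (R' := L) Θ := h2.liftBaseChange
  set S := Submodule.span L {h : L ⊗[F] Q₁ | IsGroupLikeElem L h} with hS
  have key : ∀ y : MonoidAlgebra R' M, y ∈ Submodule.span R' {y | IsGroupLikeElem R' y} →
      Θ (e.symm y) ∈ S := by
    intro y hy
    induction hy using Submodule.span_induction with
    | mem y hy =>
      apply Submodule.subset_span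
      exact isGroupLikeElem_of_semi H1 H2 ((isGroupLikeElem_map_equiv e.symm).2 hy)
    | zero => simp
    | add x y _ _ hx hy => rw [map_add, map_add]; exact S.add_mem hx hy
    | smul r x _ hx =>
      rw [map_smul, map_smul, ← algebraMap_smul L r]
      exact S.smul_mem _ hx
  have key2 : ∀ x : R' ⊗[F] A₁, Θ x ∈ S := by
    intro x
    have := key (e x) (by rw [MonoidAlgebra.span_isGroupLikeElem]; trivial)
    simpa using this
  rw [eq_top_iff]
  rintro h -
  induction h using TensorProduct.induction_on with
  | zero => exact S.zero_mem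
  | tmul l q =>
    obtain ⟨a, rfl⟩ := hπ q
    have : l ⊗ₜ[F] π a = l • Θ ((1 : R') ⊗ₜ[F] a) := by
      rw [hΘ, LinearMap.liftBaseChange_tmul, one_smul]
      change _ = l • ((1 : L) ⊗ₜ[F] π a)
      rw [TensorProduct.smul_tmul', smul_eq_mul, mul_one]
    rw [this]
    exact S.smul_mem _ (key2 _)
  | add x y hx hy => exact S.add_mem hx hy

end Groth.Agent.Lib.Helper27.MultRigid
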