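import Groth.Agent.Lib.Helper27.MultRigid
import Mathlib.RingTheory.Coalgebra.GroupLike
import Mathlib.RingTheory.Bialgebra.GroupLike
import Mathlib.RingTheory.HopfAlgebra.GroupLike
import Mathlib.RingTheory.Bialgebra.Equiv
import Mathlib.RingTheory.TensorProduct.Basic

/-! Semi-linear coalgebra maps, group-like elements and diagonalisability of quotients (helper27). -/

set_option autoImplicit false
open TensorProduct

namespace Groth.Agent.Lib.Helper27.MultRigid

section SemiCounit

variable {R : Type*} [CommRing R] {R' : Type*} [CommRing R'] [Algebra R R']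
variable {A : Type*} [AddCommGroup A] [Module R A] [Coalgebra R A]
variable {B : Type*} [AddCommGroup B] [Module R' B] [Module R B] [IsScalarTower R R' B]
  [Coalgebra R' B]

/-- `θ` is compatible with the counits (semilinearly w.r.t. `R → R'`). -/
def IsSemiCounit (θ : A →ₗ[R] B) : Prop :=
  ∀ a, Coalgebra.counit (R := R') (θ a) = algebraMap R R' (Coalgebra.counit (R := R) a)

theorem isGroupLikeElem_of_semi {θ : A →ₗ[R] B} (h1 : IsSemiComul (R := R) (R' := R') θ)
    (h2 : IsSemiCounit (R := R) (R' := R') θ) {g : A} (hg : IsGroupLikeElem R g) :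
    IsGroupLikeElem R' (θ g) where
  counit_eq_one := by rw [h2, hg.counit_eq_one, map_one]
  comul_eq_tmul_self := by rw [h1, hg.comul_eq_tmul_self, Xi_tmul]

end SemiCounit

section Extend

variable {R : Type*} [CommRing R] {R₁ : Type*} [CommRing R₁] [Algebra R R₁]
  {R₂ : Type*} [CommRing R₂] [Algebra R₁ R₂] [Algebra R R₂] [IsScalarTower R R₁ R₂]
variable {A : Type*} [AddCommGroup A] [Module R A] [Coalgebra R A]
variable {B : Type*} [AddCommGroup B] [Module R₂ B] [Module R₁ B] [Module R B]
  [IsScalarTower R₁ R₂ B] [IsScalarTower R R₂ B] [IsScalarTower R R₁ B] [Coalgebra R₂ B]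

theorem Xi_lift_bcMap (θ : A →ₗ[R] B) (z : A ⊗[R] A) :
    Xi (R := R₁) (R' := R₂) (θ.liftBaseChange R₁) (Xi (R := R) (R' := R₁) (bcMap R₁ A) z) =
      Xi (R := R) (R' := R₂) θ z := by
  induction z using TensorProduct.induction_on with
  | zero => simp
  | tmul x y => simp
  | add x y hx hy => rw [map_add, map_add, map_add, hx, hy]

theorem IsSemiComul.liftBaseChange {θ : A →ₗ[R] B} (h : IsSemiComul (R := R) (R' := R₂) θ) :
    IsSemiComul (R := R₁) (R' := R₂) (θ.liftBaseChange R₁) := by
  intro z
  induction z using TensorProduct.induction_on with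
  | zero => simp
  | tmul r a =>
    have hra : r ⊗ₜ[R] a = r • bcMap R₁ A a := by
      rw [bcMap_apply, TensorProduct.smul_tmul', smul_eq_mul, mul_one]
    have hL : Coalgebra.comul (R := R₂) (θ.liftBaseChange R₁ (r ⊗ₜ[R] a)) =
        algebraMap R₁ R₂ r • Xi (R := R) (R' := R₂) θ (Coalgebra.comul (R := R) a) := by
      rw [LinearMap.liftBaseChange_tmul, ← algebraMap_smul R₂ r (θ a), map_smul, h a]
    have hR : Xi (R := R₁) (R' := R₂) (θ.liftBaseChange R₁)
        (Coalgebra.comul (R := R₁) (r ⊗ₜ[R] a)) =
        r • Xi (R := R) (R' := R₂) θ (Coalgebra.comul (R := R) a) := by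
      rw [hra, map_smul, map_smul, isSemiComul_bcMap (R := R) (R' := R₁) a, Xi_lift_bcMap]
    rw [hL, hR, algebraMap_smul]
  | add x y hx hy => rw [map_add, map_add, map_add, map_add, hx, hy]

theorem IsSemiCounit.liftBaseChange {θ : A →ₗ[R] B} (h : IsSemiCounit (R := R) (R' := R₂) θ) :
    IsSemiCounit (R := R₁) (R' := R₂) (θ.liftBaseChange R₁) := by
  intro z
  induction z using TensorProduct.induction_on with
  | zero => simp
  | tmul r a =>
    rw [LinearMap.liftBaseChange_tmul, ← algebraMap_smul R₂ r (θ a), map_smul, h a,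
      TensorProduct.counit_tmul, smul_eq_mul]
    simp [Algebra.smul_def, IsScalarTower.algebraMap_apply R R₁ R₂, mul_comm]
  | add x y hx hy => rw [map_add, map_add, map_add, map_add, hx, hy]

end Extend

end Groth.Agent.Lib.Helper27.MultRigid
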