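import Mathlib.RingTheory.Coalgebra.Convolution
import Mathlib.RingTheory.Coalgebra.TensorProduct
import Mathlib.RingTheory.Coalgebra.MonoidAlgebra
import Mathlib.RingTheory.Bialgebra.MonoidAlgebra
import Mathlib.RingTheory.HopfAlgebra.MonoidAlgebra
import Mathlib.RingTheory.Bialgebra.TensorProduct
import Mathlib.RingTheory.HopfAlgebra.TensorProduct
import Mathlib.RingTheory.Flat.FaithfullyFlat.Basic
import Mathlib.RingTheory.Ideal.Maps
import Mathlib.Tactic.NoncommRing
import Mathlib.Tactic.Ring
import Mathlib.Tactic.Abel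

/-! Rigidity of homomorphisms from groups of multiplicative type modulo a nilpotent ideal
(helper27). -/

set_option autoImplicit false
open TensorProduct WithConv

namespace Groth.Agent.Lib.Helper27.MultRigid

section RingLemma

variable {𝒜 : Type*} [Ring 𝒜]

theorem sub_pow_three_of_idem {e f : 𝒜} (he : e * e = e) (hf : f * f = f) (hc : Commute e f) :
    (e - f) ^ 3 = e - f := by
  have hfe : f * e = e * f := hc.eq.symm
  have h2 : (e - f) * (e - f) = e - (e * f + e * f) + f := by
    rw [mul_sub, sub_mul, sub_mul, he, hf, hfe]; abel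
  have h3 : e * f * e = e * f := by rw [mul_assoc, hfe, ← mul_assoc, he]
  have h4 : e * f * f = e * f := by rw [mul_assoc, hf]
  rw [pow_succ, pow_two, h2, add_mul, sub_mul, add_mul, mul_sub, mul_sub, mul_sub, he, hf,
    hfe, h3, h4]
  abel

theorem eq_of_idem_commute_nilpotent {e f : 𝒜} (he : e * e = e) (hf : f * f = f)
    (hc : Commute e f) (hn : IsNilpotent (e - f)) : e = f := by
  have h3 := sub_pow_three_of_idem he hf hc
  set d := e - f with hd
  have hodd : ∀ k : ℕ, d ^ (2 * k + 1) = d := by
    intro k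
    induction k with
    | zero => simp
    | succ k ih =>
      have : 2 * (k + 1) + 1 = 2 * k + 3 := by ring
      rw [this, pow_add, h3, ← pow_succ, ih]
  obtain ⟨n, hn⟩ := hn
  have : d = 0 := by
    rw [← hodd n]
    have : 2 * n + 1 = n + (n + 1) := by ring
    rw [this, pow_add, hn, zero_mul]
  exact sub_eq_zero.mp this

end RingLemma

section ConvIdeal

variable {R : Type*} [CommRing R] {R' : Type*} [CommRing R'] [Algebra R R']
variable {C : Type*} [AddCommGroup C] [Module R C] [Coalgebra R C]

theorem conv_mem_mul (g₁ g₂ : WithConv (C →ₗ[R] R')) (J₁ J₂ : Ideal R')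
    (h₁ : ∀ c, g₁.ofConv c ∈ J₁) (h₂ : ∀ c, g₂.ofConv c ∈ J₂) (c : C) :
    (g₁ * g₂).ofConv c ∈ J₁ * J₂ := by
  have : (g₁ * g₂).ofConv c = LinearMap.mul' R R' (TensorProduct.map g₁.ofConv g₂.ofConv
      (Coalgebra.comul (R := R) c)) := rfl
  rw [this]
  generalize Coalgebra.comul (R := R) c = z
  induction z using TensorProduct.induction_on with
  | zero => simp
  | tmul x y =>
    simp only [TensorProduct.map_tmul, LinearMap.mul'_apply]
    exact Ideal.mul_mem_mul (h₁ x) (h₂ y)
  | add x y hx hy =>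
    rw [map_add, map_add]
    exact Ideal.add_mem _ hx hy

theorem conv_pow_mem (g : WithConv (C →ₗ[R] R')) (J : Ideal R')
    (h : ∀ c, g.ofConv c ∈ J) (n : ℕ) (c : C) : (g ^ n).ofConv c ∈ J ^ n := by
  induction n generalizing c with
  | zero => simp
  | succ n ih =>
    rw [pow_succ, pow_succ]
    exact conv_mem_mul _ _ _ _ ih h c

end ConvIdeal

section Semi

variable {R : Type*} [CommRing R] {R' : Type*} [CommRing R'] [Algebra R R']
variable {A : Type*} [AddCommGroup A] [Module R A]
variable {B : Type*} [AddCommGroup B] [Module R' B] [Module R B] [IsScalarTower R R' B]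

/-- `x ⊗ y ↦ θ x ⊗[R'] θ y` -/
noncomputable def Xi (θ : A →ₗ[R] B) : A ⊗[R] A →ₗ[R] B ⊗[R'] B :=
  TensorProduct.lift (LinearMap.mk₂ R (fun x y => θ x ⊗ₜ[R'] θ y)
    (fun x y z => by rw [map_add, TensorProduct.add_tmul])
    (fun r x y => by rw [map_smul, TensorProduct.smul_tmul'])
    (fun x y z => by rw [map_add, TensorProduct.tmul_add])
    (fun r x y => by rw [map_smul, TensorProduct.tmul_smul]))

@[simp] theorem Xi_tmul (θ : A →ₗ[R] B) (x y : A) : Xi (R' := R') θ (x ⊗ₜ y) = θ x ⊗ₜ[R'] θ y := by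
  simp [Xi]

variable [Coalgebra R A] [Coalgebra R' B]

/-- `θ` is compatible with the comultiplications (semilinearly w.r.t. `R → R'`). -/
def IsSemiComul (θ : A →ₗ[R] B) : Prop :=
  ∀ a, Coalgebra.comul (R := R') (θ a) = Xi (R' := R') θ (Coalgebra.comul (R := R) a)

end Semi

section SemiBasic

variable {R : Type*} [CommRing R] {R' : Type*} [CommRing R'] [Algebra R R']
variable {A : Type*} [AddCommGroup A] [Module R A] [Coalgebra R A]

/-- the base change map `a ↦ 1 ⊗ a` -/
noncomputable def bcMap (R' : Type*) [CommRing R'] [Algebra R R'] (A : Type*) [AddCommGroup A]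
    [Module R A] : A →ₗ[R] R' ⊗[R] A :=
  TensorProduct.mk R R' A 1

@[simp] theorem bcMap_apply (a : A) : bcMap R' A a = (1 : R') ⊗ₜ[R] a := rfl

theorem isSemiComul_bcMap : IsSemiComul (R := R) (R' := R') (bcMap R' A) := by
  intro a
  change Coalgebra.comul (R := R') ((1 : R') ⊗ₜ[R] a) = _
  rw [TensorProduct.comul_tmul]
  have h1 : Coalgebra.comul (R := R') (1 : R') = (1 : R') ⊗ₜ[R'] (1 : R') := rfl
  rw [h1]
  generalize Coalgebra.comul (R := R) a = z
  induction z using TensorProduct.induction_on with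
  | zero => simp
  | tmul x y => simp
  | add x y hx hy => rw [TensorProduct.tmul_add, map_add, map_add, hx, hy]

end SemiBasic

section SemiComp

variable {R : Type*} [CommRing R] {R₁ : Type*} [CommRing R₁] [Algebra R R₁]
  {R₂ : Type*} [CommRing R₂] [Algebra R₁ R₂] [Algebra R R₂] [IsScalarTower R R₁ R₂]
variable {A : Type*} [AddCommGroup A] [Module R A] [Coalgebra R A]
variable {B₁ : Type*} [AddCommGroup B₁] [Module R₁ B₁] [Module R B₁] [IsScalarTower R R₁ B₁]
  [Coalgebra R₁ B₁]
variable {B₂ : Type*} [AddCommGroup B₂] [Module R₂ B₂] [Module R₁ B₂] [Module R B₂]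
  [IsScalarTower R₁ R₂ B₂] [IsScalarTower R R₂ B₂] [IsScalarTower R R₁ B₂] [Coalgebra R₂ B₂]

theorem IsSemiComul.comp {θ₁ : A →ₗ[R] B₁} {θ₂ : B₁ →ₗ[R₁] B₂}
    (h₁ : IsSemiComul (R := R) (R' := R₁) θ₁) (h₂ : IsSemiComul (R := R₁) (R' := R₂) θ₂) :
    IsSemiComul (R := R) (R' := R₂) ((θ₂.restrictScalars R) ∘ₗ θ₁) := by
  intro a
  change Coalgebra.comul (R := R₂) (θ₂ (θ₁ a)) = _
  rw [h₂ (θ₁ a), h₁ a]
  generalize Coalgebra.comul (R := R) a = z
  induction z using TensorProduct.induction_on with
  | zero => simp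
  | tmul x y => simp
  | add x y hx hy => rw [map_add, map_add, map_add, hx, hy]

end SemiComp

section SemiCoalgHom

variable {R' : Type*} [CommRing R']
variable {B : Type*} [AddCommGroup B] [Module R' B] [Coalgebra R' B]
variable {B₂ : Type*} [AddCommGroup B₂] [Module R' B₂] [Coalgebra R' B₂]

theorem isSemiComul_coalgHom (e : B →ₗc[R'] B₂) :
    IsSemiComul (R := R') (R' := R') e.toLinearMap := by
  intro b
  have h := LinearMap.congr_fun (CoalgHomClass.map_comp_comul e) b
  simp only [LinearMap.coe_comp, Function.comp_apply] at h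
  refine h.symm.trans ?_
  generalize Coalgebra.comul (R := R') b = z
  induction z using TensorProduct.induction_on with
  | zero => simp
  | tmul x y => simp
  | add x y hx hy => rw [map_add, map_add, hx, hy]

end SemiCoalgHom

section Coeff

variable {R' : Type*} [CommRing R'] {M : Type*}

/-- The coefficient functional. -/
noncomputable def coeffL (m : M) : MonoidAlgebra R' M →ₗ[R'] R' :=
  Finsupp.lapply m ∘ₗ (MonoidAlgebra.coeffLinearEquiv R').toLinearMap

@[simp] theorem coeffL_apply (m : M) (x : MonoidAlgebra R' M) : coeffL m x = x.coeff m := rfl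

/-- Evaluation of a tensor at a pair of basis elements. -/
noncomputable def evalL (m n : M) : MonoidAlgebra R' M ⊗[R'] MonoidAlgebra R' M →ₗ[R'] R' :=
  LinearMap.mul' R' R' ∘ₗ TensorProduct.map (coeffL m) (coeffL n)

theorem evalL_tmul (m n : M) (x y : MonoidAlgebra R' M) :
    evalL m n (x ⊗ₜ[R'] y) = x.coeff m * y.coeff n := by
  simp [evalL, coeffL]

theorem evalL_comul [DecidableEq M] (m n : M) (x : MonoidAlgebra R' M) :
    evalL m n (Coalgebra.comul (R := R') x) = if m = n then x.coeff m else 0 := by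
  induction x using MonoidAlgebra.induction_linear with
  | zero => simp
  | add x y hx hy => rw [map_add, map_add, hx, hy]; split_ifs <;> simp
  | single p c =>
    simp only [evalL, coeffL, MonoidAlgebra.comul_single, LinearMap.coe_comp, Function.comp_apply]
    simp [Finsupp.single_apply]
    split_ifs <;> simp_all

end Coeff

section Orth

variable {R : Type*} [CommRing R] {R' : Type*} [CommRing R'] [Algebra R R']
variable {A : Type*} [AddCommGroup A] [Module R A] [Coalgebra R A]
variable {C : Type*} [AddCommGroup C] [Module R C] [Coalgebra R C]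
variable {M : Type*}

/-- coefficient functions of a map to a group algebra -/
noncomputable def chi (θ : A →ₗ[R] MonoidAlgebra R' M) (m : M) : A →ₗ[R] R' :=
  ((coeffL m).restrictScalars R) ∘ₗ θ

@[simp] theorem chi_apply (θ : A →ₗ[R] MonoidAlgebra R' M) (m : M) (a : A) :
    chi θ m a = (θ a).coeff m := rfl

omit [Coalgebra R A] in
theorem evalL_Xi (θ : A →ₗ[R] MonoidAlgebra R' M) (m n : M) (z : A ⊗[R] A) :
    evalL m n (Xi (R' := R') θ z) =
      LinearMap.mul' R R' (TensorProduct.map (chi θ m) (chi θ n) z) := by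
  induction z using TensorProduct.induction_on with
  | zero => simp
  | tmul x y => simp [evalL_tmul]
  | add x y hx hy => rw [map_add, map_add, map_add, map_add, hx, hy]

theorem chi_orth [DecidableEq M] (θ : A →ₗ[R] MonoidAlgebra R' M)
    (hθ : IsSemiComul (R := R) (R' := R') θ) (m n : M) :
    toConv (chi θ m) * toConv (chi θ n) = if m = n then toConv (chi θ m) else 0 := by
  apply WithConv.ofConv_injective
  ext a
  have h1 : (toConv (chi θ m) * toConv (chi θ n)).ofConv a =
      LinearMap.mul' R R' (TensorProduct.map (chi θ m) (chi θ n) (Coalgebra.comul (R := R) a)) :=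
    rfl
  rw [h1, ← evalL_Xi, ← hθ a, evalL_comul]
  split_ifs <;> simp

theorem chi_comp_orth [DecidableEq M] (θ : A →ₗ[R] MonoidAlgebra R' M)
    (hθ : IsSemiComul (R := R) (R' := R') θ) (φ : C →ₗc[R] A) (m n : M) :
    toConv (chi θ m ∘ₗ φ.toLinearMap) * toConv (chi θ n ∘ₗ φ.toLinearMap) =
      if m = n then toConv (chi θ m ∘ₗ φ.toLinearMap) else 0 := by
  have h := LinearMap.convMul_comp_coalgHom_distrib (toConv (chi θ m)) (toConv (chi θ n)) φ
  simp only [ofConv_toConv] at h
  apply WithConv.ofConv_injective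
  rw [← h, chi_orth θ hθ]
  split_ifs <;> simp

theorem rigid_semi (I : Ideal R) (n₀ : ℕ) (hI : I ^ n₀ = ⊥)
    (θ : A →ₗ[R] MonoidAlgebra R' M) (hθ : IsSemiComul (R := R) (R' := R') θ)
    (φ ψ : C →ₗc[R] A) (hmod : ∀ c, φ c - ψ c ∈ I • (⊤ : Submodule R A))
    (hcomm : ∀ m, Commute (toConv (chi θ m ∘ₗ φ.toLinearMap))
      (toConv (chi θ m ∘ₗ ψ.toLinearMap))) (c : C) :
    θ (φ c) = θ (ψ c) := by
  classical
  have key : ∀ m, toConv (chi θ m ∘ₗ φ.toLinearMap) = toConv (chi θ m ∘ₗ ψ.toLinearMap) := by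
    intro m
    apply eq_of_idem_commute_nilpotent
    · simpa using chi_comp_orth θ hθ φ m m
    · simpa using chi_comp_orth θ hθ ψ m m
    · exact hcomm m
    · refine ⟨n₀, ?_⟩
      set d := toConv (chi θ m ∘ₗ φ.toLinearMap) - toConv (chi θ m ∘ₗ ψ.toLinearMap) with hd
      have hdI : ∀ c, d.ofConv c ∈ Ideal.map (algebraMap R R') I := by
        intro c
        have h1 : d.ofConv c = chi θ m (φ c - ψ c) := by
          simp [hd, map_sub]
        rw [h1]
        refine Submodule.smul_induction_on (hmod c) ?_ ?_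
        · intro i hi a _
          rw [map_smul, Algebra.smul_def]
          exact Ideal.mul_mem_right _ _ (Ideal.mem_map_of_mem _ hi)
        · intro x y hx hy
          rw [map_add]; exact Ideal.add_mem _ hx hy
      have h2 := conv_pow_mem d _ hdI n₀
      rw [← Ideal.map_pow, hI, Ideal.map_bot] at h2
      apply WithConv.ofConv_injective
      ext c
      simpa using h2 c
  rw [← MonoidAlgebra.coeff_inj]
  ext m
  have := congrArg (fun g : WithConv (C →ₗ[R] R') => g.ofConv c) (key m)
  simpa using this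

end Orth

end Groth.Agent.Lib.Helper27.MultRigid
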