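import Groth.Agent.Lib.Helper27.MultRigid
import Groth.Prelude.Def_SGA3b
import Mathlib.RingTheory.Localization.BaseChange
import Mathlib.RingTheory.Flat.FaithfullyFlat.Algebra
import Mathlib.LinearAlgebra.TensorProduct.Quotient

/-! Rigidity of homomorphisms from groups of multiplicative type: assembly (helper27). -/

set_option autoImplicit false
open TensorProduct WithConv

namespace Groth.Agent.Lib.Helper27.MultRigid

universe u

section Glue

variable {R : Type*} [CommRing R] {A : Type*} [AddCommGroup A] [Module R A]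

theorem mem_smul_top_of_tmul_eq (I : Ideal R) (x y : A)
    (h : (1 : R ⧸ I) ⊗ₜ[R] x = (1 : R ⧸ I) ⊗ₜ[R] y) : x - y ∈ I • (⊤ : Submodule R A) := by
  have h1 := congrArg (TensorProduct.quotTensorEquivQuotSMul A I) h
  rw [TensorProduct.quotTensorEquivQuotSMul_mk_one_tmul,
    TensorProduct.quotTensorEquivQuotSMul_mk_one_tmul] at h1
  exact (Submodule.Quotient.eq _).mp h1

theorem eq_of_locally_eq (s : Set R) (hs : Ideal.span s = ⊤) (x y : A)
    (h : ∀ f ∈ s, (1 : Localization.Away f) ⊗ₜ[R] x = (1 : Localization.Away f) ⊗ₜ[R] y) :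
    x = y := by
  rw [← sub_eq_zero]
  set d := x - y with hd
  have hann : ∀ f ∈ s, ∃ n : ℕ, f ^ n • d = 0 := by
    intro f hf
    have hloc : IsLocalizedModule (Submonoid.powers f)
        (TensorProduct.mk R (Localization.Away f) A 1) :=
      (isLocalizedModule_iff_isBaseChange (Submonoid.powers f) (Localization.Away f) _).mpr
        (TensorProduct.isBaseChange R A (Localization.Away f))
    have h1 : TensorProduct.mk R (Localization.Away f) A 1 d =
        TensorProduct.mk R (Localization.Away f) A 1 0 := by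
      simp only [TensorProduct.mk_apply, hd, TensorProduct.tmul_sub, h f hf, sub_self,
        TensorProduct.tmul_zero]
    obtain ⟨⟨c, n, rfl⟩, hc⟩ := hloc.exists_of_eq (S := Submonoid.powers f) h1
    refine ⟨n, ?_⟩
    have hc' : f ^ n • d = f ^ n • (0 : A) := hc
    simpa using hc'
  by_contra hne
  have hproper : (Submodule.span R {d}).annihilator ≠ ⊤ := by
    intro htop
    apply hne
    have : (1 : R) ∈ (Submodule.span R {d}).annihilator := by rw [htop]; trivial
    have := (Submodule.mem_annihilator_span_singleton d 1).mp this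
    simpa using this
  obtain ⟨m, hm, hle⟩ := Ideal.exists_le_maximal _ hproper
  have : Ideal.span s ≤ m := by
    rw [Ideal.span_le]
    intro f hf
    obtain ⟨n, hn⟩ := hann f hf
    have : f ^ n ∈ m := hle ((Submodule.mem_annihilator_span_singleton d _).mpr hn)
    exact hm.isPrime.mem_of_pow_mem n this
  rw [hs] at this
  exact hm.ne_top (top_le_iff.mp this)

end Glue

section Assembly

variable {R : Type u} [CommRing R] {A : Type u} [CommRing A] [HopfAlgebra R A]
  {C : Type u} [AddCommGroup C] [Module R C] [Coalgebra R C]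

theorem rigid_const (I : Ideal R) (n₀ : ℕ) (hI : I ^ n₀ = ⊥)
    (Rf : Type u) [CommRing Rf] [Algebra R Rf]
    (hH : SGA3b.IsMultTypeConst Rf (Rf ⊗[R] A))
    (φ ψ : C →ₗc[R] A) (hmod : ∀ c, φ c - ψ c ∈ I • (⊤ : Submodule R A))
    (hcomm : ∀ (R' : Type u) [CommRing R'] [Algebra R R'] (g : A →ₗ[R] R'),
      (g 1 = 0 ∨ g 1 = 1) →
        Commute (toConv (g ∘ₗ φ.toLinearMap)) (toConv (g ∘ₗ ψ.toLinearMap))) (c : C) :
    (1 : Rf) ⊗ₜ[R] φ c = (1 : Rf) ⊗ₜ[R] ψ c := by
  obtain ⟨R', _, _, hff, M, _, ⟨e⟩⟩ := hH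
  letI : Algebra R R' := ((algebraMap Rf R').comp (algebraMap R Rf)).toAlgebra
  haveI : IsScalarTower R Rf R' := IsScalarTower.of_algebraMap_eq (fun _ => rfl)
  have hθ1 : IsSemiComul (R := R) (R' := Rf) (bcMap Rf A) := isSemiComul_bcMap
  have hθ2 : IsSemiComul (R := Rf) (R' := R') (bcMap R' (Rf ⊗[R] A)) := isSemiComul_bcMap
  have hθ3 : IsSemiComul (R := R') (R' := R') (e : (R' ⊗[Rf] (Rf ⊗[R] A)) →ₗc[R'] MonoidAlgebra R' M).toLinearMap :=
    isSemiComul_coalgHom _
  have h12 := IsSemiComul.comp hθ1 hθ2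
  have h123 := IsSemiComul.comp h12 hθ3
  set θ : A →ₗ[R] MonoidAlgebra R' M :=
    ((e : (R' ⊗[Rf] (Rf ⊗[R] A)) →ₗc[R'] MonoidAlgebra R' M).toLinearMap.restrictScalars R) ∘ₗ
      (((bcMap R' (Rf ⊗[R] A)).restrictScalars R) ∘ₗ (bcMap Rf A)) with hθdef
  have hθapp : ∀ a : A, θ a = e ((1 : R') ⊗ₜ[Rf] ((1 : Rf) ⊗ₜ[R] a)) := fun a => rfl
  have hθ1' : θ 1 = 1 := by
    rw [hθapp]
    have : ((1 : R') ⊗ₜ[Rf] ((1 : Rf) ⊗ₜ[R] (1 : A))) = 1 := rfl
    rw [this]
    exact map_one e
  have key := rigid_semi I n₀ hI θ h123 φ ψ hmod ?_ c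
  · rw [hθapp, hθapp] at key
    have h1 := e.injective key
    exact Module.FaithfullyFlat.tensorProduct_mk_injective (A := Rf) (B := R') (Rf ⊗[R] A) h1
  · intro m
    apply hcomm
    by_cases hm : m = 1
    · right
      rw [chi_apply, hθ1', hm]
      simp [MonoidAlgebra.one_def]
    · left
      rw [chi_apply, hθ1']
      simp [MonoidAlgebra.one_def, hm]

/-- Rigidity: two coalgebra maps into a Hopf algebra of multiplicative type which agree modulo a
nilpotent ideal and whose "characters" commute for the convolution product are equal. -/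
theorem rigid_multType (I : Ideal R) (hI : IsNilpotent I) (hH : SGA3b.IsMultType R A)
    (φ ψ : C →ₗc[R] A)
    (h0 : ∀ c : C, (1 : R ⧸ I) ⊗ₜ[R] (φ c) = (1 : R ⧸ I) ⊗ₜ[R] (ψ c))
    (hcomm : ∀ (R' : Type u) [CommRing R'] [Algebra R R'] (g : A →ₗ[R] R'),
      (g 1 = 0 ∨ g 1 = 1) →
        Commute (toConv (g ∘ₗ φ.toLinearMap)) (toConv (g ∘ₗ ψ.toLinearMap))) (c : C) :
    φ c = ψ c := by
  obtain ⟨n₀, hn₀⟩ := hI
  obtain ⟨s, hs, hs'⟩ := hH
  apply eq_of_locally_eq s hs
  intro f hf
  exact rigid_const I n₀ hn₀ (Localization.Away f) (hs' f hf) φ ψ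
    (fun c => mem_smul_top_of_tmul_eq I _ _ (h0 c)) hcomm c

end Assembly

end Groth.Agent.Lib.Helper27.MultRigid
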