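import Mathlib
import Groth.Prelude.Def_SGA3b

/-!
# Monomorphisms out of groups of multiplicative type are closed immersions (Hopf algebra form)

Main results:
* `antipode_apply`: bialgebra maps between commutative Hopf algebras commute with antipodes.
* `Epi`: ring epimorphisms (tested on rings of the same universe); `epi_of_mono`, `epi_baseChange`.
* `surjective_of_epi`: a bialgebra map `C → R[M]` (M a commutative group, C Hopf) which is a ring
  epimorphism is surjective.
* `surjective_of_mono`: for `A` of multiplicative type, a bialgebra map `C → A` which is a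
  monomorphism on points is surjective.
-/

universe u
open TensorProduct WithConv

namespace Groth.Agent.Lib.Helper27.MultMono

variable {R : Type u} [CommRing R]

/-- bialgebra maps commute with antipodes -/
lemma antipode_comp {C A : Type u} [CommRing C] [CommRing A] [HopfAlgebra R C] [HopfAlgebra R A]
    (ψ : C →ₐc[R] A) :
    (HopfAlgebra.antipodeAlgHom R A).comp (ψ : C →ₐ[R] A) =
      (ψ : C →ₐ[R] A).comp (HopfAlgebra.antipodeAlgHom R C) := by
  have h1 : toConv ((HopfAlgebra.antipodeAlgHom R A).comp (ψ : C →ₐ[R] A)) *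
      toConv (ψ : C →ₐ[R] A) = 1 := by
    have h := AlgHom.convMul_comp_bialgHom_distrib (toConv (HopfAlgebra.antipodeAlgHom R A))
      (toConv (AlgHom.id R A)) ψ
    rw [AlgHom.antipode_id_cancel] at h
    simp only [AlgHom.id_comp] at h
    apply WithConv.ofConv_injective
    rw [← h]
    ext c
    simp [AlgHom.convOne_apply]
  have h2 := eq_inv_of_mul_eq_one_left h1
  exact congrArg WithConv.ofConv h2

lemma antipode_apply {C A : Type u} [CommRing C] [CommRing A] [HopfAlgebra R C] [HopfAlgebra R A]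
    (ψ : C →ₐc[R] A) (c : C) :
    HopfAlgebra.antipode R (ψ c) = ψ (HopfAlgebra.antipode R c) := by
  have := congrArg (fun f => f c) (antipode_comp ψ)
  simpa using this

/-- Ring epimorphism, tested against rings in the same universe. -/
def Epi {C A : Type u} [CommRing A] (φ : C → A) : Prop :=
  ∀ (T : Type u) [CommRing T] (x y : A →+* T), (∀ c, x (φ c) = y (φ c)) → x = y

lemma epi_of_mono {A C : Type u} [CommRing A] [CommRing C] [Algebra R A] [Algebra R C]
    (φ : C →ₐ[R] A)
    (hmono : ∀ (T : Type u) [CommRing T] [Algebra R T],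
      Function.Injective (fun x : A →ₐ[R] T => x.comp φ)) :
    Epi (φ : C → A) := by
  intro T _ x y hxy
  let _ : Algebra R T := (x.comp (algebraMap R A)).toAlgebra
  have hy : ∀ r, y (algebraMap R A r) = algebraMap R T r := by
    intro r
    have h1 := hxy (algebraMap R C r)
    simp only [AlgHom.commutes] at h1
    rw [← h1]; rfl
  let X : A →ₐ[R] T := { x with commutes' := fun r => rfl }
  let Y : A →ₐ[R] T := { y with commutes' := hy }
  have hXY : X.comp φ = Y.comp φ := by
    ext c
    exact hxy c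
  have := hmono T hXY
  ext a
  exact congrArg (fun g => g a) this

lemma epi_baseChange {S A C : Type u} [CommRing S] [Algebra R S] [CommRing A] [CommRing C]
    [Algebra R A] [Algebra R C] (φ : C →ₐ[R] A) (h : Epi (φ : C → A))
    (g : S ⊗[R] C → S ⊗[R] A) (hg : ∀ s c, g (s ⊗ₜ c) = s ⊗ₜ φ c) : Epi g := by
  intro T _ x y hxy
  have hS : ∀ s : S, x (s ⊗ₜ 1) = y (s ⊗ₜ 1) := by
    intro s
    have h1 := hxy (s ⊗ₜ[R] (1 : C))
    simpa [hg] using h1
  have hA : x.comp (Algebra.TensorProduct.includeRight : A →ₐ[R] S ⊗[R] A).toRingHom =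
      y.comp (Algebra.TensorProduct.includeRight : A →ₐ[R] S ⊗[R] A).toRingHom := by
    apply h T
    intro c
    have h1 := hxy ((1 : S) ⊗ₜ[R] c)
    simpa [hg] using h1
  apply RingHom.ext
  intro z
  induction z using TensorProduct.induction_on with
  | zero => simp
  | tmul s a =>
    have e : s ⊗ₜ[R] a = (s ⊗ₜ[R] (1 : A)) * ((1 : S) ⊗ₜ[R] a) := by simp
    rw [e, map_mul, map_mul, hS]
    congr 1
    exact congrArg (fun k => k a) hA
  | add z w hz hw => rw [map_add, map_add, hz, hw]

section diag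

variable {M : Type u} [CommGroup M] {C : Type u} [CommRing C] [HopfAlgebra R C]

/-- coefficient functional -/
noncomputable def proj (m : M) : MonoidAlgebra R M →ₗ[R] R :=
  (Finsupp.lapply m) ∘ₗ (MonoidAlgebra.coeffLinearEquiv R).toLinearMap

lemma proj_apply (m : M) (x : MonoidAlgebra R M) : proj m x = x.coeff m := rfl

noncomputable def L (m : M) :
    MonoidAlgebra R M ⊗[R] MonoidAlgebra R M →ₗ[R] MonoidAlgebra R M :=
  (TensorProduct.rid R _).toLinearMap ∘ₗ (LinearMap.lTensor _ (proj m))

lemma L_tmul (m : M) (x y : MonoidAlgebra R M) : L m (x ⊗ₜ y) = (y.coeff m) • x := by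
  simp [L, proj_apply]

lemma L_comul (m : M) (x : MonoidAlgebra R M) :
    L m (Coalgebra.comul (R := R) x) = MonoidAlgebra.single m (x.coeff m) := by
  induction x using MonoidAlgebra.induction_linear with
  | zero => simp
  | add x y hx hy => simp [map_add, hx, hy, MonoidAlgebra.single_add]
  | single n r =>
    rw [MonoidAlgebra.comul_single, CommSemiring.comul_apply, TensorProduct.map_tmul, L_tmul]
    by_cases hnm : n = m
    · subst hnm
      simp [MonoidAlgebra.lsingle, MonoidAlgebra.smul_single]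
    · simp [MonoidAlgebra.lsingle, MonoidAlgebra.smul_single, hnm]

lemma single_coeff_mem_range (ψ : C →ₐc[R] MonoidAlgebra R M) (c : C) (m : M) :
    MonoidAlgebra.single m ((ψ c).coeff m) ∈ (ψ : C →ₐ[R] MonoidAlgebra R M).range := by
  rw [← L_comul]
  have h : Coalgebra.comul (R := R) (ψ c) =
      TensorProduct.map (ψ : C →ₗ[R] MonoidAlgebra R M) (ψ : C →ₗ[R] MonoidAlgebra R M)
        (Coalgebra.comul c) := (CoalgHomClass.map_comp_comul_apply ψ c).symm
  rw [h]
  generalize Coalgebra.comul (R := R) c = t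
  induction t using TensorProduct.induction_on with
  | zero => simp
  | tmul a b =>
    rw [TensorProduct.map_tmul, L_tmul]
    exact ⟨((ψ b).coeff m) • a, by simp⟩
  | add x y hx hy =>
    rw [map_add, map_add]
    exact add_mem hx hy

theorem surjective_of_epi (ψ : C →ₐc[R] MonoidAlgebra R M)
    (h : Epi (ψ : C → MonoidAlgebra R M)) :
    Function.Surjective ψ := by
  classical
  by_contra hns
  set S : Subalgebra R (MonoidAlgebra R M) := (ψ : C →ₐ[R] MonoidAlgebra R M).range with hS
  have hmemS : ∀ x, x ∈ S ↔ ∃ c, ψ c = x := fun x => Iff.rfl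
  have hm₀ : ∃ m₀ : M, MonoidAlgebra.single m₀ (1 : R) ∉ S := by
    by_contra hall
    push Not at hall
    apply hns
    intro x
    have hx : x ∈ S := by
      rw [← MonoidAlgebra.sum_coeff_single x]
      apply Subalgebra.sum_mem
      intro m _
      have e : MonoidAlgebra.single m (x.coeff m) =
          (x.coeff m) • MonoidAlgebra.single m (1 : R) := by
        simp [MonoidAlgebra.smul_single]
      rw [e]
      exact S.smul_mem (hall m) _
    exact (hmemS x).1 hx
  obtain ⟨m₀, hm₀⟩ := hm₀
  let I₀ : Ideal R :=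
    { carrier := {a | MonoidAlgebra.single m₀ a ∈ S}
      add_mem' := by
        intro a b ha hb
        simp only [Set.mem_setOf_eq] at ha hb ⊢
        rw [MonoidAlgebra.single_add]
        exact add_mem ha hb
      zero_mem' := by simp
      smul_mem' := by
        intro r a ha
        simp only [Set.mem_setOf_eq, smul_eq_mul] at ha ⊢
        rw [← MonoidAlgebra.smul_single']
        exact S.smul_mem ha r }
  have hI₀mem : ∀ a, a ∈ I₀ ↔ MonoidAlgebra.single m₀ a ∈ S := fun a => Iff.rfl
  have hI₀ : I₀ ≠ ⊤ := by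
    intro htop
    apply hm₀
    rw [← hI₀mem, htop]
    trivial
  obtain ⟨𝔭, h𝔭max, hle⟩ := Ideal.exists_le_maximal I₀ hI₀
  have h𝔭prime : 𝔭.IsPrime := h𝔭max.isPrime
  let M' : Subgroup M :=
    { carrier := {m | ∃ a, a ∉ 𝔭 ∧ MonoidAlgebra.single m a ∈ S}
      one_mem' := by
        refine ⟨1, ?_, ?_⟩
        · exact fun h1 => h𝔭prime.ne_top ((Ideal.eq_top_iff_one _).2 h1)
        · rw [← MonoidAlgebra.one_def]
          exact S.one_mem
      mul_mem' := by
        rintro m n ⟨a, ha, hma⟩ ⟨b, hb, hnb⟩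
        refine ⟨a * b, ?_, ?_⟩
        · intro hab
          rcases h𝔭prime.mem_or_mem hab with h1 | h1
          · exact ha h1
          · exact hb h1
        · rw [← MonoidAlgebra.single_mul_single]
          exact S.mul_mem hma hnb
      inv_mem' := by
        rintro m ⟨a, ha, hma⟩
        refine ⟨a, ha, ?_⟩
        obtain ⟨c, hc⟩ := (hmemS _).1 hma
        rw [hmemS]
        refine ⟨HopfAlgebra.antipode R c, ?_⟩
        rw [← antipode_apply, hc, MonoidAlgebra.antipode_single]
        simp }
  have hM'mem : ∀ m, m ∈ M' ↔ ∃ a, a ∉ 𝔭 ∧ MonoidAlgebra.single m a ∈ S := fun m => Iff.rfl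
  have hm₀M' : m₀ ∉ M' := by
    rintro ⟨a, ha, hma⟩
    exact ha (hle ((hI₀mem a).2 hma))
  let k := R ⧸ 𝔭
  let T := MonoidAlgebra k (M ⧸ M')
  let X : MonoidAlgebra R M →ₐ[R] T :=
    MonoidAlgebra.lift R T M ((MonoidAlgebra.of k (M ⧸ M')).comp (QuotientGroup.mk' M'))
  let Y : MonoidAlgebra R M →ₐ[R] T := MonoidAlgebra.lift R T M 1
  have hsmul : ∀ (a : R) (t : T), a ∈ 𝔭 → a • t = 0 := by
    intro a t ha
    rw [← algebraMap_smul k a t, Ideal.Quotient.algebraMap_eq,
      Ideal.Quotient.eq_zero_iff_mem.2 ha, zero_smul]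
  have hXY1 : ∀ m a, MonoidAlgebra.single m a ∈ S →
      X (MonoidAlgebra.single m a) = Y (MonoidAlgebra.single m a) := by
    intro m a hma
    simp only [X, Y, MonoidAlgebra.lift_single]
    by_cases hm : m ∈ M'
    · have : (m : M ⧸ M') = 1 := (QuotientGroup.eq_one_iff m).2 hm
      simp only [MonoidHom.coe_comp, Function.comp_apply, QuotientGroup.mk'_apply, this, map_one,
        MonoidHom.one_apply]
    · have ha : a ∈ 𝔭 := by
        by_contra ha
        exact hm ⟨a, ha, hma⟩
      rw [hsmul _ _ ha, hsmul _ _ ha]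
  have hXY : ∀ c, (X : MonoidAlgebra R M →+* T) (ψ c) = (Y : MonoidAlgebra R M →+* T) (ψ c) := by
    intro c
    simp only [RingHom.coe_coe]
    have e := MonoidAlgebra.sum_coeff_single (ψ c)
    have : X ((ψ c).coeff.sum MonoidAlgebra.single) = Y ((ψ c).coeff.sum MonoidAlgebra.single) := by
      rw [Finsupp.sum, map_sum, map_sum]
      apply Finset.sum_congr rfl
      intro m _
      exact hXY1 m _ (single_coeff_mem_range ψ c m)
    rw [e] at this
    exact this
  have hfin := h T _ _ hXY
  have h1 : X (MonoidAlgebra.single m₀ 1) = Y (MonoidAlgebra.single m₀ 1) :=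
    congrArg (fun g => g (MonoidAlgebra.single m₀ (1 : R))) hfin
  simp only [X, Y, MonoidAlgebra.lift_single, one_smul, MonoidHom.coe_comp, Function.comp_apply,
    MonoidHom.one_apply] at h1
  have h2 : (QuotientGroup.mk' M') m₀ = 1 := by
    apply MonoidAlgebra.of_injective (R := k)
    rw [h1, map_one]
  exact hm₀M' ((QuotientGroup.eq_one_iff m₀).1 h2)

end diag

theorem surjective_of_mono (A : Type u) [CommRing A] [HopfAlgebra R A]
    (h : SGA3b.IsMultType R A)
    (C : Type u) [CommRing C] [HopfAlgebra R C] (φ : C →ₐc[R] A)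
    (hmono : ∀ (T : Type u) [CommRing T] [Algebra R T],
      Function.Injective (fun x : A →ₐ[R] T => x.comp (φ : C →ₐ[R] A))) :
    Function.Surjective φ := by
  obtain ⟨s, hs, hf⟩ := h
  have hepi : Epi (φ : C → A) := epi_of_mono (φ : C →ₐ[R] A) hmono
  have key : ∀ r : s, Function.Surjective
      (LinearMap.lTensor (Localization.Away r.1) ((φ : C →ₐ[R] A).toLinearMap)) := by
    intro r
    obtain ⟨R', _, _, hff, M, _, ⟨e⟩⟩ := hf r.1 r.2
    let Rf := Localization.Away r.1
    let φ₁ : Rf ⊗[R] C →ₐc[Rf] Rf ⊗[R] A := Bialgebra.TensorProduct.map (BialgHom.id Rf Rf) φ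
    let φ₂ : R' ⊗[Rf] (Rf ⊗[R] C) →ₐc[R'] R' ⊗[Rf] (Rf ⊗[R] A) :=
      Bialgebra.TensorProduct.map (BialgHom.id R' R') φ₁
    let ψ : R' ⊗[Rf] (Rf ⊗[R] C) →ₐc[R'] MonoidAlgebra R' M := (e : _ →ₐc[R'] _).comp φ₂
    have hφ₁ : ∀ (t : Rf) (c : C), φ₁ (t ⊗ₜ c) = t ⊗ₜ φ c := by
      intro t c; simp [φ₁]
    have hφ₂ : ∀ (t : R') (c : Rf ⊗[R] C), φ₂ (t ⊗ₜ c) = t ⊗ₜ φ₁ c := by
      intro t c; simp [φ₂]
    have e1 : Epi (φ₁ : Rf ⊗[R] C → Rf ⊗[R] A) :=
      epi_baseChange (φ : C →ₐ[R] A) hepi _ hφ₁
    have e2 : Epi (φ₂ : R' ⊗[Rf] (Rf ⊗[R] C) → R' ⊗[Rf] (Rf ⊗[R] A)) :=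
      epi_baseChange (φ₁ : Rf ⊗[R] C →ₐ[Rf] Rf ⊗[R] A) e1 _ hφ₂
    have e3 : Epi (ψ : R' ⊗[Rf] (Rf ⊗[R] C) → MonoidAlgebra R' M) := by
      intro T _ x y hxy
      have h3 := e2 T (x.comp (e : _ →ₐ[R'] MonoidAlgebra R' M).toRingHom)
        (y.comp (e : _ →ₐ[R'] MonoidAlgebra R' M).toRingHom) (by
          intro z
          exact hxy z)
      apply RingHom.ext
      intro b
      obtain ⟨a, rfl⟩ := e.surjective b
      exact congrArg (fun k => k a) h3
    have hψ : Function.Surjective ψ :=
      surjective_of_epi (R := R') (M := M) (C := R' ⊗[Rf] (Rf ⊗[R] C)) ψ e3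
    have hφ₂s : Function.Surjective φ₂ := by
      intro y
      obtain ⟨x, hx⟩ := hψ (e y)
      exact ⟨x, e.injective hx⟩
    have hl2 : ∀ x, LinearMap.lTensor R' ((φ₁ : Rf ⊗[R] C →ₐ[Rf] Rf ⊗[R] A).toLinearMap) x
        = φ₂ x := by
      intro x
      induction x using TensorProduct.induction_on with
      | zero => simp
      | tmul t c => rw [hφ₂]; simp
      | add z w hz hw => rw [map_add, map_add, hz, hw]
    have hφ₁s : Function.Surjective φ₁ := by
      have h4 : Function.Surjective
          (LinearMap.lTensor R' ((φ₁ : Rf ⊗[R] C →ₐ[Rf] Rf ⊗[R] A).toLinearMap)) := by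
        intro y
        obtain ⟨x, hx⟩ := hφ₂s y
        exact ⟨x, by rw [hl2, hx]⟩
      exact (Module.FaithfullyFlat.lTensor_surjective_iff_surjective Rf R' _).1 h4
    have hl1 : ∀ x, LinearMap.lTensor (Localization.Away r.1) ((φ : C →ₐ[R] A).toLinearMap) x
        = φ₁ x := by
      intro x
      induction x using TensorProduct.induction_on with
      | zero => simp
      | tmul t c => rw [hφ₁]; simp
      | add z w hz hw => rw [map_add, map_add, hz, hw]
    intro y
    obtain ⟨x, hx⟩ := hφ₁s y
    exact ⟨x, by rw [hl1, hx]⟩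
  have hfin : Function.Surjective ((φ : C →ₐ[R] A).toLinearMap) := by
    apply surjective_of_isLocalized_span s hs (fun r => Localization.Away r.1 ⊗[R] C)
      (fun r => TensorProduct.mk R (Localization.Away r.1) C 1)
      (fun r => Localization.Away r.1 ⊗[R] A)
      (fun r => TensorProduct.mk R (Localization.Away r.1) A 1)
    intro r
    have hmap : IsLocalizedModule.map (.powers r.1)
        (TensorProduct.mk R (Localization.Away r.1) C 1)
        (TensorProduct.mk R (Localization.Away r.1) A 1) (φ : C →ₐ[R] A).toLinearMap =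
        LinearMap.lTensor (Localization.Away r.1) (φ : C →ₐ[R] A).toLinearMap := by
      apply IsLocalizedModule.linearMap_ext (.powers r.1)
        (TensorProduct.mk R (Localization.Away r.1) C 1)
        (TensorProduct.mk R (Localization.Away r.1) A 1)
      rw [IsLocalizedModule.map_comp]
      ext c
      simp
    rw [hmap]
    exact key r
  exact hfin

end Groth.Agent.Lib.Helper27.MultMono
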