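import Mathlib

/-!
Lifting standard smooth algebras along a quotient map `R → R ⧸ I`.
-/

namespace Groth.Agent.Lib.Helper27.LiftStdSmooth

universe u

open MvPolynomial

theorem liftSS {R : Type u} [CommRing R] (I : Ideal R) {Bb : Type u} [CommRing Bb]
    [Algebra (R ⧸ I) Bb] [Algebra.IsStandardSmooth (R ⧸ I) Bb] :
    ∃ (B : Type u) (_ : CommRing B) (_ : Algebra R B), Algebra.IsStandardSmooth R B ∧
      ∃ π : B →+* Bb, Function.Surjective π ∧
        (∀ r, π (algebraMap R B r) = algebraMap (R ⧸ I) Bb (Ideal.Quotient.mk I r)) ∧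
        RingHom.ker π = I.map (algebraMap R B) := by
  classical
  obtain ⟨ι, σ, hσ, hι, ⟨P⟩⟩ := Algebra.IsStandardSmooth.out (R := R ⧸ I) (S := Bb)
  cases nonempty_fintype σ
  have hsurj : Function.Surjective
      (MvPolynomial.map (Ideal.Quotient.mk I) : MvPolynomial ι R → MvPolynomial ι (R ⧸ I)) :=
    MvPolynomial.map_surjective _ Ideal.Quotient.mk_surjective
  choose r hr using fun j : σ => hsurj (P.relation j)
  let P₁ : Algebra.PreSubmersivePresentation R
      (MvPolynomial ι R ⧸ Ideal.span (Set.range r)) ι σ :=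
    Algebra.PreSubmersivePresentation.naive (v := r) P.map P.map_inj
  -- the map θ
  let θ : MvPolynomial ι R →+* Bb :=
    (aeval P.val : MvPolynomial ι (R ⧸ I) →ₐ[R ⧸ I] Bb).toRingHom.comp
      (MvPolynomial.map (Ideal.Quotient.mk I))
  have hθ : ∀ p, θ p = aeval P.val (MvPolynomial.map (Ideal.Quotient.mk I) p) := fun p => rfl
  have hθr : ∀ j, θ (r j) = 0 := by
    intro j
    rw [hθ, hr]
    exact P.aeval_val_relation j
  have hθsurj : Function.Surjective θ := by
    intro b
    obtain ⟨p, hp⟩ := P.algebraMap_surjective b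
    obtain ⟨p', rfl⟩ := hsurj p
    refine ⟨p', ?_⟩
    rw [hθ, ← hp, P.algebraMap_eq]
    rfl
  have hθC : ∀ a : R, θ (C a) = algebraMap (R ⧸ I) Bb (Ideal.Quotient.mk I a) := by
    intro a
    rw [hθ, MvPolynomial.map_C, MvPolynomial.aeval_C]
  have hker : ∀ p, θ p = 0 → p ∈ Ideal.span (Set.range r) ⊔ I.map (C : R →+* MvPolynomial ι R) := by
    intro p hp
    have h1 : MvPolynomial.map (Ideal.Quotient.mk I) p ∈ P.ker := by
      rw [Algebra.Generators.ker_eq_ker_aeval_val]
      exact hp
    rw [← P.span_range_relation_eq_ker] at h1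
    have h2 : Ideal.span (Set.range P.relation) =
        (Ideal.span (Set.range r)).map (MvPolynomial.map (Ideal.Quotient.mk I)) := by
      rw [Ideal.map_span, ← Set.range_comp]
      congr 2
      ext j : 1
      exact (hr j).symm
    rw [h2, Ideal.mem_map_iff_of_surjective _ hsurj] at h1
    obtain ⟨y, hy, hyp⟩ := h1
    have h3 : p - y ∈ RingHom.ker (MvPolynomial.map (Ideal.Quotient.mk I) :
        MvPolynomial ι R →+* MvPolynomial ι (R ⧸ I)) := by
      rw [RingHom.mem_ker, map_sub, hyp, sub_self]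
    rw [MvPolynomial.ker_map, Ideal.mk_ker] at h3
    have : p = y + (p - y) := by ring
    rw [this]
    exact Ideal.add_mem _ (Ideal.mem_sup_left hy) (Ideal.mem_sup_right h3)
  let π₁ : (MvPolynomial ι R ⧸ Ideal.span (Set.range r)) →+* Bb :=
    Ideal.Quotient.lift _ θ (fun p hp => by
      have : Ideal.span (Set.range r) ≤ RingHom.ker θ := by
        rw [Ideal.span_le]
        rintro _ ⟨j, rfl⟩
        exact hθr j
      exact this hp)
  have hπ₁ : ∀ p, π₁ (Ideal.Quotient.mk _ p) = θ p := fun p => rfl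
  have hπ₁surj : Function.Surjective π₁ := by
    intro b
    obtain ⟨p, rfl⟩ := hθsurj b
    exact ⟨Ideal.Quotient.mk _ p, rfl⟩
  have hπ₁alg : ∀ a : R, π₁ (algebraMap R _ a) =
      algebraMap (R ⧸ I) Bb (Ideal.Quotient.mk I a) := by
    intro a
    rw [← hθC]
    rfl
  have hπ₁ker : ∀ b, π₁ b = 0 → b ∈ I.map (algebraMap R (MvPolynomial ι R ⧸ Ideal.span (Set.range r))) := by
    intro b hb
    obtain ⟨p, rfl⟩ := Ideal.Quotient.mk_surjective b
    rw [hπ₁] at hb
    have h1 := hker p hb
    rw [Submodule.mem_sup] at h1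
    obtain ⟨y, hy, z, hz, rfl⟩ := h1
    rw [map_add, (Ideal.Quotient.eq_zero_iff_mem).2 hy, zero_add]
    have h2 : (I.map (C : R →+* MvPolynomial ι R)).map (Ideal.Quotient.mk (Ideal.span (Set.range r)))
        = I.map (algebraMap R (MvPolynomial ι R ⧸ Ideal.span (Set.range r))) := by
      rw [Ideal.map_map]
      rfl
    rw [← h2]
    exact Ideal.mem_map_of_mem _ hz
  -- the jacobian
  have hΔ : π₁ P₁.jacobian = P.jacobian := by
    rw [Algebra.PreSubmersivePresentation.jacobian_eq_jacobiMatrix_det,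
      Algebra.PreSubmersivePresentation.jacobian_eq_jacobiMatrix_det]
    have : algebraMap P₁.Ring (MvPolynomial ι R ⧸ Ideal.span (Set.range r)) =
      Ideal.Quotient.mk _ := rfl
    rw [this, hπ₁, RingHom.map_det, P.algebraMap_eq]
    rw [RingHom.map_det]
    congr 1
    ext i j
    simp only [RingHom.mapMatrix_apply, Matrix.map_apply]
    rw [Algebra.PreSubmersivePresentation.jacobiMatrix_naive,
      Algebra.PreSubmersivePresentation.jacobiMatrix_apply, hθ, ← MvPolynomial.pderiv_map, hr]
    rfl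
  have hΔunit : IsUnit (π₁ P₁.jacobian) := by
    rw [hΔ]
    exact P.jacobian_isUnit
  obtain ⟨Δ, hΔdef⟩ : ∃ Δ, Δ = P₁.jacobian := ⟨_, rfl⟩
  rw [← hΔdef] at hΔunit
  let Q : Algebra.SubmersivePresentation (MvPolynomial ι R ⧸ Ideal.span (Set.range r))
      (Localization.Away Δ) Unit Unit :=
    Algebra.SubmersivePresentation.localizationAway (Localization.Away Δ) Δ
  let QP : Algebra.SubmersivePresentation R (Localization.Away Δ) (Unit ⊕ ι) (Unit ⊕ σ) :=
    { toPreSubmersivePresentation := Q.toPreSubmersivePresentation.comp P₁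
      jacobian_isUnit := by
        rw [Algebra.PreSubmersivePresentation.comp_jacobian_eq_jacobian_smul_jacobian,
          Algebra.smul_def, IsUnit.mul_iff]
        refine ⟨?_, Q.jacobian_isUnit⟩
        rw [← hΔdef]
        exact IsLocalization.map_units _ (⟨Δ, 1, by simp⟩ : Submonoid.powers Δ) }
  let π : Localization.Away Δ →+* Bb := IsLocalization.Away.lift Δ hΔunit
  have hπ : ∀ b, π (algebraMap _ _ b) = π₁ b := fun b => IsLocalization.Away.lift_eq Δ hΔunit b
  refine ⟨Localization.Away Δ, inferInstance, inferInstance, QP.isStandardSmooth, π, ?_, ?_, ?_⟩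
  · intro b
    obtain ⟨b₁, rfl⟩ := hπ₁surj b
    exact ⟨algebraMap _ _ b₁, hπ b₁⟩
  · intro a
    rw [IsScalarTower.algebraMap_apply R (MvPolynomial ι R ⧸ Ideal.span (Set.range r))
      (Localization.Away Δ), hπ, hπ₁alg]
  · apply le_antisymm
    · intro x hx
      rw [RingHom.mem_ker] at hx
      obtain ⟨b, ⟨_, n, rfl⟩, rfl⟩ := IsLocalization.exists_mk'_eq (Submonoid.powers Δ) x
      have h1 : π (algebraMap _ _ b) = 0 := by
        rw [← IsLocalization.mk'_spec' (M := Submonoid.powers Δ) (Localization.Away Δ) b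
          ⟨Δ ^ n, n, rfl⟩, map_mul, hx, mul_zero]
      rw [hπ] at h1
      have h2 := hπ₁ker b h1
      have h3 : algebraMap _ (Localization.Away Δ) b ∈ I.map (algebraMap R (Localization.Away Δ)) := by
        rw [IsScalarTower.algebraMap_eq R (MvPolynomial ι R ⧸ Ideal.span (Set.range r))
          (Localization.Away Δ), ← Ideal.map_map]
        exact Ideal.mem_map_of_mem _ h2
      rw [IsLocalization.mk'_eq_mul_mk'_one]
      exact Ideal.mul_mem_right _ _ h3
    · rw [Ideal.map_le_iff_le_comap]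
      intro a ha
      rw [Ideal.mem_comap, RingHom.mem_ker, IsScalarTower.algebraMap_apply R
        (MvPolynomial ι R ⧸ Ideal.span (Set.range r)) (Localization.Away Δ), hπ, hπ₁alg,
        (Ideal.Quotient.eq_zero_iff_mem).2 ha, map_zero]

end Groth.Agent.Lib.Helper27.LiftStdSmooth
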