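import Mathlib
import Groth.Agent.Lib.Helper27.MultRigid

/-!
# Lifting homomorphisms from groups with an invariant integral: convolution tools (helper27)
-/

set_option autoImplicit false
open TensorProduct WithConv

namespace Groth.Agent.Lib.Helper27.HopfLift

section Post

variable {R : Type*} [CommRing R] {C : Type*} [AddCommGroup C] [Module R C] [Coalgebra R C]
variable {T T' T'' : Type*} [CommRing T] [Algebra R T] [CommRing T'] [Algebra R T']
  [CommRing T''] [Algebra R T'']

/-- post-composition with an algebra hom: a ring hom of convolution rings -/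
noncomputable def postR (h : T →ₐ[R] T') : WithConv (C →ₗ[R] T) →+* WithConv (C →ₗ[R] T') where
  toFun f := toConv (h.toLinearMap ∘ₗ f.ofConv)
  map_one' := by
    apply WithConv.ext
    ext c
    simp [LinearMap.convOne_def]
  map_mul' f g := by
    apply WithConv.ext
    exact LinearMap.algHom_comp_convMul_distrib h f g
  map_zero' := by
    apply WithConv.ext
    ext c
    simp
  map_add' f g := by
    apply WithConv.ext
    ext c
    simp

@[simp] theorem postR_apply (h : T →ₐ[R] T') (f : WithConv (C →ₗ[R] T)) (c : C) :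
    (postR h f) c = h (f c) := rfl

theorem postR_postR (h : T →ₐ[R] T') (h' : T' →ₐ[R] T'') (f : WithConv (C →ₗ[R] T)) :
    postR h' (postR h f) = postR (h'.comp h) f := rfl

/-- post-composition with a linear map (additive only) -/
noncomputable def postL (ℓ : T →ₗ[R] T') : WithConv (C →ₗ[R] T) →+ WithConv (C →ₗ[R] T') where
  toFun f := toConv (ℓ ∘ₗ f.ofConv)
  map_zero' := by
    apply WithConv.ext
    ext c
    simp
  map_add' f g := by
    apply WithConv.ext
    ext c
    simp

@[simp] theorem postL_apply (ℓ : T →ₗ[R] T') (f : WithConv (C →ₗ[R] T)) (c : C) :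
    (postL ℓ f) c = ℓ (f c) := rfl

theorem postL_postR (h : T →ₐ[R] T') (ℓ : T' →ₗ[R] T'') (f : WithConv (C →ₗ[R] T)) :
    postL ℓ (postR h f) = postL (ℓ ∘ₗ h.toLinearMap) f := rfl

theorem postL_toLinearMap (h : T →ₐ[R] T') (f : WithConv (C →ₗ[R] T)) :
    postL h.toLinearMap f = postR h f := rfl

theorem postL_id (f : WithConv (C →ₗ[R] T)) : postL LinearMap.id f = f := rfl

theorem postL_mul_left (j : T →ₐ[R] T') (ℓ : T' →ₗ[R] T) (hℓ : ∀ t y, ℓ (j t * y) = t * ℓ y)
    (f : WithConv (C →ₗ[R] T)) (h : WithConv (C →ₗ[R] T')) :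
    postL ℓ (postR j f * h) = f * postL ℓ h := by
  apply WithConv.ext
  ext c
  show ℓ (LinearMap.mul' R T' (TensorProduct.map (j.toLinearMap ∘ₗ f.ofConv) h.ofConv
    (Coalgebra.comul (R := R) c))) =
    LinearMap.mul' R T (TensorProduct.map f.ofConv (ℓ ∘ₗ h.ofConv) (Coalgebra.comul (R := R) c))
  generalize Coalgebra.comul (R := R) c = z
  induction z using TensorProduct.induction_on with
  | zero => simp
  | tmul x y => simp [hℓ]
  | add x y hx hy => simp only [map_add, hx, hy]

theorem postL_mul_right (j : T →ₐ[R] T') (ℓ : T' →ₗ[R] T) (hℓ : ∀ t y, ℓ (y * j t) = ℓ y * t)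
    (f : WithConv (C →ₗ[R] T)) (h : WithConv (C →ₗ[R] T')) :
    postL ℓ (h * postR j f) = postL ℓ h * f := by
  apply WithConv.ext
  ext c
  show ℓ (LinearMap.mul' R T' (TensorProduct.map h.ofConv (j.toLinearMap ∘ₗ f.ofConv)
    (Coalgebra.comul (R := R) c))) =
    LinearMap.mul' R T (TensorProduct.map (ℓ ∘ₗ h.ofConv) f.ofConv (Coalgebra.comul (R := R) c))
  generalize Coalgebra.comul (R := R) c = z
  induction z using TensorProduct.induction_on with
  | zero => simp
  | tmul x y => simp [hℓ]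
  | add x y hx hy => simp only [map_add, hx, hy]

variable (J : Ideal R)

/-- `ξ` takes values in `J · T`. -/
def InN (ξ : WithConv (C →ₗ[R] T)) : Prop := ∀ c, ξ c ∈ J.map (algebraMap R T)

variable {J}

theorem InN.mul_eq_zero (hJ : J * J = ⊥) {ξ ξ' : WithConv (C →ₗ[R] T)} (h : InN J ξ)
    (h' : InN J ξ') : ξ * ξ' = 0 := by
  apply WithConv.ext
  ext c
  have := MultRigid.conv_mem_mul ξ ξ' _ _ h h' c
  rw [← Ideal.map_mul, hJ, Ideal.map_bot] at this
  exact (Ideal.mem_bot).mp this

theorem InN.mul_left {ξ : WithConv (C →ₗ[R] T)} (f : WithConv (C →ₗ[R] T)) (h : InN J ξ) :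
    InN J (f * ξ) := by
  intro c
  have := MultRigid.conv_mem_mul f ξ ⊤ _ (fun _ => trivial) h c
  rwa [Ideal.top_mul] at this

theorem InN.mul_right {ξ : WithConv (C →ₗ[R] T)} (f : WithConv (C →ₗ[R] T)) (h : InN J ξ) :
    InN J (ξ * f) := by
  intro c
  have := MultRigid.conv_mem_mul ξ f _ ⊤ h (fun _ => trivial) c
  rwa [Ideal.mul_top] at this

theorem InN.add {ξ ξ' : WithConv (C →ₗ[R] T)} (h : InN J ξ) (h' : InN J ξ') : InN J (ξ + ξ') :=
  fun c => Ideal.add_mem _ (h c) (h' c)

theorem InN.sub {ξ ξ' : WithConv (C →ₗ[R] T)} (h : InN J ξ) (h' : InN J ξ') : InN J (ξ - ξ') :=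
  fun c => Ideal.sub_mem _ (h c) (h' c)

theorem InN.postR (g : T →ₐ[R] T') {ξ : WithConv (C →ₗ[R] T)} (h : InN J ξ) :
    InN J (postR g ξ) := by
  intro c
  have := Ideal.mem_map_of_mem (g : T →+* T') (h c)
  rw [Ideal.map_map] at this
  have e : (g : T →+* T').comp (algebraMap R T) = algebraMap R T' := by
    ext r; simp
  rwa [e] at this

theorem map_mem_of_mem (ℓ : T →ₗ[R] T') {x : T} (hx : x ∈ J.map (algebraMap R T)) :
    ℓ x ∈ J.map (algebraMap R T') := by
  have h1 : x ∈ J • (⊤ : Submodule R T) := by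
    rw [Ideal.smul_top_eq_map]; exact hx
  have h2 : ℓ x ∈ J • (⊤ : Submodule R T') := by
    refine Submodule.smul_induction_on h1 (fun r hr t _ => ?_) (fun a b ha hb => ?_)
    · rw [map_smul]
      exact Submodule.smul_mem_smul hr trivial
    · rw [map_add]
      exact add_mem ha hb
  rw [Ideal.smul_top_eq_map] at h2
  exact h2

theorem InN.postL (ℓ : T →ₗ[R] T') {ξ : WithConv (C →ₗ[R] T)} (h : InN J ξ) :
    InN J (postL ℓ ξ) := fun c => map_mem_of_mem ℓ (h c)

end Post

section Lin

variable {R : Type*} [CommRing R] {C : Type*} [CommRing C] [HopfAlgebra R C]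
variable {T T' : Type*} [CommRing T] [Algebra R T] [CommRing T'] [Algebra R T']

/-- an algebra map as an element of the convolution ring -/
noncomputable def lin (f : C →ₐ[R] T) : WithConv (C →ₗ[R] T) := toConv f.toLinearMap

/-- its convolution inverse `f ∘ S` -/
noncomputable def linInv (f : C →ₐ[R] T) : WithConv (C →ₗ[R] T) :=
  toConv (f.toLinearMap ∘ₗ HopfAlgebra.antipode R)

@[simp] theorem lin_apply (f : C →ₐ[R] T) (c : C) : lin f c = f c := rfl

theorem lin_eq_postR (f : C →ₐ[R] T) : lin f = postR f (toConv LinearMap.id) := rfl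

theorem linInv_eq_postR (f : C →ₐ[R] T) :
    linInv f = postR f (toConv (HopfAlgebra.antipode R (A := C))) := rfl

theorem lin_mul_linInv (f : C →ₐ[R] T) : lin f * linInv f = 1 := by
  rw [lin_eq_postR, linInv_eq_postR, ← map_mul, LinearMap.id_mul_antipode, map_one]

theorem linInv_mul_lin (f : C →ₐ[R] T) : linInv f * lin f = 1 := by
  rw [lin_eq_postR, linInv_eq_postR, ← map_mul, LinearMap.antipode_mul_id, map_one]

theorem isUnit_lin (f : C →ₐ[R] T) : IsUnit (lin f) :=
  ⟨⟨lin f, linInv f, lin_mul_linInv f, linInv_mul_lin f⟩, rfl⟩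

theorem postR_lin (h : T →ₐ[R] T') (f : C →ₐ[R] T) : postR h (lin f) = lin (h.comp f) := rfl

theorem postR_linInv (h : T →ₐ[R] T') (f : C →ₐ[R] T) :
    postR h (linInv f) = linInv (h.comp f) := rfl

theorem lin_one : lin ((1 : WithConv (C →ₐ[R] T)).ofConv) = 1 := rfl

theorem lin_mul (f g : WithConv (C →ₐ[R] T)) :
    lin (f * g).ofConv = lin f.ofConv * lin g.ofConv := rfl

/-- `f ∘ S` as an algebra map -/
noncomputable def invAlg (f : C →ₐ[R] T) : C →ₐ[R] T := f.comp (HopfAlgebra.antipodeAlgHom R C)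

theorem lin_invAlg (f : C →ₐ[R] T) : lin (invAlg f) = linInv f := rfl

end Lin

end Groth.Agent.Lib.Helper27.HopfLift
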