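import Mathlib
import Groth.Agent.Lib.Helper27.HopfLiftA

/-!
# Lifting homomorphisms: slices and coface maps (helper27)
-/

set_option autoImplicit false
open TensorProduct WithConv

namespace Groth.Agent.Lib.Helper27.HopfLift

section Slice

variable {R : Type*} [CommRing R] {A : Type*} [CommRing A] [Algebra R A]
  (T : Type*) [CommRing T] [Algebra R T]

/-- `t ⊗ a ↦ π a • t` -/
noncomputable def sliceT (π : A →ₗ[R] R) : T ⊗[R] A →ₗ[R] T :=
  (TensorProduct.rid R T).toLinearMap ∘ₗ LinearMap.lTensor T π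

@[simp] theorem sliceT_tmul (π : A →ₗ[R] R) (t : T) (a : A) :
    sliceT T π (t ⊗ₜ[R] a) = π a • t := by
  simp [sliceT]

theorem sliceT_mul_left (π : A →ₗ[R] R) (t : T) (y : T ⊗[R] A) :
    sliceT T π ((Algebra.TensorProduct.includeLeft : T →ₐ[R] T ⊗[R] A) t * y) =
      t * sliceT T π y := by
  induction y using TensorProduct.induction_on with
  | zero => simp
  | tmul s a =>
    rw [Algebra.TensorProduct.includeLeft_apply, Algebra.TensorProduct.tmul_mul_tmul, one_mul,
      sliceT_tmul, sliceT_tmul, mul_smul_comm]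
  | add x y hx hy => rw [mul_add, map_add, map_add, hx, hy, mul_add]

theorem sliceT_mul_right (π : A →ₗ[R] R) (t : T) (y : T ⊗[R] A) :
    sliceT T π (y * (Algebra.TensorProduct.includeLeft : T →ₐ[R] T ⊗[R] A) t) =
      sliceT T π y * t := by
  rw [mul_comm, sliceT_mul_left, mul_comm]

end Slice

section Maps

variable {R : Type*} [CommRing R] {A : Type*} [CommRing A] [Bialgebra R A]

/-- `a ⊗ b ↦ Δ a ⊗ b` -/
noncomputable def d12 : A ⊗[R] A →ₐ[R] (A ⊗[R] A) ⊗[R] A :=
  Algebra.TensorProduct.map (Bialgebra.comulAlgHom R A) (AlgHom.id R A)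

/-- `a ⊗ b ↦ a ⊗ Δ b` (re-associated) -/
noncomputable def d23 : A ⊗[R] A →ₐ[R] (A ⊗[R] A) ⊗[R] A :=
  ((Algebra.TensorProduct.assoc R R R A A A).symm : A ⊗[R] (A ⊗[R] A) →ₐ[R] (A ⊗[R] A) ⊗[R] A).comp
    (Algebra.TensorProduct.map (AlgHom.id R A) (Bialgebra.comulAlgHom R A))

/-- `y ↦ y ⊗ 1` -/
noncomputable def j12 : A ⊗[R] A →ₐ[R] (A ⊗[R] A) ⊗[R] A :=
  Algebra.TensorProduct.includeLeft

/-- `a ⊗ b ↦ (1 ⊗ a) ⊗ b` -/
noncomputable def j23 : A ⊗[R] A →ₐ[R] (A ⊗[R] A) ⊗[R] A :=
  Algebra.TensorProduct.map (Algebra.TensorProduct.includeRight : A →ₐ[R] A ⊗[R] A) (AlgHom.id R A)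

/-- first inclusion -/
noncomputable def i1 : A →ₐ[R] A ⊗[R] A := Algebra.TensorProduct.includeLeft

/-- second inclusion -/
noncomputable def i2 : A →ₐ[R] A ⊗[R] A := Algebra.TensorProduct.includeRight

/-- third inclusion into the triple tensor product -/
noncomputable def k3 : A →ₐ[R] (A ⊗[R] A) ⊗[R] A := Algebra.TensorProduct.includeRight

theorem d12_comp_i1 : (d12 (R := R) (A := A)).comp i1 = j12.comp (Bialgebra.comulAlgHom R A) := by
  ext a
  simp [d12, i1, j12]

theorem d12_comp_i2 : (d12 (R := R) (A := A)).comp i2 = k3 := by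
  ext a
  simp [d12, i2, k3]

theorem d23_comp_i1 : (d23 (R := R) (A := A)).comp i1 =
    (j12 (R := R) (A := A)).comp (i1 (R := R) (A := A)) := by
  ext a
  simp [d23, i1, j12, Algebra.TensorProduct.one_def]

theorem assoc_symm_one_tmul (z : A ⊗[R] A) :
    (Algebra.TensorProduct.assoc R R R A A A).symm ((1 : A) ⊗ₜ[R] z) = j23 z := by
  induction z using TensorProduct.induction_on with
  | zero => simp
  | tmul x y => simp [j23]
  | add x y hx hy => rw [TensorProduct.tmul_add, map_add, map_add, hx, hy]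

theorem d23_comp_i2 : (d23 (R := R) (A := A)).comp i2 = j23.comp (Bialgebra.comulAlgHom R A) := by
  ext a
  simp only [d23, i2, AlgHom.comp_apply, Algebra.TensorProduct.includeRight_apply,
    Algebra.TensorProduct.map_tmul, AlgHom.id_apply, map_one, AlgHom.coe_coe]
  exact assoc_symm_one_tmul _

theorem j23_comp_i1 : (j23 (R := R) (A := A)).comp i1 =
    (j12 (R := R) (A := A)).comp (i2 (R := R) (A := A)) := by
  ext a
  simp [j23, i1, i2, j12]

theorem j23_comp_i2 : (j23 (R := R) (A := A)).comp i2 = k3 := by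
  ext a
  simp [j23, i2, k3, Algebra.TensorProduct.one_def]

theorem d12_comp_comul :
    (d12 (R := R) (A := A)).comp (Bialgebra.comulAlgHom R A) =
      d23.comp (Bialgebra.comulAlgHom R A) := by
  ext a
  simp only [AlgHom.comp_apply, Bialgebra.comulAlgHom_apply, d12, d23, AlgHom.coe_coe]
  have h := Coalgebra.coassoc_symm_apply (R := R) (A := A) a
  have e1 : ∀ z : A ⊗[R] A, Algebra.TensorProduct.map (Bialgebra.comulAlgHom R A) (AlgHom.id R A) z
      = LinearMap.rTensor A Coalgebra.comul z := by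
    intro z
    induction z using TensorProduct.induction_on with
    | zero => simp
    | tmul x y => simp
    | add x y hx hy => rw [map_add, map_add, hx, hy]
  have e2 : ∀ z : A ⊗[R] A, Algebra.TensorProduct.map (AlgHom.id R A) (Bialgebra.comulAlgHom R A) z
      = LinearMap.lTensor A Coalgebra.comul z := by
    intro z
    induction z using TensorProduct.induction_on with
    | zero => simp
    | tmul x y => simp
    | add x y hx hy => rw [map_add, map_add, hx, hy]
  have e3 : ∀ w : A ⊗[R] (A ⊗[R] A), (Algebra.TensorProduct.assoc R R R A A A).symm w =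
      (TensorProduct.assoc R A A A).symm w := by
    intro w
    induction w using TensorProduct.induction_on with
    | zero => simp
    | tmul x z =>
      induction z using TensorProduct.induction_on with
      | zero => simp
      | tmul y y' => simp
      | add y y' hy hy' => rw [TensorProduct.tmul_add, map_add, map_add, hy, hy']
    | add x y hx hy => rw [map_add, map_add, hx, hy]
  rw [e1, e2]
  exact ((e3 _).trans h).symm

end Maps

section SliceId

variable {R : Type*} [CommRing R] {A : Type*} [CommRing A] [Bialgebra R A] (π : A →ₗ[R] R)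

theorem slice_d12 : (sliceT (A ⊗[R] A) π) ∘ₗ (d12 (R := R) (A := A)).toLinearMap =
    (Bialgebra.comulAlgHom R A).toLinearMap ∘ₗ sliceT A π := by
  apply TensorProduct.ext'
  intro a b
  simp [d12]

theorem slice_j12 (hπ1 : π 1 = 1) : (sliceT (A ⊗[R] A) π) ∘ₗ (j12 (R := R) (A := A)).toLinearMap =
    LinearMap.id := by
  ext y
  simp [j12, hπ1]

theorem slice_assoc_symm (a : A) (z : A ⊗[R] A) :
    sliceT (A ⊗[R] A) π ((Algebra.TensorProduct.assoc R R R A A A).symm (a ⊗ₜ[R] z)) =
      a ⊗ₜ[R] sliceT A π z := by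
  induction z using TensorProduct.induction_on with
  | zero => simp
  | tmul x y => simp [TensorProduct.tmul_smul, TensorProduct.smul_tmul']
  | add x y hx hy => rw [TensorProduct.tmul_add, map_add, map_add, hx, hy, map_add,
      TensorProduct.tmul_add]

theorem slice_d23 (hπ : ∀ a, sliceT A π (Coalgebra.comul (R := R) a) = algebraMap R A (π a)) :
    (sliceT (A ⊗[R] A) π) ∘ₗ (d23 (R := R) (A := A)).toLinearMap =
    (i1 (R := R) (A := A)).toLinearMap ∘ₗ sliceT A π := by
  apply TensorProduct.ext'
  intro a b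
  simp only [LinearMap.comp_apply, AlgHom.toLinearMap_apply, d23, AlgHom.comp_apply,
    Algebra.TensorProduct.map_tmul, AlgHom.id_apply, Bialgebra.comulAlgHom_apply, AlgHom.coe_coe,
    sliceT_tmul, i1, Algebra.TensorProduct.includeLeft_apply]
  refine (slice_assoc_symm π a (Coalgebra.comul (R := R) b)).trans ?_
  rw [hπ, Algebra.algebraMap_eq_smul_one, TensorProduct.tmul_smul, TensorProduct.smul_tmul']

theorem slice_j23 : (sliceT (A ⊗[R] A) π) ∘ₗ (j23 (R := R) (A := A)).toLinearMap =
    (i2 (R := R) (A := A)).toLinearMap ∘ₗ sliceT A π := by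
  apply TensorProduct.ext'
  intro a b
  simp [j23, i2, TensorProduct.tmul_smul]

end SliceId

end Groth.Agent.Lib.Helper27.HopfLift
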