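import Mathlib
import Groth.Agent.Lib.Helper27.HopfLiftB

/-!
# Lifting homomorphisms: the coboundary computation (helper27)
-/

set_option autoImplicit false
open TensorProduct WithConv

namespace Groth.Agent.Lib.Helper27.HopfLift

section RingLemmas

variable {𝒟 : Type*} [Ring 𝒟]

theorem cocycle_ring {U1 U2 U3 a b c d : 𝒟} (h2 : IsUnit U2) (h3 : IsUnit U3)
    (hab : a * b = 0) (hcd : c * U1 * d = 0)
    (h : (1 + a) * ((1 + b) * U1 * U2) * U3 = (1 + c) * U1 * ((1 + d) * U2 * U3)) :
    a * U1 + b * U1 = c * U1 + U1 * d := by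
  have h' : ((1 + a) * ((1 + b) * U1)) * (U2 * U3) = ((1 + c) * U1 * (1 + d)) * (U2 * U3) := by
    simp only [mul_assoc] at h ⊢
    exact h
  have h'' := (IsUnit.mul_left_inj (h2.mul h3)).mp h'
  have e1 : (1 + a) * ((1 + b) * U1) = U1 + (a * U1 + b * U1) + a * b * U1 := by noncomm_ring
  have e2 : (1 + c) * U1 * (1 + d) = U1 + (c * U1 + U1 * d) + c * U1 * d := by noncomm_ring
  rw [e1, e2, hab, hcd, zero_mul, add_zero, add_zero] at h''
  exact add_left_cancel h''

theorem compat_ring {u1 u2 ξ a b c : 𝒟} (h1 : a * ξ = 0) (h2 : b * u1 * c = 0)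
    (key : a * u1 + ξ * u1 = b * u1 + u1 * c) :
    (1 + a) * ((1 + ξ) * u1 * u2) = (1 + b) * u1 * ((1 + c) * u2) := by
  have e1 : (1 + a) * ((1 + ξ) * u1 * u2) = (u1 + (a * u1 + ξ * u1) + a * ξ * u1) * u2 := by
    noncomm_ring
  have e2 : (1 + b) * u1 * ((1 + c) * u2) = (u1 + (b * u1 + u1 * c) + b * u1 * c) * u2 := by
    noncomm_ring
  rw [e1, e2, h1, h2, key, zero_mul]

end RingLemmas

section Coboundary

variable {R : Type*} [CommRing R] {J : Ideal R}
variable {A : Type*} [CommRing A] [Bialgebra R A] {C : Type*} [CommRing C] [HopfAlgebra R C]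

/-- the defect of `u` from being comultiplicative -/
noncomputable def xi (u : C →ₐ[R] A) : WithConv (C →ₗ[R] A ⊗[R] A) :=
  lin ((Bialgebra.comulAlgHom R A).comp u) * linInv ((i2 (R := R) (A := A)).comp u) *
    linInv ((i1 (R := R) (A := A)).comp u) - 1

theorem lin_comul_eq (u : C →ₐ[R] A) :
    lin ((Bialgebra.comulAlgHom R A).comp u) =
      (1 + xi u) * lin ((i1 (R := R) (A := A)).comp u) * lin ((i2 (R := R) (A := A)).comp u) := by
  unfold xi
  rw [add_sub_cancel]
  calc lin ((Bialgebra.comulAlgHom R A).comp u)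
      = lin ((Bialgebra.comulAlgHom R A).comp u) * (linInv ((i2 (R := R) (A := A)).comp u) *
          ((linInv ((i1 (R := R) (A := A)).comp u) * lin ((i1 (R := R) (A := A)).comp u)) *
            lin ((i2 (R := R) (A := A)).comp u))) := by
        rw [linInv_mul_lin, one_mul, linInv_mul_lin, mul_one]
    _ = _ := by simp only [mul_assoc]

theorem xi_eq (u : C →ₐ[R] A) :
    xi u = (lin ((Bialgebra.comulAlgHom R A).comp u) -
      lin ((i1 (R := R) (A := A)).comp u) * lin ((i2 (R := R) (A := A)).comp u)) *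
        linInv ((i2 (R := R) (A := A)).comp u) * linInv ((i1 (R := R) (A := A)).comp u) := by
  unfold xi
  rw [sub_mul, sub_mul]
  congr 1
  calc (1 : WithConv (C →ₗ[R] A ⊗[R] A))
      = lin ((i1 (R := R) (A := A)).comp u) * (lin ((i2 (R := R) (A := A)).comp u) *
          linInv ((i2 (R := R) (A := A)).comp u)) * linInv ((i1 (R := R) (A := A)).comp u) := by
        rw [lin_mul_linInv, mul_one, lin_mul_linInv]
    _ = _ := by simp only [mul_assoc]

theorem inN_xi (u : C →ₐ[R] A)
    (hu : InN J (lin ((Bialgebra.comulAlgHom R A).comp u) -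
      lin ((i1 (R := R) (A := A)).comp u) * lin ((i2 (R := R) (A := A)).comp u))) :
    InN J (xi u) := by
  rw [xi_eq]
  exact (hu.mul_right _).mul_right _

theorem cocycle (hJ : J * J = ⊥) (u : C →ₐ[R] A) (hξ : InN J (xi u)) :
    postR d12 (xi u) * lin (((j12 (R := R) (A := A)).comp i1).comp u) +
      postR j12 (xi u) * lin (((j12 (R := R) (A := A)).comp i1).comp u) =
    postR d23 (xi u) * lin (((j12 (R := R) (A := A)).comp i1).comp u) +
      lin (((j12 (R := R) (A := A)).comp i1).comp u) * postR j23 (xi u) := by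
  have hx := lin_comul_eq u
  have h12 : lin (((d12 (R := R) (A := A)).comp (Bialgebra.comulAlgHom R A)).comp u) =
      (1 + postR d12 (xi u)) * ((1 + postR j12 (xi u)) *
        lin (((j12 (R := R) (A := A)).comp i1).comp u) *
        lin (((j12 (R := R) (A := A)).comp i2).comp u)) * lin ((k3 (R := R) (A := A)).comp u) := by
    have e0 : lin (((d12 (R := R) (A := A)).comp (Bialgebra.comulAlgHom R A)).comp u) =
        postR d12 (lin ((Bialgebra.comulAlgHom R A).comp u)) := rfl
    have e1 : postR (d12 (R := R) (A := A)) (lin ((i1 (R := R) (A := A)).comp u)) =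
        postR j12 (lin ((Bialgebra.comulAlgHom R A).comp u)) := by
      show lin ((d12 (R := R) (A := A)).comp ((i1 (R := R) (A := A)).comp u)) =
        lin ((j12 (R := R) (A := A)).comp ((Bialgebra.comulAlgHom R A).comp u))
      rw [← AlgHom.comp_assoc, d12_comp_i1, AlgHom.comp_assoc]
    have e2 : postR (d12 (R := R) (A := A)) (lin ((i2 (R := R) (A := A)).comp u)) =
        lin ((k3 (R := R) (A := A)).comp u) := by
      show lin ((d12 (R := R) (A := A)).comp ((i2 (R := R) (A := A)).comp u)) = _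
      rw [← AlgHom.comp_assoc, d12_comp_i2]
    rw [e0]
    conv_lhs => rw [hx]
    rw [map_mul, map_mul, map_add, map_one, e1, e2]
    conv_lhs => rw [hx]
    rw [map_mul, map_mul, map_add, map_one]
    rfl
  have h23 : lin (((d23 (R := R) (A := A)).comp (Bialgebra.comulAlgHom R A)).comp u) =
      (1 + postR d23 (xi u)) * lin (((j12 (R := R) (A := A)).comp i1).comp u) *
        ((1 + postR j23 (xi u)) * lin (((j12 (R := R) (A := A)).comp i2).comp u) *
          lin ((k3 (R := R) (A := A)).comp u)) := by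
    have e0 : lin (((d23 (R := R) (A := A)).comp (Bialgebra.comulAlgHom R A)).comp u) =
        postR d23 (lin ((Bialgebra.comulAlgHom R A).comp u)) := rfl
    have e1 : postR (d23 (R := R) (A := A)) (lin ((i1 (R := R) (A := A)).comp u)) =
        lin (((j12 (R := R) (A := A)).comp i1).comp u) := by
      show lin ((d23 (R := R) (A := A)).comp ((i1 (R := R) (A := A)).comp u)) = _
      rw [← AlgHom.comp_assoc, d23_comp_i1]
    have e2 : postR (d23 (R := R) (A := A)) (lin ((i2 (R := R) (A := A)).comp u)) =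
        postR j23 (lin ((Bialgebra.comulAlgHom R A).comp u)) := by
      show lin ((d23 (R := R) (A := A)).comp ((i2 (R := R) (A := A)).comp u)) =
        lin ((j23 (R := R) (A := A)).comp ((Bialgebra.comulAlgHom R A).comp u))
      rw [← AlgHom.comp_assoc, d23_comp_i2, AlgHom.comp_assoc]
    have e3 : postR (j23 (R := R) (A := A)) (lin ((i1 (R := R) (A := A)).comp u)) =
        lin (((j12 (R := R) (A := A)).comp i2).comp u) := by
      show lin ((j23 (R := R) (A := A)).comp ((i1 (R := R) (A := A)).comp u)) = _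
      rw [← AlgHom.comp_assoc, j23_comp_i1]
    have e4 : postR (j23 (R := R) (A := A)) (lin ((i2 (R := R) (A := A)).comp u)) =
        lin ((k3 (R := R) (A := A)).comp u) := by
      show lin ((j23 (R := R) (A := A)).comp ((i2 (R := R) (A := A)).comp u)) = _
      rw [← AlgHom.comp_assoc, j23_comp_i2]
    rw [e0]
    conv_lhs => rw [hx]
    rw [map_mul, map_mul, map_add, map_one, e1, e2]
    conv_lhs => rw [hx]
    rw [map_mul, map_mul, map_add, map_one, e3, e4]
  have ha : InN J (postR (d12 (R := R) (A := A)) (xi u)) := InN.postR _ hξ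
  have hb : InN J (postR (j12 (R := R) (A := A)) (xi u)) := InN.postR _ hξ
  have hc : InN J (postR (d23 (R := R) (A := A)) (xi u)) := InN.postR _ hξ
  have hd : InN J (postR (j23 (R := R) (A := A)) (xi u)) := InN.postR _ hξ
  have hab : postR (d12 (R := R) (A := A)) (xi u) * postR (j12 (R := R) (A := A)) (xi u) = 0 :=
    InN.mul_eq_zero hJ ha hb
  have hcd : postR (d23 (R := R) (A := A)) (xi u) *
      lin (((j12 (R := R) (A := A)).comp i1).comp u) * postR (j23 (R := R) (A := A)) (xi u) = 0 :=
    InN.mul_eq_zero hJ (hc.mul_right _) hd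
  have hU2 := isUnit_lin (((j12 (R := R) (A := A)).comp i2).comp u)
  have hU3 := isUnit_lin ((k3 (R := R) (A := A)).comp u)
  have h := h12.symm.trans ((congrArg (fun f => lin (f.comp u)) d12_comp_comul).trans h23)
  exact cocycle_ring hU2 hU3 hab hcd h

/-- the correcting cochain -/
noncomputable def zeta (π : A →ₗ[R] R) (u : C →ₐ[R] A) : WithConv (C →ₗ[R] A) :=
  postL (sliceT A π) (xi u)

theorem key (hJ : J * J = ⊥) (π : A →ₗ[R] R) (hπ1 : π 1 = 1)
    (hπ : ∀ a, sliceT A π (Coalgebra.comul (R := R) a) = algebraMap R A (π a))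
    (u : C →ₐ[R] A) (hξ : InN J (xi u)) :
    postR (Bialgebra.comulAlgHom R A) (zeta π u) * lin ((i1 (R := R) (A := A)).comp u) +
      xi u * lin ((i1 (R := R) (A := A)).comp u) =
    postR (i1 (R := R) (A := A)) (zeta π u) * lin ((i1 (R := R) (A := A)).comp u) +
      lin ((i1 (R := R) (A := A)).comp u) * postR (i2 (R := R) (A := A)) (zeta π u) := by
  have hc := congrArg (postL (sliceT (A ⊗[R] A) π)) (cocycle hJ u hξ)
  rw [map_add, map_add] at hc
  have eU : lin (((j12 (R := R) (A := A)).comp i1).comp u) =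
      postR (j12 (R := R) (A := A)) (lin ((i1 (R := R) (A := A)).comp u)) := rfl
  rw [eU] at hc
  have hr : ∀ t y, sliceT (A ⊗[R] A) π (y * (j12 (R := R) (A := A)) t) =
      sliceT (A ⊗[R] A) π y * t := fun t y => sliceT_mul_right (A ⊗[R] A) π t y
  have hl : ∀ t y, sliceT (A ⊗[R] A) π ((j12 (R := R) (A := A)) t * y) =
      t * sliceT (A ⊗[R] A) π y := fun t y => sliceT_mul_left (A ⊗[R] A) π t y
  rw [postL_mul_right (j12 (R := R) (A := A)) _ hr, postL_mul_right (j12 (R := R) (A := A)) _ hr,
    postL_mul_right (j12 (R := R) (A := A)) _ hr, postL_mul_left (j12 (R := R) (A := A)) _ hl,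
    postL_postR, postL_postR, postL_postR, postL_postR, slice_d12, slice_j12 π hπ1,
    slice_d23 π hπ, slice_j23, postL_id] at hc
  exact hc

theorem inN_zeta (π : A →ₗ[R] R) (u : C →ₐ[R] A) (hξ : InN J (xi u)) : InN J (zeta π u) :=
  InN.postL _ hξ

theorem comul_compat (hJ : J * J = ⊥) (π : A →ₗ[R] R) (hπ1 : π 1 = 1)
    (hπ : ∀ a, sliceT A π (Coalgebra.comul (R := R) a) = algebraMap R A (π a))
    (u : C →ₐ[R] A) (hξ : InN J (xi u)) :
    postR (Bialgebra.comulAlgHom R A) ((1 + zeta π u) * lin u) =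
      postR (i1 (R := R) (A := A)) ((1 + zeta π u) * lin u) *
        postR (i2 (R := R) (A := A)) ((1 + zeta π u) * lin u) := by
  have hζ := inN_zeta π u hξ
  have h0 : InN J (postR (Bialgebra.comulAlgHom R A) (zeta π u)) := InN.postR _ hζ
  have h1 : InN J (postR (i1 (R := R) (A := A)) (zeta π u)) := InN.postR _ hζ
  have h2 : InN J (postR (i2 (R := R) (A := A)) (zeta π u)) := InN.postR _ hζ
  rw [map_mul, map_mul, map_mul, map_add, map_add, map_add, map_one, map_one, map_one]
  have e0 : postR (Bialgebra.comulAlgHom R A) (lin u) =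
      lin ((Bialgebra.comulAlgHom R A).comp u) := rfl
  have e1 : postR (i1 (R := R) (A := A)) (lin u) = lin ((i1 (R := R) (A := A)).comp u) := rfl
  have e2 : postR (i2 (R := R) (A := A)) (lin u) = lin ((i2 (R := R) (A := A)).comp u) := rfl
  rw [e0, e1, e2, lin_comul_eq u]
  exact compat_ring (InN.mul_eq_zero hJ h0 hξ) (InN.mul_eq_zero hJ (h1.mul_right _) h2)
    (key hJ π hπ1 hπ u hξ)

end Coboundary

end Groth.Agent.Lib.Helper27.HopfLift
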