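import Mathlib
import Groth.Agent.Lib.Helper27.HopfLiftC

/-!
# Lifting homomorphisms: the corrected map is a bialgebra map (helper27)
-/

set_option autoImplicit false
open TensorProduct WithConv

namespace Groth.Agent.Lib.Helper27.HopfLift

section Deriv

variable {R : Type*} [CommRing R] {J : Ideal R} {C : Type*} [CommRing C] [HopfAlgebra R C]
variable {T T' : Type*} [CommRing T] [Algebra R T] [CommRing T'] [Algebra R T']

theorem mul_eq_zero_of_mem (hJ : J * J = ⊥) {x y : T} (hx : x ∈ J.map (algebraMap R T))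
    (hy : y ∈ J.map (algebraMap R T)) : x * y = 0 := by
  have := Ideal.mul_mem_mul hx hy
  rw [← Ideal.map_mul, hJ, Ideal.map_bot] at this
  exact (Ideal.mem_bot).mp this

/-- `ξ` is an `ε`-derivation -/
def IsDer (ξ : WithConv (C →ₗ[R] T)) : Prop :=
  ξ 1 = 0 ∧ ∀ c c' : C, ξ (c * c') =
    Coalgebra.counit (R := R) c • ξ c' + Coalgebra.counit (R := R) c' • ξ c

theorem one_add_apply (ξ : WithConv (C →ₗ[R] T)) (c : C) :
    (1 + ξ) c = algebraMap R T (Coalgebra.counit (R := R) c) + ξ c := rfl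

theorem isDer_of_lin (hJ : J * J = ⊥) {ξ : WithConv (C →ₗ[R] T)} (hξ : InN J ξ)
    (y : C →ₐ[R] T) (h : lin y = 1 + ξ) : IsDer ξ := by
  have hy : ∀ c, y c = algebraMap R T (Coalgebra.counit (R := R) c) + ξ c := by
    intro c
    have := congrArg (fun f : WithConv (C →ₗ[R] T) => f c) h
    exact this
  refine ⟨?_, fun c c' => ?_⟩
  · have := hy 1
    rw [map_one, Bialgebra.counit_one, map_one] at this
    exact (add_eq_left.mp this.symm)
  · have h1 := hy (c * c')
    rw [map_mul, hy c, hy c', Bialgebra.counit_mul, map_mul] at h1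
    have h0 := mul_eq_zero_of_mem hJ (hξ c) (hξ c')
    have h2 : (algebraMap R T (Coalgebra.counit (R := R) c) + ξ c) *
        (algebraMap R T (Coalgebra.counit (R := R) c') + ξ c') =
        algebraMap R T (Coalgebra.counit (R := R) c) * algebraMap R T (Coalgebra.counit (R := R) c')
          + (Coalgebra.counit (R := R) c • ξ c' + Coalgebra.counit (R := R) c' • ξ c) := by
      rw [Algebra.smul_def, Algebra.smul_def]
      linear_combination h0
    rw [h2] at h1
    exact (add_left_cancel h1).symm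

theorem IsDer.postL {ξ : WithConv (C →ₗ[R] T)} (h : IsDer ξ) (ℓ : T →ₗ[R] T') :
    IsDer (postL ℓ ξ) := by
  refine ⟨?_, fun c c' => ?_⟩
  · show ℓ (ξ 1) = 0
    rw [h.1, map_zero]
  · show ℓ (ξ (c * c')) = _ • ℓ (ξ c') + _ • ℓ (ξ c)
    rw [h.2, map_add, map_smul, map_smul]

theorem exists_algHom_of_isDer (hJ : J * J = ⊥) {ζ : WithConv (C →ₗ[R] T)} (hζ : InN J ζ)
    (h : IsDer ζ) : ∃ y : C →ₐ[R] T, lin y = 1 + ζ := by
  refine ⟨AlgHom.ofLinearMap (1 + ζ).ofConv ?_ ?_, ?_⟩
  · show (1 + ζ) 1 = 1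
    rw [one_add_apply, h.1, Bialgebra.counit_one, map_one, add_zero]
  · intro c c'
    show (1 + ζ) (c * c') = (1 + ζ) c * (1 + ζ) c'
    rw [one_add_apply, one_add_apply, one_add_apply, h.2, Bialgebra.counit_mul, map_mul]
    have h0 := mul_eq_zero_of_mem hJ (hζ c) (hζ c')
    rw [Algebra.smul_def, Algebra.smul_def]
    linear_combination (-1 : T) * h0
  · rfl

end Deriv

section Corrected

variable {R : Type*} [CommRing R] {J : Ideal R}
variable {A : Type*} [CommRing A] [Bialgebra R A] {C : Type*} [CommRing C] [HopfAlgebra R C]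

theorem exists_lin_one_add_xi (u : C →ₐ[R] A) :
    ∃ y₀ : C →ₐ[R] A ⊗[R] A, lin y₀ = 1 + xi u := by
  refine ⟨(toConv ((Bialgebra.comulAlgHom R A).comp u) *
    toConv (invAlg ((i2 (R := R) (A := A)).comp u)) *
    toConv (invAlg ((i1 (R := R) (A := A)).comp u))).ofConv, ?_⟩
  rw [lin_mul, lin_mul]
  unfold xi
  rw [add_sub_cancel]
  rfl

theorem isDer_xi (hJ : J * J = ⊥) (u : C →ₐ[R] A) (hξ : InN J (xi u)) : IsDer (xi u) := by
  obtain ⟨y₀, hy₀⟩ := exists_lin_one_add_xi u
  exact isDer_of_lin hJ hξ y₀ hy₀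

theorem exists_corrected (hJ : J * J = ⊥) (π : A →ₗ[R] R) (u : C →ₐ[R] A) (hξ : InN J (xi u)) :
    ∃ φ : C →ₐ[R] A, lin φ = (1 + zeta π u) * lin u := by
  obtain ⟨y, hy⟩ := exists_algHom_of_isDer hJ (inN_zeta π u hξ)
    ((isDer_xi hJ u hξ).postL (sliceT A π))
  refine ⟨(toConv y * toConv u).ofConv, ?_⟩
  rw [lin_mul]
  show lin y * lin u = _
  rw [hy]

theorem mul_map_i1_i2 (f g : C →ₗ[R] A) (z : C ⊗[R] C) :
    LinearMap.mul' R (A ⊗[R] A) (TensorProduct.map ((i1 (R := R) (A := A)).toLinearMap ∘ₗ f)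
      ((i2 (R := R) (A := A)).toLinearMap ∘ₗ g) z) = TensorProduct.map f g z := by
  induction z using TensorProduct.induction_on with
  | zero => simp
  | tmul x y => simp [i1, i2]
  | add x y hx hy => rw [map_add, map_add, map_add, hx, hy]

/-- `ε ⊗ ε` -/
noncomputable def e2 : A ⊗[R] A →ₐ[R] R :=
  Algebra.TensorProduct.lift (Bialgebra.counitAlgHom R A) (Bialgebra.counitAlgHom R A)
    (fun _ _ => Commute.all _ _)

theorem e2_comp_comul : (e2 (R := R) (A := A)).comp (Bialgebra.comulAlgHom R A) =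
    Bialgebra.counitAlgHom R A := by
  ext a
  have h : ∀ z : A ⊗[R] A, e2 (R := R) (A := A) z =
      Coalgebra.counit (R := R) (TensorProduct.lid R A (LinearMap.rTensor A Coalgebra.counit z)) := by
    intro z
    induction z using TensorProduct.induction_on with
    | zero => simp
    | tmul x y => simp [e2]
    | add x y hx hy => rw [map_add, hx, hy, map_add, map_add, map_add]
  rw [AlgHom.comp_apply, Bialgebra.comulAlgHom_apply, h, Coalgebra.rTensor_counit_comul]
  simp

theorem e2_comp_i1 : (e2 (R := R) (A := A)).comp i1 = Bialgebra.counitAlgHom R A := by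
  ext a
  simp [e2, i1]

theorem e2_comp_i2 : (e2 (R := R) (A := A)).comp i2 = Bialgebra.counitAlgHom R A := by
  ext a
  simp [e2, i2]

theorem counit_of_comul_compat (φ : C →ₐ[R] A)
    (h : postR (Bialgebra.comulAlgHom R A) (lin φ) =
      postR (i1 (R := R) (A := A)) (lin φ) * postR (i2 (R := R) (A := A)) (lin φ)) :
    (Bialgebra.counitAlgHom R A).comp φ = Bialgebra.counitAlgHom R C := by
  have h1 := congrArg (postR (e2 (R := R) (A := A))) h
  rw [map_mul] at h1
  have a0 : postR (e2 (R := R) (A := A)) (postR (Bialgebra.comulAlgHom R A) (lin φ)) =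
      lin ((Bialgebra.counitAlgHom R A).comp φ) := by
    show lin ((e2 (R := R) (A := A)).comp ((Bialgebra.comulAlgHom R A).comp φ)) = _
    rw [← AlgHom.comp_assoc, e2_comp_comul]
  have a1 : postR (e2 (R := R) (A := A)) (postR (i1 (R := R) (A := A)) (lin φ)) =
      lin ((Bialgebra.counitAlgHom R A).comp φ) := by
    show lin ((e2 (R := R) (A := A)).comp ((i1 (R := R) (A := A)).comp φ)) = _
    rw [← AlgHom.comp_assoc, e2_comp_i1]
  have a2 : postR (e2 (R := R) (A := A)) (postR (i2 (R := R) (A := A)) (lin φ)) =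
      lin ((Bialgebra.counitAlgHom R A).comp φ) := by
    show lin ((e2 (R := R) (A := A)).comp ((i2 (R := R) (A := A)).comp φ)) = _
    rw [← AlgHom.comp_assoc, e2_comp_i2]
  rw [a0, a1, a2] at h1
  have hu := isUnit_lin ((Bialgebra.counitAlgHom R A).comp φ)
  have h2 : lin ((Bialgebra.counitAlgHom R A).comp φ) = 1 := by
    have := (IsUnit.mul_left_inj hu).mp (h1.symm.trans (one_mul _).symm)
    exact this
  ext c
  have := congrArg (fun f : WithConv (C →ₗ[R] R) => f c) h2
  exact this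

theorem exists_bialgHom_of_algHom (hJ : J * J = ⊥) (π : A →ₗ[R] R) (hπ1 : π 1 = 1)
    (hπ : ∀ a, sliceT A π (Coalgebra.comul (R := R) a) = algebraMap R A (π a))
    (u : C →ₐ[R] A)
    (hu : InN J (lin ((Bialgebra.comulAlgHom R A).comp u) -
      lin ((i1 (R := R) (A := A)).comp u) * lin ((i2 (R := R) (A := A)).comp u))) :
    ∃ φ : C →ₐc[R] A, ∀ c, φ c - u c ∈ J.map (algebraMap R A) := by
  have hξ := inN_xi u hu
  obtain ⟨φ, hφ⟩ := exists_corrected hJ π u hξ
  have hc : postR (Bialgebra.comulAlgHom R A) (lin φ) =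
      postR (i1 (R := R) (A := A)) (lin φ) * postR (i2 (R := R) (A := A)) (lin φ) := by
    rw [hφ]
    exact comul_compat hJ π hπ1 hπ u hξ
  refine ⟨BialgHom.ofAlgHom φ (counit_of_comul_compat φ hc) ?_, fun c => ?_⟩
  · ext c
    have h1 := congrArg (fun f : WithConv (C →ₗ[R] A ⊗[R] A) => f c) hc
    have h2 : (postR (i1 (R := R) (A := A)) (lin φ) * postR (i2 (R := R) (A := A)) (lin φ)) c =
        TensorProduct.map φ.toLinearMap φ.toLinearMap (Coalgebra.comul (R := R) c) :=
      mul_map_i1_i2 φ.toLinearMap φ.toLinearMap _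
    simp only [h2] at h1
    rw [AlgHom.comp_apply, AlgHom.comp_apply, Bialgebra.comulAlgHom_apply,
      Bialgebra.comulAlgHom_apply]
    exact h1.symm
  · have h1 : lin φ - lin u = zeta π u * lin u := by
      rw [hφ, add_mul, one_mul, add_sub_cancel_left]
    have h2 : InN J (lin φ - lin u) := by
      rw [h1]
      exact (inN_zeta π u hξ).mul_right _
    exact h2 c

end Corrected

end Groth.Agent.Lib.Helper27.HopfLift
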