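import Groth.Agent.Lib.Helper27.HopfNilLiftB
import Groth.Agent.Lib.Helper90.EtLiftQuot

/-!
# A flat Hopf algebra which is diagonalisable modulo a nilpotent ideal is diagonalisable
(helper27)

* `isDiag_of_nilpotent_ker`: `R → K` onto with nilpotent kernel, `A` a flat commutative Hopf
  `R`-algebra with `K ⊗ A` diagonalisable; then `A` is diagonalisable (no multiplicative type
  hypothesis on `A`).
* `exists_etale_diag`: lifting an étale diagonalising cover along such a surjection.
-/

set_option autoImplicit false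
universe u
open TensorProduct SGA3b

namespace Groth.Agent.Lib.Helper27.HopfNilLift

open Groth.Agent.Lib.Helper27.MultRigid Groth.Agent.Lib.Helper17.MultLift
  Groth.Agent.Lib.Helper17.MultBC

theorem isDiag_of_nilpotent_ker_aux (K : Type u) [CommRing K] (n : ℕ) :
    ∀ (R : Type u) [CommRing R] [Algebra R K] (A : Type u) [CommRing A] [HopfAlgebra R A]
      [Module.Flat R A], Function.Surjective (algebraMap R K) →
      RingHom.ker (algebraMap R K) ^ n = ⊥ → IsDiag K (K ⊗[R] A) → IsDiag R A := by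
  induction n with
  | zero =>
    intro R _ _ A _ _ _ hsurj hn h0
    refine isDiag_of_sqZero hsurj ?_ h0
    rw [pow_zero, Ideal.one_eq_top] at hn
    refine le_bot_iff.1 (le_trans le_top (le_of_eq hn))
  | succ n ih =>
    intro R _ _ A _ _ _ hsurj hn h0
    set J := RingHom.ker (algebraMap R K) with hJ
    by_cases hn1 : n ≤ 1
    · refine isDiag_of_sqZero hsurj ?_ h0
      rw [← hJ, ← pow_two]
      refine le_bot_iff.1 (le_trans (Ideal.pow_le_pow_right (by omega)) (le_of_eq hn))
    · push Not at hn1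
      set J' := J ^ n with hJ'
      have hJ'J : J' ≤ J := by
        rw [hJ']
        exact Ideal.pow_le_self (by omega)
      have hsq : J' * J' = ⊥ := by
        rw [hJ', ← pow_add]
        refine le_bot_iff.1 (le_trans (Ideal.pow_le_pow_right (by omega)) (le_of_eq hn))
      -- the intermediate ring `R ⧸ J'`
      have hlift : ∀ x ∈ J', algebraMap R K x = 0 := fun x hx => (RingHom.mem_ker).1 (hJ'J hx)
      letI : Algebra (R ⧸ J') K := (Ideal.Quotient.lift J' (algebraMap R K) hlift).toAlgebra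
      haveI : IsScalarTower R (R ⧸ J') K := IsScalarTower.of_algebraMap_eq (fun x => by
        rw [RingHom.algebraMap_toAlgebra, Ideal.Quotient.algebraMap_eq, Ideal.Quotient.lift_mk])
      have hsurj' : Function.Surjective (algebraMap (R ⧸ J') K) := by
        intro y
        obtain ⟨x, rfl⟩ := hsurj y
        exact ⟨Ideal.Quotient.mk J' x, by
          rw [RingHom.algebraMap_toAlgebra, Ideal.Quotient.lift_mk]⟩
      have hker : RingHom.ker (algebraMap (R ⧸ J') K) ≤ J.map (Ideal.Quotient.mk J') := by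
        intro y hy
        obtain ⟨x, rfl⟩ := Ideal.Quotient.mk_surjective y
        rw [RingHom.mem_ker, RingHom.algebraMap_toAlgebra, Ideal.Quotient.lift_mk] at hy
        exact Ideal.mem_map_of_mem _ ((RingHom.mem_ker).2 hy)
      have hn' : RingHom.ker (algebraMap (R ⧸ J') K) ^ n = ⊥ := by
        refine le_bot_iff.1 (le_trans (Ideal.pow_right_mono hker n) ?_)
        rw [← Ideal.map_pow, ← hJ', Ideal.map_quotient_self]
      have h0' : IsDiag K (K ⊗[R ⧸ J'] ((R ⧸ J') ⊗[R] A)) :=
        isDiag_of_bialgEquiv (cancelBaseChangeBialg R (R ⧸ J') K A) h0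
      have h1 : IsDiag (R ⧸ J') ((R ⧸ J') ⊗[R] A) :=
        ih (R ⧸ J') ((R ⧸ J') ⊗[R] A) hsurj' hn' h0'
      refine isDiag_of_sqZero (K := R ⧸ J') Ideal.Quotient.mk_surjective ?_ h1
      rw [Ideal.Quotient.algebraMap_eq, Ideal.mk_ker]
      exact hsq

/-- **Deformations of diagonalisable groups are diagonalisable.** -/
theorem isDiag_of_nilpotent_ker {R K : Type u} [CommRing R] [CommRing K] [Algebra R K]
    (A : Type u) [CommRing A] [HopfAlgebra R A] [Module.Flat R A]
    (hsurj : Function.Surjective (algebraMap R K))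
    (hnil : IsNilpotent (RingHom.ker (algebraMap R K))) (h0 : IsDiag K (K ⊗[R] A)) :
    IsDiag R A := by
  obtain ⟨n, hn⟩ := hnil
  exact isDiag_of_nilpotent_ker_aux K n R A hsurj hn h0

/-- quotient form -/
theorem isDiag_of_nilpotent {R : Type u} [CommRing R] (A : Type u) [CommRing A] [HopfAlgebra R A]
    [Module.Flat R A] (I : Ideal R) (hI : IsNilpotent I)
    (h0 : IsDiag (R ⧸ I) ((R ⧸ I) ⊗[R] A)) : IsDiag R A := by
  refine isDiag_of_nilpotent_ker (K := R ⧸ I) A Ideal.Quotient.mk_surjective ?_ h0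
  rwa [Ideal.Quotient.algebraMap_eq, Ideal.mk_ker]

theorem isNilpotent_map {S S' : Type*} [CommRing S] [CommRing S'] (f : S →+* S') (J : Ideal S)
    (hJ : IsNilpotent J) : IsNilpotent (J.map f) := by
  obtain ⟨n, hn⟩ := hJ
  exact ⟨n, by rw [← Ideal.map_pow, hn, Ideal.zero_eq_bot, Ideal.map_bot]; rfl⟩

theorem nil_of_isNilpotent {S : Type*} [CommRing S] (J : Ideal S) (hJ : IsNilpotent J) :
    ∀ x ∈ J, IsNilpotent x := by
  obtain ⟨n, hn⟩ := hJ
  intro x hx
  refine ⟨n, ?_⟩
  have : x ^ n ∈ J ^ n := Ideal.pow_mem_pow hx n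
  rw [hn] at this
  exact this

/-- core lemma: lifting an etale diagonalising cover along a surjection with nilpotent kernel;
flat version of helper17's `S2971.exists_etale_diag` -/
theorem exists_etale_diag {k K C R₀ : Type u} [CommRing k] [CommRing K] [Algebra k K] [CommRing C]
    [HopfAlgebra k C] [Module.Flat k C] (hsurj : Function.Surjective (algebraMap k K))
    (hnil : IsNilpotent (RingHom.ker (algebraMap k K)))
    [CommRing R₀] [Algebra K R₀] [Algebra.Etale K R₀] [Module.FaithfullyFlat K R₀]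
    (hD : IsDiag R₀ (R₀ ⊗[K] (K ⊗[k] C))) :
    ∃ (R' : Type u) (_ : CommRing R') (_ : Algebra k R'), Algebra.Etale k R' ∧
      Module.FaithfullyFlat k R' ∧ (Module.Finite K R₀ → Module.Finite k R') ∧
      IsDiag R' (R' ⊗[k] C) := by
  have hnil' := nil_of_isNilpotent _ hnil
  obtain ⟨R', _, _, hEt, ⟨ē⟩⟩ :=
    Groth.Agent.Lib.Helper90.EtLiftQuot.exists_etale_lift_of_surjective (A₀ := k) (A := K)
      (C := R₀) hsurj
  haveI := hEt
  haveI : Module.FaithfullyFlat K (K ⊗[k] R') :=
    Module.FaithfullyFlat.of_linearEquiv _ _ ē.toLinearEquiv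
  have hFF : Module.FaithfullyFlat k R' := faithfullyFlat_of_tensor hsurj hnil'
  refine ⟨R', inferInstance, inferInstance, hEt, hFF, fun hfin => ?_, ?_⟩
  · haveI : Module.Finite K (K ⊗[k] R') := Module.Finite.equiv ē.symm.toLinearEquiv
    exact finite_of_tensor hsurj hnil'
  · obtain ⟨M, _, ⟨e₀⟩⟩ := hD
    set J := RingHom.ker (algebraMap k K) with hJ
    set I' := J.map (algebraMap k R') with hI'
    have hI'nil : IsNilpotent I' := isNilpotent_map _ _ hnil
    refine isDiag_of_nilpotent (R' ⊗[k] C) I' hI'nil ?_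
    have hσ : ∀ a ∈ J, ((Ideal.Quotient.mk I').comp (algebraMap k R')) a = 0 := fun a ha =>
      Ideal.Quotient.eq_zero_iff_mem.2 (Ideal.mem_map_of_mem _ ha)
    let σ : K →+* R' ⧸ I' :=
      (Ideal.Quotient.lift J ((Ideal.Quotient.mk I').comp (algebraMap k R')) hσ).comp
        (RingHom.quotientKerEquivOfSurjective hsurj).symm.toRingHom
    letI : Algebra K (R' ⧸ I') := σ.toAlgebra
    haveI : IsScalarTower k K (R' ⧸ I') := IsScalarTower.of_algebraMap_eq (fun a => by
      have h1 : (RingHom.quotientKerEquivOfSurjective hsurj).symm (algebraMap k K a) =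
          Ideal.Quotient.mk J a := by
        rw [RingEquiv.symm_apply_eq]; rfl
      show _ = Ideal.Quotient.lift J _ hσ
        ((RingHom.quotientKerEquivOfSurjective hsurj).symm (algebraMap k K a))
      rw [h1, Ideal.Quotient.lift_mk]
      rfl)
    let ρ : R₀ →ₐ[K] R' ⧸ I' :=
      (Algebra.TensorProduct.lift (Algebra.ofId K (R' ⧸ I'))
        (IsScalarTower.toAlgHom k R' (R' ⧸ I')) (fun _ _ => Commute.all _ _)).comp
        ē.symm.toAlgHom
    letI : Algebra R₀ (R' ⧸ I') := ρ.toRingHom.toAlgebra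
    haveI : IsScalarTower K R₀ (R' ⧸ I') :=
      IsScalarTower.of_algebraMap_eq (fun x => (ρ.commutes x).symm)
    obtain ⟨d3⟩ := nonempty_bialgEquiv_of_tower (k := K) (P := R₀) (S' := R' ⧸ I')
      (C := K ⊗[k] C) e₀
    exact ⟨M, inferInstance, ⟨(cancelBaseChangeBialg k R' (R' ⧸ I') C).trans
      ((cancelBaseChangeBialg k K (R' ⧸ I') C).symm.trans d3)⟩⟩

end Groth.Agent.Lib.Helper27.HopfNilLift
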