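import Mathlib
import Groth.Agent.Lib.Helper27.HopfLiftD
import Groth.Agent.Lib.Helper27.HopfNilLiftC

/-!
# Lifting homomorphisms: the square-zero step (helper27)
-/

set_option autoImplicit false
universe u
open TensorProduct WithConv

namespace Groth.Agent.Lib.Helper27.HopfLift

open Groth.Agent.Lib.Helper27.MultRigid Groth.Agent.Lib.Helper17.MultLift
  Groth.Agent.Lib.Helper17.MultBC Groth.Agent.Lib.Helper27.HopfNilLift

section SqZero

variable {R K : Type u} [CommRing R] [CommRing K] [Algebra R K]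
variable {A : Type u} [CommRing A] [HopfAlgebra R A] {C : Type u} [CommRing C] [HopfAlgebra R C]

theorem mem_map_of_one_tmul_eq_zero (hsurj : Function.Surjective (algebraMap R K))
    {T : Type u} [CommRing T] [Algebra R T] {y : T} (h : (1 : K) ⊗ₜ[R] y = 0) :
    y ∈ (RingHom.ker (algebraMap R K)).map (algebraMap R T) := by
  have := mem_smul_top_of_one_tmul_eq_zero hsurj (y := y) h
  rw [Ideal.smul_top_eq_map] at this
  exact this

theorem one_tmul_eq_zero_of_mem_map
    {T : Type u} [CommRing T] [Algebra R T] {y : T}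
    (h : y ∈ (RingHom.ker (algebraMap R K)).map (algebraMap R T)) : (1 : K) ⊗ₜ[R] y = 0 := by
  apply one_tmul_eq_zero_of_mem
  rw [Ideal.smul_top_eq_map]
  exact h

/-- the comultiplicativity defect of an algebra lift of a coalgebra map vanishes modulo `J` -/
theorem inN_defect (hsurj : Function.Surjective (algebraMap R K))
    (φ₀ : (K ⊗[R] C) →ₐc[K] (K ⊗[R] A)) (u : C →ₐ[R] A)
    (hu0 : ∀ c, (1 : K) ⊗ₜ[R] u c = φ₀ ((1 : K) ⊗ₜ[R] c)) :
    InN (RingHom.ker (algebraMap R K)) (lin ((Bialgebra.comulAlgHom R A).comp u) -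
      lin ((i1 (R := R) (A := A)).comp u) * lin ((i2 (R := R) (A := A)).comp u)) := by
  intro c
  have e1 : (lin ((i1 (R := R) (A := A)).comp u) * lin ((i2 (R := R) (A := A)).comp u)) c =
      TensorProduct.map u.toLinearMap u.toLinearMap (Coalgebra.comul (R := R) c) :=
    mul_map_i1_i2 u.toLinearMap u.toLinearMap _
  show Coalgebra.comul (R := R) (u c) -
    (lin ((i1 (R := R) (A := A)).comp u) * lin ((i2 (R := R) (A := A)).comp u)) c ∈ _
  rw [e1]
  apply mem_map_of_one_tmul_eq_zero hsurj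
  apply (TensorProduct.AlgebraTensorModule.distribBaseChange R K A A).injective
  rw [map_zero, ← Xi_bcMap_eq, map_sub, sub_eq_zero]
  have key : ∀ z : C ⊗[R] C,
      Xi (R := K) (R' := K) (φ₀ : (K ⊗[R] C) →ₗc[K] (K ⊗[R] A)).toLinearMap
        (Xi (R := R) (R' := K) (bcMap K C) z) =
      Xi (R := R) (R' := K) (bcMap K A) (TensorProduct.map u.toLinearMap u.toLinearMap z) := by
    intro z
    induction z using TensorProduct.induction_on with
    | zero => simp
    | tmul x y =>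
      rw [Xi_tmul, Xi_tmul, TensorProduct.map_tmul, Xi_tmul, bcMap_apply, bcMap_apply,
        bcMap_apply, bcMap_apply]
      show φ₀ _ ⊗ₜ[K] φ₀ _ = _
      rw [← hu0, ← hu0]
      rfl
    | add x y hx hy => rw [map_add, map_add, map_add, map_add, hx, hy]
  rw [← key, ← isSemiComul_bcMap (R := R) (R' := K) (A := A) (u c),
    ← isSemiComul_bcMap (R := R) (R' := K) (A := C) c, bcMap_apply, bcMap_apply, hu0]
  exact isSemiComul_coalgHom (φ₀ : (K ⊗[R] C) →ₗc[K] (K ⊗[R] A)) _

theorem exists_lift_sqZero (hsurj : Function.Surjective (algebraMap R K))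
    (hsq : RingHom.ker (algebraMap R K) * RingHom.ker (algebraMap R K) = ⊥)
    [Algebra.FormallySmooth R C]
    (π : A →ₗ[R] R) (hπ1 : π 1 = 1)
    (hπ : ∀ a, sliceT A π (Coalgebra.comul (R := R) a) = algebraMap R A (π a))
    (φ₀ : (K ⊗[R] C) →ₐc[K] (K ⊗[R] A)) :
    ∃ φ : C →ₐc[R] A, ∀ c : C, φ₀ ((1 : K) ⊗ₜ[R] c) = (1 : K) ⊗ₜ[R] φ c := by
  set J := RingHom.ker (algebraMap R K) with hJdef
  let g : A →ₐ[R] K ⊗[R] A := Algebra.TensorProduct.includeRight
  have hg : Function.Surjective g := fun w => exists_one_tmul hsurj w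
  have hker : RingHom.ker (g : A →+* K ⊗[R] A) ≤ J.map (algebraMap R A) := by
    intro a ha
    have h0 : (g : A →+* K ⊗[R] A) a = 0 := (RingHom.mem_ker).1 ha
    exact mem_map_of_one_tmul_eq_zero hsurj h0
  have hnil : IsNilpotent (RingHom.ker (g : A →+* K ⊗[R] A)) := by
    refine ⟨2, ?_⟩
    rw [pow_two]
    refine le_bot_iff.1 (le_trans (Ideal.mul_mono hker hker) ?_)
    rw [← Ideal.map_mul, hsq, Ideal.map_bot]
  let f : C →ₐ[R] K ⊗[R] A :=
    ((φ₀ : (K ⊗[R] C) →ₐ[K] (K ⊗[R] A)).restrictScalars R).comp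
      (Algebra.TensorProduct.includeRight : C →ₐ[R] K ⊗[R] C)
  let u : C →ₐ[R] A := Algebra.FormallySmooth.liftOfSurjective f g hg hnil
  have hu0 : ∀ c, (1 : K) ⊗ₜ[R] u c = φ₀ ((1 : K) ⊗ₜ[R] c) := fun c =>
    Algebra.FormallySmooth.liftOfSurjective_apply f g hg hnil c
  obtain ⟨φ, hφ⟩ := exists_bialgHom_of_algHom hsq π hπ1 hπ u (inN_defect hsurj φ₀ u hu0)
  refine ⟨φ, fun c => ?_⟩
  have h1 := one_tmul_eq_zero_of_mem_map (K := K) (hφ c)
  rw [TensorProduct.tmul_sub, sub_eq_zero] at h1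
  rw [h1, hu0]

end SqZero

end Groth.Agent.Lib.Helper27.HopfLift
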