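import Mathlib
import Groth.Agent.Lib.Helper27.HopfLiftB
import Groth.Agent.Lib.Helper27.HopfNilLiftC

/-!
# The invariant integral of a group of multiplicative type, by descent (helper27)
-/

set_option autoImplicit false
universe u
open TensorProduct WithConv

namespace Groth.Agent.Lib.Helper27.HopfLift

open Groth.Agent.Lib.Helper27.MultRigid Groth.Agent.Lib.Helper17.MultLift
  Groth.Agent.Lib.Helper17.MultBC

section TInt

variable {R : Type*} [CommRing R] {A : Type*} [CommRing A] [Bialgebra R A]
variable {T T' : Type*} [CommRing T] [Algebra R T] [CommRing T'] [Algebra R T']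

/-- two-sided `T`-valued integral -/
structure IsTInt (X : A →ₗ[R] T) : Prop where
  one : X 1 = 1
  left : ∀ a, LinearMap.lTensor A X (Coalgebra.comul (R := R) a) = (1 : A) ⊗ₜ[R] X a
  right : ∀ a, LinearMap.lTensor A X (TensorProduct.comm R A A (Coalgebra.comul (R := R) a)) =
    (1 : A) ⊗ₜ[R] X a

/-- `a ⊗ t ↦ Y a * t` -/
noncomputable def ev (Y : A →ₗ[R] T) : A ⊗[R] T →ₗ[R] T :=
  LinearMap.mul' R T ∘ₗ TensorProduct.map Y LinearMap.id

@[simp] theorem ev_tmul (Y : A →ₗ[R] T) (a : A) (t : T) : ev Y (a ⊗ₜ[R] t) = Y a * t := by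
  simp [ev]

theorem ev_lTensor (Y X : A →ₗ[R] T) (z : A ⊗[R] A) :
    ev Y (LinearMap.lTensor A X z) = LinearMap.mul' R T (TensorProduct.map Y X z) := by
  induction z using TensorProduct.induction_on with
  | zero => simp
  | tmul x y => simp
  | add x y hx hy => rw [map_add, map_add, map_add, map_add, hx, hy]

theorem ev_lTensor_comm (Y X : A →ₗ[R] T) (z : A ⊗[R] A) :
    ev Y (LinearMap.lTensor A X (TensorProduct.comm R A A z)) =
      LinearMap.mul' R T (TensorProduct.map X Y z) := by
  induction z using TensorProduct.induction_on with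
  | zero => simp
  | tmul x y => simp [mul_comm]
  | add x y hx hy => rw [map_add, map_add, map_add, map_add, map_add, hx, hy]

theorem IsTInt.conv_left {X : A →ₗ[R] T} (hX : IsTInt X) (Y : A →ₗ[R] T) (a : A) :
    (toConv Y * toConv X) a = Y 1 * X a := by
  have := congrArg (ev Y) (hX.left a)
  rw [ev_lTensor, ev_tmul] at this
  exact this

theorem IsTInt.conv_right {X : A →ₗ[R] T} (hX : IsTInt X) (Y : A →ₗ[R] T) (a : A) :
    (toConv X * toConv Y) a = Y 1 * X a := by
  have := congrArg (ev Y) (hX.right a)
  rw [ev_lTensor_comm, ev_tmul] at this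
  exact this

theorem IsTInt.unique {X X' : A →ₗ[R] T} (hX : IsTInt X) (hX' : IsTInt X') : X = X' := by
  ext a
  have h1 := hX.conv_left X' a
  have h2 := hX'.conv_right X a
  rw [hX'.one, one_mul] at h1
  rw [hX.one, one_mul] at h2
  exact h1.symm.trans h2

theorem IsTInt.comp {X : A →ₗ[R] T} (hX : IsTInt X) (h : T →ₐ[R] T') :
    IsTInt (h.toLinearMap ∘ₗ X) where
  one := by simp [hX.one]
  left a := by
    rw [LinearMap.lTensor_comp_apply, hX.left]
    simp
  right a := by
    rw [LinearMap.lTensor_comp_apply, hX.right]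
    simp

theorem piRight_eq {ι : Type*} [Fintype ι] [DecidableEq ι] (T : ι → Type*)
    [∀ i, AddCommGroup (T i)] [∀ i, Module R (T i)] (w : A ⊗[R] (∀ i, T i)) (i : ι) :
    TensorProduct.piRight R R A T w i = LinearMap.lTensor A (LinearMap.proj i) w := by
  induction w using TensorProduct.induction_on with
  | zero => simp
  | tmul x y => simp
  | add x y hx hy =>
    rw [map_add, map_add, Pi.add_apply, hx, hy]

theorem IsTInt.pi {ι : Type*} [Fintype ι] [DecidableEq ι] (T : ι → Type*)
    [∀ i, CommRing (T i)] [∀ i, Algebra R (T i)] (X : ∀ i, A →ₗ[R] T i)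
    (h : ∀ i, IsTInt (X i)) : IsTInt (LinearMap.pi X) where
  one := by
    funext i
    simp [(h i).one]
  left a := by
    apply (TensorProduct.piRight R R A T).injective
    funext i
    rw [piRight_eq, piRight_eq, ← LinearMap.lTensor_comp_apply, LinearMap.proj_pi, (h i).left]
    simp
  right a := by
    apply (TensorProduct.piRight R R A T).injective
    funext i
    rw [piRight_eq, piRight_eq, ← LinearMap.lTensor_comp_apply, LinearMap.proj_pi, (h i).right]
    simp

end TInt

section Equalizer

theorem mem_range_of_tmul_eq {R S : Type*} [CommRing R] [CommRing S] [Algebra R S]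
    [Module.FaithfullyFlat R S] (s : S) (h : s ⊗ₜ[R] (1 : S) = (1 : S) ⊗ₜ[R] s) :
    s ∈ LinearMap.range (Algebra.linearMap R S) := by
  set N := LinearMap.range (Algebra.linearMap R S) with hN
  have h1 := congrArg (LinearMap.lTensor S N.mkQ) h
  rw [LinearMap.lTensor_tmul, LinearMap.lTensor_tmul] at h1
  have h2 : N.mkQ (1 : S) = 0 := by
    rw [Submodule.mkQ_apply, Submodule.Quotient.mk_eq_zero]
    exact ⟨1, by simp⟩
  rw [h2, TensorProduct.tmul_zero] at h1
  have h3 : TensorProduct.mk R S (S ⧸ N) 1 (N.mkQ s) = TensorProduct.mk R S (S ⧸ N) 1 0 := by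
    rw [map_zero]
    exact h1.symm
  have h4 := Module.FaithfullyFlat.tensorProduct_mk_injective (A := R) (B := S) (S ⧸ N) h3
  rwa [Submodule.mkQ_apply, Submodule.Quotient.mk_eq_zero] at h4

end Equalizer

section Descent

variable {R : Type*} [CommRing R] {A : Type*} [CommRing A] [Bialgebra R A]

/-- an invariant integral: `π 1 = 1` and `Σ a₁ π(a₂) = π(a)` -/
def IsInt (π : A →ₗ[R] R) : Prop :=
  π 1 = 1 ∧ ∀ a, sliceT A π (Coalgebra.comul (R := R) a) = algebraMap R A (π a)

theorem exists_isInt_of_faithfullyFlat {S : Type*} [CommRing S] [Algebra R S]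
    [Module.FaithfullyFlat R S] (X : A →ₗ[R] S) (hX : IsTInt X) :
    ∃ π : A →ₗ[R] R, IsInt π := by
  have h12 := (hX.comp (Algebra.TensorProduct.includeLeft : S →ₐ[R] S ⊗[R] S)).unique
    (hX.comp (Algebra.TensorProduct.includeRight : S →ₐ[R] S ⊗[R] S))
  have hmem : ∀ a, X a ∈ LinearMap.range (Algebra.linearMap R S) := fun a =>
    mem_range_of_tmul_eq (X a) (LinearMap.congr_fun h12 a)
  have hinj : Function.Injective (Algebra.linearMap R S) :=
    FaithfulSMul.algebraMap_injective R S
  let e := LinearEquiv.ofInjective (Algebra.linearMap R S) hinj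
  let π : A →ₗ[R] R := e.symm.toLinearMap ∘ₗ X.codRestrict _ hmem
  have hπ : ∀ a, algebraMap R S (π a) = X a := by
    intro a
    have h1 : (e (π a) : S) = X a := by
      show (e (e.symm (X.codRestrict _ hmem a)) : S) = X a
      rw [LinearEquiv.apply_symm_apply]
      rfl
    exact h1
  refine ⟨π, ?_, fun a => ?_⟩
  · apply hinj
    show algebraMap R S (π 1) = algebraMap R S 1
    rw [hπ, hX.one, map_one]
  · have hinj2 : Function.Injective
        ((TensorProduct.comm R S A).toLinearMap ∘ₗ TensorProduct.mk R S A 1) := by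
      rw [LinearMap.coe_comp]
      exact (TensorProduct.comm R S A).injective.comp
        (Module.FaithfullyFlat.tensorProduct_mk_injective (A := R) (B := S) A)
    apply hinj2
    show (sliceT A π (Coalgebra.comul (R := R) a)) ⊗ₜ[R] (1 : S) =
      (algebraMap R A (π a)) ⊗ₜ[R] (1 : S)
    have key : ∀ z : A ⊗[R] A, (sliceT A π z) ⊗ₜ[R] (1 : S) = LinearMap.lTensor A X z := by
      intro z
      induction z using TensorProduct.induction_on with
      | zero => simp
      | tmul x y =>
        rw [sliceT_tmul, LinearMap.lTensor_tmul, ← hπ, TensorProduct.smul_tmul,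
          Algebra.algebraMap_eq_smul_one]
      | add x y hx hy => rw [map_add, TensorProduct.add_tmul, hx, hy, map_add]
    rw [key, hX.left, ← hπ, Algebra.algebraMap_eq_smul_one, Algebra.algebraMap_eq_smul_one,
      TensorProduct.smul_tmul]

end Descent

section Diag

variable {R T A M : Type u} [CommRing R] [CommRing T] [Algebra R T] [CommRing A]
  [HopfAlgebra R A] [CommGroup M]

theorem isTInt_chi (e : T ⊗[R] A ≃ₐc[T] MonoidAlgebra T M) :
    IsTInt (chi (thetaOf e) 1) := by
  classical
  have hθ := isSemiComul_thetaOf e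
  have hev : ∀ (m : M) (z : A ⊗[R] T),
      ev (chi (thetaOf e) m) z = coeffL m (e (TensorProduct.comm R A T z)) := by
    intro m z
    induction z using TensorProduct.induction_on with
    | zero => simp
    | tmul a t =>
      rw [ev_tmul, chi_apply, thetaOf_apply, TensorProduct.comm_tmul]
      have h1 : (t ⊗ₜ[R] a : T ⊗[R] A) = t • ((1 : T) ⊗ₜ[R] a) := by
        rw [TensorProduct.smul_tmul', smul_eq_mul, mul_one]
      rw [h1, map_smul, map_smul, coeffL_apply, smul_eq_mul, mul_comm]
    | add x y hx hy => rw [map_add, map_add, map_add, map_add, hx, hy]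
  have hinj : ∀ z z' : A ⊗[R] T,
      (∀ m, ev (chi (thetaOf e) m) z = ev (chi (thetaOf e) m) z') → z = z' := by
    intro z z' h
    apply (TensorProduct.comm R A T).injective
    apply e.injective
    apply MonoidAlgebra.ext
    ext m
    have := h m
    rw [hev, hev] at this
    exact this
  have hχ1 : ∀ m : M, chi (thetaOf e) m 1 = if m = 1 then 1 else 0 := by
    intro m
    rw [chi_apply, thetaOf_apply]
    have h1 : e ((1 : T) ⊗ₜ[R] (1 : A)) = 1 := map_one e
    rw [h1, MonoidAlgebra.one_def, MonoidAlgebra.coeff_single, Finsupp.single_apply]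
    simp only [eq_comm]
  refine ⟨?_, fun a => ?_, fun a => ?_⟩
  · rw [hχ1, if_pos rfl]
  · apply hinj
    intro m
    rw [ev_lTensor, ev_tmul, hχ1]
    have h2 := chi_orth (thetaOf e) hθ m 1
    have h3 : (toConv (chi (thetaOf e) m) * toConv (chi (thetaOf e) 1)) a =
        LinearMap.mul' R T (TensorProduct.map (chi (thetaOf e) m) (chi (thetaOf e) 1)
          (Coalgebra.comul (R := R) a)) := rfl
    rw [← h3, h2]
    split_ifs with hm
    · subst hm
      simp
    · simp
  · apply hinj
    intro m
    rw [ev_lTensor_comm, ev_tmul, hχ1]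
    have h2 := chi_orth (thetaOf e) hθ 1 m
    have h3 : (toConv (chi (thetaOf e) 1) * toConv (chi (thetaOf e) m)) a =
        LinearMap.mul' R T (TensorProduct.map (chi (thetaOf e) 1) (chi (thetaOf e) m)
          (Coalgebra.comul (R := R) a)) := rfl
    rw [← h3, h2]
    by_cases hm : m = 1
    · subst hm
      simp
    · rw [if_neg (Ne.symm hm), if_neg hm]
      simp

end Diag

section Assemble

open SGA3b

variable {R : Type u} [CommRing R] {A : Type u} [CommRing A] [HopfAlgebra R A]

theorem exists_local_tInt (f : R)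
    (h : IsMultTypeConst (Localization.Away f) (Localization.Away f ⊗[R] A)) :
    ∃ (R' : Type u) (_ : CommRing R') (_ : Algebra R R'), Module.Flat R R' ∧
      (∀ p : PrimeSpectrum R, f ∉ p.asIdeal →
        p ∈ Set.range (PrimeSpectrum.comap (algebraMap R R'))) ∧
      ∃ X : A →ₗ[R] R', IsTInt X := by
  obtain ⟨R', _, _, hff, M, _, ⟨e⟩⟩ := h
  letI : Algebra R R' := ((algebraMap (Localization.Away f) R').comp
    (algebraMap R (Localization.Away f))).toAlgebra
  haveI : IsScalarTower R (Localization.Away f) R' :=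
    IsScalarTower.of_algebraMap_eq (fun _ => rfl)
  haveI : Module.Flat R (Localization.Away f) := IsLocalization.flat _ (Submonoid.powers f)
  haveI : Module.Flat R R' := Module.Flat.trans R (Localization.Away f) R'
  refine ⟨R', inferInstance, inferInstance, inferInstance, ?_, ?_⟩
  · intro p hp
    have hdisj : Disjoint (Submonoid.powers f : Set R) (p.asIdeal : Set R) :=
      (Ideal.disjoint_powers_iff_notMem _ p.2.isRadical).mpr hp
    have hP : (Ideal.map (algebraMap R (Localization.Away f)) p.asIdeal).IsPrime :=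
      IsLocalization.isPrime_of_isPrime_disjoint (Submonoid.powers f) _ p.asIdeal p.2 hdisj
    have hcomap : (Ideal.map (algebraMap R (Localization.Away f)) p.asIdeal).comap
        (algebraMap R (Localization.Away f)) = p.asIdeal :=
      IsLocalization.under_map_of_isPrime_disjoint (Submonoid.powers f) _ p.2 hdisj
    obtain ⟨q, hq⟩ := PrimeSpectrum.comap_surjective_of_faithfullyFlat
      (A := Localization.Away f) (B := R') ⟨_, hP⟩
    refine ⟨q, ?_⟩
    ext1
    have hq' : Ideal.comap (algebraMap (Localization.Away f) R') q.asIdeal =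
        Ideal.map (algebraMap R (Localization.Away f)) p.asIdeal :=
      congrArg PrimeSpectrum.asIdeal hq
    show Ideal.comap ((algebraMap (Localization.Away f) R').comp
      (algebraMap R (Localization.Away f))) q.asIdeal = p.asIdeal
    rw [← Ideal.comap_comap, hq', hcomap]
  · let e' : R' ⊗[R] A ≃ₐc[R'] MonoidAlgebra R' M :=
      (cancelBaseChangeBialg R (Localization.Away f) R' A).symm.trans e
    exact ⟨chi (thetaOf e') 1, isTInt_chi e'⟩

/-- **A group of multiplicative type has an invariant integral.** -/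
theorem exists_isInt (hH : IsMultType R A) : ∃ π : A →ₗ[R] R, IsInt π := by
  classical
  obtain ⟨s, hs, h⟩ := hH
  obtain ⟨s', hs's, hs'⟩ := (Ideal.span_eq_top_iff_finite s).mp hs
  have h' : ∀ i : ↥s', ∃ (R' : Type u) (_ : CommRing R') (_ : Algebra R R'), Module.Flat R R' ∧
      (∀ p : PrimeSpectrum R, (i : R) ∉ p.asIdeal →
        p ∈ Set.range (PrimeSpectrum.comap (algebraMap R R'))) ∧
      ∃ X : A →ₗ[R] R', IsTInt X := fun i => exists_local_tInt i.1 (h i.1 (hs's i.2))
  choose R' instR' algR' hflat hspec X hX using h'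
  haveI : Module.Flat R (∀ i : ↥s', R' i) :=
    Module.Flat.of_linearEquiv (DirectSum.linearEquivFunOnFintype R ↥s' R').symm
  haveI : Module.FaithfullyFlat R (∀ i : ↥s', R' i) := by
    apply Module.FaithfullyFlat.of_comap_surjective
    intro p
    obtain ⟨i, hi⟩ : ∃ i : ↥s', (i : R) ∉ p.asIdeal := by
      by_contra hcon
      push Not at hcon
      have : Ideal.span (s' : Set R) ≤ p.asIdeal :=
        Ideal.span_le.mpr (fun x hx => hcon ⟨x, hx⟩)
      rw [hs'] at this
      exact p.2.ne_top (top_le_iff.mp this)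
    obtain ⟨q, hq⟩ := hspec i p hi
    refine ⟨⟨q.asIdeal.comap (Pi.evalRingHom R' i), Ideal.comap_isPrime _ _⟩, ?_⟩
    rw [← hq]
    ext1
    show Ideal.comap _ (Ideal.comap _ _) = Ideal.comap _ _
    rw [Ideal.comap_comap]
    rfl
  exact exists_isInt_of_faithfullyFlat (LinearMap.pi X) (IsTInt.pi R' X hX)

end Assemble

end Groth.Agent.Lib.Helper27.HopfLift
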