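import Mathlib
import Groth.Agent.Lib.Helper27.HopfLiftE
import Groth.Agent.Lib.Helper27.HopfLiftF

/-!
# Lifting homomorphisms from a group of multiplicative type to a smooth affine group along a
nilpotent thickening (helper27)
-/

set_option autoImplicit false
universe u
open TensorProduct WithConv SGA3b

namespace Groth.Agent.Lib.Helper27.HopfLift

open Groth.Agent.Lib.Helper27.MultRigid Groth.Agent.Lib.Helper17.MultLift
  Groth.Agent.Lib.Helper17.MultBC

theorem exists_lift_aux (K : Type u) [CommRing K] (n : ℕ) :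
    ∀ (R : Type u) [CommRing R] [Algebra R K] (A : Type u) [CommRing A] [HopfAlgebra R A]
      (C : Type u) [CommRing C] [HopfAlgebra R C] [Algebra.Smooth R C],
      IsMultType R A → Function.Surjective (algebraMap R K) →
      RingHom.ker (algebraMap R K) ^ n = ⊥ →
      ∀ φ₀ : (K ⊗[R] C) →ₐc[K] (K ⊗[R] A),
        ∃ φ : C →ₐc[R] A, ∀ c : C, φ₀ ((1 : K) ⊗ₜ[R] c) = (1 : K) ⊗ₜ[R] φ c := by
  induction n with
  | zero =>
    intro R _ _ A _ _ C _ _ _ hH hsurj hn φ₀
    obtain ⟨π, hπ1, hπ⟩ := exists_isInt hH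
    refine exists_lift_sqZero hsurj ?_ π hπ1 hπ φ₀
    rw [pow_zero, Ideal.one_eq_top] at hn
    exact le_bot_iff.1 (le_trans le_top (le_of_eq hn))
  | succ n ih =>
    intro R _ _ A _ _ C _ _ _ hH hsurj hn φ₀
    obtain ⟨π, hπ1, hπ⟩ := exists_isInt hH
    set J := RingHom.ker (algebraMap R K) with hJ
    by_cases hn1 : n ≤ 1
    · refine exists_lift_sqZero hsurj ?_ π hπ1 hπ φ₀
      rw [← hJ, ← pow_two]
      exact le_bot_iff.1 (le_trans (Ideal.pow_le_pow_right (by omega)) (le_of_eq hn))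
    · push Not at hn1
      set J' := J ^ n with hJ'
      have hJ'J : J' ≤ J := by
        rw [hJ']
        exact Ideal.pow_le_self (by omega)
      have hsq : J' * J' = ⊥ := by
        rw [hJ', ← pow_add]
        refine le_bot_iff.1 (le_trans (Ideal.pow_le_pow_right (by omega)) (le_of_eq hn))
      have hlift : ∀ x ∈ J', algebraMap R K x = 0 := fun x hx => (RingHom.mem_ker).1 (hJ'J hx)
      letI : Algebra (R ⧸ J') K := (Ideal.Quotient.lift J' (algebraMap R K) hlift).toAlgebra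
      haveI : IsScalarTower R (R ⧸ J') K := IsScalarTower.of_algebraMap_eq (fun x => by
        rw [RingHom.algebraMap_toAlgebra, Ideal.Quotient.algebraMap_eq, Ideal.Quotient.lift_mk])
      have hsurj' : Function.Surjective (algebraMap (R ⧸ J') K) := by
        intro y
        obtain ⟨x, rfl⟩ := hsurj y
        exact ⟨Ideal.Quotient.mk J' x, by
          rw [RingHom.algebraMap_toAlgebra, Ideal.Quotient.lift_mk]⟩
      have hker : RingHom.ker (algebraMap (R ⧸ J') K) ≤ J.map (Ideal.Quotient.mk J') := by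
        intro y hy
        obtain ⟨x, rfl⟩ := Ideal.Quotient.mk_surjective y
        rw [RingHom.mem_ker, RingHom.algebraMap_toAlgebra, Ideal.Quotient.lift_mk] at hy
        exact Ideal.mem_map_of_mem _ ((RingHom.mem_ker).2 hy)
      have hn' : RingHom.ker (algebraMap (R ⧸ J') K) ^ n = ⊥ := by
        refine le_bot_iff.1 (le_trans (Ideal.pow_right_mono hker n) ?_)
        rw [← Ideal.map_pow, ← hJ', Ideal.map_quotient_self]
      let eA := cancelBaseChangeBialg R (R ⧸ J') K A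
      let eC := cancelBaseChangeBialg R (R ⧸ J') K C
      let φ₀' : (K ⊗[R ⧸ J'] ((R ⧸ J') ⊗[R] C)) →ₐc[K] (K ⊗[R ⧸ J'] ((R ⧸ J') ⊗[R] A)) :=
        (eA.symm.toBialgHom).comp (φ₀.comp eC.toBialgHom)
      obtain ⟨φ', hφ'⟩ := ih (R ⧸ J') ((R ⧸ J') ⊗[R] A) ((R ⧸ J') ⊗[R] C)
        (isMultType_baseChange A hH) hsurj' hn' φ₀'
      obtain ⟨φ, hφ⟩ := exists_lift_sqZero (K := R ⧸ J') Ideal.Quotient.mk_surjective
        (by rw [Ideal.Quotient.algebraMap_eq, Ideal.mk_ker]; exact hsq) π hπ1 hπ φ'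
      refine ⟨φ, fun c => ?_⟩
      have h1 := hφ' ((1 : R ⧸ J') ⊗ₜ[R] c)
      rw [hφ] at h1
      have h2 : φ₀' ((1 : K) ⊗ₜ[R ⧸ J'] ((1 : R ⧸ J') ⊗ₜ[R] c)) =
          eA.symm (φ₀ ((1 : K) ⊗ₜ[R] c)) := by
        show eA.symm (φ₀ (eC _)) = _
        rw [cancelBaseChangeBialg_tmul, one_smul]
      rw [h2] at h1
      have h3 := congrArg eA h1
      rw [BialgEquiv.apply_symm_apply, cancelBaseChangeBialg_tmul, one_smul] at h3
      exact h3

/-- **Lifting homomorphisms `H → G` along a nilpotent thickening**, `H` of multiplicative type,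
`G` smooth affine. -/
theorem exists_lift {R : Type u} [CommRing R] (I : Ideal R) (hI : IsNilpotent I)
    (A : Type u) [CommRing A] [HopfAlgebra R A] (hH : IsMultType R A)
    (C : Type u) [CommRing C] [HopfAlgebra R C] [Algebra.Smooth R C]
    (φ₀ : ((R ⧸ I) ⊗[R] C) →ₐc[R ⧸ I] ((R ⧸ I) ⊗[R] A)) :
    ∃ φ : C →ₐc[R] A, ∀ c : C, φ₀ ((1 : R ⧸ I) ⊗ₜ[R] c) = (1 : R ⧸ I) ⊗ₜ[R] (φ c) := by
  obtain ⟨n, hn⟩ := hI
  refine exists_lift_aux (R ⧸ I) n R A C hH Ideal.Quotient.mk_surjective ?_ φ₀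
  rw [Ideal.Quotient.algebraMap_eq, Ideal.mk_ker]
  exact hn

end Groth.Agent.Lib.Helper27.HopfLift
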