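import Mathlib
import Groth.Agent.Lib.Helper27.HopfLiftG

/-!
# Lifting homomorphisms over an adically complete base: the formal system (helper27)
-/

set_option autoImplicit false
universe u
open TensorProduct WithConv SGA3b

namespace Groth.Agent.Lib.Helper27.AdicLift

open Groth.Agent.Lib.Helper27.MultRigid Groth.Agent.Lib.Helper17.MultLift
  Groth.Agent.Lib.Helper17.MultBC Groth.Agent.Lib.Helper27.HopfLift

/-- the ideals `I, I^2, I^3, …`, with `Jn I 0 = I` definitionally -/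
def Jn {A : Type*} [CommRing A] (I : Ideal A) : ℕ → Ideal A
  | 0 => I
  | (n + 1) => I ^ (n + 2)

theorem Jn_eq {A : Type*} [CommRing A] (I : Ideal A) (n : ℕ) : Jn I n = I ^ (n + 1) := by
  cases n with
  | zero => simp [Jn]
  | succ n => rfl

theorem Jn_succ_le {A : Type*} [CommRing A] (I : Ideal A) (n : ℕ) : Jn I (n + 1) ≤ Jn I n := by
  rw [Jn_eq, Jn_eq]
  exact Ideal.pow_le_pow_right (by omega)

theorem Jn_mul_le {A : Type*} [CommRing A] (I : Ideal A) (n : ℕ) :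
    Jn I n * Jn I n ≤ Jn I (n + 1) := by
  rw [Jn_eq, Jn_eq, ← pow_add]
  exact Ideal.pow_le_pow_right (by omega)

section Step

variable {A : Type u} [CommRing A]

theorem lift_step (J' J : Ideal A) (hle : J' ≤ J) (hsq : J * J ≤ J')
    (B : Type u) [CommRing B] [HopfAlgebra A B] (hB : IsMultType A B)
    (C : Type u) [CommRing C] [HopfAlgebra A C] [Algebra.Smooth A C]
    (ψ : ((A ⧸ J) ⊗[A] C) →ₐc[A ⧸ J] ((A ⧸ J) ⊗[A] B)) :
    ∃ ψ' : ((A ⧸ J') ⊗[A] C) →ₐc[A ⧸ J'] ((A ⧸ J') ⊗[A] B),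
      ∀ c : C, Algebra.TensorProduct.map (Ideal.Quotient.factorₐ A hle) (AlgHom.id A B)
        (ψ' ((1 : A ⧸ J') ⊗ₜ[A] c)) = ψ ((1 : A ⧸ J) ⊗ₜ[A] c) := by
  letI : Algebra (A ⧸ J') (A ⧸ J) := (Ideal.Quotient.factor hle).toAlgebra
  haveI : IsScalarTower A (A ⧸ J') (A ⧸ J) := IsScalarTower.of_algebraMap_eq (fun x => by
    rw [RingHom.algebraMap_toAlgebra, Ideal.Quotient.algebraMap_eq, Ideal.Quotient.algebraMap_eq,
      Ideal.Quotient.factor_mk])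
  have hsurj : Function.Surjective (algebraMap (A ⧸ J') (A ⧸ J)) :=
    Ideal.Quotient.factor_surjective hle
  have hker : RingHom.ker (algebraMap (A ⧸ J') (A ⧸ J)) ≤ J.map (Ideal.Quotient.mk J') := by
    intro y hy
    obtain ⟨x, rfl⟩ := Ideal.Quotient.mk_surjective y
    rw [RingHom.mem_ker, RingHom.algebraMap_toAlgebra, Ideal.Quotient.factor_mk,
      Ideal.Quotient.eq_zero_iff_mem] at hy
    exact Ideal.mem_map_of_mem _ hy
  have hsq' : RingHom.ker (algebraMap (A ⧸ J') (A ⧸ J)) *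
      RingHom.ker (algebraMap (A ⧸ J') (A ⧸ J)) = ⊥ := by
    refine le_bot_iff.1 (le_trans (Ideal.mul_mono hker hker) ?_)
    rw [← Ideal.map_mul]
    refine le_trans (Ideal.map_mono hsq) ?_
    rw [Ideal.map_quotient_self]
  obtain ⟨π, hπ1, hπ⟩ := exists_isInt (isMultType_baseChange (R' := A ⧸ J') B hB)
  let eB := cancelBaseChangeBialg A (A ⧸ J') (A ⧸ J) B
  let eC := cancelBaseChangeBialg A (A ⧸ J') (A ⧸ J) C
  let φ₀ : ((A ⧸ J) ⊗[A ⧸ J'] ((A ⧸ J') ⊗[A] C)) →ₐc[A ⧸ J]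
      ((A ⧸ J) ⊗[A ⧸ J'] ((A ⧸ J') ⊗[A] B)) :=
    (eB.symm.toBialgHom).comp (ψ.comp eC.toBialgHom)
  obtain ⟨ψ', hψ'⟩ := exists_lift_sqZero (R := A ⧸ J') (K := A ⧸ J) hsurj hsq' π hπ1 hπ φ₀
  refine ⟨ψ', fun c => ?_⟩
  have h1 := hψ' ((1 : A ⧸ J') ⊗ₜ[A] c)
  have h2 : φ₀ ((1 : A ⧸ J) ⊗ₜ[A ⧸ J'] ((1 : A ⧸ J') ⊗ₜ[A] c)) =
      eB.symm (ψ ((1 : A ⧸ J) ⊗ₜ[A] c)) := by
    show eB.symm (ψ (eC _)) = _
    rw [cancelBaseChangeBialg_tmul, one_smul]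
  rw [h2] at h1
  have h3 := congrArg eB h1
  rw [BialgEquiv.apply_symm_apply] at h3
  rw [h3]
  have key : ∀ w : (A ⧸ J') ⊗[A] B, eB ((1 : A ⧸ J) ⊗ₜ[A ⧸ J'] w) =
      Algebra.TensorProduct.map (Ideal.Quotient.factorₐ A hle) (AlgHom.id A B) w := by
    intro w
    induction w using TensorProduct.induction_on with
    | zero => simp
    | tmul r b =>
      rw [cancelBaseChangeBialg_tmul, Algebra.TensorProduct.map_tmul, AlgHom.id_apply,
        Algebra.smul_def, mul_one]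
      rfl
    | add x y hx hy => rw [TensorProduct.tmul_add, map_add, map_add, hx, hy]
  exact (key _).symm

end Step

section System

variable {A : Type u} [CommRing A] (I : Ideal A)
  (B : Type u) [CommRing B] [HopfAlgebra A B]
  (C : Type u) [CommRing C] [HopfAlgebra A C]

theorem exists_system (hB : IsMultType A B) [Algebra.Smooth A C]
    (φ₀ : ((A ⧸ I) ⊗[A] C) →ₐc[A ⧸ I] ((A ⧸ I) ⊗[A] B)) :
    ∃ ψ : ∀ n : ℕ, ((A ⧸ Jn I n) ⊗[A] C) →ₐc[A ⧸ Jn I n] ((A ⧸ Jn I n) ⊗[A] B),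
      ψ 0 = φ₀ ∧ ∀ (n : ℕ) (c : C),
        Algebra.TensorProduct.map (Ideal.Quotient.factorₐ A (Jn_succ_le I n)) (AlgHom.id A B)
          (ψ (n + 1) ((1 : A ⧸ Jn I (n + 1)) ⊗ₜ[A] c)) = ψ n ((1 : A ⧸ Jn I n) ⊗ₜ[A] c) := by
  let ψ : ∀ n : ℕ, ((A ⧸ Jn I n) ⊗[A] C) →ₐc[A ⧸ Jn I n] ((A ⧸ Jn I n) ⊗[A] B) :=
    fun n => Nat.rec (motive := fun n =>
      ((A ⧸ Jn I n) ⊗[A] C) →ₐc[A ⧸ Jn I n] ((A ⧸ Jn I n) ⊗[A] B)) φ₀
      (fun n ψn => Classical.choose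
        (lift_step (Jn I (n + 1)) (Jn I n) (Jn_succ_le I n) (Jn_mul_le I n) B hB C ψn)) n
  refine ⟨ψ, rfl, fun n c => ?_⟩
  exact Classical.choose_spec
    (lift_step (Jn I (n + 1)) (Jn I n) (Jn_succ_le I n) (Jn_mul_le I n) B hB C (ψ n)) c

end System

end Groth.Agent.Lib.Helper27.AdicLift
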