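import Mathlib
import Groth.Agent.Lib.Helper27.AdicLiftA

/-!
# Lifting homomorphisms over an adically complete base: general lemmas (helper27)
-/

set_option autoImplicit false
universe u
open TensorProduct WithConv SGA3b

namespace Groth.Agent.Lib.Helper27.AdicLift

open Groth.Agent.Lib.Helper27.MultRigid Groth.Agent.Lib.Helper17.MultLift
  Groth.Agent.Lib.Helper17.MultBC Groth.Agent.Lib.Helper27.HopfLift
  Groth.Agent.Lib.Helper27.HopfNilLift

section Filt

variable {A : Type u} [CommRing A]

theorem one_tmul_eq_zero_iff (J : Ideal A) {N : Type*} [AddCommGroup N] [Module A N] (x : N) :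
    (1 : A ⧸ J) ⊗ₜ[A] x = 0 ↔ x ∈ J • (⊤ : Submodule A N) := by
  have hk : RingHom.ker (algebraMap A (A ⧸ J)) = J := by
    rw [Ideal.Quotient.algebraMap_eq, Ideal.mk_ker]
  constructor
  · intro h
    have := mem_smul_top_of_one_tmul_eq_zero (k := A) (K := A ⧸ J)
      Ideal.Quotient.mk_surjective (y := x) h
    rwa [hk] at this
  · intro h
    apply one_tmul_eq_zero_of_mem (R := A) (K := A ⧸ J)
    rwa [hk]

theorem map_mem_smul_top (J : Ideal A) {N N' : Type*} [AddCommGroup N] [Module A N]
    [AddCommGroup N'] [Module A N'] (ℓ : N →ₗ[A] N') {x : N}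
    (hx : x ∈ J • (⊤ : Submodule A N)) : ℓ x ∈ J • (⊤ : Submodule A N') := by
  refine Submodule.smul_induction_on hx (fun r hr t _ => ?_) (fun a b ha hb => ?_)
  · rw [map_smul]
    exact Submodule.smul_mem_smul hr trivial
  · rw [map_add]
    exact add_mem ha hb

theorem smul_top_mono {J J' : Ideal A} (h : J ≤ J') {N : Type*} [AddCommGroup N] [Module A N] :
    J • (⊤ : Submodule A N) ≤ J' • (⊤ : Submodule A N) :=
  Submodule.smul_mono_left h

variable (I : Ideal A) {N : Type*} [AddCommGroup N] [Module A N]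

theorem haus_Jn [IsHausdorff I N] (x : N) (h : ∀ n, x ∈ Jn I n • (⊤ : Submodule A N)) : x = 0 := by
  apply IsHausdorff.haus' (I := I) x
  intro n
  rw [SModEq.zero]
  cases n with
  | zero => simp
  | succ k =>
    have := h k
    rwa [Jn_eq] at this

theorem limit_Jn [IsPrecomplete I N] (f : ℕ → N)
    (hf : ∀ n, f (n + 1) - f n ∈ Jn I n • (⊤ : Submodule A N)) :
    ∃ L : N, ∀ n, f n - L ∈ Jn I n • (⊤ : Submodule A N) := by
  have hcau : ∀ {m n}, m ≤ n → f m ≡ f n [SMOD (I ^ m • ⊤ : Submodule A N)] := by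
    intro m n hmn
    induction n, hmn using Nat.le_induction with
    | base => exact SModEq.refl _
    | succ k hk ih =>
      refine ih.trans ?_
      rw [SModEq.sub_mem]
      have h1 := hf k
      rw [Jn_eq] at h1
      have h2 : (I ^ (k + 1) • ⊤ : Submodule A N) ≤ I ^ m • ⊤ :=
        smul_top_mono (Ideal.pow_le_pow_right (by omega))
      have h3 := h2 h1
      have h4 : f k - f (k + 1) = -(f (k + 1) - f k) := by abel
      rw [h4]
      exact neg_mem h3
  obtain ⟨L, hL⟩ := IsPrecomplete.prec' (I := I) f hcau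
  refine ⟨L, fun n => ?_⟩
  have h1 := hL (n + 1)
  rw [SModEq.sub_mem] at h1
  have h2 := hf n
  rw [Jn_eq] at h2 ⊢
  have h3 : f n - L = (f (n + 1) - L) - (f (n + 1) - f n) := by abel
  rw [h3]
  exact sub_mem h1 h2

end Filt

section Retraction

variable {A : Type*} [CommRing A] {A' : Type*} [CommRing A'] [Algebra A A']

/-- a faithfully flat projective algebra has an `A`-linear retraction -/
theorem exists_retraction [Module.Projective A A'] [Module.FaithfullyFlat A A'] :
    ∃ ρ : A' →ₗ[A] A, ρ 1 = 1 := by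
  classical
  obtain ⟨s, hs⟩ := Module.projective_def'.mp (inferInstance : Module.Projective A A')
  -- `hs : linearCombination ∘ s = id`
  set t : Ideal A := Ideal.span (Set.range fun y : A' => (s 1) y) with ht
  have h1 : (1 : A') ∈ t • (⊤ : Submodule A A') := by
    have h2 : (1 : A') = Finsupp.linearCombination A id (s 1) := by
      have := LinearMap.congr_fun hs 1
      simpa using this.symm
    rw [h2, Finsupp.linearCombination_apply]
    refine Submodule.sum_mem _ (fun y _ => ?_)
    exact Submodule.smul_mem_smul (Ideal.subset_span ⟨y, rfl⟩) trivial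
  have htop : t = ⊤ := by
    by_contra hne
    obtain ⟨m, hm, htm⟩ := Ideal.exists_le_maximal t hne
    have h3 : (1 : A') ∈ m • (⊤ : Submodule A A') := Submodule.smul_mono_left htm h1
    have h4 : m • (⊤ : Submodule A A') = ⊤ := by
      rw [Ideal.smul_top_eq_map] at h3 ⊢
      have h5 : m.map (algebraMap A A') = ⊤ := (Ideal.eq_top_iff_one _).mpr h3
      rw [h5, Submodule.restrictScalars_top]
    exact Module.FaithfullyFlat.submodule_ne_top (R := A) (M := A') hm h4
  have h5 : (1 : A) ∈ t := by rw [htop]; trivial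
  rw [ht, Ideal.span, Finsupp.mem_span_range_iff_exists_finsupp] at h5
  obtain ⟨r, hr⟩ := h5
  refine ⟨r.sum fun y ry => ry • (Finsupp.lapply y ∘ₗ s), ?_⟩
  rw [← hr]
  simp [Finsupp.sum, LinearMap.sum_apply]

end Retraction

end Groth.Agent.Lib.Helper27.AdicLift
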