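import Mathlib
import Groth.Agent.Lib.Helper27.AdicLiftB

/-!
# Lifting homomorphisms over an adically complete base: expansions, coefficients,
separatedness (helper27)
-/

set_option autoImplicit false
universe u
open TensorProduct WithConv SGA3b

namespace Groth.Agent.Lib.Helper27.AdicLift

open Groth.Agent.Lib.Helper27.MultRigid Groth.Agent.Lib.Helper17.MultLift
  Groth.Agent.Lib.Helper17.MultBC Groth.Agent.Lib.Helper27.HopfLift
  Groth.Agent.Lib.Helper27.HopfNilLift

section Expansion

variable {A : Type*} [CommRing A] {C : Type*} [AddCommGroup C] [Module A C]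

theorem exists_expansion (E : Submodule A C) (S : Finset C)
    (hS : Submodule.span A (S : Set C) = E) (y : E ⊗[A] C) :
    ∃ g : C → C, (E.subtype.rTensor C) y = ∑ w ∈ S, w ⊗ₜ[A] g w := by
  induction y using TensorProduct.induction_on with
  | zero => exact ⟨fun _ => 0, by simp⟩
  | tmul e c' =>
    have he : (e : C) ∈ Submodule.span A (S : Set C) := by rw [hS]; exact e.2
    obtain ⟨f, -, hf⟩ := Submodule.mem_span_finset.1 he
    refine ⟨fun w => f w • c', ?_⟩
    rw [LinearMap.rTensor_tmul, Submodule.subtype_apply, ← hf, TensorProduct.sum_tmul]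
    refine Finset.sum_congr rfl (fun w _ => ?_)
    rw [TensorProduct.smul_tmul]
  | add x y hx hy =>
    obtain ⟨g₁, h₁⟩ := hx
    obtain ⟨g₂, h₂⟩ := hy
    refine ⟨fun w => g₁ w + g₂ w, ?_⟩
    rw [map_add, h₁, h₂, ← Finset.sum_add_distrib]
    refine Finset.sum_congr rfl (fun w _ => ?_)
    rw [TensorProduct.tmul_add]

end Expansion

section Coeff

variable {A : Type*} [CommRing A] {A' : Type*} [CommRing A'] [Algebra A A'] {M : Type*}

/-- `a ↦ single m a` as an `A`-linear map -/
noncomputable def singleL (m : M) : A' →ₗ[A] MonoidAlgebra A' M where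
  toFun a := MonoidAlgebra.single m a
  map_add' a b := by simp
  map_smul' r a := by
    apply MonoidAlgebra.ext
    ext n
    simp [MonoidAlgebra.coeff_single, Finsupp.single_apply, MonoidAlgebra.coeff_smul_apply]

theorem mem_smul_top_of_coeff (J : Ideal A) (y : MonoidAlgebra A' M)
    (h : ∀ m, y.coeff m ∈ J • (⊤ : Submodule A A')) :
    y ∈ J • (⊤ : Submodule A (MonoidAlgebra A' M)) := by
  rw [← MonoidAlgebra.sum_coeff_single y, Finsupp.sum]
  refine Submodule.sum_mem _ (fun m _ => ?_)
  exact map_mem_smul_top J (singleL (A := A) m) (h m)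

theorem eq_zero_of_evalL (z : MonoidAlgebra A' M ⊗[A'] MonoidAlgebra A' M)
    (h : ∀ m n, evalL m n z = 0) : z = 0 := by
  let Φ : MonoidAlgebra A' M ⊗[A'] MonoidAlgebra A' M ≃ₗ[A'] (M × M →₀ A') :=
    (TensorProduct.congr (MonoidAlgebra.coeffLinearEquiv A') (MonoidAlgebra.coeffLinearEquiv A'))
      ≪≫ₗ finsuppTensorFinsupp' A' M M
  have hΦ : ∀ (z : MonoidAlgebra A' M ⊗[A'] MonoidAlgebra A' M) (m n : M),
      Φ z (m, n) = evalL m n z := by
    intro z m n
    induction z using TensorProduct.induction_on with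
    | zero => simp
    | tmul x y =>
      rw [evalL_tmul]
      show finsuppTensorFinsupp' A' M M
        ((MonoidAlgebra.coeffLinearEquiv A' x) ⊗ₜ (MonoidAlgebra.coeffLinearEquiv A' y)) (m, n) = _
      rw [finsuppTensorFinsupp'_apply_apply]
      rfl
    | add x y hx hy => rw [map_add, map_add, Finsupp.add_apply, hx, hy]
  apply Φ.injective
  rw [map_zero]
  ext ⟨m, n⟩
  rw [hΦ, h]
  rfl

end Coeff

section Sep

variable {A A' B M : Type u} [CommRing A] [CommRing A'] [Algebra A A'] [CommRing B]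
  [HopfAlgebra A B] [CommGroup M] (I : Ideal A)

theorem thetaOf_injective [Module.FaithfullyFlat A A']
    (e : A' ⊗[A] B ≃ₐc[A'] MonoidAlgebra A' M) : Function.Injective (thetaOf e) := by
  intro x y hxy
  rw [thetaOf_apply, thetaOf_apply] at hxy
  exact Module.FaithfullyFlat.tensorProduct_mk_injective (A := A) (B := A') B (e.injective hxy)

theorem Xi_thetaOf_eq (e : A' ⊗[A] B ≃ₐc[A'] MonoidAlgebra A' M) (z : B ⊗[A] B) :
    Xi (R := A) (R' := A') (thetaOf e) z =
      TensorProduct.congr (e : A' ⊗[A] B ≃ₐ[A'] MonoidAlgebra A' M).toLinearEquiv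
        (e : A' ⊗[A] B ≃ₐ[A'] MonoidAlgebra A' M).toLinearEquiv
        (TensorProduct.AlgebraTensorModule.distribBaseChange A A' B B ((1 : A') ⊗ₜ[A] z)) := by
  induction z using TensorProduct.induction_on with
  | zero => simp
  | tmul x y =>
    rw [Xi_tmul, TensorProduct.AlgebraTensorModule.distribBaseChange_tmul,
      TensorProduct.congr_tmul]
    rfl
  | add x y hx hy => rw [map_add, TensorProduct.tmul_add, map_add, map_add, hx, hy]

theorem Xi_thetaOf_injective [Module.FaithfullyFlat A A']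
    (e : A' ⊗[A] B ≃ₐc[A'] MonoidAlgebra A' M) :
    Function.Injective (Xi (R := A) (R' := A') (thetaOf e)) := by
  intro x y hxy
  rw [Xi_thetaOf_eq, Xi_thetaOf_eq] at hxy
  have h1 := (TensorProduct.AlgebraTensorModule.distribBaseChange A A' B B).injective
    ((TensorProduct.congr (e : A' ⊗[A] B ≃ₐ[A'] MonoidAlgebra A' M).toLinearEquiv
      (e : A' ⊗[A] B ≃ₐ[A'] MonoidAlgebra A' M).toLinearEquiv).injective hxy)
  exact Module.FaithfullyFlat.tensorProduct_mk_injective (A := A) (B := A') (B ⊗[A] B) h1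

theorem sepB [Module.FaithfullyFlat A A'] [IsHausdorff I A']
    (e : A' ⊗[A] B ≃ₐc[A'] MonoidAlgebra A' M) (x : B)
    (h : ∀ n, x ∈ Jn I n • (⊤ : Submodule A B)) : x = 0 := by
  apply thetaOf_injective e
  rw [map_zero]
  apply MonoidAlgebra.ext
  ext m
  exact haus_Jn I (chi (thetaOf e) m x) (fun n => map_mem_smul_top _ (chi (thetaOf e) m) (h n))

theorem sepBB [Module.FaithfullyFlat A A'] [IsHausdorff I A']
    (e : A' ⊗[A] B ≃ₐc[A'] MonoidAlgebra A' M) (z : B ⊗[A] B)
    (h : ∀ n, z ∈ Jn I n • (⊤ : Submodule A (B ⊗[A] B))) : z = 0 := by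
  apply Xi_thetaOf_injective e
  rw [map_zero]
  apply eq_zero_of_evalL
  intro m n
  exact haus_Jn I _ (fun k => map_mem_smul_top _
    (((evalL m n).restrictScalars A) ∘ₗ Xi (R := A) (R' := A') (thetaOf e)) (h k))

end Sep

end Groth.Agent.Lib.Helper27.AdicLift
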