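import Mathlib
import Groth.Agent.Lib.Helper27.AdicLiftC
import Groth.Agent.Lib.Helper75.SerreFin

/-!
# Lifting homomorphisms over an adically complete base: algebraization (helper27)
-/

set_option autoImplicit false
universe u
open TensorProduct WithConv SGA3b

namespace Groth.Agent.Lib.Helper27.AdicLift

open Groth.Agent.Lib.Helper27.MultRigid Groth.Agent.Lib.Helper17.MultLift
  Groth.Agent.Lib.Helper17.MultBC Groth.Agent.Lib.Helper27.HopfLift
  Groth.Agent.Lib.Helper27.HopfNilLift

theorem isMultType_of_isIsotrivial {A : Type u} [CommRing A] (B : Type u) [CommRing B]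
    [HopfAlgebra A B] (h : IsIsotrivial A B) : IsMultType A B := by
  obtain ⟨A', _, _, _, _, hff, N, _, ⟨e⟩⟩ := h
  haveI := hff
  refine ⟨{1}, by rw [Ideal.span_singleton_one], ?_⟩
  rintro f (rfl : f = 1)
  refine ⟨Localization.Away (1 : A) ⊗[A] A', inferInstance, inferInstance, inferInstance, ?_⟩
  letI iP : Algebra A' (Localization.Away (1 : A) ⊗[A] A') := Algebra.TensorProduct.rightAlgebra
  haveI : IsScalarTower A A' (Localization.Away (1 : A) ⊗[A] A') :=
    IsScalarTower.of_algebraMap_eq (fun x => by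
      rw [Algebra.TensorProduct.algebraMap_apply, Algebra.TensorProduct.right_algebraMap_apply,
        Algebra.algebraMap_eq_smul_one, Algebra.algebraMap_eq_smul_one, TensorProduct.smul_tmul])
  obtain ⟨c4⟩ := nonempty_bialgEquiv_of_tower (k := A) (P := A')
    (S' := Localization.Away (1 : A) ⊗[A] A') (C := B) e
  exact ⟨N, inferInstance, ⟨(cancelBaseChangeBialg A (Localization.Away (1 : A))
    (Localization.Away (1 : A) ⊗[A] A') B).trans c4⟩⟩

section Jac

variable {A : Type*} [CommRing A] {A' : Type*} [CommRing A'] [Algebra A A']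

theorem map_le_jacobson_bot [Module.Finite A A'] (I : Ideal A)
    (hI : I ≤ Ideal.jacobson (⊥ : Ideal A)) :
    I.map (algebraMap A A') ≤ Ideal.jacobson (⊥ : Ideal A') := by
  haveI : Algebra.IsIntegral A A' := Algebra.IsIntegral.of_finite A A'
  rw [Ideal.map_le_iff_le_comap]
  intro x hx
  rw [Ideal.mem_comap, Ideal.jacobson, Ideal.mem_sInf]
  intro 𝔐 h𝔐
  have hmax : (𝔐.comap (algebraMap A A')).IsMaximal :=
    Ideal.isMaximal_comap_of_isIntegral_of_isMaximal (R := A) 𝔐 (hI := h𝔐.2)
  have h1 : x ∈ Ideal.jacobson (⊥ : Ideal A) := hI hx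
  rw [Ideal.jacobson, Ideal.mem_sInf] at h1
  exact h1 ⟨bot_le, hmax⟩

end Jac

end Groth.Agent.Lib.Helper27.AdicLift
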