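import Mathlib
import Groth.Agent.Lib.Helper27.HopfLiftD

/-!
# Conjugacy of homomorphisms from a group with an invariant integral (helper27)
-/

set_option autoImplicit false
open TensorProduct WithConv

namespace Groth.Agent.Lib.Helper27.HopfLift

section RingLemmas

variable {𝒟 : Type*} [Ring 𝒟]

theorem conj_ring {b1 b2 a x y : 𝒟} (h2 : IsUnit b2) (hxy : x * b1 * y = 0)
    (h : (1 + a) * (b1 * b2) = (1 + x) * b1 * ((1 + y) * b2)) :
    a * b1 = x * b1 + b1 * y := by
  have h' : ((1 + a) * b1) * b2 = ((1 + x) * b1 * (1 + y)) * b2 := by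
    simp only [mul_assoc] at h ⊢
    exact h
  have h'' := (IsUnit.mul_left_inj h2).mp h'
  have e1 : (1 + a) * b1 = b1 + a * b1 := by noncomm_ring
  have e2 : (1 + x) * b1 * (1 + y) = b1 + (x * b1 + b1 * y) + x * b1 * y := by noncomm_ring
  rw [e1, e2, hxy, add_zero] at h''
  exact add_left_cancel h''

theorem conj_ring2 {b z ξ : 𝒟} (hz : z * b * z = 0) (h : z * b = ξ * b + b * z) :
    (1 + ξ) * b = (1 + z) * b * (1 - z) := by
  have e1 : (1 + z) * b * (1 - z) = b + (z * b - b * z) - z * b * z := by noncomm_ring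
  rw [e1, hz, h]
  noncomm_ring

end RingLemmas

section Conj

variable {R : Type*} [CommRing R] {J : Ideal R}
variable {A : Type*} [CommRing A] [Bialgebra R A] {C : Type*} [CommRing C] [HopfAlgebra R C]

theorem lin_comul_of_bialgHom (β : C →ₐc[R] A) :
    lin ((Bialgebra.comulAlgHom R A).comp (β : C →ₐ[R] A)) =
      lin ((i1 (R := R) (A := A)).comp (β : C →ₐ[R] A)) *
        lin ((i2 (R := R) (A := A)).comp (β : C →ₐ[R] A)) := by
  apply WithConv.ext
  ext c
  have e1 : (lin ((i1 (R := R) (A := A)).comp (β : C →ₐ[R] A)) *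
      lin ((i2 (R := R) (A := A)).comp (β : C →ₐ[R] A))) c =
      TensorProduct.map (β : C →ₐ[R] A).toLinearMap (β : C →ₐ[R] A).toLinearMap
        (Coalgebra.comul (R := R) c) :=
    mul_map_i1_i2 (β : C →ₐ[R] A).toLinearMap (β : C →ₐ[R] A).toLinearMap _
  refine Eq.trans ?_ e1.symm
  exact (CoalgHomClass.map_comp_comul_apply β c).symm

/-- the difference cochain of two homomorphisms -/
noncomputable def xiC (β β' : C →ₐ[R] A) : WithConv (C →ₗ[R] A) := lin β * linInv β' - 1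

theorem lin_eq_xiC (β β' : C →ₐ[R] A) : lin β = (1 + xiC β β') * lin β' := by
  unfold xiC
  rw [add_sub_cancel, mul_assoc, linInv_mul_lin, mul_one]

theorem inN_xiC (β β' : C →ₐ[R] A) (h : InN J (lin β - lin β')) : InN J (xiC β β') := by
  have : xiC β β' = (lin β - lin β') * linInv β' := by
    unfold xiC
    rw [sub_mul, lin_mul_linInv]
  rw [this]
  exact h.mul_right _

theorem isDer_xiC (hJ : J * J = ⊥) (β β' : C →ₐ[R] A) (h : InN J (xiC β β')) :
    IsDer (xiC β β') := by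
  refine isDer_of_lin hJ h (toConv β * toConv (invAlg β')).ofConv ?_
  rw [lin_mul]
  unfold xiC
  rw [add_sub_cancel]
  rfl

theorem slice_comul (π : A →ₗ[R] R)
    (hπ : ∀ a, sliceT A π (Coalgebra.comul (R := R) a) = algebraMap R A (π a)) :
    sliceT A π ∘ₗ (Bialgebra.comulAlgHom R A).toLinearMap = Algebra.linearMap R A ∘ₗ π := by
  ext a
  exact hπ a

theorem slice_i1 (π : A →ₗ[R] R) (hπ1 : π 1 = 1) :
    sliceT A π ∘ₗ (i1 (R := R) (A := A)).toLinearMap = LinearMap.id := by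
  ext a
  simp [i1, hπ1]

theorem slice_i2 (π : A →ₗ[R] R) :
    sliceT A π ∘ₗ (i2 (R := R) (A := A)).toLinearMap = Algebra.linearMap R A ∘ₗ π := by
  ext a
  simp [i2, Algebra.algebraMap_eq_smul_one]

/-- the key identity: `ηz * β' = ξ * β' + β' * ηz` -/
theorem conj_key (hJ : J * J = ⊥) (π : A →ₗ[R] R) (hπ1 : π 1 = 1)
    (hπ : ∀ a, sliceT A π (Coalgebra.comul (R := R) a) = algebraMap R A (π a))
    (β β' : C →ₐc[R] A) (hξ : InN J (xiC (β : C →ₐ[R] A) (β' : C →ₐ[R] A))) :
    postL (Algebra.linearMap R A ∘ₗ π) (xiC (β : C →ₐ[R] A) (β' : C →ₐ[R] A)) *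
        lin (β' : C →ₐ[R] A) =
      xiC (β : C →ₐ[R] A) (β' : C →ₐ[R] A) * lin (β' : C →ₐ[R] A) +
        lin (β' : C →ₐ[R] A) *
          postL (Algebra.linearMap R A ∘ₗ π) (xiC (β : C →ₐ[R] A) (β' : C →ₐ[R] A)) := by
  set ξ := xiC (β : C →ₐ[R] A) (β' : C →ₐ[R] A) with hξdef
  have hx := lin_eq_xiC (β : C →ₐ[R] A) (β' : C →ₐ[R] A)
  rw [← hξdef] at hx
  -- apply Δ, i1, i2
  have h0 := congrArg (postR (Bialgebra.comulAlgHom R A)) hx
  have h1 := congrArg (postR (i1 (R := R) (A := A))) hx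
  have h2 := congrArg (postR (i2 (R := R) (A := A))) hx
  rw [map_mul, map_add, map_one] at h0 h1 h2
  have a0 : postR (Bialgebra.comulAlgHom R A) (lin (β : C →ₐ[R] A)) =
      postR (i1 (R := R) (A := A)) (lin (β : C →ₐ[R] A)) *
        postR (i2 (R := R) (A := A)) (lin (β : C →ₐ[R] A)) := lin_comul_of_bialgHom β
  have a0' : postR (Bialgebra.comulAlgHom R A) (lin (β' : C →ₐ[R] A)) =
      postR (i1 (R := R) (A := A)) (lin (β' : C →ₐ[R] A)) *
        postR (i2 (R := R) (A := A)) (lin (β' : C →ₐ[R] A)) := lin_comul_of_bialgHom β'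
  rw [a0, a0', h1, h2] at h0
  have hξ1 : InN J (postR (i1 (R := R) (A := A)) ξ) := InN.postR _ hξ
  have hξ2 : InN J (postR (i2 (R := R) (A := A)) ξ) := InN.postR _ hξ
  have hU : IsUnit (postR (i2 (R := R) (A := A)) (lin (β' : C →ₐ[R] A))) :=
    isUnit_lin ((i2 (R := R) (A := A)).comp (β' : C →ₐ[R] A))
  have hc := conj_ring hU (InN.mul_eq_zero hJ (hξ1.mul_right _) hξ2) h0.symm
  -- slice
  have hs := congrArg (postL (sliceT A π)) hc
  rw [map_add] at hs
  have hr : ∀ t y, sliceT A π (y * (i1 (R := R) (A := A)) t) = sliceT A π y * t :=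
    fun t y => sliceT_mul_right A π t y
  have hl : ∀ t y, sliceT A π ((i1 (R := R) (A := A)) t * y) = t * sliceT A π y :=
    fun t y => sliceT_mul_left A π t y
  rw [postL_mul_right (i1 (R := R) (A := A)) _ hr, postL_mul_right (i1 (R := R) (A := A)) _ hr,
    postL_mul_left (i1 (R := R) (A := A)) _ hl, postL_postR, postL_postR, postL_postR,
    slice_comul π hπ, slice_i1 π hπ1, slice_i2, postL_id] at hs
  exact hs

end Conj

end Groth.Agent.Lib.Helper27.HopfLift
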