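import Mathlib
import Groth.Agent.Lib.Helper27.HopfLiftH

/-!
# Conjugacy of homomorphisms, continued (helper27)
-/

set_option autoImplicit false
open TensorProduct WithConv

namespace Groth.Agent.Lib.Helper27.HopfLift

section RingLemmas

variable {𝒟 : Type*} [Ring 𝒟]

theorem conj_mul {G V a b : 𝒟} (h : V * G = 1) :
    G * (a * b) * V = (G * a * V) * (G * b * V) := by
  calc G * (a * b) * V = G * a * 1 * b * V := by simp only [mul_assoc, one_mul]
    _ = G * a * (V * G) * b * V := by rw [h]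
    _ = _ := by simp only [mul_assoc]

theorem conj_sub {G V f : 𝒟} : G * f * V - f = (G - 1) * f * V + f * (V - 1) := by
  noncomm_ring

end RingLemmas

section Conj

variable {R : Type*} [CommRing R] {J : Ideal R}
variable {A : Type*} [CommRing A] [Bialgebra R A] {C : Type*} [CommRing C] [HopfAlgebra R C]

theorem exists_bialgHom_of_comul_compat (φ : C →ₐ[R] A)
    (hc : postR (Bialgebra.comulAlgHom R A) (lin φ) =
      postR (i1 (R := R) (A := A)) (lin φ) * postR (i2 (R := R) (A := A)) (lin φ)) :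
    ∃ ψ : C →ₐc[R] A, ∀ c, ψ c = φ c := by
  refine ⟨BialgHom.ofAlgHom φ (counit_of_comul_compat φ hc) ?_, fun c => rfl⟩
  ext c
  have h1 := congrArg (fun f : WithConv (C →ₗ[R] A ⊗[R] A) => f c) hc
  have h2 : (postR (i1 (R := R) (A := A)) (lin φ) * postR (i2 (R := R) (A := A)) (lin φ)) c =
      TensorProduct.map φ.toLinearMap φ.toLinearMap (Coalgebra.comul (R := R) c) :=
    mul_map_i1_i2 φ.toLinearMap φ.toLinearMap _
  simp only [h2] at h1
  rw [AlgHom.comp_apply, AlgHom.comp_apply, Bialgebra.comulAlgHom_apply,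
    Bialgebra.comulAlgHom_apply]
  exact h1.symm

/-- the constant cochain attached to a point `g` -/
noncomputable def cst (T : Type*) [CommRing T] [Algebra R T] (g : C →ₐ[R] R) : C →ₐ[R] T :=
  (Algebra.ofId R T).comp g

theorem comp_cst {T T' : Type*} [CommRing T] [Algebra R T] [CommRing T'] [Algebra R T']
    (h : T →ₐ[R] T') (g : C →ₐ[R] R) : h.comp (cst T g) = cst T' g := by
  unfold cst
  rw [← AlgHom.comp_assoc, Algebra.comp_ofId]

theorem inN_cst_sub_one {T : Type*} [CommRing T] [Algebra R T] (g : C →ₐ[R] R)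
    (hg : ∀ c, g c - Coalgebra.counit (R := R) c ∈ J) :
    InN J (lin (cst T g) - 1) := by
  intro c
  have : (lin (cst T g) - 1) c = algebraMap R T (g c - Coalgebra.counit (R := R) c) := by
    rw [map_sub]
    rfl
  rw [this]
  exact Ideal.mem_map_of_mem _ (hg c)

theorem inN_linInv_cst_sub_one {T : Type*} [CommRing T] [Algebra R T] (g : C →ₐ[R] R)
    (hg : ∀ c, g c - Coalgebra.counit (R := R) c ∈ J) :
    InN J (linInv (cst T g) - 1) := by
  have : linInv (cst T g) - 1 = linInv (cst T g) * (1 - lin (cst T g)) := by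
    rw [mul_sub, mul_one, linInv_mul_lin]
  rw [this]
  have h1 : InN J (1 - lin (cst T g)) := by
    have h2 := inN_cst_sub_one (T := T) g hg
    have h3 : (1 : WithConv (C →ₗ[R] T)) - lin (cst T g) = 0 - (lin (cst T g) - 1) := by abel
    rw [h3]
    exact InN.sub (fun c => Ideal.zero_mem _) h2
  exact h1.mul_left _

theorem inN_conj_sub {T : Type*} [CommRing T] [Algebra R T] (g : C →ₐ[R] R)
    (hg : ∀ c, g c - Coalgebra.counit (R := R) c ∈ J) (f : WithConv (C →ₗ[R] T)) :
    InN J (lin (cst T g) * f * linInv (cst T g) - f) := by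
  rw [conj_sub]
  exact InN.add (((inN_cst_sub_one g hg).mul_right _).mul_right _)
    ((inN_linInv_cst_sub_one g hg).mul_left _)

/-- conjugating a homomorphism by a point -/
theorem exists_conj_hom (g : C →ₐ[R] R) (γ' : C →ₐc[R] A) :
    ∃ γ : C →ₐc[R] A, lin (γ : C →ₐ[R] A) =
      lin (cst A g) * lin (γ' : C →ₐ[R] A) * linInv (cst A g) := by
  set φ : C →ₐ[R] A := (toConv (cst A g) * toConv (γ' : C →ₐ[R] A) *
    toConv (invAlg (cst A g))).ofConv with hφdef
  have hφ : lin φ = lin (cst A g) * lin (γ' : C →ₐ[R] A) * linInv (cst A g) := by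
    rw [hφdef, lin_mul, lin_mul]
    rfl
  have hc : postR (Bialgebra.comulAlgHom R A) (lin φ) =
      postR (i1 (R := R) (A := A)) (lin φ) * postR (i2 (R := R) (A := A)) (lin φ) := by
    rw [hφ]
    simp only [map_mul, postR_lin, postR_linInv, comp_cst]
    rw [lin_comul_of_bialgHom γ']
    exact conj_mul (linInv_mul_lin _)
  obtain ⟨ψ, hψ⟩ := exists_bialgHom_of_comul_compat φ hc
  refine ⟨ψ, ?_⟩
  rw [← hφ]
  apply WithConv.ext
  ext c
  exact hψ c

theorem exists_conj_sqZero (hJ : J * J = ⊥) (π : A →ₗ[R] R) (hπ1 : π 1 = 1)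
    (hπ : ∀ a, sliceT A π (Coalgebra.comul (R := R) a) = algebraMap R A (π a))
    (β β' : C →ₐc[R] A) (h : InN J (lin (β : C →ₐ[R] A) - lin (β' : C →ₐ[R] A))) :
    ∃ g : C →ₐ[R] R, (∀ c, g c - Coalgebra.counit (R := R) c ∈ J) ∧
      lin (β : C →ₐ[R] A) = lin (cst A g) * lin (β' : C →ₐ[R] A) * linInv (cst A g) := by
  have hξ := inN_xiC _ _ h
  set ξ := xiC (β : C →ₐ[R] A) (β' : C →ₐ[R] A) with hξdef
  have hder := isDer_xiC hJ _ _ hξ
  rw [← hξdef] at hder
  have hz : InN J (postL π ξ) := InN.postL π hξ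
  obtain ⟨g, hg⟩ := exists_algHom_of_isDer hJ hz (hder.postL π)
  have hgc : ∀ c, g c - Coalgebra.counit (R := R) c ∈ J := by
    intro c
    have h1 := congrArg (fun f : WithConv (C →ₗ[R] R) => f c) hg
    have h2 : g c = Coalgebra.counit (R := R) c + (postL π ξ) c := h1
    rw [h2, add_sub_cancel_left]
    have h3 := hz c
    rw [Algebra.algebraMap_self, Ideal.map_id] at h3
    exact h3
  refine ⟨g, hgc, ?_⟩
  have key := conj_key hJ π hπ1 hπ β β' hξ
  rw [← hξdef] at key
  set ηz := postL (Algebra.linearMap R A ∘ₗ π) ξ with hηz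
  have hηzN : InN J ηz := InN.postL _ hξ
  have hG : lin (cst A g) = 1 + ηz := by
    have : lin (cst A g) = postR (Algebra.ofId R A) (lin g) := rfl
    rw [this, hg, map_add, map_one]
    rfl
  have hV : linInv (cst A g) = 1 - ηz := by
    have h1 : lin (cst A g) * (1 - ηz) = 1 := by
      rw [hG]
      have : (1 + ηz) * (1 - ηz) = 1 - ηz * ηz := by noncomm_ring
      rw [this, InN.mul_eq_zero hJ hηzN hηzN, sub_zero]
    calc linInv (cst A g) = linInv (cst A g) * (lin (cst A g) * (1 - ηz)) := by rw [h1, mul_one]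
      _ = 1 - ηz := by rw [← mul_assoc, linInv_mul_lin, one_mul]
  rw [hG, hV, lin_eq_xiC (β : C →ₐ[R] A) (β' : C →ₐ[R] A), ← hξdef]
  exact conj_ring2 (InN.mul_eq_zero hJ (hηzN.mul_right _) hηzN) key

end Conj

end Groth.Agent.Lib.Helper27.HopfLift
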