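import Mathlib
import Groth.Agent.Lib.Helper27.AdicLiftD
import Groth.Agent.Lib.Helper27.HopfLiftI

/-!
# Lifting homomorphisms over an adically complete base: the core (helper27)
-/

set_option autoImplicit false
universe u
open TensorProduct WithConv SGA3b

namespace Groth.Agent.Lib.Helper27.AdicLift

open Groth.Agent.Lib.Helper27.MultRigid Groth.Agent.Lib.Helper17.MultLift
  Groth.Agent.Lib.Helper17.MultBC Groth.Agent.Lib.Helper27.HopfLift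
  Groth.Agent.Lib.Helper27.HopfNilLift

section Core

variable {A : Type u} [CommRing A] (I : Ideal A)
  {A' : Type u} [CommRing A'] [Algebra A A']
  {B : Type u} [CommRing B] [HopfAlgebra A B] {M : Type u} [CommGroup M]
  (e : A' ⊗[A] B ≃ₐc[A'] MonoidAlgebra A' M)
  {C : Type u} [CommRing C] [HopfAlgebra A C]
  (ψ : ∀ n : ℕ, ((A ⧸ Jn I n) ⊗[A] C) →ₐc[A ⧸ Jn I n] ((A ⧸ Jn I n) ⊗[A] B))

theorem b_cauchy
    (hψ : ∀ (n : ℕ) (c : C),
      Algebra.TensorProduct.map (Ideal.Quotient.factorₐ A (Jn_succ_le I n)) (AlgHom.id A B)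
        (ψ (n + 1) ((1 : A ⧸ Jn I (n + 1)) ⊗ₜ[A] c)) = ψ n ((1 : A ⧸ Jn I n) ⊗ₜ[A] c))
    (b : ℕ → C → B)
    (hb : ∀ n c, (1 : A ⧸ Jn I n) ⊗ₜ[A] b n c = ψ n ((1 : A ⧸ Jn I n) ⊗ₜ[A] c)) (n : ℕ) (c : C) :
    b (n + 1) c - b n c ∈ Jn I n • (⊤ : Submodule A B) := by
  rw [← one_tmul_eq_zero_iff, TensorProduct.tmul_sub, sub_eq_zero, hb n c, ← hψ n c,
    ← hb (n + 1) c, Algebra.TensorProduct.map_tmul, map_one, AlgHom.id_apply]

theorem comul_cong (b : ℕ → C → B)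
    (hb : ∀ n c, (1 : A ⧸ Jn I n) ⊗ₜ[A] b n c = ψ n ((1 : A ⧸ Jn I n) ⊗ₜ[A] c))
    (n : ℕ) (c : C) (S : Finset C) (g : C → C)
    (h : Coalgebra.comul (R := A) c = ∑ w ∈ S, w ⊗ₜ[A] g w) :
    Coalgebra.comul (R := A) (b n c) - ∑ w ∈ S, b n w ⊗ₜ[A] b n (g w) ∈
      Jn I n • (⊤ : Submodule A (B ⊗[A] B)) := by
  rw [← one_tmul_eq_zero_iff]
  apply (TensorProduct.AlgebraTensorModule.distribBaseChange A (A ⧸ Jn I n) B B).injective
  rw [map_zero, ← Xi_bcMap_eq, map_sub, sub_eq_zero]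
  have h1 : Xi (R := A) (R' := A ⧸ Jn I n) (bcMap (A ⧸ Jn I n) B)
      (Coalgebra.comul (R := A) (b n c)) =
      Coalgebra.comul (R := A ⧸ Jn I n) (ψ n ((1 : A ⧸ Jn I n) ⊗ₜ[A] c)) := by
    rw [← isSemiComul_bcMap (R := A) (R' := A ⧸ Jn I n) (A := B) (b n c), bcMap_apply, hb]
  have h2 : Coalgebra.comul (R := A ⧸ Jn I n) (ψ n ((1 : A ⧸ Jn I n) ⊗ₜ[A] c)) =
      Xi (R := A ⧸ Jn I n) (R' := A ⧸ Jn I n)
        (ψ n : ((A ⧸ Jn I n) ⊗[A] C) →ₗc[A ⧸ Jn I n] ((A ⧸ Jn I n) ⊗[A] B)).toLinearMap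
        (Coalgebra.comul (R := A ⧸ Jn I n) ((1 : A ⧸ Jn I n) ⊗ₜ[A] c)) :=
    isSemiComul_coalgHom (ψ n : ((A ⧸ Jn I n) ⊗[A] C) →ₗc[A ⧸ Jn I n] ((A ⧸ Jn I n) ⊗[A] B)) _
  have h3 : Coalgebra.comul (R := A ⧸ Jn I n) ((1 : A ⧸ Jn I n) ⊗ₜ[A] c) =
      Xi (R := A) (R' := A ⧸ Jn I n) (bcMap (A ⧸ Jn I n) C) (Coalgebra.comul (R := A) c) :=
    isSemiComul_bcMap (R := A) (R' := A ⧸ Jn I n) (A := C) c
  rw [h1, h2, h3, h, map_sum, map_sum, map_sum]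
  refine Finset.sum_congr rfl (fun w _ => ?_)
  rw [Xi_tmul, Xi_tmul, Xi_tmul, bcMap_apply, bcMap_apply, bcMap_apply, bcMap_apply, hb, hb]
  rfl

theorem coeff_rel [IsHausdorff I A'] (b : ℕ → C → B)
    (hb : ∀ n c, (1 : A ⧸ Jn I n) ⊗ₜ[A] b n c = ψ n ((1 : A ⧸ Jn I n) ⊗ₜ[A] c))
    (a : M → C → A')
    (ha : ∀ m c n, chi (thetaOf e) m (b n c) - a m c ∈ Jn I n • (⊤ : Submodule A A'))
    (m : M) (c : C) (S : Finset C) (g : C → C)
    (h : Coalgebra.comul (R := A) c = ∑ w ∈ S, w ⊗ₜ[A] g w) :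
    a m c = ∑ w ∈ S, a m w * a m (g w) := by
  classical
  rw [← sub_eq_zero]
  apply haus_Jn I
  intro n
  set G : B ⊗[A] B →ₗ[A] A' :=
    ((evalL m m).restrictScalars A) ∘ₗ Xi (R := A) (R' := A') (thetaOf e) with hGdef
  have hG1 : ∀ b' : B, G (Coalgebra.comul (R := A) b') = chi (thetaOf e) m b' := by
    intro b'
    show evalL m m (Xi (R := A) (R' := A') (thetaOf e) (Coalgebra.comul (R := A) b')) = _
    rw [← isSemiComul_thetaOf e b', evalL_comul, if_pos rfl]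
    rfl
  have hG2 : ∀ x y : B, G (x ⊗ₜ[A] y) = chi (thetaOf e) m x * chi (thetaOf e) m y := by
    intro x y
    show evalL m m (Xi (R := A) (R' := A') (thetaOf e) (x ⊗ₜ[A] y)) = _
    rw [Xi_tmul, evalL_tmul]
    rfl
  have h1 := map_mem_smul_top (Jn I n) G (comul_cong I ψ b hb n c S g h)
  rw [map_sub, hG1, map_sum] at h1
  simp only [hG2] at h1
  have hid : ∀ x : A', x ∈ Jn I n • (⊤ : Submodule A A') ↔
      x ∈ (Jn I n).map (algebraMap A A') := by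
    intro x
    rw [Ideal.smul_top_eq_map]
    rfl
  rw [hid] at h1 ⊢
  have ha' : ∀ c', chi (thetaOf e) m (b n c') - a m c' ∈ (Jn I n).map (algebraMap A A') :=
    fun c' => (hid _).mp (ha m c' n)
  have h2 : a m c - ∑ w ∈ S, a m w * a m (g w) =
      (chi (thetaOf e) m (b n c) -
        ∑ w ∈ S, chi (thetaOf e) m (b n w) * chi (thetaOf e) m (b n (g w))) -
      (chi (thetaOf e) m (b n c) - a m c) +
      ∑ w ∈ S, (chi (thetaOf e) m (b n w) * chi (thetaOf e) m (b n (g w)) -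
        a m w * a m (g w)) := by
    rw [Finset.sum_sub_distrib]
    ring
  rw [h2]
  refine Ideal.add_mem _ (Ideal.sub_mem _ h1 (ha' c)) (Ideal.sum_mem _ (fun w _ => ?_))
  have h3 : chi (thetaOf e) m (b n w) * chi (thetaOf e) m (b n (g w)) - a m w * a m (g w) =
      (chi (thetaOf e) m (b n w) - a m w) * chi (thetaOf e) m (b n (g w)) +
        a m w * (chi (thetaOf e) m (b n (g w)) - a m (g w)) := by ring
  rw [h3]
  exact Ideal.add_mem _ (Ideal.mul_mem_right _ _ (ha' w)) (Ideal.mul_mem_left _ _ (ha' (g w)))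

end Core

end Groth.Agent.Lib.Helper27.AdicLift
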