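import Mathlib
import Groth.Agent.Lib.Helper27.AdicLiftE

/-!
# Lifting homomorphisms over an adically complete base: finiteness and assembly (helper27)
-/

set_option autoImplicit false
universe u
open TensorProduct WithConv SGA3b

namespace Groth.Agent.Lib.Helper27.AdicLift

open Groth.Agent.Lib.Helper27.MultRigid Groth.Agent.Lib.Helper17.MultLift
  Groth.Agent.Lib.Helper17.MultBC Groth.Agent.Lib.Helper27.HopfLift
  Groth.Agent.Lib.Helper27.HopfNilLift

section Core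

variable {A : Type u} [CommRing A] [IsNoetherianRing A] (I : Ideal A) [IsAdicComplete I A]
  {A' : Type u} [CommRing A'] [Algebra A A'] [Module.Finite A A']
  {B : Type u} [CommRing B] [HopfAlgebra A B] {M : Type u} [CommGroup M]
  (e : A' ⊗[A] B ≃ₐc[A'] MonoidAlgebra A' M)
  {C : Type u} [CommRing C] [HopfAlgebra A C] [Module.Flat A C]
  (ψ : ∀ n : ℕ, ((A ⧸ Jn I n) ⊗[A] C) →ₐc[A ⧸ Jn I n] ((A ⧸ Jn I n) ⊗[A] B))

theorem finite_support [IsHausdorff I A'] (b : ℕ → C → B)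
    (hb : ∀ n c, (1 : A ⧸ Jn I n) ⊗ₜ[A] b n c = ψ n ((1 : A ⧸ Jn I n) ⊗ₜ[A] c))
    (a : M → C → A')
    (ha : ∀ m c n, chi (thetaOf e) m (b n c) - a m c ∈ Jn I n • (⊤ : Submodule A A'))
    (c : C) : ∃ F : Finset M, ∀ m, m ∉ F → a m c = 0 := by
  classical
  obtain ⟨E, hEsub, hEfg, hcE⟩ :=
    Groth.Agent.Lib.Helper75.SerreFin.exists_fg_subcomod (R := A) (C := C) {c}
  obtain ⟨S₀, hS₀⟩ := hEfg
  have hc : c ∈ E := hcE (by simp)
  set S := insert c S₀ with hSdef
  have hS : Submodule.span A (S : Set C) = E := by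
    rw [hSdef, Finset.coe_insert, Submodule.span_insert_eq_span (by rw [hS₀]; exact hc), hS₀]
  have hexp : ∀ v : C, ∃ g : C → C, v ∈ S →
      Coalgebra.comul (R := A) v = ∑ w ∈ S, w ⊗ₜ[A] g w := by
    intro v
    by_cases hv : v ∈ S
    · have hvE : v ∈ E := by
        rw [← hS]
        exact Submodule.subset_span hv
      obtain ⟨y, hy⟩ := hEsub v hvE
      obtain ⟨g, hg⟩ := exists_expansion E S hS y
      refine ⟨g, fun _ => ?_⟩
      rw [← hg, hy]
      rfl
    · exact ⟨fun _ => 0, fun h => absurd h hv⟩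
  choose g hg using hexp
  refine ⟨S.biUnion (fun v => S.biUnion (fun w => (thetaOf e (b 0 (g v w))).coeff.support)),
    fun m hm => ?_⟩
  have hsmall : ∀ v ∈ S, ∀ w ∈ S, a m (g v w) ∈ I.map (algebraMap A A') := by
    intro v hv w hw
    have h0 : (thetaOf e (b 0 (g v w))).coeff m = 0 := by
      by_contra hne
      exact hm (Finset.mem_biUnion.mpr ⟨v, hv, Finset.mem_biUnion.mpr
        ⟨w, hw, Finsupp.mem_support_iff.mpr hne⟩⟩)
    have h1 := ha m (g v w) 0
    rw [chi_apply, h0, zero_sub, Ideal.smul_top_eq_map] at h1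
    have h2 : -a m (g v w) ∈ (Jn I 0).map (algebraMap A A') := h1
    exact (Ideal.neg_mem_iff _).mp h2
  set N' : Ideal A' := Ideal.span ((fun v => a m v) '' (S : Set C)) with hN'
  have hN : N' = ⊥ := by
    refine Submodule.eq_bot_of_le_smul_of_le_jacobson_bot (I.map (algebraMap A A')) N'
      (Submodule.fg_span (Set.Finite.image _ S.finite_toSet)) ?_
      (map_le_jacobson_bot I (IsAdicComplete.le_jacobson_bot I))
    rw [hN', Ideal.span_le]
    rintro _ ⟨v, hv, rfl⟩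
    rw [SetLike.mem_coe]
    show a m v ∈ _
    rw [coeff_rel I e ψ b hb a ha m v S (g v) (hg v hv), smul_eq_mul]
    refine Ideal.sum_mem _ (fun w hw => ?_)
    have hcomm : a m w * a m (g v w) = a m (g v w) * a m w := mul_comm _ _
    rw [hcomm]
    exact Ideal.mul_mem_mul (hsmall v hv w hw) (Ideal.subset_span ⟨w, hw, rfl⟩)
  have h3 : a m c ∈ N' := Ideal.subset_span ⟨c, Finset.mem_insert_self c S₀, rfl⟩
  rw [hN] at h3
  exact h3

include e in
theorem exists_algebraization [Module.FaithfullyFlat A A'] [Module.Projective A A']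
    [IsAdicComplete I A']
    (hψ : ∀ (n : ℕ) (c : C),
      Algebra.TensorProduct.map (Ideal.Quotient.factorₐ A (Jn_succ_le I n)) (AlgHom.id A B)
        (ψ (n + 1) ((1 : A ⧸ Jn I (n + 1)) ⊗ₜ[A] c)) = ψ n ((1 : A ⧸ Jn I n) ⊗ₜ[A] c)) :
    ∃ Φ : C →ₐc[A] B, ∀ (n : ℕ) (c : C),
      ψ n ((1 : A ⧸ Jn I n) ⊗ₜ[A] c) = (1 : A ⧸ Jn I n) ⊗ₜ[A] Φ c := by
  classical
  have hb0 : ∀ (n : ℕ) (c : C), ∃ b : B,
      (1 : A ⧸ Jn I n) ⊗ₜ[A] b = ψ n ((1 : A ⧸ Jn I n) ⊗ₜ[A] c) := fun n c =>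
    exists_one_tmul (R := A) (K := A ⧸ Jn I n) Ideal.Quotient.mk_surjective _
  choose b hb using hb0
  have hb1 := b_cauchy I ψ hψ b hb
  have ha0 : ∀ (m : M) (c : C), ∃ L : A', ∀ n,
      chi (thetaOf e) m (b n c) - L ∈ Jn I n • (⊤ : Submodule A A') := fun m c =>
    limit_Jn I (fun n => chi (thetaOf e) m (b n c)) (fun n => by
      show chi (thetaOf e) m (b (n + 1) c) - chi (thetaOf e) m (b n c) ∈ _
      rw [← map_sub]
      exact map_mem_smul_top _ _ (hb1 n c))
  choose a ha using ha0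
  have hfin := finite_support I e ψ b hb a ha
  choose F hF using hfin
  let x : C → MonoidAlgebra A' M := fun c =>
    MonoidAlgebra.ofCoeff (Finsupp.onFinset (F c) (fun m => a m c) (fun m hm => by
      by_contra h
      exact hm (hF c m h)))
  have hx : ∀ c m, (x c).coeff m = a m c := fun c m => rfl
  obtain ⟨ρ, hρ⟩ := exists_retraction (A := A) (A' := A')
  let ℓ : MonoidAlgebra A' M →ₗ[A] B :=
    (TensorProduct.lid A B).toLinearMap ∘ₗ (LinearMap.rTensor B ρ) ∘ₗ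
      (((e.symm : MonoidAlgebra A' M ≃ₐ[A'] A' ⊗[A] B).toLinearEquiv.toLinearMap).restrictScalars A)
  have hℓ : ∀ b' : B, ℓ (thetaOf e b') = b' := by
    intro b'
    show TensorProduct.lid A B (LinearMap.rTensor B ρ (e.symm (e ((1 : A') ⊗ₜ[A] b')))) = b'
    rw [BialgEquiv.symm_apply_apply, LinearMap.rTensor_tmul, hρ, TensorProduct.lid_tmul, one_smul]
  let φf : C → B := fun c => ℓ (x c)
  have hφ1 : ∀ n c, φf c - b n c ∈ Jn I n • (⊤ : Submodule A B) := by
    intro n c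
    have h1 : thetaOf e (b n c) - x c ∈ Jn I n • (⊤ : Submodule A (MonoidAlgebra A' M)) :=
      mem_smul_top_of_coeff _ _ (fun m => by
        have h2 : (thetaOf e (b n c) - x c).coeff m = chi (thetaOf e) m (b n c) - a m c := rfl
        rw [h2]
        exact ha m c n)
    have h2 := map_mem_smul_top _ ℓ h1
    rw [map_sub, hℓ] at h2
    have h3 : φf c - b n c = -(b n c - ℓ (x c)) := by
      show ℓ (x c) - b n c = _
      abel
    rw [h3]
    exact neg_mem h2
  have hφ2 : ∀ n c, (1 : A ⧸ Jn I n) ⊗ₜ[A] φf c = ψ n ((1 : A ⧸ Jn I n) ⊗ₜ[A] c) := by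
    intro n c
    rw [← hb n c, ← sub_eq_zero, ← TensorProduct.tmul_sub, one_tmul_eq_zero_iff]
    exact hφ1 n c
  have inj : ∀ y z : B, (∀ n, (1 : A ⧸ Jn I n) ⊗ₜ[A] y = (1 : A ⧸ Jn I n) ⊗ₜ[A] z) → y = z := by
    intro y z h
    rw [← sub_eq_zero]
    apply sepB I e
    intro n
    rw [← one_tmul_eq_zero_iff, TensorProduct.tmul_sub, h n, sub_self]
  let φl : C →ₗ[A] B :=
    { toFun := φf
      map_add' := fun c c' => inj _ _ (fun n => by
        rw [TensorProduct.tmul_add, hφ2, hφ2, hφ2, TensorProduct.tmul_add, map_add])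
      map_smul' := fun r c => inj _ _ (fun n => by
        rw [RingHom.id_apply, TensorProduct.tmul_smul, hφ2, hφ2, TensorProduct.tmul_smul,
          ← algebraMap_smul (A ⧸ Jn I n) r ((1 : A ⧸ Jn I n) ⊗ₜ[A] c), map_smul, algebraMap_smul]) }
  have hφl : ∀ c, φl c = φf c := fun c => rfl
  let φ : C →ₐ[A] B := AlgHom.ofLinearMap φl
    (inj _ _ (fun n => by
      rw [hφl, hφ2]
      exact map_one (ψ n)))
    (fun c c' => inj _ _ (fun n => by
      rw [hφl, hφl, hφl, hφ2]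
      have h1 : (1 : A ⧸ Jn I n) ⊗ₜ[A] (φf c * φf c') =
          ((1 : A ⧸ Jn I n) ⊗ₜ[A] φf c) * ((1 : A ⧸ Jn I n) ⊗ₜ[A] φf c') := by
        rw [Algebra.TensorProduct.tmul_mul_tmul, one_mul]
      have h2 : (1 : A ⧸ Jn I n) ⊗ₜ[A] (c * c') =
          ((1 : A ⧸ Jn I n) ⊗ₜ[A] c) * ((1 : A ⧸ Jn I n) ⊗ₜ[A] c') := by
        rw [Algebra.TensorProduct.tmul_mul_tmul, one_mul]
      rw [h1, h2, map_mul, hφ2, hφ2]))
  have hφ : ∀ c, φ c = φf c := fun c => rfl
  have hdef : ∀ c, (lin ((Bialgebra.comulAlgHom A B).comp φ) -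
      lin ((i1 (R := A) (A := B)).comp φ) * lin ((i2 (R := A) (A := B)).comp φ)) c = 0 := by
    intro c
    apply sepBB I e
    intro n
    have h1 := inN_defect (R := A) (K := A ⧸ Jn I n) Ideal.Quotient.mk_surjective (ψ n) φ
      (fun c => hφ2 n c) c
    have hk : RingHom.ker (algebraMap A (A ⧸ Jn I n)) = Jn I n := by
      rw [Ideal.Quotient.algebraMap_eq, Ideal.mk_ker]
    rw [hk] at h1
    rw [Ideal.smul_top_eq_map]
    exact h1
  have hc : postR (Bialgebra.comulAlgHom A B) (lin φ) =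
      postR (i1 (R := A) (A := B)) (lin φ) * postR (i2 (R := A) (A := B)) (lin φ) := by
    have h0 : lin ((Bialgebra.comulAlgHom A B).comp φ) -
        lin ((i1 (R := A) (A := B)).comp φ) * lin ((i2 (R := A) (A := B)).comp φ) = 0 := by
      apply WithConv.ext
      ext c
      exact hdef c
    exact sub_eq_zero.mp h0
  obtain ⟨Φ, hΦ⟩ := exists_bialgHom_of_comul_compat φ hc
  exact ⟨Φ, fun n c => by rw [hΦ, hφ]; exact (hφ2 n c).symm⟩

end Core

end Groth.Agent.Lib.Helper27.AdicLift
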