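import Mathlib
import Groth.Agent.Lib.Helper27.AdicLiftF
import Groth.Agent.Lib.Helper60.AdicProj

/-!
# Lifting homomorphisms over an adically complete base: final assembly (helper27)
-/

set_option autoImplicit false
universe u
open TensorProduct WithConv SGA3b

namespace Groth.Agent.Lib.Helper27.AdicLift

theorem bialgHom_lifts_adic (A : Type u) [CommRing A] [IsNoetherianRing A] (I : Ideal A)
    [IsAdicComplete I A]
    (B : Type u) [CommRing B] [HopfAlgebra A B] (hH : IsIsotrivial A B)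
    (C : Type u) [CommRing C] [HopfAlgebra A C] [Algebra.Smooth A C]
    (φ₀ : ((A ⧸ I) ⊗[A] C) →ₐc[A ⧸ I] ((A ⧸ I) ⊗[A] B)) :
    ∃ φ : C →ₐc[A] B, ∀ c : C, φ₀ ((1 : A ⧸ I) ⊗ₜ[A] c) = (1 : A ⧸ I) ⊗ₜ[A] (φ c) := by
  have hB : IsMultType A B := isMultType_of_isIsotrivial B hH
  obtain ⟨A', _, _, hEt, hfin, hff, M, _, ⟨e⟩⟩ := hH
  haveI := hfin
  haveI := hff
  haveI : Module.FinitePresentation A A' := Module.finitePresentation_of_finite A A'
  haveI : Module.Projective A A' := Module.Flat.projective_of_finitePresentation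
  haveI : IsAdicComplete I A' :=
    Groth.Agent.Lib.Helper60.AdicProj.isAdicComplete_of_finite_projective I
  obtain ⟨ψ, hψ0, hψ⟩ := exists_system I B C hB φ₀
  obtain ⟨Φ, hΦ⟩ := exists_algebraization I e ψ hψ
  refine ⟨Φ, fun c => ?_⟩
  have h := hΦ 0 c
  rw [hψ0] at h
  exact h

end Groth.Agent.Lib.Helper27.AdicLift
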