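import Groth.Agent.Lib.Helper27.MultRigid
import Groth.Prelude.Def_HopfRep
import Mathlib.LinearAlgebra.DirectSum.Finsupp
import Mathlib.LinearAlgebra.Projection

/-! Comodules over a group algebra `k[M]`: isotypic projections (helper27). -/

set_option autoImplicit false
open TensorProduct

namespace Groth.Agent.Lib.Helper27.ComodDiag

open Groth.Agent.Lib.Helper27.MultRigid HopfRep

universe u w

variable {k : Type u} [CommRing k] {M : Type u} [CommGroup M] [DecidableEq M]
variable {V : Type w} [AddCommGroup V] [Module k V]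

/-- the `m`-th coefficient of an element of `V ⊗ k[M]` -/
noncomputable def cf (m : M) : V ⊗[k] MonoidAlgebra k M →ₗ[k] V :=
  (TensorProduct.rid k V).toLinearMap ∘ₗ (coeffL (R' := k) m).lTensor V

@[simp] theorem cf_tmul (m : M) (v : V) (a : MonoidAlgebra k M) :
    cf m (v ⊗ₜ[k] a) = a.coeff m • v := by
  simp [cf]

/-- the equivalence `V ⊗ k[M] ≃ (M →₀ V)` -/
noncomputable def E : V ⊗[k] MonoidAlgebra k M ≃ₗ[k] (M →₀ V) :=
  (LinearEquiv.lTensor V (MonoidAlgebra.coeffLinearEquiv k)) ≪≫ₗ
    TensorProduct.finsuppScalarRight k k V M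

theorem E_apply (z : V ⊗[k] MonoidAlgebra k M) (m : M) : E z m = cf m z := by
  induction z using TensorProduct.induction_on with
  | zero => simp
  | tmul v a =>
    simp only [E, LinearEquiv.trans_apply, LinearEquiv.lTensor_tmul, cf_tmul]
    rw [TensorProduct.finsuppScalarRight_apply_tmul_apply]
    rfl
  | add x y hx hy => rw [map_add, Finsupp.add_apply, map_add, hx, hy]

theorem E_symm_single (m : M) (v : V) :
    (E (k := k) (M := M) (V := V)).symm (Finsupp.single m v) =
      v ⊗ₜ[k] MonoidAlgebra.single m (1 : k) := by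
  apply (E (k := k) (M := M) (V := V)).injective
  rw [LinearEquiv.apply_symm_apply]
  ext n
  rw [E_apply, cf_tmul]
  simp [Finsupp.single_apply, MonoidAlgebra.coeff_single]

theorem eq_sum_cf (z : V ⊗[k] MonoidAlgebra k M) :
    z = ∑ m ∈ (E z).support, cf m z ⊗ₜ[k] MonoidAlgebra.single m (1 : k) := by
  conv_lhs => rw [← (E (k := k) (M := M) (V := V)).symm_apply_apply z, ← Finsupp.sum_single (E z)]
  rw [Finsupp.sum, map_sum]
  exact Finset.sum_congr rfl fun m _ => by rw [E_symm_single, E_apply]

theorem cf_eq_zero_of_notMem {z : V ⊗[k] MonoidAlgebra k M} {m : M} (hm : m ∉ (E z).support) :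
    cf m z = 0 := by
  rw [← E_apply]; exact Finsupp.notMem_support_iff.1 hm


section Comod

variable [Comod k (MonoidAlgebra k M) V]

variable (k) in
/-- the isotypic projection -/
noncomputable def pr (m : M) : V →ₗ[k] V :=
  cf m ∘ₗ Comod.coact (k := k) (A := MonoidAlgebra k M)

variable (k) in
/-- the isotypic decomposition -/
noncomputable def dec : V →ₗ[k] (M →₀ V) :=
  (E (k := k) (M := M) (V := V)).toLinearMap ∘ₗ Comod.coact (k := k) (A := MonoidAlgebra k M)

theorem dec_apply (v : V) (m : M) : dec k (M := M) v m = pr k m v := E_apply _ m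

theorem coact_eq_sum (v : V) :
    Comod.coact (k := k) (A := MonoidAlgebra k M) v =
      ∑ m ∈ (dec k (M := M) v).support, pr k m v ⊗ₜ[k] MonoidAlgebra.single m (1 : k) :=
  eq_sum_cf _

theorem pr_eq_zero_of_notMem {v : V} {m : M} (hm : m ∉ (dec k (M := M) v).support) :
    pr k m v = 0 := by
  rw [← dec_apply]; exact Finsupp.notMem_support_iff.1 hm

theorem sum_pr (v : V) : ∑ m ∈ (dec k (M := M) v).support, pr k m v = v := by
  have h := LinearMap.congr_fun (Comod.counit_comp (k := k) (A := MonoidAlgebra k M) (V := V)) v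
  simp only [LinearMap.coe_comp, Function.comp_apply, LinearMap.flip_apply,
    TensorProduct.mk_apply] at h
  rw [coact_eq_sum, map_sum] at h
  have h2 := congrArg (TensorProduct.rid k V) h
  rw [map_sum] at h2
  simpa using h2

theorem sum_pr_of_subset (v : V) (s : Finset M) (hs : (dec k (M := M) v).support ⊆ s) :
    ∑ m ∈ s, pr k m v = v := by
  rw [← Finset.sum_subset hs fun m _ hm => pr_eq_zero_of_notMem hm]
  exact sum_pr v

/-- evaluation functional on `V ⊗ (k[M] ⊗ k[M])` -/
noncomputable def ev2 (m n : M) : V ⊗[k] (MonoidAlgebra k M ⊗[k] MonoidAlgebra k M) →ₗ[k] V :=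
  (TensorProduct.rid k V).toLinearMap ∘ₗ (evalL (R' := k) m n).lTensor V

omit [Comod k (MonoidAlgebra k M) V] in
theorem ev2_assoc (m n : M) (w : V ⊗[k] MonoidAlgebra k M) (a : MonoidAlgebra k M) :
    ev2 m n (TensorProduct.assoc k V _ _ (w ⊗ₜ[k] a)) = a.coeff n • cf m w := by
  induction w using TensorProduct.induction_on with
  | zero => simp
  | tmul u a' =>
    simp only [TensorProduct.assoc_tmul, ev2, LinearMap.coe_comp, LinearEquiv.coe_coe,
      Function.comp_apply, LinearMap.lTensor_tmul, evalL_tmul, TensorProduct.rid_tmul, cf_tmul]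
    rw [smul_smul, mul_comm]
  | add x y hx hy => rw [TensorProduct.add_tmul, map_add, map_add, hx, hy, map_add, smul_add]

theorem ev2_left (m n : M) (z : V ⊗[k] MonoidAlgebra k M) :
    ev2 m n (TensorProduct.assoc k V _ _
      ((Comod.coact (k := k) (A := MonoidAlgebra k M)).rTensor (MonoidAlgebra k M) z)) =
      pr k m (cf n z) := by
  induction z using TensorProduct.induction_on with
  | zero => simp
  | tmul v a =>
    rw [LinearMap.rTensor_tmul, ev2_assoc, cf_tmul, map_smul]
    rfl
  | add x y hx hy => simp only [map_add, hx, hy]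

omit [Comod k (MonoidAlgebra k M) V] in
theorem ev2_right (m n : M) (z : V ⊗[k] MonoidAlgebra k M) :
    ev2 m n ((Coalgebra.comul (R := k) (A := MonoidAlgebra k M)).lTensor V z) =
      if m = n then cf m z else 0 := by
  induction z using TensorProduct.induction_on with
  | zero => simp
  | tmul v a =>
    simp only [LinearMap.lTensor_tmul, ev2, LinearMap.coe_comp, LinearEquiv.coe_coe,
      Function.comp_apply, TensorProduct.rid_tmul, cf_tmul]
    rw [evalL_comul]
    split_ifs <;> simp
  | add x y hx hy =>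
    simp only [map_add, hx, hy]
    split_ifs <;> simp

theorem pr_pr (m n : M) (v : V) : pr k m (pr k n v) = if m = n then pr k m v else 0 := by
  have h := LinearMap.congr_fun (Comod.coassoc (k := k) (A := MonoidAlgebra k M) (V := V)) v
  simp only [LinearMap.coe_comp, LinearEquiv.coe_coe, Function.comp_apply] at h
  have h2 := congrArg (ev2 m n) h
  rw [ev2_left, ev2_right] at h2
  exact h2

theorem pr_mem_of_isSubcomod {W : Submodule k V}
    (hW : IsSubcomod (k := k) (A := MonoidAlgebra k M) W) (m : M) {w : V} (hw : w ∈ W) :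
    pr k m w ∈ W := by
  obtain ⟨t, ht⟩ := hW w hw
  change cf m (Comod.coact (k := k) (A := MonoidAlgebra k M) w) ∈ W
  rw [← ht]
  clear ht
  induction t using TensorProduct.induction_on with
  | zero => simp
  | tmul w' a =>
    rw [LinearMap.rTensor_tmul, cf_tmul]
    exact W.smul_mem _ w'.2
  | add x y hx hy =>
    rw [map_add, map_add]
    exact W.add_mem hx hy

theorem isSubcomod_of_pr_mem {U : Submodule k V} (hU : ∀ (m : M) (u : V), u ∈ U → pr k m u ∈ U) :
    IsSubcomod (k := k) (A := MonoidAlgebra k M) U := by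
  intro u hu
  refine ⟨∑ m ∈ (dec k (M := M) u).support,
    (⟨pr k m u, hU m u hu⟩ : U) ⊗ₜ[k] MonoidAlgebra.single m (1 : k), ?_⟩
  rw [map_sum, coact_eq_sum]
  exact Finset.sum_congr rfl fun m _ => rfl

end Comod

end Groth.Agent.Lib.Helper27.ComodDiag
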