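import Mathlib.RingTheory.DividedPowers.Basic
import Mathlib.RingTheory.DividedPowers.DPMorphism
import Mathlib.RingTheory.DividedPowers.SubDPIdeal
import Mathlib.RingTheory.DividedPowers.RatAlgebra
import Mathlib.LinearAlgebra.Basis.Defs
import Mathlib.Algebra.Algebra.Bilinear

/-! General lemmas on divided powers (helper27): pull-back along an injective ring map,
algebra maps defined on a basis with structure constants, products of divided-power monomials. -/

set_option autoImplicit false
open Finset

namespace Groth.Agent.Lib.Helper27.DPGen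

section Restrict

variable {A : Type*} [CommRing A] {I : Ideal A} (hI : DividedPowers I)
  {S : Type*} [CommRing S] (ι : S →+* A) (J : Ideal S)

/-- Pull back a divided power structure along an injective ring map, for an ideal `J` mapping into
`I` whose image is stable under the divided powers. -/
theorem exists_restrict (hι : Function.Injective ι) (hJI : ∀ x ∈ J, ι x ∈ I)
    (hmem : ∀ n : ℕ, n ≠ 0 → ∀ x ∈ J, ∃ y ∈ J, ι y = hI.dpow n (ι x)) :
    ∃ hJ : DividedPowers J, ∀ (n : ℕ) (x : S), x ∈ J → ι (hJ.dpow n x) = hI.dpow n (ι x) := by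
  classical
  have hmem' : ∀ n : ℕ, ∀ x ∈ J, ∃ y : S, (n ≠ 0 → y ∈ J) ∧ ι y = hI.dpow n (ι x) := by
    intro n x hx
    by_cases hn : n = 0
    · exact ⟨1, fun h => absurd hn h, by rw [hn, hI.dpow_zero (hJI x hx), map_one]⟩
    · obtain ⟨y, hy, hy'⟩ := hmem n hn x hx
      exact ⟨y, fun _ => hy, hy'⟩
  let dp : ℕ → S → S := fun n x => if hx : x ∈ J then (hmem' n x hx).choose else 0
  have dp_spec : ∀ n x, x ∈ J → ι (dp n x) = hI.dpow n (ι x) := by
    intro n x hx
    simp only [dp, dif_pos hx]
    exact (hmem' n x hx).choose_spec.2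
  have dp_mem : ∀ n x, n ≠ 0 → x ∈ J → dp n x ∈ J := by
    intro n x hn hx
    simp only [dp, dif_pos hx]
    exact (hmem' n x hx).choose_spec.1 hn
  refine ⟨{
    dpow := dp
    dpow_null := fun {n x} hx => by simp only [dp, dif_neg hx]
    dpow_zero := fun {x} hx => hι (by rw [dp_spec 0 x hx, hI.dpow_zero (hJI x hx), map_one])
    dpow_one := fun {x} hx => hι (by rw [dp_spec 1 x hx, hI.dpow_one (hJI x hx)])
    dpow_mem := fun {n x} hn hx => dp_mem n x hn hx
    dpow_add := fun {n x y} hx hy => hι (by
      rw [dp_spec n _ (J.add_mem hx hy), map_add, hI.dpow_add (hJI x hx) (hJI y hy), map_sum]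
      refine Finset.sum_congr rfl fun k _ => ?_
      rw [map_mul, dp_spec _ x hx, dp_spec _ y hy])
    dpow_mul := fun {n a x} hx => hι (by
      rw [dp_spec n _ (J.mul_mem_left a hx), map_mul, hI.dpow_mul (hJI x hx), map_mul, map_pow,
        dp_spec n x hx])
    mul_dpow := fun {m n x} hx => hι (by
      rw [map_mul, dp_spec m x hx, dp_spec n x hx, hI.mul_dpow (hJI x hx), map_mul, map_natCast,
        dp_spec _ x hx])
    dpow_comp := fun {m n x} hn hx => hι (by
      rw [dp_spec m _ (dp_mem n x hn hx), dp_spec n x hx, hI.dpow_comp hn (hJI x hx), map_mul,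
        map_natCast, dp_spec _ x hx]) }, fun n x hx => dp_spec n x hx⟩

end Restrict

section BasisAlgHom

variable {Z A B : Type*} [CommRing Z] [CommRing A] [Algebra Z A] [CommRing B] [Algebra Z B]
  {ι : Type*} [AddMonoid ι]

/-- An algebra map defined on a basis whose structure constants match those of a family in the
target. -/
theorem exists_algHom_of_basis (β : Module.Basis ι Z A) (c : ι → ι → Z) (hβ0 : β 0 = 1)
    (hβmul : ∀ e e', β e * β e' = c e e' • β (e + e'))
    (b : ι → B) (hb0 : b 0 = 1) (hbmul : ∀ e e', b e * b e' = c e e' • b (e + e')) :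
    ∃ Φ : A →ₐ[Z] B, ∀ e, Φ (β e) = b e := by
  set Φl : A →ₗ[Z] B := β.constr Z b with hΦl
  have hΦβ : ∀ e, Φl (β e) = b e := fun e => by rw [hΦl, Module.Basis.constr_basis]
  have h1 : Φl 1 = 1 := by rw [← hβ0, hΦβ, hb0]
  have hmul : ∀ x y : A, Φl (x * y) = Φl x * Φl y := by
    rw [LinearMap.map_mul_iff]
    refine β.ext fun e => β.ext fun e' => ?_
    simp only [LinearMap.compr₂_apply, LinearMap.mul_apply', LinearMap.compl₂_apply,
      LinearMap.coe_comp, Function.comp_apply]
    rw [hβmul, map_smul, hΦβ, hΦβ, hΦβ, hbmul]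
  exact ⟨AlgHom.ofLinearMap Φl h1 hmul, fun e => hΦβ e⟩

end BasisAlgHom

section Monomials

variable {A : Type*} [CommRing A] {κ : Type*} [Fintype κ] (x : κ → ℕ → A)

/-- the monomial `∏ i, x i (e i)` -/
def mon (e : κ → ℕ) : A := ∏ i, x i (e i)

/-- the product of binomial coefficients -/
def binom (e e' : κ → ℕ) : ℕ := ∏ i, (e i + e' i).choose (e i)

theorem mon_mul (hxmul : ∀ i n m, x i n * x i m = ((n + m).choose n : A) * x i (n + m))
    (e e' : κ → ℕ) : mon x e * mon x e' = (binom e e' : A) * mon x (e + e') := by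
  unfold mon binom
  rw [← Finset.prod_mul_distrib, Nat.cast_prod, ← Finset.prod_mul_distrib]
  exact Finset.prod_congr rfl fun i _ => hxmul i (e i) (e' i)

theorem mon_zero (hx0 : ∀ i, x i 0 = 1) : mon x (0 : κ → ℕ) = 1 := by
  unfold mon
  exact Finset.prod_eq_one fun i _ => hx0 i

end Monomials

end Groth.Agent.Lib.Helper27.DPGen
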