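import Groth.Agent.Lib.Helper27.DPGeneral
import Mathlib.Algebra.MvPolynomial.CommRing
import Mathlib.RingTheory.Localization.FractionRing
import Mathlib.Algebra.MvPolynomial.Eval
import Mathlib.Algebra.CharZero.Defs
import Mathlib.RingTheory.Polynomial.Basic
import Mathlib.Combinatorics.Enumerative.Bell
import Mathlib.Algebra.CharP.Algebra
import Mathlib.RingTheory.MvPolynomial.Basic
import Mathlib.Algebra.Algebra.Rat

/-! A torsion-free model of the divided power polynomial algebra (helper27):
the subalgebra of `K[X_1..X_N]` spanned over `Z = ℤ[T_r : r ∈ R]` by the monomials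
`X^e / e!`, with its divided power structure on the augmentation ideal. -/

set_option autoImplicit false
open Finset

namespace Groth.Agent.Lib.Helper27.DPModel

open Groth.Agent.Lib.Helper27.DPGen

universe u

variable (R : Type u) [CommRing R] (N : ℕ)

/-- the generic coefficient ring -/
abbrev Zr : Type u := MvPolynomial R ℤ
/-- its fraction field -/
abbrev Kr : Type u := FractionRing (Zr R)
/-- the ambient polynomial ring -/
abbrev QQ : Type u := MvPolynomial (Fin N) (Kr R)

/-- the augmentation ideal of the ambient ring -/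
noncomputable def IK : Ideal (QQ R N) :=
  RingHom.ker (MvPolynomial.constantCoeff (R := Kr R) (σ := Fin N))

/-- the divided powers `x ↦ x^n / n!` on the augmentation ideal -/
noncomputable def hK : DividedPowers (IK R N) := by
  classical exact DividedPowers.RatAlgebra.dividedPowers (IK R N)

theorem X_mem (i : Fin N) : (MvPolynomial.X i : QQ R N) ∈ IK R N := by
  simp [IK, RingHom.mem_ker]

/-- `X_i^n / n!` -/
noncomputable def xq (i : Fin N) (n : ℕ) : QQ R N := (hK R N).dpow n (MvPolynomial.X i)

theorem xq_zero (i : Fin N) : xq R N i 0 = 1 := (hK R N).dpow_zero (X_mem R N i)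

theorem xq_one (i : Fin N) : xq R N i 1 = MvPolynomial.X i := (hK R N).dpow_one (X_mem R N i)

theorem xq_mul (i : Fin N) (n m : ℕ) :
    xq R N i n * xq R N i m = ((n + m).choose n : QQ R N) * xq R N i (n + m) :=
  (hK R N).mul_dpow (X_mem R N i)

theorem xq_mem (i : Fin N) {n : ℕ} (hn : n ≠ 0) : xq R N i n ∈ IK R N :=
  (hK R N).dpow_mem hn (X_mem R N i)

theorem dpow_xq (i : Fin N) (n : ℕ) {k : ℕ} (hk : k ≠ 0) :
    (hK R N).dpow n (xq R N i k) = (Nat.uniformBell n k : QQ R N) * xq R N i (n * k) :=
  (hK R N).dpow_comp hk (X_mem R N i)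

theorem factorial_mul_xq (i : Fin N) (n : ℕ) :
    (n.factorial : QQ R N) * xq R N i n = MvPolynomial.X i ^ n :=
  DividedPowers.factorial_mul_dpow_eq_pow (hK R N) (X_mem R N i)

/-- `X^e / e!` -/
noncomputable def monq (e : Fin N →₀ ℕ) : QQ R N := mon (xq R N) e

/-- `e!` -/
def efac (e : Fin N →₀ ℕ) : ℕ := ∏ i, (e i).factorial

theorem efac_ne_zero (e : Fin N →₀ ℕ) : efac N e ≠ 0 :=
  Finset.prod_ne_zero_iff.2 fun i _ => Nat.factorial_ne_zero _

theorem efac_mul_monq (e : Fin N →₀ ℕ) :
    (efac N e : QQ R N) * monq R N e = MvPolynomial.monomial e 1 := by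
  unfold efac monq mon
  rw [Nat.cast_prod, ← Finset.prod_mul_distrib, MvPolynomial.monomial_eq, map_one, one_mul,
    Finsupp.prod_fintype _ _ (fun i => pow_zero _)]
  exact Finset.prod_congr rfl fun i _ => factorial_mul_xq R N i (e i)

theorem efac_mul_coeff_monq [DecidableEq (Fin N →₀ ℕ)] (e e' : Fin N →₀ ℕ) :
    (efac N e : Kr R) * MvPolynomial.coeff e' (monq R N e) = if e = e' then 1 else 0 := by
  have h := congrArg (MvPolynomial.coeff e') (efac_mul_monq R N e)
  rw [MvPolynomial.coeff_monomial] at h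
  have : (efac N e : QQ R N) = MvPolynomial.C (efac N e : Kr R) := by simp
  rw [this, MvPolynomial.coeff_C_mul] at h
  convert h

theorem coeff_monq_of_ne {e e' : Fin N →₀ ℕ} (h : e ≠ e') :
    MvPolynomial.coeff e' (monq R N e) = 0 := by
  classical
  have h1 := efac_mul_coeff_monq R N e e'
  rw [if_neg h] at h1
  have h2 : (efac N e : Kr R) ≠ 0 := Nat.cast_ne_zero.2 (efac_ne_zero N e)
  exact (mul_eq_zero.1 h1).resolve_left h2

theorem coeff_monq_self_ne_zero (e : Fin N →₀ ℕ) :
    MvPolynomial.coeff e (monq R N e) ≠ 0 := by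
  classical
  have h1 := efac_mul_coeff_monq R N e e
  rw [if_pos rfl] at h1
  intro h0
  rw [h0, mul_zero] at h1
  exact zero_ne_one h1

theorem monq_zero : monq R N 0 = 1 := mon_zero (xq R N) (xq_zero R N)

theorem monq_mul (e e' : Fin N →₀ ℕ) :
    monq R N e * monq R N e' = (binom (κ := Fin N) e e' : QQ R N) * monq R N (e + e') := by
  unfold monq
  rw [mon_mul (xq R N) (xq_mul R N), Finsupp.coe_add]

theorem monq_single (i : Fin N) (k : ℕ) : monq R N (Finsupp.single i k) = xq R N i k := by
  classical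
  unfold monq mon
  rw [Finset.prod_eq_single i]
  · rw [Finsupp.single_eq_same]
  · intro j _ hj
    rw [Finsupp.single_eq_of_ne hj, xq_zero]
  · intro h; exact absurd (Finset.mem_univ i) h

theorem linearIndependent_monq : LinearIndependent (Zr R) (monq R N) := by
  classical
  rw [linearIndependent_iff']
  intro s g hg e he
  have h := congrArg (MvPolynomial.coeff e) hg
  rw [MvPolynomial.coeff_sum, MvPolynomial.coeff_zero] at h
  rw [Finset.sum_eq_single e] at h
  · rw [MvPolynomial.coeff_smul, Algebra.smul_def] at h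
    have h2 := (mul_eq_zero.1 h).resolve_right (coeff_monq_self_ne_zero R N e)
    exact (FaithfulSMul.algebraMap_injective (Zr R) (Kr R)) (by rw [h2, map_zero])
  · intro e' _ hne
    rw [MvPolynomial.coeff_smul, coeff_monq_of_ne R N hne, smul_zero]
  · intro h'; exact absurd he h'

/-- the span of the divided monomials -/
noncomputable def PZmod : Submodule (Zr R) (QQ R N) := Submodule.span (Zr R) (Set.range (monq R N))

theorem monq_mem (e : Fin N →₀ ℕ) : monq R N e ∈ PZmod R N :=
  Submodule.subset_span ⟨e, rfl⟩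

theorem PZmod_mul_le : PZmod R N * PZmod R N ≤ PZmod R N := by
  unfold PZmod
  rw [Submodule.span_mul_span, Submodule.span_le]
  rintro _ ⟨_, ⟨e, rfl⟩, _, ⟨e', rfl⟩, rfl⟩
  change monq R N e * monq R N e' ∈ _
  rw [monq_mul]
  have : ((binom (κ := Fin N) e e' : ℕ) : QQ R N) * monq R N (e + e') =
      ((binom (κ := Fin N) e e' : ℕ) : Zr R) • monq R N (e + e') := by
    rw [Algebra.smul_def, map_natCast]
  rw [this]
  exact Submodule.smul_mem _ _ (Submodule.subset_span ⟨_, rfl⟩)

/-- the torsion-free model, as a subalgebra -/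
noncomputable def PZ : Subalgebra (Zr R) (QQ R N) :=
  (PZmod R N).toSubalgebra (by rw [← monq_zero R N]; exact monq_mem R N 0)
    (fun x y hx hy => PZmod_mul_le R N (Submodule.mul_mem_mul hx hy))

theorem mem_PZ_iff {y : QQ R N} : y ∈ PZ R N ↔ y ∈ PZmod R N := Iff.rfl

theorem xq_mem_PZ (i : Fin N) (k : ℕ) : xq R N i k ∈ PZ R N := by
  rw [← monq_single]; exact monq_mem R N _

/-- the basis vectors -/
noncomputable def bv (e : Fin N →₀ ℕ) : PZ R N := ⟨monq R N e, monq_mem R N e⟩

theorem linearIndependent_bv : LinearIndependent (Zr R) (bv R N) :=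
  LinearIndependent.of_comp (PZ R N).val.toLinearMap (linearIndependent_monq R N)

theorem span_bv : ⊤ ≤ Submodule.span (Zr R) (Set.range (bv R N)) := by
  rintro ⟨y, hy⟩ -
  have key : ∀ (x : QQ R N) (hx : x ∈ Submodule.span (Zr R) (Set.range (monq R N))),
      (⟨x, hx⟩ : PZ R N) ∈ Submodule.span (Zr R) (Set.range (bv R N)) := by
    intro x hx
    induction hx using Submodule.span_induction with
    | mem x h =>
      obtain ⟨e, rfl⟩ := h
      exact Submodule.subset_span ⟨e, rfl⟩
    | zero => exact Submodule.zero_mem _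
    | add x y hx hy ihx ihy => exact Submodule.add_mem _ ihx ihy
    | smul a x hx ih => exact Submodule.smul_mem _ a ih
  exact key y hy

/-- the basis of the model -/
noncomputable def βZ : Module.Basis (Fin N →₀ ℕ) (Zr R) (PZ R N) :=
  Module.Basis.mk (linearIndependent_bv R N) (span_bv R N)

theorem βZ_apply (e : Fin N →₀ ℕ) : βZ R N e = bv R N e := Module.Basis.mk_apply _ _ e

theorem coe_βZ (e : Fin N →₀ ℕ) : ((βZ R N e : PZ R N) : QQ R N) = monq R N e := by
  rw [βZ_apply]; rfl

theorem βZ_zero : βZ R N 0 = 1 := by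
  apply Subtype.ext
  rw [coe_βZ, monq_zero]; rfl

theorem βZ_mul (e e' : Fin N →₀ ℕ) :
    βZ R N e * βZ R N e' = ((binom (κ := Fin N) e e' : ℕ) : Zr R) • βZ R N (e + e') := by
  apply Subtype.ext
  change ((βZ R N e : PZ R N) : QQ R N) * ((βZ R N e' : PZ R N) : QQ R N) =
    ((binom (κ := Fin N) e e' : ℕ) : Zr R) • ((βZ R N (e + e') : PZ R N) : QQ R N)
  rw [coe_βZ, coe_βZ, coe_βZ, monq_mul, Algebra.smul_def, map_natCast]

end Groth.Agent.Lib.Helper27.DPModel
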