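import Groth.Agent.Lib.Helper27.DPModel

/-! The divided power structure on the augmentation ideal of the torsion-free model (helper27). -/

set_option autoImplicit false
open Finset

namespace Groth.Agent.Lib.Helper27.DPModel

open Groth.Agent.Lib.Helper27.DPGen

universe u

variable (R : Type u) [CommRing R] (N : ℕ)

/-- the augmentation ideal of the model -/
noncomputable def JZ : Ideal (PZ R N) :=
  Ideal.span {y | ∃ e : Fin N →₀ ℕ, e ≠ 0 ∧ y = βZ R N e}

theorem βZ_mem_JZ {e : Fin N →₀ ℕ} (he : e ≠ 0) : βZ R N e ∈ JZ R N :=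
  Ideal.subset_span ⟨e, he, rfl⟩

theorem smul_βZ_mem_JZ (z : Zr R) {e : Fin N →₀ ℕ} (he : e ≠ 0) : z • βZ R N e ∈ JZ R N := by
  rw [Algebra.smul_def]
  exact Ideal.mul_mem_left _ _ (βZ_mem_JZ R N he)

theorem monq_mem_IK {e : Fin N →₀ ℕ} (he : e ≠ 0) : monq R N e ∈ IK R N := by
  obtain ⟨i, hi⟩ : ∃ i, e i ≠ 0 := by
    by_contra h
    push_neg at h
    exact he (Finsupp.ext h)
  unfold monq mon
  exact Ideal.prod_mem _ (Finset.mem_univ i) (xq_mem R N i hi)

theorem coe_mem_IK {y : PZ R N} (hy : y ∈ JZ R N) : (y : QQ R N) ∈ IK R N := by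
  unfold JZ at hy
  induction hy using Submodule.span_induction with
  | mem x h =>
    obtain ⟨e, he, rfl⟩ := h
    rw [coe_βZ]; exact monq_mem_IK R N he
  | zero => exact (IK R N).zero_mem
  | add x y _ _ hx hy => exact (IK R N).add_mem hx hy
  | smul a x _ hx => exact (IK R N).mul_mem_left _ hx

theorem dpow_mem_JZ (y : PZ R N) (hy : y ∈ JZ R N) :
    ∀ n : ℕ, ∃ y' : PZ R N, (n ≠ 0 → y' ∈ JZ R N) ∧
      (y' : QQ R N) = (hK R N).dpow n (y : QQ R N) := by
  classical
  unfold JZ at hy
  induction hy using Submodule.span_induction with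
  | mem x h =>
    obtain ⟨e, he, rfl⟩ := h
    intro n
    obtain ⟨i, hi⟩ : ∃ i, e i ≠ 0 := by
      by_contra h
      push_neg at h
      exact he (Finsupp.ext h)
    set a : QQ R N := ∏ j ∈ Finset.univ.erase i, xq R N j (e j) with ha
    have haP : a ∈ PZ R N := Subalgebra.prod_mem _ fun j _ => xq_mem_PZ R N j (e j)
    have hdec : monq R N e = a * xq R N i (e i) := by
      unfold monq mon
      rw [ha, Finset.prod_erase_mul _ _ (Finset.mem_univ i)]
    refine ⟨(⟨a, haP⟩ : PZ R N) ^ n * ((Nat.uniformBell n (e i) : ℕ) : PZ R N) *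
      βZ R N (Finsupp.single i (n * e i)), ?_, ?_⟩
    · intro hn
      refine Ideal.mul_mem_left _ _ (βZ_mem_JZ R N ?_)
      intro h0
      have := congrArg (fun f => f i) h0
      simp only [Finsupp.single_eq_same, Finsupp.coe_zero, Pi.zero_apply] at this
      exact (Nat.mul_ne_zero hn hi) this
    · rw [coe_βZ, hdec, (hK R N).dpow_mul (xq_mem R N i hi), dpow_xq R N i n hi]
      push_cast
      rw [coe_βZ, monq_single, mul_assoc]
  | zero =>
    intro n
    by_cases hn : n = 0
    · subst hn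
      refine ⟨1, fun h => absurd rfl h, ?_⟩
      change (1 : QQ R N) = (hK R N).dpow 0 0
      rw [(hK R N).dpow_zero (IK R N).zero_mem]
    · refine ⟨0, fun _ => (JZ R N).zero_mem, ?_⟩
      change (0 : QQ R N) = (hK R N).dpow n 0
      rw [(hK R N).dpow_eval_zero hn]
  | add x y hx hy ihx ihy =>
    intro n
    choose U hU hU' using ihx
    choose V hV hV' using ihy
    refine ⟨∑ k ∈ Finset.antidiagonal n, U k.1 * V k.2, ?_, ?_⟩
    · intro hn
      refine Submodule.sum_mem _ fun k hk => ?_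
      rw [Finset.mem_antidiagonal] at hk
      by_cases h1 : k.1 = 0
      · have h2 : k.2 ≠ 0 := by omega
        exact Ideal.mul_mem_left _ _ (hV _ h2)
      · exact Ideal.mul_mem_right _ _ (hU _ h1)
    · change ((∑ k ∈ Finset.antidiagonal n, U k.1 * V k.2 : PZ R N) : QQ R N) =
        (hK R N).dpow n ((x : QQ R N) + (y : QQ R N))
      rw [(hK R N).dpow_add (coe_mem_IK R N hx) (coe_mem_IK R N hy)]
      push_cast
      exact Finset.sum_congr rfl fun k _ => by rw [hU', hV']
  | smul a x hx ih =>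
    intro n
    obtain ⟨u, hu, hu'⟩ := ih n
    refine ⟨a ^ n * u, fun hn => Ideal.mul_mem_left _ _ (hu hn), ?_⟩
    change ((a ^ n * u : PZ R N) : QQ R N) = (hK R N).dpow n ((a : QQ R N) * (x : QQ R N))
    rw [(hK R N).dpow_mul (coe_mem_IK R N hx)]
    push_cast
    rw [hu']

theorem exists_hZ : ∃ hZ : DividedPowers (JZ R N), ∀ (n : ℕ) (y : PZ R N), y ∈ JZ R N →
    ((hZ.dpow n y : PZ R N) : QQ R N) = (hK R N).dpow n (y : QQ R N) :=
  exists_restrict (S := PZ R N) (hK R N) ((PZ R N).val : PZ R N →+* QQ R N) (JZ R N)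
    Subtype.val_injective
    (fun x (hx : x ∈ JZ R N) => coe_mem_IK R N hx) (fun n hn x (hx : x ∈ JZ R N) => by
      obtain ⟨y', h1, h2⟩ := dpow_mem_JZ R N x hx n
      exact ⟨y', h1 hn, h2⟩)

/-- the divided power structure of the model -/
noncomputable def hZ : DividedPowers (JZ R N) := (exists_hZ R N).choose

theorem coe_hZ_dpow (n : ℕ) {y : PZ R N} (hy : y ∈ JZ R N) :
    (((hZ R N).dpow n y : PZ R N) : QQ R N) = (hK R N).dpow n (y : QQ R N) :=
  (exists_hZ R N).choose_spec n y hy

theorem hZ_dpow_single (i : Fin N) (n : ℕ) :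
    (hZ R N).dpow n (βZ R N (Finsupp.single i 1)) = βZ R N (Finsupp.single i n) := by
  apply Subtype.ext
  rw [coe_hZ_dpow R N n (βZ_mem_JZ R N (by simp)), coe_βZ, coe_βZ, monq_single, monq_single,
    xq_one]
  rfl

theorem coeff_coe (y : PZ R N) (e : Fin N →₀ ℕ) :
    MvPolynomial.coeff e (y : QQ R N) =
      algebraMap (Zr R) (Kr R) ((βZ R N).repr y e) * MvPolynomial.coeff e (monq R N e) := by
  classical
  conv_lhs => rw [← (βZ R N).linearCombination_repr y]
  rw [Finsupp.linearCombination_apply, Finsupp.sum]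
  change MvPolynomial.coeff e ((PZ R N).val (∑ a ∈ ((βZ R N).repr y).support,
    ((βZ R N).repr y) a • (βZ R N) a)) = _
  rw [map_sum, MvPolynomial.coeff_sum]
  by_cases he : e ∈ ((βZ R N).repr y).support
  · rw [Finset.sum_eq_single e]
    · rw [map_smul, MvPolynomial.coeff_smul, Algebra.smul_def]
      congr 2
      exact coe_βZ R N e
    · intro e' _ hne
      rw [map_smul, MvPolynomial.coeff_smul]
      change _ • MvPolynomial.coeff e ((βZ R N e' : PZ R N) : QQ R N) = 0
      rw [coe_βZ, coeff_monq_of_ne R N hne, smul_zero]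
    · intro h; exact absurd he h
  · rw [Finsupp.notMem_support_iff.1 he, map_zero, zero_mul]
    refine Finset.sum_eq_zero fun e' he' => ?_
    have hne : e' ≠ e := fun h => he (h ▸ he')
    rw [map_smul, MvPolynomial.coeff_smul]
    change _ • MvPolynomial.coeff e ((βZ R N e' : PZ R N) : QQ R N) = 0
    rw [coe_βZ, coeff_monq_of_ne R N hne, smul_zero]

theorem repr_zero_of_mem {y : PZ R N} (hy : y ∈ JZ R N) : (βZ R N).repr y 0 = 0 := by
  have h0 : MvPolynomial.coeff 0 (y : QQ R N) = 0 := by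
    have := coe_mem_IK R N hy
    rw [IK, RingHom.mem_ker, MvPolynomial.constantCoeff_eq] at this
    exact this
  rw [coeff_coe] at h0
  have h2 := (mul_eq_zero.1 h0).resolve_right (coeff_monq_self_ne_zero R N 0)
  exact (FaithfulSMul.algebraMap_injective (Zr R) (Kr R)) (by rw [h2, map_zero])

end Groth.Agent.Lib.Helper27.DPModel
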