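import Groth.Agent.Lib.Helper27.DPModel2

/-! Existence and uniqueness of the divided power structure on the augmentation ideal of a
divided power polynomial algebra (helper27). -/

set_option autoImplicit false
open Finset

namespace Groth.Agent.Lib.Helper27.DPModel

open Groth.Agent.Lib.Helper27.DPGen

universe u v

section Unique

variable {P : Type v} [CommRing P] {N : ℕ} (x : Fin N → ℕ → P)

theorem dp_unique
    (γ γ' : DividedPowers (Ideal.span {y : P | ∃ (i : Fin N) (n : ℕ), 1 ≤ n ∧ y = x i n}))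
    (h : ∀ (i : Fin N) (n : ℕ), γ.dpow n (x i 1) = x i n)
    (h' : ∀ (i : Fin N) (n : ℕ), γ'.dpow n (x i 1) = x i n) : γ' = γ := by
  refine DividedPowers.dpow_eq_from_gens γ γ' rfl ?_
  rintro n a ⟨i, k, hk, rfl⟩
  have hmem : x i 1 ∈ Ideal.span {y : P | ∃ (i : Fin N) (n : ℕ), 1 ≤ n ∧ y = x i n} :=
    Ideal.subset_span ⟨i, 1, le_rfl, rfl⟩
  have hk0 : k ≠ 0 := by omega
  calc γ.dpow n (x i k) = γ.dpow n (γ.dpow k (x i 1)) := by rw [h]
    _ = (Nat.uniformBell n k : P) * γ.dpow (n * k) (x i 1) := γ.dpow_comp hk0 hmem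
    _ = (Nat.uniformBell n k : P) * γ'.dpow (n * k) (x i 1) := by rw [h, h']
    _ = γ'.dpow n (γ'.dpow k (x i 1)) := (γ'.dpow_comp hk0 hmem).symm
    _ = γ'.dpow n (x i k) := by rw [h']

end Unique


section Exists

variable (R : Type u) [CommRing R] (N : ℕ) {P : Type v} [CommRing P] [Algebra R P]
  (x : Fin N → ℕ → P)

/-- evaluation of the generic coefficient ring -/
noncomputable def ev : Zr R →+* R := (MvPolynomial.aeval (R := ℤ) (fun r : R => r)).toRingHom

theorem ev_X (r : R) : ev R (MvPolynomial.X r) = r := by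
  simp [ev]

theorem exists_dp (hx0 : ∀ i, x i 0 = 1)
    (hxmul : ∀ i n m, x i n * x i m = ((n + m).choose n : P) * x i (n + m))
    (b : Module.Basis (Fin N →₀ ℕ) R P) (hb : ∀ e : Fin N →₀ ℕ, b e = e.prod (fun i k => x i k)) :
    ∃ γ : DividedPowers (Ideal.span {y : P | ∃ (i : Fin N) (n : ℕ), 1 ≤ n ∧ y = x i n}),
      ∀ (i : Fin N) (n : ℕ), γ.dpow n (x i 1) = x i n := by
  classical
  letI algZP : Algebra (Zr R) P := ((algebraMap R P).comp (ev R)).toAlgebra
  have halg : ∀ z : Zr R, algebraMap (Zr R) P z = algebraMap R P (ev R z) := fun z => rfl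
  have hsmul : ∀ (z : Zr R) (p : P), z • p = ev R z • p := fun z p => by
    rw [Algebra.smul_def, Algebra.smul_def, halg]
  have hbmon : ∀ e : Fin N →₀ ℕ, b e = mon x e := by
    intro e
    rw [hb, Finsupp.prod_fintype _ _ (fun i => hx0 i)]
    rfl
  have hb0 : b 0 = 1 := by rw [hbmon]; exact mon_zero x hx0
  have hbmul : ∀ e e' : Fin N →₀ ℕ,
      b e * b e' = ((binom (κ := Fin N) e e' : ℕ) : Zr R) • b (e + e') := by
    intro e e'
    rw [hbmon, hbmon, hbmon, mon_mul x hxmul, Finsupp.coe_add, Algebra.smul_def, map_natCast]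
  obtain ⟨Φ, hΦ⟩ := exists_algHom_of_basis (Z := Zr R) (A := PZ R N) (B := P)
    (ι := Fin N →₀ ℕ) (βZ R N)
    (fun (e e' : Fin N →₀ ℕ) => ((binom (κ := Fin N) e e' : ℕ) : Zr R)) (βZ_zero R N) (βZ_mul R N) b hb0 hbmul
  -- formula for `Φ`
  have hΦrepr : ∀ y : PZ R N, Φ y =
      ∑ e ∈ ((βZ R N).repr y).support, ev R ((βZ R N).repr y e) • b e := by
    intro y
    conv_lhs => rw [← (βZ R N).linearCombination_repr y]
    rw [Finsupp.linearCombination_apply, Finsupp.sum, map_sum]
    exact Finset.sum_congr rfl fun e _ => by rw [map_smul, hΦ, hsmul]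
  -- surjectivity
  have hsurj : Function.Surjective Φ.toRingHom := by
    intro p
    refine ⟨∑ e ∈ (b.repr p).support, (MvPolynomial.X (b.repr p e) : Zr R) • βZ R N e, ?_⟩
    change Φ _ = p
    rw [map_sum]
    conv_rhs => rw [← b.linearCombination_repr p, Finsupp.linearCombination_apply, Finsupp.sum]
    exact Finset.sum_congr rfl fun e _ => by rw [map_smul, hΦ, hsmul, ev_X]
  -- kernel
  have hker : ∀ y : PZ R N, Φ y = 0 → ∀ e, ev R ((βZ R N).repr y e) = 0 := by
    intro y hy e
    rw [hΦrepr] at hy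
    by_cases he : e ∈ ((βZ R N).repr y).support
    · exact (linearIndependent_iff'.1 b.linearIndependent) _ _ hy e he
    · rw [Finsupp.notMem_support_iff.1 he, map_zero]
  -- the divided powers of an element of the kernel lie in the kernel
  have claim : ∀ (s : Finset (Fin N →₀ ℕ)) (z : (Fin N →₀ ℕ) → Zr R),
      (∀ e ∈ s, ev R (z e) = 0 ∧ e ≠ 0) → ∀ n : ℕ, n ≠ 0 →
        Φ ((hZ R N).dpow n (∑ e ∈ s, z e • βZ R N e)) = 0 := by
    intro s z
    induction s using Finset.induction_on with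
    | empty =>
      intro _ n hn
      rw [Finset.sum_empty, (hZ R N).dpow_eval_zero hn, map_zero]
    | insert a s ha ih =>
      intro hz n hn
      have hza := hz a (Finset.mem_insert_self a s)
      have hzs : ∀ e ∈ s, ev R (z e) = 0 ∧ e ≠ 0 := fun e he => hz e (Finset.mem_insert_of_mem he)
      have hmem1 : z a • βZ R N a ∈ JZ R N := smul_βZ_mem_JZ R N _ hza.2
      have hmem2 : ∑ e ∈ s, z e • βZ R N e ∈ JZ R N :=
        Submodule.sum_mem _ fun e he => smul_βZ_mem_JZ R N _ (hzs e he).2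
      rw [Finset.sum_insert ha, (hZ R N).dpow_add hmem1 hmem2, map_sum]
      refine Finset.sum_eq_zero fun k hk => ?_
      rw [Finset.mem_antidiagonal] at hk
      rw [map_mul]
      by_cases h1 : k.1 = 0
      · have h2 : k.2 ≠ 0 := by omega
        rw [ih hzs k.2 h2, mul_zero]
      · have : Φ ((hZ R N).dpow k.1 (z a • βZ R N a)) = 0 := by
          rw [Algebra.smul_def, (hZ R N).dpow_mul (βZ_mem_JZ R N hza.2), map_mul, map_pow,
            AlgHom.commutes, halg, hza.1, map_zero, zero_pow h1, zero_mul]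
        rw [this, zero_mul]
  have hsub : (hZ R N).IsSubDPIdeal (RingHom.ker Φ.toRingHom ⊓ JZ R N) := by
    refine ⟨inf_le_right, fun n hn k hk => Ideal.mem_inf.2 ⟨?_, (hZ R N).dpow_mem hn hk.2⟩⟩
    rw [RingHom.mem_ker]
    change Φ _ = 0
    have hk1 : Φ k = 0 := (Ideal.mem_inf.1 hk).1
    have hk2 : k ∈ JZ R N := (Ideal.mem_inf.1 hk).2
    have hsum : k = ∑ e ∈ ((βZ R N).repr k).support, ((βZ R N).repr k e) • βZ R N e := by
      conv_lhs => rw [← (βZ R N).linearCombination_repr k]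
      rw [Finsupp.linearCombination_apply, Finsupp.sum]
    rw [hsum]
    refine claim _ _ (fun e he => ⟨hker k hk1 e, ?_⟩) n hn
    rintro rfl
    rw [Finsupp.mem_support_iff] at he
    exact he (repr_zero_of_mem R N hk2)
  -- the ideals agree
  have hxb : ∀ (i : Fin N) (n : ℕ), b (Finsupp.single i n) = x i n := by
    intro i n
    rw [hb, Finsupp.prod_single_index (hx0 i)]
  have hIJ : Ideal.span {y : P | ∃ (i : Fin N) (n : ℕ), 1 ≤ n ∧ y = x i n} =
      Ideal.map Φ.toRingHom (JZ R N) := by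
    apply le_antisymm
    · rw [Ideal.span_le]
      rintro _ ⟨i, n, hn, rfl⟩
      have : x i n = Φ.toRingHom (βZ R N (Finsupp.single i n)) := by
        change _ = Φ _
        rw [hΦ, hxb]
      rw [this]
      refine Ideal.mem_map_of_mem _ (βZ_mem_JZ R N ?_)
      intro h0
      have := congrArg (fun f => f i) h0
      simp only [Finsupp.single_eq_same, Finsupp.coe_zero, Pi.zero_apply] at this
      omega
    · unfold JZ
      rw [Ideal.map_span, Ideal.span_le]
      rintro _ ⟨_, ⟨e, he, rfl⟩, rfl⟩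
      change Φ (βZ R N e) ∈ _
      rw [hΦ, hb]
      obtain ⟨i, hi⟩ : ∃ i, e i ≠ 0 := by
        by_contra h
        push_neg at h
        exact he (Finsupp.ext h)
      have hi' : i ∈ e.support := Finsupp.mem_support_iff.2 hi
      refine Ideal.mem_of_dvd _ (Finset.dvd_prod_of_mem (fun j => x j (e j)) hi') ?_
      exact Ideal.subset_span ⟨i, e i, Nat.one_le_iff_ne_zero.2 hi, rfl⟩
  refine ⟨DividedPowers.Quotient.OfSurjective.dividedPowers (hZ R N) hsurj hIJ hsub, ?_⟩
  intro i n
  have h1 : x i 1 = Φ.toRingHom (βZ R N (Finsupp.single i 1)) := by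
    change _ = Φ _
    rw [hΦ, hxb]
  rw [h1, DividedPowers.Quotient.OfSurjective.dpow_apply (hZ R N) hsurj hIJ hsub
    (βZ_mem_JZ R N (by simp)), hZ_dpow_single]
  change Φ _ = _
  rw [hΦ, hxb]

end Exists

end Groth.Agent.Lib.Helper27.DPModel
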