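import Mathlib

/-! Determinants of "closed" matrices modulo divergences (Piola identity) (helper27).

For commuting derivations `δ j` on a commutative ring, the determinant of a matrix whose rows are
`d_i + ∇ g_i` with `d_i` closed rows agrees with `det d` modulo sums `Σ_j δ_j (h_j)`. -/

set_option autoImplicit false

namespace Groth.Agent.Lib.Helper27.DetDiv

open Matrix Finset

variable {K R : Type*} [CommRing K] [CommRing R] [Algebra K R]
variable {ι : Type*} [Fintype ι] [DecidableEq ι]

/-- Leibniz rule for finite products. -/
lemma leibniz_prod (D : Derivation K R R) (s : Finset ι) (a : ι → R) :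
    D (∏ i ∈ s, a i) = ∑ i ∈ s, (∏ j ∈ s.erase i, a j) * D (a i) := by
  induction s using Finset.induction_on with
  | empty => simp
  | insert x s hx ih =>
    rw [Finset.prod_insert hx, Derivation.leibniz, ih, Finset.sum_insert hx,
      Finset.erase_insert hx, smul_eq_mul, smul_eq_mul, add_comm]
    congr 1
    rw [Finset.mul_sum]
    apply Finset.sum_congr rfl
    intro i hi
    have hxi : x ≠ i := fun h => hx (h ▸ hi)
    rw [Finset.erase_insert_of_ne hxi, Finset.prod_insert (fun h => hx (Finset.mem_of_mem_erase h)),
      mul_assoc]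

/-- The derivative of a determinant is the sum over the rows of the determinants with that row
differentiated. -/
lemma deriv_det (D : Derivation K R R) (M : Matrix ι ι R) :
    D (det M) = ∑ r, det (M.updateRow r fun c => D (M r c)) := by
  simp only [Matrix.det_apply, map_sum]
  rw [Finset.sum_comm]
  apply Finset.sum_congr rfl
  intro σ _
  rw [← Finset.smul_sum]
  have h1 : D (Equiv.Perm.sign σ • ∏ i, M (σ i) i) = Equiv.Perm.sign σ • D (∏ i, M (σ i) i) := by
    rw [Units.smul_def, Units.smul_def, map_zsmul]
  rw [h1, leibniz_prod]
  congr 1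
  rw [← Equiv.sum_comp σ (fun r => ∏ i, (M.updateRow r fun c => D (M r c)) (σ i) i)]
  apply Finset.sum_congr rfl
  intro i _
  rw [← Finset.mul_prod_erase Finset.univ _ (Finset.mem_univ i), Matrix.updateRow_self, mul_comm]
  congr 1
  apply Finset.prod_congr rfl
  intro j hj
  have hji : j ≠ i := Finset.ne_of_mem_erase hj
  rw [Matrix.updateRow_ne (fun h => hji (σ.injective h))]

/-- expansion of a determinant along a replaced row -/
lemma det_updateRow_eq_sum (M : Matrix ι ι R) (a : ι) (v : ι → R) :
    det (M.updateRow a v) = ∑ j, v j * det (M.updateRow a (Pi.single j 1)) := by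
  rw [Matrix.det_eq_sum_mul_adjugate_row (M.updateRow a v) a]
  apply Finset.sum_congr rfl
  intro j _
  rw [Matrix.adjugate_apply, Matrix.updateRow_idem, Matrix.updateRow_self]

/-- a sum of symmetric times alternating terms vanishes -/
lemma sum_symm_alt (s Q : ι → ι → R) (hs : ∀ j l, s j l = s l j) (hQ : ∀ j l, Q j l + Q l j = 0)
    (hQ0 : ∀ j, Q j j = 0) : ∑ j, ∑ l, s j l * Q j l = 0 := by
  rw [← Finset.sum_product' (f := fun j l => s j l * Q j l)]
  apply Finset.sum_involution (fun x _ => (x.2, x.1))
  · intro x _
    change s x.1 x.2 * Q x.1 x.2 + s x.2 x.1 * Q x.2 x.1 = 0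
    rw [hs x.2 x.1, ← mul_add, hQ, mul_zero]
  · intro x _ hx h
    apply hx
    have h1 : x.2 = x.1 := congrArg Prod.fst h
    change s x.1 x.2 * Q x.1 x.2 = 0
    rw [h1, hQ0, mul_zero]
  · intro x _
    exact Finset.mem_univ _
  · intro x _
    rfl

/-- The two-row determinants are alternating in the inserted basis vectors. -/
lemma det_two_rows_alt (M : Matrix ι ι R) {a r : ι} (har : a ≠ r) (j l : ι) :
    det ((M.updateRow a (Pi.single j 1)).updateRow r (Pi.single l 1))
      + det ((M.updateRow a (Pi.single l 1)).updateRow r (Pi.single j 1)) = 0 := by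
  -- expand `Q (e_j + e_l, e_j + e_l) = 0`
  have hzero : ∀ u : ι → R, det ((M.updateRow a u).updateRow r u) = 0 := by
    intro u
    apply Matrix.det_zero_of_row_eq har
    rw [Matrix.updateRow_self, Matrix.updateRow_ne har, Matrix.updateRow_self]
  have h := hzero (Pi.single j 1 + Pi.single l 1)
  rw [Matrix.det_updateRow_add] at h
  rw [Matrix.updateRow_comm _ har, Matrix.det_updateRow_add,
    Matrix.updateRow_comm _ har, Matrix.det_updateRow_add] at h
  rw [Matrix.updateRow_comm _ har.symm, hzero, Matrix.updateRow_comm _ har.symm,
    Matrix.updateRow_comm _ har.symm (Pi.single l 1), Matrix.updateRow_comm _ har.symm (Pi.single l 1),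
    hzero] at h
  rw [zero_add, add_zero] at h
  rw [add_comm]
  exact h

variable (δ : ι → Derivation K R R)

/-- A row is closed if its "curl" vanishes. -/
def RowClosed (ρ : ι → R) : Prop := ∀ j l, δ l (ρ j) = δ j (ρ l)

/-- Piola identity: the divergence of the cofactor row vanishes. -/
lemma piola (M : Matrix ι ι R) (a : ι) (hM : ∀ r, r ≠ a → RowClosed δ (M r)) :
    ∑ j, δ j (det (M.updateRow a (Pi.single j 1))) = 0 := by
  have hterm : ∀ j r, det ((M.updateRow a (Pi.single j 1)).updateRow r
      fun c => δ j ((M.updateRow a (Pi.single j 1)) r c))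
      = if r = a then 0 else ∑ l, δ j (M r l) *
          det ((M.updateRow a (Pi.single j 1)).updateRow r (Pi.single l 1)) := by
    intro j r
    by_cases hr : r = a
    · subst hr
      rw [if_pos rfl]
      apply Matrix.det_eq_zero_of_row_eq_zero r
      intro c
      rw [Matrix.updateRow_self, Matrix.updateRow_self]
      by_cases hc : c = j
      · subst hc; rw [Pi.single_eq_same, Derivation.map_one_eq_zero]
      · rw [Pi.single_eq_of_ne hc, map_zero]
    · rw [if_neg hr, det_updateRow_eq_sum]
      apply Finset.sum_congr rfl
      intro l _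
      rw [Matrix.updateRow_ne hr]
  simp only [deriv_det, hterm]
  rw [Finset.sum_comm]
  apply Finset.sum_eq_zero
  intro r _
  by_cases hr : r = a
  · simp [hr]
  · simp only [if_neg hr]
    apply sum_symm_alt (fun j l => δ j (M r l))
      (fun j l => det ((M.updateRow a (Pi.single j 1)).updateRow r (Pi.single l 1)))
    · intro j l
      exact hM r hr l j
    · intro j l
      exact det_two_rows_alt M (Ne.symm hr) j l
    · intro j
      apply Matrix.det_zero_of_row_eq (Ne.symm hr)
      rw [Matrix.updateRow_self, Matrix.updateRow_ne (Ne.symm hr), Matrix.updateRow_self]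

/-- The determinant with one row replaced by a gradient is a divergence, if the other rows are
closed. -/
lemma det_grad_row (M : Matrix ι ι R) (a : ι) (hM : ∀ r, r ≠ a → RowClosed δ (M r)) (g : R) :
    det (M.updateRow a fun j => δ j g)
      = ∑ j, δ j (g * det (M.updateRow a (Pi.single j 1))) := by
  rw [det_updateRow_eq_sum]
  have h : ∀ j, δ j (g * det (M.updateRow a (Pi.single j 1)))
      = δ j g * det (M.updateRow a (Pi.single j 1))
        + g * δ j (det (M.updateRow a (Pi.single j 1))) := by
    intro j
    rw [Derivation.leibniz, smul_eq_mul, smul_eq_mul]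
    ring
  simp only [h]
  rw [Finset.sum_add_distrib, ← Finset.mul_sum, piola δ M a hM, mul_zero, add_zero]

/-- Main statement: the determinant of `d + ∇g` is `∏ u` modulo divergences, where `d` is the
diagonal matrix with entries `u i`, and `u i` is killed by all `δ l`, `l ≠ i`. -/
theorem det_diag_add_grad (hcomm : ∀ j l x, δ j (δ l x) = δ l (δ j x))
    (u : ι → R) (hu : ∀ i l, l ≠ i → δ l (u i) = 0) (g : ι → R) :
    ∃ h : ι → R, det (Matrix.of fun i j => (if i = j then u i else 0) + δ j (g i))
      = ∏ i, u i + ∑ j, δ j (h j) := by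
  -- rows
  let d : ι → ι → R := fun i j => if i = j then u i else 0
  have hd_closed : ∀ i, RowClosed δ (d i) := by
    intro i j l
    change δ l (if i = j then u i else 0) = δ j (if i = l then u i else 0)
    by_cases hij : i = j
    · by_cases hil : i = l
      · rw [← hij, ← hil]
      · rw [if_pos hij, if_neg hil, map_zero, hu i l (Ne.symm hil)]
    · by_cases hil : i = l
      · rw [if_neg hij, if_pos hil, map_zero, hu i j (Ne.symm hij)]
      · rw [if_neg hij, if_neg hil, map_zero, map_zero]
  have hgrad_closed : ∀ x : R, RowClosed δ (fun j => δ j x) := by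
    intro x j l
    exact hcomm l j x
  have hadd_closed : ∀ ρ ρ' : ι → R, RowClosed δ ρ → RowClosed δ ρ' → RowClosed δ (ρ + ρ') := by
    intro ρ ρ' h h' j l
    simp only [Pi.add_apply, map_add, h j l, h' j l]
  -- the interpolating matrices
  let MS : Finset ι → Matrix ι ι R := fun S => Matrix.of fun i j =>
    d i j + if i ∈ S then δ j (g i) else 0
  have hMS_closed : ∀ S r, RowClosed δ (MS S r) := by
    intro S r
    have : MS S r = d r + fun j => if r ∈ S then δ j (g r) else 0 := by
      funext j; rfl
    rw [this]
    apply hadd_closed _ _ (hd_closed r)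
    by_cases hr : r ∈ S
    · simp only [if_pos hr]; exact hgrad_closed (g r)
    · simp only [if_neg hr]
      intro j l
      rw [map_zero, map_zero]
  have key : ∀ S : Finset ι, ∃ h : ι → R, det (MS S) = ∏ i, u i + ∑ j, δ j (h j) := by
    intro S
    induction S using Finset.induction_on with
    | empty =>
      refine ⟨0, ?_⟩
      have : MS ∅ = Matrix.diagonal u := by
        ext i j
        simp only [MS, Matrix.of_apply, Finset.notMem_empty, if_false, add_zero, d,
          Matrix.diagonal_apply]
      rw [this, Matrix.det_diagonal]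
      simp
    | insert a S ha ih =>
      obtain ⟨h, hh⟩ := ih
      have hrow : MS (insert a S) = (MS S).updateRow a (MS S a + fun j => δ j (g a)) := by
        ext i j
        by_cases hia : i = a
        · subst hia
          rw [Matrix.updateRow_self]
          simp only [MS, Matrix.of_apply, Finset.mem_insert_self, if_true, if_neg ha, add_zero,
            Pi.add_apply]
        · rw [Matrix.updateRow_ne hia]
          simp only [MS, Matrix.of_apply, Finset.mem_insert, hia, false_or]
      rw [hrow, Matrix.det_updateRow_add, Matrix.updateRow_eq_self, hh,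
        det_grad_row δ (MS S) a (fun r _ => hMS_closed S r) (g a)]
      refine ⟨fun j => h j + g a * det ((MS S).updateRow a (Pi.single j 1)), ?_⟩
      simp only [map_add, Finset.sum_add_distrib]
      ring
  obtain ⟨h, hh⟩ := key Finset.univ
  refine ⟨h, ?_⟩
  rw [← hh]
  congr 1
  ext i j
  simp only [MS, Matrix.of_apply, Finset.mem_univ, if_true, d]

end Groth.Agent.Lib.Helper27.DetDiv
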