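import Mathlib

/-!
# Smooth monoid algebras of fine sharp monoids are polynomial algebras (helper27)

If `N` is a finitely generated, cancellative, sharp commutative monoid and `R[N]` is formally
smooth over a nontrivial ring `R`, then `N` is free: `N ≃+ (S →₀ ℕ)` for a minimal generating
set `S`.  Consequently `R[N]` is a polynomial algebra = symmetric algebra of a finite free module.
-/

namespace Groth.Agent.Lib.Helper27.DiagMonSmooth

open MvPolynomial

universe u

section Comb

variable {N : Type*} [AddCommMonoid N]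

/-- The additive hom `(S →₀ ℕ) →+ N`, `a ↦ ∑ a x • x`. -/
noncomputable def pi (S : Finset N) : (S →₀ ℕ) →+ N :=
  Finsupp.liftAddHom (fun x : S => (multiplesHom N (x : N)))

theorem pi_single (S : Finset N) (x : S) (m : ℕ) : pi S (Finsupp.single x m) = m • (x : N) := by
  simp [pi]

theorem pi_apply (S : Finset N) (a : S →₀ ℕ) : pi S a = a.sum fun x m => m • (x : N) := by
  rw [pi, Finsupp.liftAddHom_apply]
  rfl

theorem pi_surjective (S : Finset N) (hS : AddSubmonoid.closure (S : Set N) = ⊤) :
    Function.Surjective (pi S) := by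
  intro n
  have h : AddSubmonoid.closure (S : Set N) ≤ AddMonoidHom.mrange (pi S) := by
    rw [AddSubmonoid.closure_le]
    intro x hx
    exact ⟨Finsupp.single ⟨x, hx⟩ 1, by rw [pi_single]; simp⟩
  have : n ∈ AddSubmonoid.closure (S : Set N) := by rw [hS]; trivial
  exact h this

theorem exists_min_gen [AddMonoid.FG N] :
    ∃ S : Finset N, AddSubmonoid.closure (S : Set N) = ⊤ ∧
      ∀ T : Finset N, AddSubmonoid.closure (T : Set N) = ⊤ → S.card ≤ T.card := by
  have h : ∃ n, ∃ S : Finset N, S.card = n ∧ AddSubmonoid.closure (S : Set N) = ⊤ := by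
    obtain ⟨S, hS⟩ := (AddMonoid.fg_def.mp (inferInstance : AddMonoid.FG N))
    exact ⟨S.card, S, rfl, hS⟩
  classical
  obtain ⟨S, hc, hS⟩ := Nat.find_spec h
  refine ⟨S, hS, fun T hT => ?_⟩
  rw [hc]
  exact Nat.find_min' h ⟨T, rfl, hT⟩

theorem notMem_closure_erase [DecidableEq N] (S : Finset N)
    (hS : AddSubmonoid.closure (S : Set N) = ⊤)
    (hmin : ∀ T : Finset N, AddSubmonoid.closure (T : Set N) = ⊤ → S.card ≤ T.card)
    (x : N) (hx : x ∈ S) : x ∉ AddSubmonoid.closure ((S.erase x : Finset N) : Set N) := by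
  intro hmem
  have hle : AddSubmonoid.closure (S : Set N) ≤
      AddSubmonoid.closure ((S.erase x : Finset N) : Set N) := by
    rw [AddSubmonoid.closure_le]
    intro y hy
    by_cases hyx : y = x
    · subst hyx; exact hmem
    · exact AddSubmonoid.subset_closure (by simpa [hyx] using hy)
  have htop : AddSubmonoid.closure ((S.erase x : Finset N) : Set N) = ⊤ := by
    rw [eq_top_iff, ← hS]; exact hle
  have := hmin _ htop
  have := Finset.card_erase_lt_of_mem hx
  omega

theorem pi_mem_closure_erase [DecidableEq N] (S : Finset N) (x : S) (a : S →₀ ℕ) (hax : a x = 0) :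
    pi S a ∈ AddSubmonoid.closure ((S.erase (x : N) : Finset N) : Set N) := by
  rw [pi_apply, Finsupp.sum]
  refine AddSubmonoid.sum_mem _ fun y hy => AddSubmonoid.nsmul_mem _ ?_ _
  apply AddSubmonoid.subset_closure
  have hyx : y ≠ x := by
    rintro rfl
    exact (Finsupp.mem_support_iff.mp hy) hax
  have : (y : N) ≠ (x : N) := fun h => hyx (Subtype.ext h)
  simp [this]

theorem exists_single_add {σ : Type*} (b : σ →₀ ℕ) (x : σ) (hx : b x ≠ 0) :
    ∃ c : σ →₀ ℕ, b = Finsupp.single x 1 + c := by
  have : Finsupp.single x 1 ≤ b := by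
    rw [Finsupp.single_le_iff]; omega
  exact le_iff_exists_add.mp this

theorem exists_single_add_of_ne_zero {σ : Type*} (b : σ →₀ ℕ) (hb : b ≠ 0) :
    ∃ x, ∃ c : σ →₀ ℕ, b = Finsupp.single x 1 + c := by
  obtain ⟨x, hx⟩ := Finsupp.ne_iff.mp hb
  exact ⟨x, exists_single_add b x (by simpa using hx)⟩

variable [IsCancelAdd N]

theorem pi_eq_zero [DecidableEq N] (S : Finset N)
    (hS : AddSubmonoid.closure (S : Set N) = ⊤)
    (hmin : ∀ T : Finset N, AddSubmonoid.closure (T : Set N) = ⊤ → S.card ≤ T.card)
    (hsharp : ∀ n : N, IsAddUnit n → n = 0)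
    (b : S →₀ ℕ) (hb : pi S b = 0) : b = 0 := by
  by_contra hne
  obtain ⟨x, c, rfl⟩ := exists_single_add_of_ne_zero b hne
  rw [map_add, pi_single, one_nsmul] at hb
  have hx0 : (x : N) = 0 := hsharp _ (IsAddUnit.of_add_eq_zero _ hb)
  exact notMem_closure_erase S hS hmin x x.2 (by rw [hx0]; exact zero_mem _)

theorem pi_eq_single [DecidableEq N] (S : Finset N)
    (hS : AddSubmonoid.closure (S : Set N) = ⊤)
    (hmin : ∀ T : Finset N, AddSubmonoid.closure (T : Set N) = ⊤ → S.card ≤ T.card)
    (hsharp : ∀ n : N, IsAddUnit n → n = 0)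
    (x : S) (b : S →₀ ℕ) (hb : pi S b = x) : b = Finsupp.single x 1 := by
  by_cases hbx : b x = 0
  · exfalso
    apply notMem_closure_erase S hS hmin x x.2
    have := pi_mem_closure_erase S x b hbx
    rwa [hb] at this
  · obtain ⟨c, rfl⟩ := exists_single_add b x hbx
    rw [map_add, pi_single, one_nsmul, add_eq_left] at hb
    rw [pi_eq_zero S hS hmin hsharp c hb, add_zero]

theorem pi_eq_of_degree_le_one [DecidableEq N] (S : Finset N)
    (hS : AddSubmonoid.closure (S : Set N) = ⊤)
    (hmin : ∀ T : Finset N, AddSubmonoid.closure (T : Set N) = ⊤ → S.card ≤ T.card)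
    (hsharp : ∀ n : N, IsAddUnit n → n = 0)
    (a b : S →₀ ℕ) (hab : pi S a = pi S b) (ha : a.degree ≤ 1) : a = b := by
  by_cases ha0 : a = 0
  · subst ha0
    rw [map_zero] at hab
    exact (pi_eq_zero S hS hmin hsharp b hab.symm).symm
  · obtain ⟨x, c, rfl⟩ := exists_single_add_of_ne_zero a ha0
    rw [map_add, Finsupp.degree_single] at ha
    have hc : c = 0 := by
      rw [← Finsupp.degree_eq_zero_iff]; omega
    subst hc
    rw [add_zero] at hab ⊢
    rw [pi_single, one_nsmul] at hab
    exact (pi_eq_single S hS hmin hsharp x b hab.symm).symm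

end Comb

section Ring

variable (R : Type u) [CommRing R]

theorem monomial_mem_pow {σ : Type*} (a : σ →₀ ℕ) (k : ℕ) (h : k ≤ a.degree) :
    monomial a (1 : R) ∈ idealOfVars σ R ^ k := by
  classical
  rw [mem_pow_idealOfVars_iff']
  intro x hx
  rw [coeff_monomial, if_neg]
  rintro rfl
  omega

theorem aeval_monomial_sub_mem {σ : Type*} (p : σ → MvPolynomial σ R)
    (hp : ∀ x, p x - X x ∈ idealOfVars σ R ^ 2) (c : σ →₀ ℕ) :
    aeval p (monomial c (1 : R)) - monomial c 1 ∈ idealOfVars σ R ^ (c.degree + 1) := by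
  set I := idealOfVars σ R with hI
  have hadd : ∀ f g : σ →₀ ℕ,
      aeval p (monomial f (1 : R)) - monomial f 1 ∈ I ^ (f.degree + 1) →
      aeval p (monomial g (1 : R)) - monomial g 1 ∈ I ^ (g.degree + 1) →
      aeval p (monomial (f + g) (1 : R)) - monomial (f + g) 1 ∈ I ^ ((f + g).degree + 1) := by
    intro f g hf hg
    have hmul : monomial (f + g) (1 : R) = monomial f 1 * monomial g 1 := by
      rw [monomial_mul, one_mul]
    have hv : aeval p (monomial g (1 : R)) ∈ I ^ g.degree := by
      have h1 : monomial g (1 : R) ∈ I ^ g.degree := monomial_mem_pow R g _ le_rfl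
      have h2 := Ideal.pow_le_pow_right (Nat.le_succ g.degree) hg
      have := add_mem h2 h1
      simpa using this
    have hmf : monomial f (1 : R) ∈ I ^ f.degree := monomial_mem_pow R f _ le_rfl
    rw [hmul, map_mul, map_add]
    have e : aeval p (monomial f (1:R)) * aeval p (monomial g (1:R)) - monomial f 1 * monomial g 1
        = (aeval p (monomial f (1:R)) - monomial f 1) * aeval p (monomial g (1:R))
          + monomial f 1 * (aeval p (monomial g (1:R)) - monomial g 1) := by ring
    rw [e]
    refine add_mem ?_ ?_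
    · have := Ideal.mul_mem_mul hf hv
      rwa [← pow_add, show f.degree + 1 + g.degree = f.degree + g.degree + 1 by ring] at this
    · have := Ideal.mul_mem_mul hmf hg
      rwa [← pow_add, ← add_assoc] at this
  have hone : ∀ x : σ, aeval p (monomial (Finsupp.single x 1) (1 : R)) -
      monomial (Finsupp.single x 1) 1 ∈ I ^ ((Finsupp.single x 1 : σ →₀ ℕ).degree + 1) := by
    intro x
    rw [Finsupp.degree_single]
    have : monomial (Finsupp.single x 1) (1 : R) = X x := rfl
    rw [this, aeval_X]
    exact hp x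
  have hzero : aeval p (monomial (0 : σ →₀ ℕ) (1 : R)) - monomial 0 1 ∈
      I ^ ((0 : σ →₀ ℕ).degree + 1) := by
    have : monomial (0 : σ →₀ ℕ) (1 : R) = 1 := rfl
    rw [this, map_one, sub_self]
    exact zero_mem _
  induction c using Finsupp.induction_linear with
  | zero => exact hzero
  | add f g hf hg => exact hadd f g hf hg
  | single x m =>
    induction m with
    | zero => rw [Finsupp.single_zero]; exact hzero
    | succ m ih =>
      rw [Finsupp.single_add]
      exact hadd _ _ ih (hone x)

variable {N : Type} [AddCommMonoid N]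

theorem exists_phi (S : Finset N) (hsurj : Function.Surjective (pi S))
    (hB : ∀ a b : S →₀ ℕ, pi S a = pi S b → a.degree ≤ 1 → a = b) :
    ∃ φ : Multiplicative N →* (MvPolynomial S R ⧸ idealOfVars S R ^ 2),
      ∀ a : S →₀ ℕ, φ (Multiplicative.ofAdd (pi S a)) =
        Ideal.Quotient.mk _ (monomial a (1 : R)) := by
  have key : ∀ a b : S →₀ ℕ, pi S a = pi S b →
      Ideal.Quotient.mk (idealOfVars S R ^ 2) (monomial a (1 : R)) =
        Ideal.Quotient.mk _ (monomial b (1 : R)) := by
    intro a b hab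
    by_cases ha : a.degree ≤ 1
    · rw [hB a b hab ha]
    by_cases hb : b.degree ≤ 1
    · rw [hB b a hab.symm hb]
    rw [Ideal.Quotient.eq]
    exact sub_mem (monomial_mem_pow R a 2 (by omega)) (monomial_mem_pow R b 2 (by omega))
  refine ⟨{ toFun := fun n => Ideal.Quotient.mk _
              (monomial (Function.surjInv hsurj (Multiplicative.toAdd n)) (1 : R)),
            map_one' := ?_, map_mul' := ?_ }, ?_⟩
  · have : Function.surjInv hsurj (Multiplicative.toAdd (1 : Multiplicative N)) = 0 := by
      symm; apply hB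
      · rw [Function.surjInv_eq hsurj, map_zero]; rfl
      · simp
    rw [this]; rfl
  · intro m n
    rw [← map_mul, monomial_mul, one_mul]
    apply key
    rw [map_add, Function.surjInv_eq hsurj, Function.surjInv_eq hsurj, Function.surjInv_eq hsurj]
    rfl
  · intro a
    show Ideal.Quotient.mk _ (monomial (Function.surjInv hsurj
      (Multiplicative.toAdd (Multiplicative.ofAdd (pi S a)))) (1 : R)) = _
    apply key
    rw [Function.surjInv_eq hsurj]; rfl

theorem pi_injective_aux [Nontrivial R] [Algebra.FormallySmooth R (AddMonoidAlgebra R N)]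
    (S : Finset N) (hsurj : Function.Surjective (pi S))
    (hB : ∀ a b : S →₀ ℕ, pi S a = pi S b → a.degree ≤ 1 → a = b)
    (a b : S →₀ ℕ) (hab : pi S a = pi S b) (hdeg : a.degree ≤ b.degree) : a = b := by
  classical
  set I := idealOfVars S R with hI
  obtain ⟨φ, hφ⟩ : ∃ φ : Multiplicative N →* (MvPolynomial S R ⧸ I ^ 2),
      ∀ a : S →₀ ℕ, φ (Multiplicative.ofAdd (pi S a)) =
        Ideal.Quotient.mk (I ^ 2) (monomial a (1 : R)) := exists_phi R S hsurj hB
  set n := a.degree + 2 with hn
  have hle : I ^ n ≤ I ^ 2 := Ideal.pow_le_pow_right (by omega)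
  let g : (MvPolynomial S R ⧸ I ^ n) →ₐ[R] (MvPolynomial S R ⧸ I ^ 2) :=
    Ideal.Quotient.factorₐ R hle
  have hg : Function.Surjective g := Ideal.Quotient.factor_surjective hle
  have hker : RingHom.ker (g : (MvPolynomial S R ⧸ I ^ n) →+* (MvPolynomial S R ⧸ I ^ 2)) ≤
      (I.map (Ideal.Quotient.mk (I ^ n))) := by
    intro x hx
    obtain ⟨q, rfl⟩ := Ideal.Quotient.mk_surjective x
    rw [RingHom.mem_ker] at hx
    have hq : q ∈ I ^ 2 := by
      rw [← Ideal.Quotient.eq_zero_iff_mem]; exact hx
    exact Ideal.mem_map_of_mem _ (Ideal.pow_le_self (by norm_num) hq)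
  have hg' : IsNilpotent
      (RingHom.ker (g : (MvPolynomial S R ⧸ I ^ n) →+* (MvPolynomial S R ⧸ I ^ 2))) := by
    refine ⟨n, ?_⟩
    rw [Ideal.zero_eq_bot, eq_bot_iff]
    calc _ ≤ (I.map (Ideal.Quotient.mk (I ^ n))) ^ n := Ideal.pow_right_mono hker n
      _ = ⊥ := by rw [← Ideal.map_pow, Ideal.map_quotient_self]
  let θ₁ : AddMonoidAlgebra R N →ₐ[R] (MvPolynomial S R ⧸ I ^ 2) := AddMonoidAlgebra.lift R _ N φ
  let θ := Algebra.FormallySmooth.liftOfSurjective θ₁ g hg hg'
  have hθ : ∀ x, g (θ x) = θ₁ x := Algebra.FormallySmooth.liftOfSurjective_apply θ₁ g hg hg'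
  have hp' : ∀ x : S, ∃ q : MvPolynomial S R,
      Ideal.Quotient.mk (I ^ n) q = θ (AddMonoidAlgebra.single (x : N) 1) :=
    fun x => Ideal.Quotient.mk_surjective _
  choose p hp using hp'
  have hpX : ∀ x : S, p x - X x ∈ I ^ 2 := by
    intro x
    rw [← Ideal.Quotient.eq]
    have h1 : g (Ideal.Quotient.mk (I ^ n) (p x)) = Ideal.Quotient.mk (I ^ 2) (p x) := rfl
    rw [← h1, hp, hθ]
    show AddMonoidAlgebra.lift R _ N φ (AddMonoidAlgebra.single (x : N) 1) = _
    rw [AddMonoidAlgebra.lift_single, one_smul]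
    have := hφ (Finsupp.single x 1)
    rw [pi_single, one_nsmul] at this
    rw [this]; rfl
  let Ψ : MvPolynomial S R →ₐ[R] MvPolynomial S R := aeval p
  let ρ : MvPolynomial S R →ₐ[R] AddMonoidAlgebra R N :=
    aeval (fun x : S => AddMonoidAlgebra.single (x : N) (1 : R))
  have h1 : (Ideal.Quotient.mkₐ R (I ^ n)).comp Ψ = θ.comp ρ := by
    apply MvPolynomial.algHom_ext
    intro x
    simp only [AlgHom.comp_apply, Ψ, ρ, aeval_X, Ideal.Quotient.mkₐ_eq_mk, hp]
  have h2 : ∀ c : S →₀ ℕ, ρ (monomial c 1) = AddMonoidAlgebra.single (pi S c) (1 : R) := by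
    intro c
    induction c using Finsupp.induction_linear with
    | zero => rw [map_zero]; exact map_one ρ
    | add f g hf hg =>
      rw [show monomial (f + g) (1 : R) = monomial f 1 * monomial g 1 by
        rw [monomial_mul, one_mul], map_mul, hf, hg, AddMonoidAlgebra.single_mul_single, map_add,
        one_mul]
    | single x m =>
      rw [show monomial (Finsupp.single x m) (1 : R) = X x ^ m by rw [X_pow_eq_monomial],
        map_pow, aeval_X, AddMonoidAlgebra.single_pow, one_pow, pi_single]
  have h3 : Ideal.Quotient.mk (I ^ n) (Ψ (monomial a 1)) =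
      Ideal.Quotient.mk (I ^ n) (Ψ (monomial b 1)) := by
    have e := fun c => AlgHom.congr_fun h1 (monomial c 1)
    simp only [AlgHom.comp_apply, Ideal.Quotient.mkₐ_eq_mk] at e
    rw [e, e, h2, h2, hab]
  rw [Ideal.Quotient.eq] at h3
  have h4a := aeval_monomial_sub_mem R p hpX a
  have h4b := aeval_monomial_sub_mem R p hpX b
  have hfin : monomial a (1 : R) - monomial b 1 ∈ I ^ (a.degree + 1) := by
    have e : monomial a (1 : R) - monomial b 1 = (Ψ (monomial a 1) - Ψ (monomial b 1)) -
        (Ψ (monomial a 1) - monomial a 1) + (Ψ (monomial b 1) - monomial b 1) := by ring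
    rw [e]
    refine add_mem (sub_mem ?_ h4a) ?_
    · exact Ideal.pow_le_pow_right (by omega) h3
    · exact Ideal.pow_le_pow_right (by omega) h4b
  rw [mem_pow_idealOfVars_iff'] at hfin
  have := hfin a (by omega)
  rw [coeff_sub, coeff_monomial, coeff_monomial, if_pos rfl] at this
  by_contra hne
  rw [if_neg (fun h => hne h.symm), sub_zero] at this
  exact one_ne_zero this

theorem exists_addEquiv [Nontrivial R] [AddMonoid.FG N] [IsCancelAdd N]
    (hsharp : ∀ n : N, IsAddUnit n → n = 0)
    [Algebra.FormallySmooth R (AddMonoidAlgebra R N)] :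
    ∃ S : Finset N, Nonempty ((S →₀ ℕ) ≃+ N) := by
  classical
  obtain ⟨S, hS, hmin⟩ := exists_min_gen (N := N)
  have hsurj := pi_surjective S hS
  have hB := pi_eq_of_degree_le_one S hS hmin hsharp
  have hinj : Function.Injective (pi S) := by
    intro a b hab
    rcases le_total a.degree b.degree with h | h
    · exact pi_injective_aux R S hsurj hB a b hab h
    · exact (pi_injective_aux R S hsurj hB b a hab.symm h).symm
  exact ⟨S, ⟨AddEquiv.ofBijective (pi S) ⟨hinj, hsurj⟩⟩⟩

theorem main (N : Type) [AddCommMonoid N] [AddMonoid.FG N] [IsCancelAdd N]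
    (hsharp : ∀ n : N, IsAddUnit n → n = 0)
    [Algebra.FormallySmooth R (AddMonoidAlgebra R N)] :
    ∃ (P : Type u) (_ : AddCommGroup P) (_ : Module R P), Module.Finite R P ∧
      Module.Projective R P ∧ Nonempty (AddMonoidAlgebra R N ≃ₐ[R] SymmetricAlgebra R P) := by
  rcases subsingleton_or_nontrivial R with hR | hR
  · refine ⟨R, inferInstance, inferInstance, inferInstance, inferInstance, ⟨?_⟩⟩
    have h1 : Subsingleton (AddMonoidAlgebra R N) := Module.subsingleton R _
    have h2 : Subsingleton (SymmetricAlgebra R R) := Module.subsingleton R _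
    exact
      { toFun := fun _ => 0
        invFun := fun _ => 0
        left_inv := fun _ => Subsingleton.elim _ _
        right_inv := fun _ => Subsingleton.elim _ _
        map_mul' := fun _ _ => Subsingleton.elim _ _
        map_add' := fun _ _ => Subsingleton.elim _ _
        commutes' := fun _ => Subsingleton.elim _ _ }
  · obtain ⟨S, ⟨e⟩⟩ := exists_addEquiv R (N := N) hsharp
    refine ⟨S →₀ R, inferInstance, inferInstance, inferInstance, inferInstance, ⟨?_⟩⟩
    have e1 : AddMonoidAlgebra R N ≃ₐ[R] MvPolynomial S R := AddMonoidAlgebra.domCongr R R e.symm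
    exact e1.trans (SymmetricAlgebra.equivMvPolynomial (Finsupp.basisSingleOne)).symm

end Ring

end Groth.Agent.Lib.Helper27.DiagMonSmooth
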