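import Groth.Agent.Lib.Helper28.RootCox
import Mathlib.Algebra.Order.Monoid.Defs
import Mathlib.Algebra.Order.Group.Defs

/-! Dominant homomorphisms from the weight lattice of a root datum to a totally ordered group
(helper27), on top of helper28's root-datum library. -/

set_option autoImplicit false

namespace Groth.Agent.Lib.Helper27.Dominant

open RootPairing RootD Groth.Agent.Lib.Helper28

variable {ι M N : Type*} [AddCommGroup M] [AddCommGroup N] {P : RootPairing ι ℤ M N}
variable {Γ : Type*} [AddCommGroup Γ] [LinearOrder Γ] [IsOrderedAddMonoid Γ]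

/-- nonnegativity on `S` propagates to `natSpan S`. -/
lemma nonneg_of_mem_natSpan (f : M →+ Γ) {S : Set ι} (h : ∀ i ∈ S, 0 ≤ f (P.root i)) {x : M}
    (hx : x ∈ natSpan P S) : 0 ≤ f x := by
  induction hx using AddSubmonoid.closure_induction with
  | mem x hx =>
    obtain ⟨i, hi, rfl⟩ := hx
    exact h i hi
  | zero => rw [map_zero]
  | add x y _ _ hx hy => rw [map_add]; exact add_nonneg hx hy

variable [Finite ι]

/-- the simple system of a positive system -/
lemma exists_simpleSys {S : Set ι} (hS : IsPosSys P S) :
    ∃ Δ : Set ι, IsSimpleSys P Δ ∧ Δ ⊆ S ∧ S = posOf P Δ :=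
  ⟨indec P S, isSimpleSys_indec hS, indec_subset S,
    IsPosSys_eq_posOf hS (isSimpleSys_indec hS) (indec_subset S)⟩

/-- existence of a dominant conjugate -/
theorem exists_dominant {S : Set ι} (hS : IsPosSys P S) (f : M →+ Γ) :
    ∃ g : P.Aut, g ∈ P.weylGroup ∧ ∀ i ∈ S, 0 ≤ f (g • P.root i) := by
  have hP2 : ∀ i : ι, i ∈ {i | 0 ≤ f (P.root i)} ∨
      P.reflectionPerm i i ∈ {i | 0 ≤ f (P.root i)} := by
    intro i
    rcases le_total 0 (f (P.root i)) with h | h
    · exact Or.inl h
    · right
      change 0 ≤ f (P.root (P.reflectionPerm i i))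
      rw [root_neg, map_neg]
      exact neg_nonneg.mpr h
  have hcl : IsClosedSub P {i | 0 ≤ f (P.root i)} := by
    intro i j k hi hj hk
    change 0 ≤ f (P.root k)
    rw [hk, map_add]
    exact add_nonneg hi hj
  obtain ⟨g, hg, hsub⟩ := exists_weylGroup_image_subset (P := P) hS hP2 hcl
  refine ⟨g, hg, fun i hi => ?_⟩
  have := hsub (Set.mem_image_of_mem _ hi)
  simpa [aut_root] using this

/-- uniqueness, on words -/
theorem word_eq_of_dominant {Δ : Set ι} (hΔ : IsSimpleSys P Δ) (f : M →+ Γ)
    (hf : ∀ i ∈ Δ, 0 ≤ f (P.root i)) (n : ℕ) :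
    ∀ l : List ι, l.length = n → (∀ a ∈ l, a ∈ Δ) →
      (∀ i ∈ Δ, 0 ≤ f (wordProd P l • P.root i)) → ∀ m : M, f (wordProd P l • m) = f m := by
  induction n using Nat.strong_induction_on with
  | _ n ih =>
    intro l hlen hl hdom m
    by_cases hshort : ∃ l' : List ι, (∀ a ∈ l', a ∈ Δ) ∧ wordProd P l' = wordProd P l ∧
        l'.length < l.length
    · obtain ⟨l', hl', hprod, hlt⟩ := hshort
      rw [← hprod]
      exact ih l'.length (hlen ▸ hlt) l' rfl hl' (by rw [hprod]; exact hdom) m
    · push Not at hshort
      by_cases hne : l = []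
      · subst hne
        simp
      · have hmin : ∀ l' : List ι, (∀ a ∈ l', a ∈ Δ) → wordProd P l' = wordProd P l →
            l.length ≤ l'.length := fun l' hl' hp => hshort l' hl' hp
        have hneg := neg_root_mem_natSpan_of_minimal hΔ l hl hne hmin
        set t := l.getLast hne with ht
        have htΔ : t ∈ Δ := hl _ (List.getLast_mem hne)
        have hsplit : l = l.dropLast ++ [t] := (List.dropLast_append_getLast hne).symm
        set l₀ := l.dropLast with hl₀
        have hl₀Δ : ∀ a ∈ l₀, a ∈ Δ := fun a ha => hl a (List.mem_of_mem_dropLast ha)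
        have hprod : wordProd P l = wordProd P l₀ * Equiv.reflection P t := by
          conv_lhs => rw [hsplit]
          simp
        -- f (g • root t) = 0
        have h1 : 0 ≤ f (wordProd P l • P.root t) := hdom t htΔ
        have h2 : 0 ≤ f (-(wordProd P l • P.root t)) := by
          rw [← aut_root]
          exact nonneg_of_mem_natSpan f hf hneg
        rw [map_neg, neg_nonneg] at h2
        have h0 : f (wordProd P l • P.root t) = 0 := le_antisymm h2 h1
        have h0' : f (wordProd P l₀ • P.root t) = 0 := by
          have : wordProd P l • P.root t = -(wordProd P l₀ • P.root t) := by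
            rw [hprod, mul_smul, Equiv.reflection_smul, reflection_apply_self, smul_neg]
          rw [this, map_neg, neg_eq_zero] at h0
          exact h0
        have hkey : ∀ m : M, f (wordProd P l • m) = f (wordProd P l₀ • m) := by
          intro m
          rw [hprod, mul_smul, Equiv.reflection_smul, reflection_apply, smul_sub, smul_comm,
            map_sub, map_zsmul, h0', smul_zero, sub_zero]
        rw [hkey]
        have hlen₀ : l₀.length < n := by
          have := congrArg List.length hsplit
          simp at this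
          omega
        exact ih l₀.length hlen₀ l₀ rfl hl₀Δ (fun i hi => by rw [← hkey]; exact hdom i hi) m

/-- uniqueness of the dominant conjugate -/
theorem eq_of_dominant {S : Set ι} (hS : IsPosSys P S) (f : M →+ Γ) {g : P.Aut}
    (hg : g ∈ P.weylGroup) (hf : ∀ i ∈ S, 0 ≤ f (P.root i))
    (hfg : ∀ i ∈ S, 0 ≤ f (g • P.root i)) (m : M) : f (g • m) = f m := by
  obtain ⟨Δ, hΔ, hΔS, -⟩ := exists_simpleSys hS
  rw [← closure_simple_reflections hΔ] at hg
  obtain ⟨l, hl, rfl⟩ := exists_word_of_mem_closure hg
  exact word_eq_of_dominant hΔ f (fun i hi => hf i (hΔS hi)) l.length l rfl hl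
    (fun i hi => hfg i (hΔS hi)) m

end Groth.Agent.Lib.Helper27.Dominant
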