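import Groth.Agent.Lib.Helper27.Dominant
import Groth.Agent.S5467

/-! Regular dominant weight `2ρ`, strong dominance (helper27). -/

set_option autoImplicit false

namespace Groth.Agent.Lib.Helper27.Dominant

open RootPairing RootD Groth.Agent.Lib.Helper28

variable {ι M N : Type*} [AddCommGroup M] [AddCommGroup N] {P : RootPairing ι ℤ M N}

section Rho

variable [Fintype ι]

open Classical in
/-- the sum of the positive roots -/
noncomputable def rho2 (P : RootPairing ι ℤ M N) (S : Set ι) : M :=
  ∑ β ∈ Finset.univ.filter (· ∈ S), P.root β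

open Classical in
lemma coroot'_rho2 (S : Set ι) (i : ι) :
    P.coroot' i (rho2 P S) = ∑ β ∈ Finset.univ.filter (· ∈ S), P.pairing β i := by
  rw [rho2, map_sum]
  rfl

lemma pairing_reflectionPerm_self (i k : ι) :
    P.pairing (P.reflectionPerm i k) i = -P.pairing k i := by
  have : P.pairing (P.reflectionPerm i k) i = P.coroot' i (P.root (P.reflectionPerm i k)) := rfl
  rw [this, root_reflectionPerm, reflection_apply, map_sub, map_smul]
  simp only [root_coroot'_eq_pairing, smul_eq_mul, pairing_same]
  ring

theorem coroot'_rho2_simple_pos {Δ : Set ι} (hΔ : IsSimpleSys P Δ) {i : ι} (hi : i ∈ Δ) :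
    0 < P.coroot' i (rho2 P (posOf P Δ)) := by
  classical
  rw [coroot'_rho2]
  set S := posOf P Δ with hS
  have hpos : IsPosSys P S := isPosSys_posOf hΔ
  set T : Finset ι := (Finset.univ.filter (· ∈ S)).filter (fun β => ∃ n : ℕ, P.root β = n • P.root i)
    with hT
  set U : Finset ι := (Finset.univ.filter (· ∈ S)).filter
    (fun β => ¬ ∃ n : ℕ, P.root β = n • P.root i) with hU
  rw [← Finset.sum_filter_add_sum_filter_not (Finset.univ.filter (· ∈ S))
    (fun β => ∃ n : ℕ, P.root β = n • P.root i)]
  have hUsum : ∑ β ∈ U, P.pairing β i = 0 := by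
    refine Finset.sum_involution (fun β _ => P.reflectionPerm i β) ?_ ?_ ?_ ?_
    · intro β _
      rw [pairing_reflectionPerm_self]; ring
    · intro β _ hne heq
      apply hne
      have := pairing_reflectionPerm_self (P := P) i β
      rw [heq] at this
      omega
    · intro β hβ
      rw [hU, Finset.mem_filter, Finset.mem_filter] at hβ ⊢
      obtain ⟨⟨-, hβS⟩, hβn⟩ := hβ
      have h1 : P.reflectionPerm i β ∈ S := by
        rcases reflectionPerm_mem_posOf_or hΔ hi hβS with h | h
        · exact h
        · exact absurd h hβn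
      refine ⟨⟨Finset.mem_univ _, h1⟩, ?_⟩
      rintro ⟨n, hn⟩
      -- then root β = -(n • root i)
      have h2 : P.root β = -(n • P.root i) := by
        have := congrArg (P.reflection i) hn
        rw [root_reflectionPerm] at this
        have h3 : P.reflection i (P.reflection i (P.root β)) = P.root β := by simp
        rw [this] at h3
        rw [← h3, map_nsmul, reflection_apply_self, smul_neg]
      have h3 : -P.root β ∈ natSpan P S := by
        rw [h2, neg_neg]
        exact nsmul_mem (root_mem_natSpan P (subset_posOf hi)) n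
      exact IsPosSys_neg_root_notMem hpos hβS h3
    · intro β _
      simp
  rw [hUsum, add_zero]
  have hiT : i ∈ T := by
    rw [hT, Finset.mem_filter, Finset.mem_filter]
    exact ⟨⟨Finset.mem_univ _, subset_posOf hi⟩, 1, by simp⟩
  have hnn : ∀ β ∈ T, 0 ≤ P.pairing β i := by
    intro β hβ
    rw [hT, Finset.mem_filter] at hβ
    obtain ⟨-, n, hn⟩ := hβ
    have : P.pairing β i = P.coroot' i (P.root β) := rfl
    rw [this, hn, map_nsmul, root_coroot'_eq_pairing, pairing_same, nsmul_eq_mul]
    positivity
  have := Finset.single_le_sum hnn hiT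
  rw [pairing_same] at this
  change 0 < ∑ β ∈ T, P.pairing β i
  omega

lemma coroot'_reflectionPerm (i j : ι) (x : M) :
    P.coroot' (P.reflectionPerm i j) x = P.coroot' j x - P.pairing i j * P.coroot' i x := by
  change P.toLinearMap x (P.coroot (P.reflectionPerm i j)) = _
  rw [P.coroot_reflectionPerm, coreflection_apply, map_sub, map_smul]
  rfl

theorem coroot'_rho2_pos {Δ : Set ι} (hΔ : IsSimpleSys P Δ) :
    ∀ j ∈ posOf P Δ, 0 < P.coroot' j (rho2 P (posOf P Δ)) := by
  have key : ∀ n : ℕ, ∀ j ∈ posOf P Δ, height hΔ j ≤ n →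
      0 < P.coroot' j (rho2 P (posOf P Δ)) := by
    intro n
    induction n using Nat.strong_induction_on with
    | _ n ih =>
      intro j hj hjn
      by_cases hjΔ : j ∈ Δ
      · exact coroot'_rho2_simple_pos hΔ hjΔ
      · rcases isIndiv_or_exists_two_smul (P := P) j with hind | ⟨k, hk, hjk⟩
        · obtain ⟨i, hi, hpos, hmem⟩ := Groth.Agent.S5467.result P Δ hΔ j hj hjΔ hind
          have hht : height hΔ (P.reflectionPerm i j) = height hΔ j - P.pairing j i := by
            rw [height_reflectionPerm, height_simple hΔ hi, mul_one]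
          have hht0 := height_pos_of_mem_posOf hΔ hmem
          have h1 := ih (n - 1) (by omega) (P.reflectionPerm i j) hmem (by omega)
          rw [coroot'_reflectionPerm] at h1
          have h2 := coroot'_rho2_simple_pos hΔ hi
          have h3 : 0 < P.pairing i j := (pairing_pos_iff (P := P) j i).mp hpos
          have h4 : 0 < P.pairing i j * P.coroot' i (rho2 P (posOf P Δ)) := mul_pos h3 h2
          omega
        · have hkpos : k ∈ posOf P Δ := by
            rcases hΔ.mem_or_neg_mem k with h | h
            · exact h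
            · exfalso
              have h1 : -P.root j ∈ natSpan P Δ := by
                rw [hjk, ← smul_neg, two_smul]
                exact add_mem h h
              exact IsPosSys_neg_root_notMem (isPosSys_posOf hΔ) hj
                (natSpan_mono P subset_posOf h1)
          have hht : height hΔ j = height hΔ k + height hΔ k :=
            height_add hΔ (by rw [hjk, two_smul])
          have hht0 := height_pos_of_mem_posOf hΔ hkpos
          have h1 := ih (n - 1) (by omega) k hkpos (by omega)
          have hco : (2 : ℤ) • P.coroot j = P.coroot k := by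
            have := isAddTorsionFree_coweight P
            exact P.smul_coroot_eq_of_root_eq_smul k j 2 hjk
          have h2 : P.coroot' k (rho2 P (posOf P Δ)) = 2 * P.coroot' j (rho2 P (posOf P Δ)) := by
            change P.toLinearMap _ (P.coroot k) = 2 * P.toLinearMap _ (P.coroot j)
            rw [← hco, map_smul, smul_eq_mul]
          omega
  intro j hj
  exact key (height hΔ j).toNat j hj (by
    have := height_pos_of_mem_posOf hΔ hj
    omega)

end Rho

section Strong

variable [Fintype ι] {Γ : Type*} [AddCommGroup Γ] [LinearOrder Γ] [IsOrderedAddMonoid Γ]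

theorem strong_of_minimal_word {Δ : Set ι} (hΔ : IsSimpleSys P Δ) (f : M →+ Γ)
    (hf : ∀ i ∈ Δ, 0 ≤ f (P.root i)) :
    ∀ l : List ι, (∀ a ∈ l, a ∈ Δ) →
      (∀ l' : List ι, (∀ a ∈ l', a ∈ Δ) → wordProd P l' = wordProd P l →
        l.length ≤ l'.length) →
      ∃ c : ι → Γ, (∀ i, 0 ≤ c i) ∧
        (∀ i, c i ≠ 0 → i ∈ posOf P Δ ∧ wordProd P l • i ∉ posOf P Δ) ∧
        ∀ m : M, f m - f (wordProd P l • m) = ∑ i, P.coroot' i m • c i := by
  classical
  intro l
  induction l using List.reverseRecOn with
  | nil =>
    intro _ _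
    exact ⟨fun _ => 0, fun _ => le_rfl, fun i h => absurd rfl h, fun m => by simp⟩
  | append_singleton l₀ t ih =>
    intro hl hmin
    have hl₀ : ∀ a ∈ l₀, a ∈ Δ := fun a ha => hl a (List.mem_append_left _ ha)
    have htΔ : t ∈ Δ := hl t (by simp)
    have hmin₀ : ∀ l' : List ι, (∀ a ∈ l', a ∈ Δ) → wordProd P l' = wordProd P l₀ →
        l₀.length ≤ l'.length := by
      intro l' hl' hp
      have h1 : ∀ a ∈ l' ++ [t], a ∈ Δ := by
        intro a ha
        rcases List.mem_append.mp ha with h | h
        · exact hl' a h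
        · rw [List.mem_singleton] at h; rw [h]; exact htΔ
      have := hmin (l' ++ [t]) h1 (by rw [wordProd_append, wordProd_append, hp])
      simp at this
      omega
    obtain ⟨c', hc'0, hc'S, hc'f⟩ := ih hl₀ hmin₀
    have hne : l₀ ++ [t] ≠ [] := by simp
    have hneg := neg_root_mem_natSpan_of_minimal hΔ (l₀ ++ [t]) hl hne hmin
    rw [List.getLast_append_singleton] at hneg
    set g := wordProd P (l₀ ++ [t]) with hg
    set g' := wordProd P l₀ with hg'
    have hprod : g = g' * Equiv.reflection P t := by
      rw [hg, wordProd_append]; simp [hg']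
    -- g' • t is positive
    have hg't : P.root (g' • t) ∈ natSpan P Δ := by
      have : P.root (g' • t) = -P.root (g • t) := by
        rw [aut_root, aut_root, hprod, mul_smul, Equiv.reflection_smul, reflection_apply_self,
          smul_neg, neg_neg]
      rw [this]; exact hneg
    have hpos : IsPosSys P (posOf P Δ) := isPosSys_posOf hΔ
    refine ⟨fun i => c' (P.reflectionPerm t i) + if i = t then f (P.root t) else 0, ?_, ?_, ?_⟩
    · intro i
      refine add_nonneg (hc'0 _) ?_
      split_ifs
      · exact hf t htΔ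
      · exact le_rfl
    · intro i hi
      by_cases hit : i = t
      · subst hit
        refine ⟨subset_posOf htΔ, fun hmem => ?_⟩
        exact IsPosSys_neg_root_notMem hpos hmem (natSpan_mono P subset_posOf hneg)
      · simp only [hit, if_false, add_zero] at hi
        obtain ⟨hj, hgj⟩ := hc'S _ hi
        set j := P.reflectionPerm t i with hjdef
        have hij : i = P.reflectionPerm t j := by rw [hjdef, P.reflectionPerm_self]
        have hgi : g • i = g' • j := by
          rw [hprod, mul_smul, reflection_smul_idx]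
        refine ⟨?_, by rw [hgi]; exact hgj⟩
        rw [hij]
        rcases reflectionPerm_mem_posOf_or hΔ htΔ hj with h | ⟨n, hn⟩
        · exact h
        · exfalso
          apply hgj
          change P.root (g' • j) ∈ natSpan P Δ
          rw [aut_root, hn, smul_comm, ← aut_root]
          exact nsmul_mem hg't n
    · intro m
      have h1 : f m - f (g • m) =
          (f m - f (P.reflection t m)) + (f (P.reflection t m) - f (g' • P.reflection t m)) := by
        rw [hprod, mul_smul, Equiv.reflection_smul]; abel
      rw [h1, hc'f]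
      have h2 : f m - f (P.reflection t m) = P.coroot' t m • f (P.root t) := by
        rw [reflection_apply, map_sub, map_zsmul]; abel
      rw [h2]
      have h3 : ∑ i, P.coroot' i (P.reflection t m) • c' i =
          ∑ i, P.coroot' i m • c' (P.reflectionPerm t i) := by
        rw [← Equiv.sum_comp (P.reflectionPerm t)
          (fun i => P.coroot' i m • c' (P.reflectionPerm t i))]
        refine Finset.sum_congr rfl fun i _ => ?_
        rw [P.reflectionPerm_self, P.coroot'_reflection]
      rw [h3]
      simp only [smul_add, Finset.sum_add_distrib]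
      rw [add_comm]
      congr 1
      simp [Finset.sum_ite_eq']

lemma exists_minimal_word {Δ : Set ι} (hΔ : IsSimpleSys P Δ) {g : P.Aut}
    (hg : g ∈ P.weylGroup) :
    ∃ l : List ι, (∀ a ∈ l, a ∈ Δ) ∧ wordProd P l = g ∧
      ∀ l' : List ι, (∀ a ∈ l', a ∈ Δ) → wordProd P l' = wordProd P l →
        l.length ≤ l'.length := by
  classical
  haveI : Finite ι := Finite.of_fintype ι
  rw [← closure_simple_reflections hΔ] at hg
  have hex : ∃ n : ℕ, ∃ l : List ι, (∀ a ∈ l, a ∈ Δ) ∧ wordProd P l = g ∧ l.length = n := by
    obtain ⟨l, hl, hlg⟩ := exists_word_of_mem_closure hg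
    exact ⟨_, l, hl, hlg, rfl⟩
  obtain ⟨l, hl, hlg, hlen⟩ := Nat.find_spec hex
  refine ⟨l, hl, hlg, fun l' hl' hp => ?_⟩
  rw [hlen]
  exact Nat.find_min' hex ⟨l', hl', hp.trans hlg, rfl⟩

theorem strong_dominance {S : Set ι} (hS : IsPosSys P S) (f : M →+ Γ)
    (hf : ∀ i ∈ S, 0 ≤ f (P.root i)) {g : P.Aut} (hg : g ∈ P.weylGroup) :
    ∃ c : ι → Γ, (∀ i, 0 ≤ c i) ∧ (∀ i, i ∉ S → c i = 0) ∧
      ∀ m : M, f m - f (g • m) = ∑ i, P.coroot' i m • c i := by
  haveI : Finite ι := Finite.of_fintype ι
  obtain ⟨Δ, hΔ, hΔS, hSΔ⟩ := exists_simpleSys hS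
  obtain ⟨l, hl, rfl, hmin⟩ := exists_minimal_word hΔ hg
  obtain ⟨c, hc0, hcS, hcf⟩ := strong_of_minimal_word hΔ f (fun i hi => hf i (hΔS hi)) l hl hmin
  refine ⟨c, hc0, fun i hi => ?_, hcf⟩
  by_contra hne
  exact hi (hSΔ ▸ (hcS i hne).1)

lemma nonneg_of_zsmul_nonneg {n : ℤ} (hn : 0 < n) {x : Γ} (h : 0 ≤ n • x) : 0 ≤ x := by
  by_contra hx
  push Not at hx
  have h1 : 0 < -x := neg_pos.mpr hx
  have h2 : 0 < n • (-x) := zsmul_pos h1 hn
  rw [smul_neg, neg_pos] at h2
  exact absurd h (not_le.mpr h2)

/-- the regular dominant weight is dominant -/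
lemma rho2_dominant {S : Set ι} (hS : IsPosSys P S) : ∀ j ∈ S, 0 < P.coroot' j (rho2 P S) := by
  haveI : Finite ι := Finite.of_fintype ι
  obtain ⟨Δ, hΔ, hΔS, hSΔ⟩ := exists_simpleSys hS
  rw [hSΔ]
  exact coroot'_rho2_pos hΔ

/-- criterion of dominance through the regular dominant weight -/
theorem dominant_of_reflection_rho2 {S : Set ι} (hS : IsPosSys P S) (f : M →+ Γ)
    (h : ∀ i ∈ S, f (P.reflection i (rho2 P S)) ≤ f (rho2 P S)) :
    ∀ i ∈ S, 0 ≤ f (P.root i) := by
  intro i hi
  have h1 := h i hi
  rw [reflection_apply, map_sub, map_zsmul, sub_le_self_iff] at h1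
  exact nonneg_of_zsmul_nonneg (rho2_dominant hS i hi) h1

end Strong

end Groth.Agent.Lib.Helper27.Dominant
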