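import Groth.Agent.Lib.Helper27.Dominant2
import Groth.Agent.S5452
import Mathlib.LinearAlgebra.RootSystem.Finite.CanonicalBilinear

/-! Weak dominance, dominant conjugates of weights, finiteness of the Weyl group (helper27). -/

set_option autoImplicit false

namespace Groth.Agent.Lib.Helper27.Dominant

open RootPairing RootD Groth.Agent.Lib.Helper28

variable {ι M N : Type*} [AddCommGroup M] [AddCommGroup N] {P : RootPairing ι ℤ M N}

section Weak

variable [Fintype ι] {Γ : Type*} [AddCommGroup Γ] [LinearOrder Γ] [IsOrderedAddMonoid Γ]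

theorem weak_dominance {S : Set ι} (hS : IsPosSys P S) (f : M →+ Γ)
    (hf : ∀ i ∈ S, 0 ≤ f (P.root i)) {g : P.Aut} (hg : g ∈ P.weylGroup) {m : M}
    (hm : ∀ i ∈ S, 0 ≤ P.coroot' i m) : f (g • m) ≤ f m := by
  obtain ⟨c, hc0, hcS, hcf⟩ := strong_dominance hS f hf hg
  rw [← sub_nonneg, hcf]
  refine Finset.sum_nonneg fun i _ => ?_
  by_cases hi : i ∈ S
  · exact zsmul_nonneg (hc0 i) (hm i hi)
  · rw [hcS i hi, smul_zero]

lemma rootForm_weyl {g : P.Aut} (hg : g ∈ P.weylGroup) (x y : M) :
    P.RootForm (g • x) (g • y) = P.RootForm x y := by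
  induction hg using weylGroup.induction generalizing x y with
  | mem i => simp
  | one => simp
  | mul a b _ _ ha hb => rw [mul_smul, mul_smul, ha, hb]

lemma rootForm_root_self_pos (i : ι) : 0 < P.RootForm (P.root i) (P.root i) := by
  rw [rootForm_root_self]
  have h1 : P.pairing i i * P.pairing i i ≤ ∑ k, P.pairing i k * P.pairing i k :=
    Finset.single_le_sum (f := fun k => P.pairing i k * P.pairing i k)
      (fun k _ => mul_self_nonneg _) (Finset.mem_univ i)
  rw [pairing_same] at h1
  omega

lemma rootForm_self_mul_coroot' (i : ι) (y : M) :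
    P.RootForm (P.root i) (P.root i) * P.coroot' i y = 2 * P.RootForm (P.root i) y := by
  have h := congrArg (P.toLinearMap y) (P.rootForm_self_smul_coroot i)
  rw [map_smul, map_nsmul, toLinearMap_apply_apply_Polarization] at h
  simpa using h

theorem exists_dominant_weight {S : Set ι} (hS : IsPosSys P S) (x : M) :
    ∃ g : P.Aut, g ∈ P.weylGroup ∧ ∀ i ∈ S, 0 ≤ P.coroot' i (g • x) := by
  haveI : Finite ι := Finite.of_fintype ι
  obtain ⟨g', hg', h⟩ := exists_dominant hS ((P.RootForm x : M →ₗ[ℤ] ℤ).toAddMonoidHom)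
  refine ⟨g'⁻¹, inv_mem hg', fun i hi => ?_⟩
  have h1 : 0 ≤ P.RootForm x (g' • P.root i) := h i hi
  have h2 : P.RootForm (P.root i) (g'⁻¹ • x) = P.RootForm x (g' • P.root i) := by
    rw [← rootForm_weyl hg' (P.root i) (g'⁻¹ • x), smul_inv_smul]
    exact P.rootForm_symmetric.eq _ _
  have h3 := rootForm_self_mul_coroot' (P := P) i (g'⁻¹ • x)
  have h4 := rootForm_root_self_pos (P := P) i
  rw [h2] at h3
  by_contra hneg
  push Not at hneg
  nlinarith

end Weak

section Fin

variable [Finite ι]

instance finite_weylGroup : Finite P.weylGroup :=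
  Finite.of_injective _ (Groth.Agent.S5452.result P)

end Fin

end Groth.Agent.Lib.Helper27.Dominant
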