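import Mathlib.LinearAlgebra.RootSystem.Base
import Mathlib.LinearAlgebra.RootSystem.Finite.Nondegenerate
import Mathlib.LinearAlgebra.RootSystem.Finite.Lemmas

/-! Every nonempty set of simple roots has a "good leaf" in the Dynkin diagram (helper27). -/

set_option autoImplicit false
open RootPairing

namespace Groth.Agent.Lib.Helper27.DynkinLeaf

variable {ι R M N : Type*} [CommRing R] [IsDomain R] [CharZero R] [AddCommGroup M] [Module R M]
    [AddCommGroup N] [Module R N] (P : RootPairing ι R M N) [Finite ι] [P.IsCrystallographic]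

/-- Some column of the Cartan matrix restricted to `S` has positive sum. -/
lemma exists_pos_colsum (b : P.Base) (S : Finset ι) (hS : S ⊆ b.support) (hne : S.Nonempty) :
    ∃ v ∈ S, 0 < ∑ u ∈ S, P.pairingIn ℤ u v := by
  classical
  have : Fintype ι := Fintype.ofFinite ι
  by_contra hcon
  push Not at hcon
  set B := P.posRootForm ℤ with hB
  let r : ι → P.rootSpan ℤ := fun i => P.rootSpanMem ℤ i
  set x : P.rootSpan ℤ := ∑ u ∈ S, r u with hx
  have hx0 : x ≠ 0 := by
    intro h0
    have h1 : ((x : P.rootSpan ℤ) : M) = 0 := by rw [h0]; rfl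
    rw [hx] at h1
    simp only [AddSubmonoidClass.coe_finset_sum, r] at h1
    have hli := b.linearIndepOn_root
    rw [linearIndepOn_iff'] at hli
    obtain ⟨v, hv⟩ := hne
    have := hli S (fun _ => 1) (by simpa using hS) (by simpa using h1) v hv
    simp at this
  have hpos := P.posRootForm_posForm_pos_of_ne_zero ℤ hx0
  have h2 : ∀ u v, 2 * B.posForm (r u) (r v) = P.pairingIn ℤ u v * B.posForm (r v) (r v) := by
    intro u v
    apply FaithfulSMul.algebraMap_injective ℤ R
    have e1 := B.algebraMap_posForm (x := r u) (y := r v)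
    have e2 := B.algebraMap_posForm (x := r v) (y := r v)
    have e3 := P.algebraMap_pairingIn ℤ u v
    have e4 := B.toInvariantForm.two_mul_apply_root_root u v
    rw [map_mul, map_mul, map_ofNat, e1, e2, e3]
    exact e4
  have h3 : 2 * B.posForm x x = ∑ v ∈ S, (∑ u ∈ S, P.pairingIn ℤ u v) * B.posForm (r v) (r v) := by
    rw [hx]
    simp only [map_sum, LinearMap.sum_apply, Finset.mul_sum, Finset.sum_mul]
    refine Finset.sum_congr rfl fun v _ => Finset.sum_congr rfl fun u _ => ?_
    exact h2 u v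
  have h4 : 2 * B.posForm x x ≤ 0 := by
    rw [h3]
    refine Finset.sum_nonpos fun v hv => ?_
    exact mul_nonpos_of_nonpos_of_nonneg (hcon v hv) (B.zero_lt_posForm_apply_root v).le
  rw [← hB] at hpos
  linarith

lemma flip_pairingIn (u v : ι) : P.flip.pairingIn ℤ u v = P.pairingIn ℤ v u := by
  apply FaithfulSMul.algebraMap_injective ℤ R
  rw [algebraMap_pairingIn, algebraMap_pairingIn]
  rfl

/-- Some row of the Cartan matrix restricted to `S` has positive sum. -/
lemma exists_pos_rowsum (b : P.Base) (S : Finset ι) (hS : S ⊆ b.support) (hne : S.Nonempty) :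
    ∃ v ∈ S, 0 < ∑ u ∈ S, P.pairingIn ℤ v u := by
  obtain ⟨v, hv, h⟩ := exists_pos_colsum P.flip b.flip S hS hne
  refine ⟨v, hv, ?_⟩
  simpa only [flip_pairingIn] using h

/-- Every nonempty set of simple roots contains a good leaf. -/
lemma exists_good_leaf (b : P.Base) (S : Finset ι) (hS : S ⊆ b.support) (hne : S.Nonempty) :
    ∃ v ∈ S, (∀ u ∈ S, u ≠ v → P.pairingIn ℤ v u = 0) ∨
      (∃ u ∈ S, u ≠ v ∧ P.pairingIn ℤ v u = -1 ∧
        ∀ w ∈ S, w ≠ v → w ≠ u → P.pairingIn ℤ v w = 0) := by
  classical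
  obtain ⟨v, hv, hpos⟩ := exists_pos_rowsum P b S hS hne
  refine ⟨v, hv, ?_⟩
  have hle : ∀ u ∈ S, u ≠ v → P.pairingIn ℤ v u ≤ 0 := fun u hu huv =>
    b.pairingIn_le_zero_of_ne (Ne.symm huv) (hS hv) (hS hu)
  rw [← Finset.add_sum_erase S _ hv, P.pairingIn_same] at hpos
  by_cases hall : ∀ u ∈ S, u ≠ v → P.pairingIn ℤ v u = 0
  · exact Or.inl hall
  · right
    push Not at hall
    obtain ⟨u, hu, huv, hne0⟩ := hall
    have hu' : u ∈ S.erase v := Finset.mem_erase.mpr ⟨huv, hu⟩
    rw [← Finset.add_sum_erase (S.erase v) _ hu'] at hpos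
    have hT : ∑ w ∈ (S.erase v).erase u, P.pairingIn ℤ v w ≤ 0 := by
      refine Finset.sum_nonpos fun w hw => ?_
      rw [Finset.mem_erase, Finset.mem_erase] at hw
      exact hle w hw.2.2 hw.2.1
    have h1 : P.pairingIn ℤ v u ≤ -1 := by
      have := hle u hu huv
      omega
    have h2 : P.pairingIn ℤ v u = -1 := by omega
    have h3 : ∑ w ∈ (S.erase v).erase u, P.pairingIn ℤ v w = 0 := by omega
    refine ⟨u, hu, huv, h2, fun w hw hwv hwu => ?_⟩
    have h4 := (Finset.sum_eq_zero_iff_of_nonpos (fun w hw => by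
      rw [Finset.mem_erase, Finset.mem_erase] at hw
      exact hle w hw.2.2 hw.2.1)).mp h3
    exact h4 w (Finset.mem_erase.mpr ⟨hwu, Finset.mem_erase.mpr ⟨hwv, hw⟩⟩)

/-- Solving the "potential" equations on the Dynkin diagram. -/
lemma exists_potential (b : P.Base) (e : ι → ι → ℤ) (he : ∀ i j, e j i = - e i j)
    (hz : ∀ i ∈ b.support, ∀ j ∈ b.support, i ≠ j → P.pairingIn ℤ i j = 0 → e i j = 0) :
    ∀ (n : ℕ) (S : Finset ι), S.card = n → S ⊆ b.support → ∃ x : ι → ℤ, ∀ i ∈ S, ∀ j ∈ S, i ≠ j →
      P.pairingIn ℤ i j * x i - P.pairingIn ℤ j i * x j = e i j := by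
  classical
  have : Module.IsReflexive R M := .of_isPerfPair P.toLinearMap
  have hsymm : ∀ i j, P.pairingIn ℤ i j = 0 → P.pairingIn ℤ j i = 0 := fun i j h =>
    P.pairingIn_eq_zero_iff.mp h
  intro n
  induction n with
  | zero =>
    intro S hS _
    rw [Finset.card_eq_zero] at hS
    subst hS
    exact ⟨0, by simp⟩
  | succ n ih =>
    intro S hcard hS
    have hne : S.Nonempty := by
      rw [← Finset.card_pos]; omega
    obtain ⟨v, hv, hleaf⟩ := exists_good_leaf P b S hS hne
    have hcard' : (S.erase v).card = n := by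
      rw [Finset.card_erase_of_mem hv]; omega
    have hS' : S.erase v ⊆ b.support := (Finset.erase_subset _ _).trans hS
    obtain ⟨x', hx'⟩ := ih (S.erase v) hcard' hS'
    rcases hleaf with hall | ⟨u, hu, huv, hvu, hrest⟩
    · refine ⟨x', fun i hi j hj hij => ?_⟩
      by_cases hiv : i = v
      · subst hiv
        have h0 := hall j hj (Ne.symm hij)
        rw [h0, hsymm _ _ h0, hz i (hS hi) j (hS hj) hij h0]; ring
      · by_cases hjv : j = v
        · subst hjv
          have h0 := hall i hi hij
          rw [h0, hsymm _ _ h0, hz i (hS hi) j (hS hj) hij (hsymm _ _ h0)]; ring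
        · exact hx' i (Finset.mem_erase.mpr ⟨hiv, hi⟩) j (Finset.mem_erase.mpr ⟨hjv, hj⟩) hij
    · refine ⟨Function.update x' v (- P.pairingIn ℤ u v * x' u - e v u), fun i hi j hj hij => ?_⟩
      by_cases hiv : i = v
      · subst hiv
        rw [Function.update_self, Function.update_of_ne (Ne.symm hij)]
        by_cases hju : j = u
        · subst hju
          rw [hvu]; ring
        · have h0 := hrest j hj (Ne.symm hij) hju
          rw [h0, hsymm _ _ h0, hz i (hS hi) j (hS hj) hij h0]; ring
      · by_cases hjv : j = v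
        · subst hjv
          rw [Function.update_self, Function.update_of_ne hiv]
          by_cases hiu : i = u
          · subst hiu
            rw [hvu, he j i]; ring
          · have h0 := hrest i hi hij hiu
            rw [h0, hsymm _ _ h0, hz i (hS hi) j (hS hj) hij (hsymm _ _ h0)]; ring
        · rw [Function.update_of_ne hiv, Function.update_of_ne hjv]
          exact hx' i (Finset.mem_erase.mpr ⟨hiv, hi⟩) j (Finset.mem_erase.mpr ⟨hjv, hj⟩) hij

end Groth.Agent.Lib.Helper27.DynkinLeaf
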