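import Mathlib
import Groth.Agent.Lib.Helper27.DetDiv

/-! The Frobenius kernel algebra `k[x]/(x_i^p)`, its derivations and the nonvanishing of
`det (δ_ij (x_i + c_i)^(p-1) + ∂_j g_i)` (helper27). -/

set_option autoImplicit false

namespace Groth.Agent.Lib.Helper27.FrobKer

open MvPolynomial

section binom

variable (p : ℕ) [hp : Fact p.Prime] (k : Type*) [Field k] [CharP k p]
  {R : Type*} [CommRing R] [Algebra k R]

/-- an antiderivative of `(x + c)^(p-1) - x^(p-1)` -/
noncomputable def anti (x : R) (c : k) : R :=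
  ∑ r ∈ Finset.range (p - 1),
    (((p - 1).choose r : k) * c ^ (p - 1 - r) * ((r + 1 : ℕ) : k)⁻¹) • x ^ (r + 1)

lemma deriv_anti (D : Derivation k R R) (x : R) (c : k) :
    D (anti p k x c) = ((x + algebraMap k R c) ^ (p - 1) - x ^ (p - 1)) * D x := by
  have hp1 : p - 1 + 1 = p := Nat.sub_add_cancel hp.out.one_le
  rw [add_pow, Finset.sum_range_succ, Nat.sub_self, pow_zero, mul_one, Nat.choose_self,
    Nat.cast_one, mul_one, add_sub_cancel_right, anti, map_sum, Finset.sum_mul]
  apply Finset.sum_congr rfl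
  intro r hr
  rw [Finset.mem_range] at hr
  have hne : ((r + 1 : ℕ) : k) ≠ 0 := by
    intro h
    rw [CharP.cast_eq_zero_iff k p] at h
    have := Nat.le_of_dvd (Nat.succ_pos r) h
    omega
  rw [Derivation.map_smul, Derivation.leibniz_pow, Nat.add_sub_cancel, smul_eq_mul]
  rw [← Nat.cast_smul_eq_nsmul k (r + 1), smul_smul, mul_assoc, inv_mul_cancel₀ hne, mul_one]
  rw [Algebra.smul_def, map_mul, map_pow, map_natCast]
  ring

end binom

section T

variable (p : ℕ) [hp : Fact p.Prime] (k : Type*) [Field k] [CharP k p] (n : ℕ)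

/-- the ideal generated by the `p`-th powers of the variables -/
noncomputable def J : Ideal (MvPolynomial (Fin n) k) :=
  Ideal.span (Set.range fun i : Fin n => (X i : MvPolynomial (Fin n) k) ^ p)

/-- the Frobenius kernel algebra -/
abbrev T : Type _ := MvPolynomial (Fin n) k ⧸ J p k n

/-- the quotient map -/
noncomputable def mkT : MvPolynomial (Fin n) k →ₐ[k] T p k n := Ideal.Quotient.mkₐ k (J p k n)

lemma mkT_surj : Function.Surjective (mkT p k n) := Ideal.Quotient.mkₐ_surjective _ _

lemma mkT_eq_zero_iff (H : MvPolynomial (Fin n) k) : mkT p k n H = 0 ↔ H ∈ J p k n :=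
  Ideal.Quotient.eq_zero_iff_mem

lemma pderiv_X_pow_p (i j : Fin n) : pderiv j ((X i : MvPolynomial (Fin n) k) ^ p) = 0 := by
  rw [pderiv_pow]
  have : ((p : ℕ) : MvPolynomial (Fin n) k) = 0 := by
    rw [← map_natCast (C : k →+* MvPolynomial (Fin n) k), CharP.cast_eq_zero k p, map_zero]
  rw [this, zero_mul, zero_mul]

lemma pderiv_mem_J (j : Fin n) (H : MvPolynomial (Fin n) k) (hH : H ∈ J p k n) :
    pderiv j H ∈ J p k n := by
  unfold J at hH ⊢
  induction hH using Submodule.span_induction with
  | mem y hy =>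
    obtain ⟨i, rfl⟩ := hy
    rw [pderiv_X_pow_p]
    exact Ideal.zero_mem _
  | zero => rw [map_zero]; exact Ideal.zero_mem _
  | add y z _ _ hy hz => rw [map_add]; exact Ideal.add_mem _ hy hz
  | smul a y hmem hy =>
    rw [smul_eq_mul, pderiv_mul]
    exact Ideal.add_mem _ (Ideal.mul_mem_left _ _ hmem) (Ideal.mul_mem_left _ _ hy)

lemma mkT_pderiv_zero (j : Fin n) (H : MvPolynomial (Fin n) k) (hH : mkT p k n H = 0) :
    mkT p k n (pderiv j H) = 0 := by
  rw [mkT_eq_zero_iff] at hH ⊢
  exact pderiv_mem_J p k n j H hH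

/-- the partial derivatives of the Frobenius kernel algebra -/
noncomputable def dT (j : Fin n) : Derivation k (T p k n) (T p k n) :=
  Derivation.liftOfSurjective (f := mkT p k n) (mkT_surj p k n) (d := pderiv j)
    (mkT_pderiv_zero p k n j)

lemma dT_mk (j : Fin n) (H : MvPolynomial (Fin n) k) :
    dT p k n j (mkT p k n H) = mkT p k n (pderiv j H) :=
  Derivation.liftOfSurjective_apply (mkT_surj p k n) (mkT_pderiv_zero p k n j) H

lemma pderiv_comm (i j : Fin n) (H : MvPolynomial (Fin n) k) :
    pderiv i (pderiv j H) = pderiv j (pderiv i H) := by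
  have h : ⁅(pderiv i : Derivation k (MvPolynomial (Fin n) k) (MvPolynomial (Fin n) k)),
      (pderiv j : Derivation k (MvPolynomial (Fin n) k) (MvPolynomial (Fin n) k))⁆ = 0 := by
    apply MvPolynomial.derivation_ext
    intro l
    classical
    rw [Derivation.commutator_apply, pderiv_X, pderiv_X, Derivation.zero_apply]
    have hconst : ∀ (a b : Fin n) (l' : Fin n),
        pderiv l' ((Pi.single a 1 : Fin n → MvPolynomial (Fin n) k) b) = 0 := by
      intro a b l'
      by_cases hab : b = a
      · subst hab; rw [Pi.single_eq_same, pderiv_one]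
      · rw [Pi.single_eq_of_ne hab, map_zero]
    rw [hconst, hconst, sub_zero]
  have h2 := congrArg (fun D => D H) h
  simp only [Derivation.commutator_apply, Derivation.zero_apply] at h2
  exact sub_eq_zero.1 h2

lemma dT_comm (j l : Fin n) (x : T p k n) :
    dT p k n j (dT p k n l x) = dT p k n l (dT p k n j x) := by
  obtain ⟨H, rfl⟩ := mkT_surj p k n x
  rw [dT_mk, dT_mk, dT_mk, dT_mk, pderiv_comm]

/-- the top exponent `(p-1, …, p-1)` -/
noncomputable def top : Fin n →₀ ℕ := Finsupp.equivFunOnFinite.symm fun _ => p - 1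

lemma top_apply (i : Fin n) : top p n i = p - 1 := rfl

/-- the functional: coefficient of the top monomial -/
noncomputable def lam (H : MvPolynomial (Fin n) k) : k := coeff (top p n) H

lemma lam_add (H H' : MvPolynomial (Fin n) k) : lam p k n (H + H') = lam p k n H + lam p k n H' :=
  coeff_add _ _ _

lemma lam_sum {α : Type*} (s : Finset α) (f : α → MvPolynomial (Fin n) k) :
    lam p k n (∑ a ∈ s, f a) = ∑ a ∈ s, lam p k n (f a) :=
  coeff_sum _ _ _

lemma coeff_eq_zero_of_mem_J (H : MvPolynomial (Fin n) k) (hH : H ∈ J p k n)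
    (m : Fin n →₀ ℕ) (hm : ∀ i, m i < p) : coeff m H = 0 := by
  classical
  unfold J at hH
  induction hH using Submodule.span_induction generalizing m with
  | mem y hy =>
    obtain ⟨i, rfl⟩ := hy
    change coeff m ((X i : MvPolynomial (Fin n) k) ^ p) = 0
    rw [X_pow_eq_monomial, coeff_monomial, if_neg]
    intro h
    have := hm i
    rw [← h, Finsupp.single_eq_same] at this
    omega
  | zero => exact coeff_zero _
  | add y z _ _ hy hz => rw [coeff_add, hy m hm, hz m hm, add_zero]
  | smul a y _ hy =>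
    rw [smul_eq_mul, coeff_mul]
    apply Finset.sum_eq_zero
    intro x hx
    have hx := Finset.HasAntidiagonal.mem_antidiagonal.1 hx
    rw [hy x.2, mul_zero]
    intro i
    have h1 := congrArg (fun f : Fin n →₀ ℕ => f i) hx
    simp only [Finsupp.add_apply] at h1
    have := hm i
    omega

lemma lam_eq_zero_of_mem_J (H : MvPolynomial (Fin n) k) (hH : H ∈ J p k n) : lam p k n H = 0 :=
  coeff_eq_zero_of_mem_J p k n H hH _ fun i => by
    rw [top_apply]; exact Nat.sub_lt hp.out.pos Nat.one_pos

lemma lam_pderiv (j : Fin n) (H : MvPolynomial (Fin n) k) : lam p k n (pderiv j H) = 0 := by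
  unfold lam
  rw [coeff_pderiv, top_apply]
  have : (((p - 1 : ℕ) : k) + 1) = 0 := by
    have h1 : ((p - 1 : ℕ) : k) + 1 = ((p - 1 + 1 : ℕ) : k) := by push_cast; ring
    rw [h1, Nat.sub_add_cancel hp.out.one_le, CharP.cast_eq_zero]
  rw [this, mul_zero]

lemma lam_prod : lam p k n (∏ i : Fin n, (X i : MvPolynomial (Fin n) k) ^ (p - 1)) = 1 := by
  classical
  have : (∏ i : Fin n, (X i : MvPolynomial (Fin n) k) ^ (p - 1)) = monomial (top p n) 1 := by
    rw [monomial_eq, C_1, one_mul, Finsupp.prod_fintype]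
    · rfl
    · intro i; exact pow_zero _
  rw [this, lam, coeff_monomial, if_pos rfl]

/-- the class of the `i`-th variable -/
noncomputable def x (i : Fin n) : T p k n := mkT p k n (X i)

lemma dT_x (j i : Fin n) : dT p k n j (x p k n i) = if i = j then 1 else 0 := by
  classical
  unfold x
  rw [dT_mk, pderiv_X]
  by_cases h : i = j
  · subst h; rw [Pi.single_eq_same, if_pos rfl, map_one]
  · rw [if_neg h, Pi.single_eq_of_ne h, map_zero]

open Groth.Agent.Lib.Helper27.DetDiv in
/-- The main nonvanishing statement. -/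
theorem det_ne_zero (c : Fin n → k) (g : Fin n → T p k n) :
    Matrix.det (Matrix.of fun i j : Fin n =>
      (if i = j then (x p k n i + algebraMap k (T p k n) (c i)) ^ (p - 1) else 0)
        + dT p k n j (g i)) ≠ 0 := by
  classical
  -- rewrite the matrix with diagonal `x_i^(p-1)`
  let s : Fin n → T p k n := fun i => anti p k (x p k n i) (c i)
  have hs : ∀ i j, dT p k n j (s i)
      = if i = j then (x p k n i + algebraMap k (T p k n) (c i)) ^ (p - 1) - x p k n i ^ (p - 1)
        else 0 := by
    intro i j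
    change dT p k n j (anti p k (x p k n i) (c i)) = _
    rw [deriv_anti, dT_x]
    by_cases h : i = j
    · rw [if_pos h, if_pos h, mul_one]
    · rw [if_neg h, if_neg h, mul_zero]
  have hmat : (Matrix.of fun i j : Fin n =>
      (if i = j then (x p k n i + algebraMap k (T p k n) (c i)) ^ (p - 1) else 0)
        + dT p k n j (g i))
      = Matrix.of fun i j : Fin n =>
        (if i = j then x p k n i ^ (p - 1) else 0) + dT p k n j (g i + s i) := by
    ext i j
    simp only [Matrix.of_apply, map_add, hs]
    by_cases h : i = j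
    · simp only [if_pos h]; ring
    · simp only [if_neg h]; ring
  rw [hmat]
  obtain ⟨h, hh⟩ := det_diag_add_grad (dT p k n) (dT_comm p k n)
    (fun i => x p k n i ^ (p - 1))
    (by
      intro i l hl
      rw [Derivation.leibniz_pow, dT_x, if_neg (Ne.symm hl), smul_zero, smul_zero])
    (fun i => g i + s i)
  rw [hh]
  intro h0
  choose Hh hHh using fun j => mkT_surj p k n (h j)
  have e1 : mkT p k n (∏ i : Fin n, (X i : MvPolynomial (Fin n) k) ^ (p - 1))
      = ∏ i, x p k n i ^ (p - 1) := by
    rw [map_prod]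
    apply Finset.prod_congr rfl
    intro i _
    rw [map_pow]; rfl
  have e2 : mkT p k n (∑ j, pderiv j (Hh j)) = ∑ j, dT p k n j (h j) := by
    rw [map_sum]
    apply Finset.sum_congr rfl
    intro j _
    rw [← dT_mk, hHh]
  have h1 : mkT p k n (∏ i : Fin n, (X i : MvPolynomial (Fin n) k) ^ (p - 1)
      + ∑ j, pderiv j (Hh j)) = 0 := by
    rw [map_add, e1, e2, h0]
  rw [mkT_eq_zero_iff] at h1
  have h2 := lam_eq_zero_of_mem_J p k n _ h1
  rw [lam_add, lam_prod, lam_sum] at h2
  simp only [lam_pderiv, Finset.sum_const_zero, add_zero] at h2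
  exact one_ne_zero h2

end T

end Groth.Agent.Lib.Helper27.FrobKer
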