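import Mathlib
import Groth.Agent.Lib.Helper27.FrobKer

/-! Étale coordinates: a formally smooth algebra whose differentials have a basis `d t_i` is formally
smooth over the polynomial ring in the `t_i` (helper27). -/

set_option autoImplicit false

namespace Groth.Agent.Lib.Helper27.EtaleCoord

open MvPolynomial KaehlerDifferential TensorProduct

section smooth

variable {k : Type*} {A : Type*} [CommRing k] [CommRing A] [Algebra k A] {n : ℕ}
  [Algebra (MvPolynomial (Fin n) k) A] [IsScalarTower k (MvPolynomial (Fin n) k) A]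

theorem formallySmooth_of_basis [Algebra.FormallySmooth k A] (t : Fin n → A)
    (b : Module.Basis (Fin n) A (Ω[A⁄k])) (hb : ∀ i, b i = D k A (t i))
    (halg : ∀ i, algebraMap (MvPolynomial (Fin n) k) A (X i) = t i) :
    Algebra.FormallySmooth (MvPolynomial (Fin n) k) A := by
  -- the base change map is an isomorphism
  let b' : Module.Basis (Fin n) A (A ⊗[MvPolynomial (Fin n) k] Ω[MvPolynomial (Fin n) k⁄k]) :=
    (mvPolynomialBasis k (Fin n)).baseChange A
  have hmap : ∀ i, mapBaseChange k (MvPolynomial (Fin n) k) A (b' i) = b i := by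
    intro i
    rw [Module.Basis.baseChange_apply, mapBaseChange_tmul, one_smul, mvPolynomialBasis_apply,
      map_D, halg, hb]
  have heq : mapBaseChange k (MvPolynomial (Fin n) k) A
      = (b'.equiv b (Equiv.refl _)).toLinearMap := by
    apply b'.ext
    intro i
    rw [hmap, LinearEquiv.coe_coe, Module.Basis.equiv_apply, Equiv.refl_apply]
  have hinj : Function.Injective (mapBaseChange k (MvPolynomial (Fin n) k) A) := by
    rw [heq]; exact (b'.equiv b (Equiv.refl _)).injective
  have hsurj : Function.Surjective (mapBaseChange k (MvPolynomial (Fin n) k) A) := by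
    rw [heq]; exact (b'.equiv b (Equiv.refl _)).surjective
  constructor
  · -- the relative differentials vanish
    have hsub : Subsingleton (Ω[A⁄MvPolynomial (Fin n) k]) := by
      refine ⟨fun x y => ?_⟩
      have h0 : ∀ z : Ω[A⁄MvPolynomial (Fin n) k], z = 0 := by
        intro z
        obtain ⟨w, rfl⟩ := KaehlerDifferential.map_surjective k (MvPolynomial (Fin n) k) A z
        obtain ⟨v, rfl⟩ := hsurj w
        exact (exact_mapBaseChange_map k (MvPolynomial (Fin n) k) A _).2 ⟨v, rfl⟩
      rw [h0 x, h0 y]
    infer_instance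
  · refine ⟨fun x y => ?_⟩
    have h0 : ∀ z : Algebra.H1Cotangent (MvPolynomial (Fin n) k) A, z = 0 := by
      intro z
      have h1 : Algebra.H1Cotangent.δ k (MvPolynomial (Fin n) k) A z = 0 := by
        apply hinj
        rw [map_zero]
        exact (Algebra.H1Cotangent.exact_δ_mapBaseChange k (MvPolynomial (Fin n) k) A _).2 ⟨z, rfl⟩
      obtain ⟨w, rfl⟩ := (Algebra.H1Cotangent.exact_map_δ k (MvPolynomial (Fin n) k) A z).1 h1
      rw [Subsingleton.elim w 0, map_zero]
    rw [h0 x, h0 y]

end smooth

section point

/-- a nonzero finitely generated algebra over an algebraically closed field has a rational point -/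
lemma exists_point (k A : Type*) [Field k] [IsAlgClosed k] [CommRing A] [Algebra k A]
    [Nontrivial A] [Algebra.FiniteType k A] : Nonempty (A →ₐ[k] k) := by
  obtain ⟨m, hm⟩ := Ideal.exists_maximal A
  letI : Field (A ⧸ m) := Ideal.Quotient.field m
  haveI : Algebra.FiniteType k (A ⧸ m) :=
    Algebra.FiniteType.of_surjective (Ideal.Quotient.mkₐ k m) (Ideal.Quotient.mkₐ_surjective k m)
  haveI : Module.Finite k (A ⧸ m) := finite_of_finite_type_of_isJacobsonRing k (A ⧸ m)
  have hbij : Function.Bijective (algebraMap k (A ⧸ m)) :=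
    IsAlgClosed.algebraMap_bijective_of_isIntegral
  let e : k ≃ₐ[k] (A ⧸ m) := AlgEquiv.ofBijective (Algebra.ofId k (A ⧸ m)) hbij
  exact ⟨e.symm.toAlgHom.comp (Ideal.Quotient.mkₐ k m)⟩

end point

section psi

open Groth.Agent.Lib.Helper27.FrobKer

variable (p : ℕ) [hp : Fact p.Prime] (k : Type*) [Field k] [CharP k p] (n : ℕ)

/-- the augmentation of the Frobenius kernel algebra -/
noncomputable def aug : T p k n →ₐ[k] k :=
  Ideal.Quotient.liftₐ (J p k n) (aeval (0 : Fin n → k)) (by
    intro a ha
    unfold J at ha
    induction ha using Submodule.span_induction with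
    | mem y hy =>
      obtain ⟨i, rfl⟩ := hy
      simp [hp.out.ne_zero]
    | zero => exact map_zero _
    | add y z _ _ hy hz => rw [map_add, hy, hz, add_zero]
    | smul a y _ hy => rw [smul_eq_mul, map_mul, hy, mul_zero])

lemma aug_mk (H : MvPolynomial (Fin n) k) : aug p k n (mkT p k n H) = aeval (0 : Fin n → k) H :=
  rfl

lemma aug_x (i : Fin n) : aug p k n (x p k n i) = 0 := by
  unfold x
  rw [aug_mk, aeval_X]
  rfl

lemma x_pow_p (i : Fin n) : x p k n i ^ p = 0 := by
  unfold x
  rw [← map_pow, mkT_eq_zero_iff]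
  exact Ideal.subset_span ⟨i, rfl⟩

lemma ker_aug_le_nilradical : RingHom.ker (aug p k n : T p k n →+* k) ≤ nilradical (T p k n) := by
  intro y hy
  obtain ⟨H, rfl⟩ := mkT_surj p k n y
  rw [RingHom.mem_ker] at hy
  change aug p k n (mkT p k n H) = 0 at hy
  rw [aug_mk] at hy
  -- `H` lies in the ideal generated by the variables
  have hH : H ∈ Ideal.span (Set.range fun i : Fin n => (X i : MvPolynomial (Fin n) k)) := by
    have h1 : H - C (aeval (0 : Fin n → k) H)
        ∈ Ideal.span (Set.range fun i : Fin n => (X i : MvPolynomial (Fin n) k)) := by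
      set I := Ideal.span (Set.range fun i : Fin n => (X i : MvPolynomial (Fin n) k))
      have h : (Ideal.Quotient.mkₐ k I) =
          (Ideal.Quotient.mkₐ k I).comp
            ((Algebra.ofId k (MvPolynomial (Fin n) k)).comp (aeval (0 : Fin n → k))) := by
        apply MvPolynomial.algHom_ext
        intro i
        simp only [Ideal.Quotient.mkₐ_eq_mk, AlgHom.comp_apply, aeval_X, Pi.zero_apply, map_zero]
        rw [Ideal.Quotient.eq_zero_iff_mem]
        exact Ideal.subset_span ⟨i, rfl⟩
      have h2 := congrArg (fun g => g H) h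
      simp only [Ideal.Quotient.mkₐ_eq_mk, AlgHom.comp_apply, Algebra.ofId_apply,
        MvPolynomial.algebraMap_eq] at h2
      rw [← Ideal.Quotient.eq]
      exact h2
    rw [hy, map_zero, sub_zero] at h1
    exact h1
  have hmap := Ideal.mem_map_of_mem (mkT p k n : MvPolynomial (Fin n) k →+* T p k n) hH
  rw [Ideal.map_span, ← Set.range_comp] at hmap
  refine (Ideal.span_le.2 ?_) hmap
  rintro _ ⟨i, rfl⟩
  exact ⟨p, x_pow_p p k n i⟩

variable {A : Type*} [CommRing A] [Algebra k A] [IsAlgClosed k] [Nontrivial A]
  [Algebra.FormallySmooth k A] [Algebra.FiniteType k A] {n}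

/-- the étale-coordinate map to the Frobenius kernel algebra -/
theorem exists_psi (t : Fin n → A) (b : Module.Basis (Fin n) A (Ω[A⁄k]))
    (hb : ∀ i, b i = D k A (t i)) :
    ∃ (c : Fin n → k) (ψ : A →ₐ[k] T p k n),
      ∀ i, ψ (t i) = x p k n i + algebraMap k (T p k n) (c i) := by
  obtain ⟨ev⟩ := exists_point k A
  let c : Fin n → k := fun i => ev (t i)
  let t' : Fin n → A := fun i => t i - algebraMap k A (c i)
  -- algebra structures over the polynomial ring
  letI algA : Algebra (MvPolynomial (Fin n) k) A := (aeval t' : MvPolynomial (Fin n) k →ₐ[k] A).toAlgebra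
  letI algK : Algebra (MvPolynomial (Fin n) k) k :=
    (aeval (0 : Fin n → k) : MvPolynomial (Fin n) k →ₐ[k] k).toAlgebra
  haveI : IsScalarTower k (MvPolynomial (Fin n) k) A := IsScalarTower.of_algebraMap_eq fun r => by
    change algebraMap k A r = aeval t' (algebraMap k (MvPolynomial (Fin n) k) r)
    rw [AlgHom.commutes]
  haveI : IsScalarTower k (MvPolynomial (Fin n) k) k := IsScalarTower.of_algebraMap_eq fun r => by
    change algebraMap k k r = aeval (0 : Fin n → k) (algebraMap k (MvPolynomial (Fin n) k) r)
    rw [AlgHom.commutes]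
  have halgA : ∀ q, algebraMap (MvPolynomial (Fin n) k) A q = aeval t' q := fun q => rfl
  have halgK : ∀ q, algebraMap (MvPolynomial (Fin n) k) k q = aeval (0 : Fin n → k) q := fun q => rfl
  have halgT : ∀ q, algebraMap (MvPolynomial (Fin n) k) (T p k n) q = mkT p k n q := fun q => rfl
  have hb' : ∀ i, b i = D k A (t' i) := by
    intro i
    rw [hb, map_sub, Derivation.map_algebraMap, sub_zero]
  haveI : Algebra.FormallySmooth (MvPolynomial (Fin n) k) A :=
    formallySmooth_of_basis t' b hb' (fun i => by rw [halgA, aeval_X])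
  -- the maps over the polynomial ring
  let f : A →ₐ[MvPolynomial (Fin n) k] k :=
    { ev.toRingHom with
      commutes' := fun q => by
        change ev (algebraMap (MvPolynomial (Fin n) k) A q) = algebraMap (MvPolynomial (Fin n) k) k q
        rw [halgA, halgK, ← AlgHom.comp_apply, MvPolynomial.comp_aeval]
        congr 2
        funext i
        simp only [Function.comp_apply, t', map_sub, AlgHom.commutes, Pi.zero_apply]
        change ev (t i) - algebraMap k k (ev (t i)) = 0
        rw [Algebra.algebraMap_self_apply, sub_self] }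
  let g : T p k n →ₐ[MvPolynomial (Fin n) k] k :=
    { (aug p k n).toRingHom with
      commutes' := fun q => by
        change aug p k n (algebraMap (MvPolynomial (Fin n) k) (T p k n) q)
          = algebraMap (MvPolynomial (Fin n) k) k q
        rw [halgT, halgK, aug_mk] }
  have hg : Function.Surjective g := by
    intro a
    refine ⟨algebraMap k (T p k n) a, ?_⟩
    change aug p k n (algebraMap k (T p k n) a) = a
    rw [AlgHom.commutes]
    rfl
  have hg' : IsNilpotent (RingHom.ker (g : T p k n →+* k)) := by
    obtain ⟨N, hN⟩ := IsNoetherianRing.isNilpotent_nilradical (T p k n)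
    refine ⟨N, ?_⟩
    have hle : RingHom.ker (g : T p k n →+* k) ≤ nilradical (T p k n) :=
      ker_aug_le_nilradical p k n
    have h1 := Ideal.pow_right_mono hle N
    rw [hN] at h1
    exact le_bot_iff.1 h1
  let ψ : A →ₐ[MvPolynomial (Fin n) k] T p k n :=
    Algebra.FormallySmooth.liftOfSurjective f g hg hg'
  refine ⟨c, ψ.restrictScalars k, fun i => ?_⟩
  change ψ (t i) = _
  have h1 : t i = algebraMap (MvPolynomial (Fin n) k) A (X i) + algebraMap k A (c i) := by
    rw [halgA, aeval_X]
    simp only [t', sub_add_cancel]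
  have h2 : ψ (algebraMap k A (c i)) = algebraMap k (T p k n) (c i) :=
    (ψ.restrictScalars k).commutes (c i)
  rw [h1, map_add, AlgHom.commutes, halgT, h2]
  rfl

/-- compatibility of the coordinate map with the partial derivatives -/
theorem psi_deriv (t : Fin n → A) (b : Module.Basis (Fin n) A (Ω[A⁄k]))
    (hb : ∀ i, b i = D k A (t i)) (c : Fin n → k) (ψ : A →ₐ[k] T p k n)
    (hψ : ∀ i, ψ (t i) = x p k n i + algebraMap k (T p k n) (c i)) (j : Fin n) (a : A) :
    ψ (b.coord j (D k A a)) = dT p k n j (ψ a) := by
  letI : Algebra A (T p k n) := ψ.toRingHom.toAlgebra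
  haveI : IsScalarTower k A (T p k n) := IsScalarTower.of_algebraMap_eq fun r => by
    change algebraMap k (T p k n) r = ψ (algebraMap k A r)
    rw [AlgHom.commutes]
  have halg : ∀ a : A, algebraMap A (T p k n) a = ψ a := fun a => rfl
  let D₁ : Derivation k A (T p k n) :=
    (Algebra.linearMap A (T p k n)).compDer ((b.coord j).compDer (D k A))
  let D₂ : Derivation k A (T p k n) := (dT p k n j).compAlgebraMap A
  have hD₁ : ∀ a, D₁ a = ψ (b.coord j (D k A a)) := fun a => rfl
  have hD₂ : ∀ a, D₂ a = dT p k n j (ψ a) := fun a => rfl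
  have hL : D₁.liftKaehlerDifferential = D₂.liftKaehlerDifferential := by
    apply b.ext
    intro i
    rw [hb, Derivation.liftKaehlerDifferential_comp_D, Derivation.liftKaehlerDifferential_comp_D,
      hD₁, hD₂, ← hb, Module.Basis.coord_apply, Module.Basis.repr_self, hψ, map_add, dT_x,
      Derivation.map_algebraMap, add_zero, Finsupp.single_apply]
    by_cases h : i = j
    · rw [if_pos h, if_pos h, map_one]
    · rw [if_neg h, if_neg h, map_zero]
  have h2 := congrArg (fun L => L (D k A a)) hL
  simp only [Derivation.liftKaehlerDifferential_comp_D] at h2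
  rw [← hD₁, ← hD₂]
  exact h2

end psi

end Groth.Agent.Lib.Helper27.EtaleCoord
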