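import Mathlib
import Groth.Prelude.Def_FrobAlg
import Groth.Agent.Lib.Helper27.RelFrobA

/-!
# Lifting finite étale algebras along surjections in characteristic `p`

For `R` of characteristic `p`, `A = R/I` and `B` finite étale over `A`, there is a finite étale
`R`-algebra `C = R[z]/(z_i^p - ∑ D_ij z_j)` (with `D` an invertible matrix) and a surjection
`A ⊗ C → B`.
-/

set_option autoImplicit false
set_option linter.unusedSectionVars false
universe u
open MvPolynomial TensorProduct Matrix

namespace Groth.Agent.Lib.Helper27.FEtLift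

section Alg
variable (p : ℕ) {σ : Type} [Fintype σ] [DecidableEq σ] (R : Type u) [CommRing R]
  (M : Matrix σ σ R)

/-- The relations `X_i^p - ∑_j M_ij X_j`. -/
noncomputable def rel (i : σ) : MvPolynomial σ R := X i ^ p - ∑ j, C (M i j) * X j

/-- The algebra `R[X]/(X_i^p - ∑_j M_ij X_j)`. -/
abbrev Calg : Type u := MvPolynomial σ R ⧸ Ideal.span (Set.range (rel p R M))

/-- The class of `X_i`. -/
noncomputable def z (i : σ) : Calg p R M := Ideal.Quotient.mk _ (X i)

lemma smul_Calg (r : R) (x : Calg p R M) :
    r • x = Ideal.Quotient.mk (Ideal.span (Set.range (rel p R M))) (C r) * x :=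
  Algebra.smul_def r x

lemma z_pow (i : σ) : z p R M i ^ p = ∑ j, M i j • z p R M j := by
  have h : Ideal.Quotient.mk (Ideal.span (Set.range (rel p R M))) (rel p R M i) = 0 :=
    Ideal.Quotient.eq_zero_iff_mem.2 (Ideal.subset_span ⟨i, rfl⟩)
  rw [rel, map_sub, sub_eq_zero, map_pow, map_sum] at h
  rw [z, h]
  refine Finset.sum_congr rfl fun j _ => ?_
  rw [map_mul, smul_Calg]
  rfl

/-- Monomials in the `z_i`. -/
noncomputable def monN (φ : σ → ℕ) : Calg p R M := ∏ i, z p R M i ^ φ i

lemma monN_split (φ : σ → ℕ) (i : σ) :
    monN p R M φ = z p R M i ^ φ i * ∏ j ∈ ({i}ᶜ : Finset σ), z p R M j ^ φ j := by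
  rw [monN, Fintype.prod_eq_mul_prod_compl i]

lemma monN_update (φ : σ → ℕ) (i : σ) (k : ℕ) :
    monN p R M (Function.update φ i k)
      = z p R M i ^ k * ∏ j ∈ ({i}ᶜ : Finset σ), z p R M j ^ φ j := by
  rw [monN_split p R M _ i, Function.update_self]
  congr 1
  refine Finset.prod_congr rfl fun j hj => ?_
  have hji : j ≠ i := by simpa using hj
  rw [Function.update_of_ne hji]

/-- Exponent vectors with all entries `< p`. -/
def gens : Finset (σ → ℕ) := Fintype.piFinset (fun _ => Finset.range p)

lemma mem_gens {φ : σ → ℕ} : φ ∈ gens p (σ := σ) ↔ ∀ i, φ i < p := by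
  simp [gens, Fintype.mem_piFinset]

/-- The span of the reduced monomials. -/
noncomputable def Sspan : Submodule R (Calg p R M) :=
  Submodule.span R ((monN p R M) '' ((gens p (σ := σ) : Finset (σ → ℕ)) : Set (σ → ℕ)))

lemma monN_mem {φ : σ → ℕ} (h : ∀ i, φ i < p) : monN p R M φ ∈ Sspan p R M := by
  apply Submodule.subset_span
  exact ⟨φ, Finset.mem_coe.2 ((mem_gens p).2 h), rfl⟩

lemma sum_update_zero (φ : σ → ℕ) (i : σ) :
    ∑ k, Function.update φ i 0 k + φ i = ∑ k, φ k := by
  rw [Fintype.sum_eq_add_sum_compl i, Fintype.sum_eq_add_sum_compl i φ, Function.update_self,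
    zero_add, add_comm]
  congr 1
  refine Finset.sum_congr rfl fun j hj => ?_
  have hji : j ≠ i := by simpa using hj
  rw [Function.update_of_ne hji]

lemma z_mul_monN_mem (hp2 : 2 ≤ p) : ∀ (d : ℕ) (φ : σ → ℕ), (∀ i, φ i < p) → ∑ i, φ i = d →
    ∀ i, z p R M i * monN p R M φ ∈ Sspan p R M := by
  intro d
  induction d using Nat.strong_induction_on with
  | _ d ih =>
    intro φ hφ hd i
    by_cases h : φ i + 1 < p
    · have h1 : z p R M i * monN p R M φ = monN p R M (Function.update φ i (φ i + 1)) := by
        rw [monN_update, monN_split p R M φ i, pow_succ', mul_assoc]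
      rw [h1]
      apply monN_mem
      intro j
      by_cases hj : j = i
      · subst hj
        rw [Function.update_self]
        exact h
      · rw [Function.update_of_ne hj]
        exact hφ j
    · have hpi : φ i + 1 = p := by
        have := hφ i
        omega
      have h1 : z p R M i * monN p R M φ
          = ∑ j, M i j • (z p R M j * monN p R M (Function.update φ i 0)) := by
        rw [monN_update, pow_zero, one_mul, monN_split p R M φ i, ← mul_assoc, ← pow_succ', hpi,
          z_pow, Finset.sum_mul]
        refine Finset.sum_congr rfl fun j _ => ?_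
        rw [smul_mul_assoc]
      rw [h1]
      refine Submodule.sum_mem _ fun j _ => Submodule.smul_mem _ _ ?_
      have hlt : ∑ k, Function.update φ i 0 k < d := by
        have := sum_update_zero φ i
        omega
      refine ih _ hlt (Function.update φ i 0) (fun j => ?_) rfl j
      by_cases hj : j = i
      · subst hj
        rw [Function.update_self]
        omega
      · rw [Function.update_of_ne hj]
        exact hφ j

lemma z_mul_mem (hp2 : 2 ≤ p) (i : σ) :
    ∀ x ∈ Sspan p R M, z p R M i * x ∈ Sspan p R M := by
  intro x hx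
  induction hx using Submodule.span_induction with
  | mem x hx =>
    obtain ⟨φ, hφ, rfl⟩ := hx
    exact z_mul_monN_mem p R M hp2 _ φ ((mem_gens p).1 (Finset.mem_coe.1 hφ)) rfl i
  | zero =>
    rw [mul_zero]
    exact Submodule.zero_mem _
  | add x y _ _ hx hy =>
    rw [mul_add]
    exact Submodule.add_mem _ hx hy
  | smul a x _ hx =>
    rw [mul_smul_comm]
    exact Submodule.smul_mem _ _ hx

theorem Sspan_eq_top (hp2 : 2 ≤ p) : Sspan p R M = ⊤ := by
  rw [eq_top_iff]
  rintro x -
  obtain ⟨f, rfl⟩ := Ideal.Quotient.mk_surjective x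
  induction f using MvPolynomial.induction_on with
  | C a =>
    have h1 : (Ideal.Quotient.mk (Ideal.span (Set.range (rel p R M))) (C a) : Calg p R M)
        = a • monN p R M (fun _ => 0) := by
      rw [monN, smul_Calg]
      simp only [pow_zero, Finset.prod_const_one, mul_one]
    rw [h1]
    exact Submodule.smul_mem _ _ (monN_mem p R M (fun _ => by omega))
  | add f g hf hg =>
    rw [map_add]
    exact Submodule.add_mem _ hf hg
  | mul_X f i hf =>
    rw [map_mul, mul_comm]
    exact z_mul_mem p R M hp2 i _ hf

theorem finite_Calg (hp2 : 2 ≤ p) : Module.Finite R (Calg p R M) :=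
  ⟨by rw [← Sspan_eq_top p R M hp2]; exact Submodule.fg_span ((Finset.finite_toSet _).image _)⟩

lemma pderiv_rel [Fact p.Prime] [CharP R p] (i j : σ) :
    pderiv i (rel p R M j) = - C (M j i) := by
  have hp0 : ((p : ℕ) : MvPolynomial σ R) = 0 := CharP.cast_eq_zero _ p
  rw [rel, map_sub, Derivation.leibniz_pow, nsmul_eq_mul, hp0, zero_mul, zero_sub, map_sum]
  congr 1
  rw [Finset.sum_eq_single i]
  · rw [pderiv_C_mul, pderiv_X_self, mul_one]
  · intro b _ hb
    rw [pderiv_C_mul, pderiv_X, Pi.single_eq_of_ne hb, mul_zero]
  · intro h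
    exact absurd (Finset.mem_univ i) h

theorem etale_Calg [Fact p.Prime] [CharP R p] (hM : IsUnit M.det) :
    Algebra.Etale R (Calg p R M) := by
  let P₀ : Algebra.PreSubmersivePresentation R (Calg p R M) σ σ :=
    Algebra.PreSubmersivePresentation.naive (v := rel p R M) id Function.injective_id
  have hJ : P₀.jacobiMatrix = -((M.map (C : R →+* MvPolynomial σ R))ᵀ) := by
    apply Matrix.ext
    intro i j
    rw [Algebra.PreSubmersivePresentation.jacobiMatrix_naive, id, pderiv_rel, Matrix.neg_apply,
      Matrix.transpose_apply, Matrix.map_apply]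
  have hdet : IsUnit P₀.jacobiMatrix.det := by
    rw [hJ, Matrix.det_neg, Matrix.det_transpose]
    have h1 : (M.map (C : R →+* MvPolynomial σ R)).det = C M.det := by
      rw [← RingHom.mapMatrix_apply, ← RingHom.map_det]
    rw [h1]
    exact (IsUnit.pow _ isUnit_one.neg).mul (hM.map C)
  let P : Algebra.SubmersivePresentation R (Calg p R M) σ σ :=
    { toPreSubmersivePresentation := P₀
      jacobian_isUnit := by
        rw [Algebra.PreSubmersivePresentation.jacobian_eq_jacobiMatrix_det]
        exact hdet.map _ }
  have hdim : P.dimension = 0 := by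
    simp [Algebra.Presentation.dimension]
  have := P.isStandardSmoothOfRelativeDimension hdim
  infer_instance

end Alg

section Main

open Groth.Agent.Lib.Helper27.RelFrob FrobAlg

theorem exists_finite_etale_lift (p : ℕ) [Fact p.Prime] (R A B : Type u)
    [CommRing R] [CommRing A] [CommRing B] [CharP R p] [Algebra R A]
    (hRA : Function.Surjective (algebraMap R A)) [Algebra A B] [Module.Finite A B]
    [Algebra.Etale A B] :
    ∃ (C : Type u) (_ : CommRing C) (_ : Algebra R C), Module.Finite R C ∧ Algebra.Etale R C ∧
      ∃ ψ : A ⊗[R] C →ₐ[A] B, Function.Surjective ψ := by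
  classical
  letI algRB : Algebra R B := ((algebraMap A B).comp (algebraMap R A)).toAlgebra
  have tower : IsScalarTower R A B := IsScalarTower.of_algebraMap_eq (fun _ => rfl)
  have hp : p.Prime := Fact.out
  by_cases hB : Subsingleton B
  · refine ⟨R, inferInstance, inferInstance, inferInstance, inferInstance, ?_⟩
    let ψ : A ⊗[R] R →ₐ[A] B :=
      Algebra.TensorProduct.lift (Algebra.ofId A B) (Algebra.ofId R B) (fun _ _ => Commute.all _ _)
    exact ⟨ψ, fun b => ⟨0, Subsingleton.elim _ _⟩⟩
  · rw [not_subsingleton_iff_nontrivial] at hB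
    have hA : Nontrivial A := (algebraMap A B).domain_nontrivial
    have hpA : ((p : ℕ) : A) = 0 := by
      rw [← map_natCast (algebraMap R A), CharP.cast_eq_zero, map_zero]
    have hpB : ((p : ℕ) : B) = 0 := by
      rw [← map_natCast (algebraMap A B), hpA, map_zero]
    have cA : CharP A p := (CharP.charP_iff_prime_eq_zero hp).2 hpA
    have cB : CharP B p := (CharP.charP_iff_prime_eq_zero hp).2 hpB
    obtain ⟨n, e, he⟩ := Module.Finite.exists_fin (R := A) (M := B)
    -- p-th powers span
    have hpow : Submodule.span A (Set.range fun i => e i ^ p) = ⊤ := by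
      have h1 : ∀ b : B, b ^ p ∈ Submodule.span A (Set.range fun i => e i ^ p) := by
        intro b
        have hb : b ∈ Submodule.span A (Set.range e) := he ▸ Submodule.mem_top
        induction hb using Submodule.span_induction with
        | mem x hx =>
          obtain ⟨i, rfl⟩ := hx
          exact Submodule.subset_span ⟨i, rfl⟩
        | zero =>
          rw [zero_pow hp.ne_zero]
          exact Submodule.zero_mem _
        | add x y _ _ hx hy =>
          rw [add_pow_char]
          exact Submodule.add_mem _ hx hy
        | smul a x _ hx =>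
          rw [Algebra.smul_def, mul_pow, ← map_pow, ← Algebra.smul_def]
          exact Submodule.smul_mem _ _ hx
      have h2 : ∀ x : BaseChange p A B,
          relFrob p A B x ∈ Submodule.span A (Set.range fun i => e i ^ p) := by
        intro x
        induction x using TensorProduct.induction_on with
        | zero =>
          rw [map_zero]
          exact Submodule.zero_mem _
        | tmul b t =>
          rw [relFrob_tmul, mul_comm, ← Algebra.smul_def]
          exact Submodule.smul_mem _ _ (h1 b)
        | add x y hx hy =>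
          rw [map_add]
          exact Submodule.add_mem _ hx hy
      rw [eq_top_iff]
      rintro b -
      obtain ⟨x, rfl⟩ := (relFrob_bijective_of_etale p A B).2 b
      exact h2 x
    -- the matrices
    have hc : ∀ i, ∃ c : Fin n → A, ∑ j, c j • e j = e i ^ p := fun i =>
      (Submodule.mem_span_range_iff_exists_fun A).1 (he ▸ Submodule.mem_top)
    choose c hc using hc
    have ha : ∀ i, ∃ a : Fin n → A, ∑ j, a j • e j ^ p = e i := fun i =>
      (Submodule.mem_span_range_iff_exists_fun A).1 (hpow ▸ Submodule.mem_top)
    choose a ha using ha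
    choose lift hlift using hRA
    let ct : Matrix (Fin n) (Fin n) R := fun i j => lift (c i j)
    let at' : Matrix (Fin n) (Fin n) R := fun i j => lift (a i j)
    let Dt : Matrix (Fin n ⊕ Fin n) (Fin n ⊕ Fin n) R :=
      Matrix.fromBlocks ct (-1) (1 - at' * ct) at'
    have hDt : IsUnit Dt.det := by
      have h1 : Dt * Matrix.fromBlocks at' 1 (ct * at' - 1) ct = 1 := by
        rw [Matrix.fromBlocks_multiply, ← Matrix.fromBlocks_one]
        congr 1 <;> noncomm_ring
      exact Matrix.isUnit_det_of_right_inverse h1
    let φ : R →+* B := algebraMap R B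
    have hφ : ∀ x : A, φ (lift x) = algebraMap A B x := fun x => by
      show algebraMap A B (algebraMap R A (lift x)) = _
      rw [hlift]
    let c' : Matrix (Fin n) (Fin n) B := ct.map φ
    let a' : Matrix (Fin n) (Fin n) B := at'.map φ
    let ep : Fin n → B := fun i => e i ^ p
    have h_ce : c'.mulVec e = ep := by
      funext i
      simp only [Matrix.mulVec, dotProduct, c', ct, Matrix.map_apply, hφ, ep]
      rw [← hc i]
      exact Finset.sum_congr rfl fun j _ => (Algebra.smul_def _ _).symm
    have h_ae : a'.mulVec ep = e := by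
      funext i
      simp only [Matrix.mulVec, dotProduct, a', at', Matrix.map_apply, hφ, ep]
      rw [← ha i]
      exact Finset.sum_congr rfl fun j _ => (Algebra.smul_def _ _).symm
    let f : Fin n ⊕ Fin n → B := Sum.elim e 0
    have hDmap : Dt.map φ = Matrix.fromBlocks c' (-1) (1 - a' * c') a' := by
      simp only [Dt, Matrix.fromBlocks_map, c', a']
      congr 1
      · show φ.mapMatrix (-1) = -1
        rw [map_neg, map_one]
      · show φ.mapMatrix (1 - at' * ct) = 1 - φ.mapMatrix at' * φ.mapMatrix ct
        rw [map_sub, map_mul, map_one]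
    have hf : ∀ i, f i ^ p = ∑ j, φ (Dt i j) * f j := by
      have h1 : (Dt.map φ).mulVec f = fun i => f i ^ p := by
        rw [hDmap, Matrix.fromBlocks_mulVec]
        have hl : f ∘ Sum.inl = e := rfl
        have hr : f ∘ Sum.inr = 0 := rfl
        rw [hl, hr, Matrix.mulVec_zero, Matrix.mulVec_zero, add_zero, add_zero, h_ce,
          Matrix.sub_mulVec, Matrix.one_mulVec, ← Matrix.mulVec_mulVec, h_ce, h_ae, sub_self]
        funext i
        cases i with
        | inl i => rfl
        | inr i => simp [f, zero_pow hp.ne_zero]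
      intro i
      have h2 := congrFun h1 i
      simp only [Matrix.mulVec, dotProduct, Matrix.map_apply] at h2
      exact h2.symm
    -- the algebra
    have hfin : Module.Finite R (Calg p R Dt) := finite_Calg p R Dt hp.two_le
    have het : Algebra.Etale R (Calg p R Dt) := etale_Calg p R Dt hDt
    have hker : Ideal.span (Set.range (rel p R Dt)) ≤ RingHom.ker (MvPolynomial.aeval (R := R) f) := by
      rw [Ideal.span_le]
      rintro _ ⟨i, rfl⟩
      rw [SetLike.mem_coe, RingHom.mem_ker, rel, map_sub, map_pow, aeval_X, map_sum, hf i,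
        sub_eq_zero]
      refine Finset.sum_congr rfl fun j _ => ?_
      rw [map_mul, aeval_C, aeval_X]
    let χ : Calg p R Dt →ₐ[R] B :=
      Ideal.Quotient.liftₐ _ (MvPolynomial.aeval (R := R) f) (fun x hx => hker hx)
    have hχ : ∀ i, χ (z p R Dt i) = f i := fun i => by
      show (MvPolynomial.aeval (R := R) f) (X i) = f i
      rw [aeval_X]
    let ψ : A ⊗[R] Calg p R Dt →ₐ[A] B :=
      Algebra.TensorProduct.lift (Algebra.ofId A B) χ (fun _ _ => Commute.all _ _)
    refine ⟨Calg p R Dt, inferInstance, inferInstance, hfin, het, ψ, ?_⟩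
    intro b
    obtain ⟨α, hα⟩ := (Submodule.mem_span_range_iff_exists_fun A).1
      (show b ∈ Submodule.span A (Set.range e) from he ▸ Submodule.mem_top)
    refine ⟨∑ i, α i ⊗ₜ[R] z p R Dt (Sum.inl i), ?_⟩
    rw [map_sum, ← hα]
    refine Finset.sum_congr rfl fun i _ => ?_
    rw [Algebra.TensorProduct.lift_tmul, hχ, Algebra.smul_def]
    rfl

end Main

end Groth.Agent.Lib.Helper27.FEtLift
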