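import Mathlib

/-! Frobenius splittings of polynomial rings and of smooth algebras over perfect fields (helper27). -/

set_option autoImplicit false

namespace Groth.Agent.Lib.Helper27.FSplit

open MvPolynomial

section poly

variable (p : ℕ) [hp : Fact p.Prime] (k : Type*) [Field k] [CharP k p] [PerfectRing k p]
  (σ : Type*)

include hp in
lemma smul_inj : Function.Injective (fun m : σ →₀ ℕ => p • m) := by
  intro m m' h
  ext i
  have h1 := congrArg (fun f : σ →₀ ℕ => f i) h
  simp only [Finsupp.smul_apply, smul_eq_mul] at h1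
  exact Nat.eq_of_mul_eq_mul_left hp.out.pos h1

/-- the standard Frobenius splitting of a polynomial ring over a perfect field -/
noncomputable def polySplit : MvPolynomial σ k →+ MvPolynomial σ k :=
  (AddMonoidAlgebra.coeffAddEquiv.symm.toAddMonoidHom).comp
    ((Finsupp.mapRange.addMonoidHom ((frobeniusEquiv k p).symm : k →+* k).toAddMonoidHom).comp
      ((Finsupp.comapDomain.addMonoidHom (smul_inj p σ)).comp
        (AddMonoidAlgebra.coeffAddEquiv (R := k) (M := σ →₀ ℕ)).toAddMonoidHom))

lemma coeff_polySplit (f : MvPolynomial σ k) (m : σ →₀ ℕ) :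
    coeff m (polySplit p k σ f) = (frobeniusEquiv k p).symm (coeff (p • m) f) := rfl

lemma polySplit_monomial_mul [DecidableEq σ] (m m' : σ →₀ ℕ) (c c' : k) :
    polySplit p k σ (monomial m c ^ p * monomial m' c')
      = monomial m c * polySplit p k σ (monomial m' c') := by
  ext j
  rw [coeff_polySplit, monomial_pow, monomial_mul, coeff_monomial, coeff_monomial_mul',
    coeff_polySplit, coeff_monomial]
  by_cases h : p • m + m' = p • j
  · have hmj : m ≤ j := by
      intro i
      have h1 := congrArg (fun f : σ →₀ ℕ => f i) h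
      simp only [Finsupp.add_apply, Finsupp.smul_apply, smul_eq_mul] at h1
      have : p * m i ≤ p * j i := by omega
      exact Nat.le_of_mul_le_mul_left this hp.out.pos
    have hm' : m' = p • (j - m) := by
      ext i
      have h1 := congrArg (fun f : σ →₀ ℕ => f i) h
      simp only [Finsupp.add_apply, Finsupp.smul_apply, smul_eq_mul] at h1
      simp only [Finsupp.smul_apply, smul_eq_mul, Finsupp.tsub_apply, Nat.mul_sub]
      omega
    rw [if_pos h, if_pos hmj, if_pos hm', map_mul, map_pow]
    congr 1
    exact frobeniusEquiv_symm_pow_p k p c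
  · rw [if_neg h, map_zero]
    by_cases hmj : m ≤ j
    · rw [if_pos hmj]
      have hm' : ¬ m' = p • (j - m) := by
        intro hm'
        apply h
        rw [hm', ← smul_add, add_tsub_cancel_of_le hmj]
      rw [if_neg hm', map_zero, mul_zero]
    · rw [if_neg hmj]

lemma polySplit_pow_mul (a b : MvPolynomial σ k) :
    polySplit p k σ (a ^ p * b) = a * polySplit p k σ b := by
  classical
  induction b using MvPolynomial.induction_on' with
  | add b₁ b₂ h₁ h₂ => rw [mul_add, map_add, h₁, h₂, map_add, mul_add]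
  | monomial m' c' =>
    induction a using MvPolynomial.induction_on' with
    | add a₁ a₂ h₁ h₂ => rw [add_pow_char, add_mul, map_add, h₁, h₂, add_mul]
    | monomial m c => exact polySplit_monomial_mul p k σ m m' c c'

lemma polySplit_one : polySplit p k σ 1 = 1 := by
  classical
  ext j
  rw [coeff_polySplit, MvPolynomial.coeff_one, MvPolynomial.coeff_one]
  by_cases h : 0 = j
  · subst h
    rw [if_pos rfl, smul_zero, if_pos rfl, map_one]
  · rw [if_neg h, if_neg, map_zero]
    intro h'
    apply h
    ext i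
    have h1 := congrArg (fun f : σ →₀ ℕ => f i) h'
    simp only [Finsupp.coe_zero, Pi.zero_apply, Finsupp.smul_apply, smul_eq_mul] at h1
    have := hp.out.pos
    rcases Nat.eq_zero_or_pos (j i) with h0 | h0
    · simp [h0]
    · exfalso
      have : 0 < p * j i := Nat.mul_pos hp.out.pos h0
      omega

end poly

section smooth

variable (p : ℕ) [hp : Fact p.Prime] (k : Type*) [Field k] [CharP k p] [PerfectRing k p]

/-- A formally smooth algebra of finite type over a perfect field of characteristic `p`
is Frobenius split. -/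
theorem exists_fsplit (A : Type*) [CommRing A] [Algebra k A] [Algebra.FormallySmooth k A]
    [Algebra.FiniteType k A] :
    ∃ φ : A →+ A, (∀ a b : A, φ (a ^ p * b) = a * φ b) ∧ φ 1 = 1 := by
  obtain ⟨n, f₀, hf₀⟩ := Algebra.FiniteType.iff_quotient_mvPolynomial''.1
    (inferInstance : Algebra.FiniteType k A)
  let φ := polySplit p k (Fin n)
  let I : Ideal (MvPolynomial (Fin n) k) := RingHom.ker f₀
  let J : Ideal (MvPolynomial (Fin n) k) :=
    { carrier := {x | ∀ s, φ (x * s) ∈ I}
      add_mem' := by
        intro x y hx hy s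
        rw [add_mul, map_add]
        exact I.add_mem (hx s) (hy s)
      zero_mem' := by
        intro s
        rw [zero_mul, map_zero]
        exact I.zero_mem
      smul_mem' := by
        intro c x hx s
        rw [smul_eq_mul, mul_comm c x, mul_assoc]
        exact hx (c * s) }
  have hIJ : I ≤ J.radical := by
    intro x hx
    refine ⟨p, fun s => ?_⟩
    rw [polySplit_pow_mul]
    exact I.mul_mem_right _ hx
  have hfg : I.FG := IsNoetherian.noetherian I
  obtain ⟨N, hN⟩ := Ideal.exists_pow_le_of_le_radical_of_fg hIJ hfg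
  have hM : I ^ (N + 1) ≤ J := (Ideal.pow_le_pow_right (Nat.le_succ N)).trans hN
  have hMI : I ^ (N + 1) ≤ I := Ideal.pow_le_self (Nat.succ_ne_zero N)
  have hφM : ∀ x ∈ I ^ (N + 1), f₀ (φ x) = 0 := by
    intro x hx
    have := hM hx 1
    rwa [mul_one] at this
  let g : (MvPolynomial (Fin n) k ⧸ I ^ (N + 1)) →ₐ[k] A :=
    Ideal.Quotient.liftₐ (I ^ (N + 1)) f₀ (fun a ha => hMI ha)
  have hg_mk : ∀ y, g (Ideal.Quotient.mk (I ^ (N + 1)) y) = f₀ y := fun y => rfl
  have hg : Function.Surjective g := by
    intro a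
    obtain ⟨y, rfl⟩ := hf₀ a
    exact ⟨Ideal.Quotient.mk _ y, hg_mk y⟩
  have hg' : IsNilpotent (RingHom.ker (g : (MvPolynomial (Fin n) k ⧸ I ^ (N + 1)) →+* A)) := by
    refine ⟨N + 1, ?_⟩
    have hle : RingHom.ker (g : (MvPolynomial (Fin n) k ⧸ I ^ (N + 1)) →+* A) ≤ Ideal.map (Ideal.Quotient.mk (I ^ (N + 1))) I := by
      intro x hx
      obtain ⟨y, rfl⟩ := Ideal.Quotient.mk_surjective x
      apply Ideal.mem_map_of_mem
      exact hx
    have h1 := Ideal.pow_right_mono hle (N + 1)
    rw [← Ideal.map_pow, Ideal.map_quotient_self] at h1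
    exact le_bot_iff.1 h1
  let gN : A →ₐ[k] (MvPolynomial (Fin n) k ⧸ I ^ (N + 1)) :=
    Algebra.FormallySmooth.liftOfSurjective (AlgHom.id k A) g hg hg'
  have hgN : ∀ a, g (gN a) = a := fun a =>
    Algebra.FormallySmooth.liftOfSurjective_apply (AlgHom.id k A) g hg hg' a
  let rep : A → MvPolynomial (Fin n) k := fun a =>
    Function.surjInv Ideal.Quotient.mk_surjective (gN a)
  have hrep : ∀ a, Ideal.Quotient.mk (I ^ (N + 1)) (rep a) = gN a := fun a =>
    Function.surjInv_eq _ _
  have key : ∀ y y', Ideal.Quotient.mk (I ^ (N + 1)) y = Ideal.Quotient.mk (I ^ (N + 1)) y' →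
      f₀ (φ y) = f₀ (φ y') := by
    intro y y' h
    have hmem : y - y' ∈ I ^ (N + 1) := Ideal.Quotient.eq.1 h
    have := hφM _ hmem
    rw [map_sub, map_sub, sub_eq_zero] at this
    exact this
  have hf₀rep : ∀ a, f₀ (rep a) = a := by
    intro a
    rw [← hg_mk, hrep, hgN]
  let φA : A →+ A := AddMonoidHom.mk' (fun a => f₀ (φ (rep a))) (by
    intro a b
    rw [← map_add, ← map_add]
    apply key
    rw [map_add, hrep, hrep, hrep, map_add])
  refine ⟨φA, fun a b => ?_, ?_⟩
  · change f₀ (φ (rep (a ^ p * b))) = a * f₀ (φ (rep b))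
    have h1 : f₀ (φ (rep (a ^ p * b))) = f₀ (φ (rep a ^ p * rep b)) := by
      apply key
      rw [map_mul, map_pow, hrep, hrep, hrep, map_mul, map_pow]
    rw [h1, polySplit_pow_mul, map_mul, hf₀rep]
  · change f₀ (φ (rep 1)) = 1
    have h1 : f₀ (φ (rep 1)) = f₀ (φ 1) := by
      apply key
      rw [hrep, map_one, map_one]
    rw [h1, polySplit_one, map_one]

end smooth

end Groth.Agent.Lib.Helper27.FSplit
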