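import Mathlib
import Groth.Prelude.Def_Wider

/-!
# Self-equivalences of the category of finite length modules over a Noetherian local ring

An additive `A`-linear functor `G : FinLen A ⥤ FinLen A` which is full, faithful and essentially
surjective is naturally isomorphic to the identity.
-/

set_option autoImplicit false
set_option linter.unusedSectionVars false
universe u
open CategoryTheory IsLocalRing

namespace Groth.Agent.Lib.Helper27.FinLenEquiv

section Basics
variable {A : Type u} [CommRing A]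

/-- A morphism of `FinLen A` from a linear map. -/
def mkHom {M N : Dual.FinLen A} (f : M.obj →ₗ[A] N.obj) : M ⟶ N :=
  ObjectProperty.homMk (ModuleCat.ofHom f)

/-- The underlying linear map of a morphism of `FinLen A`. -/
def lin {M N : Dual.FinLen A} (f : M ⟶ N) : M.obj →ₗ[A] N.obj := f.hom.hom

@[simp] lemma lin_mkHom {M N : Dual.FinLen A} (f : M.obj →ₗ[A] N.obj) : lin (mkHom f) = f := rfl

lemma lin_injective {M N : Dual.FinLen A} :
    Function.Injective (lin : (M ⟶ N) → (M.obj →ₗ[A] N.obj)) := by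
  intro f g h
  apply InducedCategory.hom_ext
  exact ModuleCat.hom_ext h

@[simp] lemma mkHom_lin {M N : Dual.FinLen A} (f : M ⟶ N) : mkHom (lin f) = f :=
  lin_injective rfl

lemma lin_comp_apply {M N P : Dual.FinLen A} (f : M ⟶ N) (g : N ⟶ P) (x : M.obj) :
    lin (f ≫ g) x = lin g (lin f x) := rfl

@[simp] lemma lin_id_apply (M : Dual.FinLen A) (x : M.obj) : lin (𝟙 M) x = x := rfl

@[simp] lemma lin_add {M N : Dual.FinLen A} (f g : M ⟶ N) : lin (f + g) = lin f + lin g := rfl

@[simp] lemma lin_smul {M N : Dual.FinLen A} (a : A) (f : M ⟶ N) : lin (a • f) = a • lin f := rfl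

@[simp] lemma lin_zero {M N : Dual.FinLen A} : lin (0 : M ⟶ N) = 0 := rfl

end Basics

section Local
variable {A : Type u} [CommRing A] [IsLocalRing A] [IsNoetherianRing A]

variable (A) in
/-- The ideal `m^(n+1)`. -/
abbrev mI (n : ℕ) : Ideal A := (maximalIdeal A) ^ (n + 1)

lemma mI_le (n : ℕ) : mI A n ≤ maximalIdeal A := Ideal.pow_le_self (Nat.succ_ne_zero n)

lemma mI_ne_top (n : ℕ) : mI A n ≠ ⊤ := fun h =>
  (maximalIdeal.isMaximal A).ne_top (top_le_iff.1 (h ▸ mI_le n))

lemma mI_anti {n k : ℕ} (h : n ≤ k) : mI A k ≤ mI A n :=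
  Ideal.pow_le_pow_right (Nat.succ_le_succ h)

lemma isFiniteLength_quot (n : ℕ) : IsFiniteLength A (A ⧸ mI A n) := by
  set I := mI A n with hI
  have hne : I ≠ ⊤ := mI_ne_top n
  have : Nontrivial (A ⧸ I) := Ideal.Quotient.nontrivial_iff.2 hne
  have : IsLocalRing (A ⧸ I) := .of_surjective' _ Ideal.Quotient.mk_surjective
  have hle : maximalIdeal (A ⧸ I) ≤ (maximalIdeal A).map (Ideal.Quotient.mk I) := by
    intro x hx
    obtain ⟨a, rfl⟩ := Ideal.Quotient.mk_surjective x
    apply Ideal.mem_map_of_mem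
    by_contra ha
    have hu : IsUnit a := by
      by_contra hnu
      exact ha hnu
    exact hx (hu.map (Ideal.Quotient.mk I))
  have hnil : IsNilpotent (maximalIdeal (A ⧸ I)) := by
    refine ⟨n + 1, ?_⟩
    rw [Ideal.zero_eq_bot, eq_bot_iff]
    calc maximalIdeal (A ⧸ I) ^ (n + 1)
        ≤ ((maximalIdeal A).map (Ideal.Quotient.mk I)) ^ (n + 1) := Ideal.pow_right_mono hle _
      _ = I.map (Ideal.Quotient.mk I) := (Ideal.map_pow _ _ _).symm
      _ = ⊥ := Ideal.map_quotient_self I
  have : IsArtinianRing (A ⧸ I) := (isArtinianRing_iff_isNilpotent_maximalIdeal _).2 hnil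
  have : IsArtinian A (A ⧸ I) :=
    isArtinian_of_surjective_algebraMap (R := A ⧸ I) (S := A) (M := A ⧸ I)
      Ideal.Quotient.mk_surjective
  exact isFiniteLength_iff_isNoetherian_isArtinian.2 ⟨inferInstance, inferInstance⟩

variable (A) in
/-- The object `A / m^(n+1)` of `FinLen A`. -/
noncomputable abbrev Q (n : ℕ) : Dual.FinLen A :=
  ⟨ModuleCat.of A (A ⧸ mI A n), isFiniteLength_quot n⟩

/-- The class of `a` in `Q A n`. -/
def cl (n : ℕ) (a : A) : (Q A n).obj := (Ideal.Quotient.mk (mI A n) a : A ⧸ mI A n)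

lemma cl_surjective (n : ℕ) : Function.Surjective (cl (A := A) n) := fun q => by
  obtain ⟨a, rfl⟩ := Ideal.Quotient.mk_surjective (I := mI A n) q
  exact ⟨a, rfl⟩

lemma cl_eq_smul (n : ℕ) (a : A) : cl n a = a • cl (A := A) n 1 := by
  show (Ideal.Quotient.mk (mI A n) a : A ⧸ mI A n) = a • (Ideal.Quotient.mk (mI A n) 1 : A ⧸ mI A n)
  rw [← Ideal.Quotient.mk_eq_mk, ← Ideal.Quotient.mk_eq_mk, ← Submodule.Quotient.mk_smul,
    smul_eq_mul, mul_one]

lemma smul_cl (n : ℕ) (a b : A) : a • cl (A := A) n b = cl n (a * b) := by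
  show a • (Ideal.Quotient.mk (mI A n) b : A ⧸ mI A n) = (Ideal.Quotient.mk (mI A n) (a * b) : A ⧸ mI A n)
  rw [← Ideal.Quotient.mk_eq_mk, ← Ideal.Quotient.mk_eq_mk, ← Submodule.Quotient.mk_smul,
    smul_eq_mul]

lemma cl_eq_zero_iff (n : ℕ) (a : A) : cl (A := A) n a = 0 ↔ a ∈ mI A n :=
  Ideal.Quotient.eq_zero_iff_mem

lemma cl_eq_cl_iff (n : ℕ) (a b : A) : cl (A := A) n a = cl n b ↔ a - b ∈ mI A n :=
  Ideal.Quotient.eq

lemma cl_one_ne_zero (n : ℕ) : cl (A := A) n 1 ≠ 0 := by
  rw [Ne, cl_eq_zero_iff]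
  intro h
  exact mI_ne_top n ((Ideal.eq_top_iff_one _).2 h)

/-- `m^(n+1)` kills `M`. -/
def Kills (n : ℕ) (M : Dual.FinLen A) : Prop := ∀ a ∈ mI A n, ∀ x : M.obj, a • x = 0

lemma Kills.of_le {n k : ℕ} {M : Dual.FinLen A} (h : Kills n M) (hk : n ≤ k) : Kills k M :=
  fun a ha x => h a (mI_anti hk ha) x

lemma Kills.succ {n : ℕ} {M : Dual.FinLen A} (h : Kills n M) : Kills (n + 1) M :=
  h.of_le (Nat.le_succ n)

lemma kills_Q (n : ℕ) : Kills n (Q A n) := by
  intro a ha x
  obtain ⟨b, rfl⟩ := cl_surjective n x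
  rw [smul_cl, cl_eq_zero_iff]
  exact Ideal.mul_mem_right _ _ ha

lemma kills_iff {n : ℕ} {M : Dual.FinLen A} : Kills n M ↔ ∀ a ∈ mI A n, a • 𝟙 M = 0 := by
  constructor
  · intro h a ha
    apply lin_injective
    apply LinearMap.ext
    intro x
    simpa using h a ha x
  · intro h a ha x
    have := congrArg (fun f => lin f x) (h a ha)
    simpa using this

lemma kills_of_iso {n : ℕ} {X Y : Dual.FinLen A} (e : X ≅ Y) (h : Kills n Y) : Kills n X := by
  intro a ha x
  have h1 : lin e.inv (lin e.hom (a • x)) = a • x := by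
    rw [← lin_comp_apply, e.hom_inv_id, lin_id_apply]
  rw [← h1, map_smul, h a ha, map_zero]

lemma exists_kills (M : Dual.FinLen A) : ∃ n, Kills n M := by
  obtain ⟨hN, hAr⟩ := isFiniteLength_iff_isNoetherian_isArtinian.1 M.property
  let f : ℕ →o (Submodule A M.obj)ᵒᵈ :=
    ⟨fun k => OrderDual.toDual ((maximalIdeal A) ^ k • (⊤ : Submodule A M.obj)), by
      intro i j hij
      show (maximalIdeal A) ^ j • (⊤ : Submodule A M.obj) ≤ (maximalIdeal A) ^ i • ⊤
      exact Submodule.smul_mono_left (Ideal.pow_le_pow_right hij)⟩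
  obtain ⟨n, hn⟩ := IsArtinian.monotone_stabilizes f
  have h1 : (maximalIdeal A) ^ n • (⊤ : Submodule A M.obj)
      = (maximalIdeal A) ^ (n + 1) • (⊤ : Submodule A M.obj) := by
    have := hn (n + 1) (Nat.le_succ n)
    exact congrArg OrderDual.ofDual this
  have h2 : (maximalIdeal A) ^ n • (⊤ : Submodule A M.obj) = ⊥ := by
    apply Submodule.eq_bot_of_le_smul_of_le_jacobson_bot (maximalIdeal A) _
      (IsNoetherian.noetherian _)
    · conv_lhs => rw [h1, pow_succ', Submodule.mul_smul]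
    · exact maximalIdeal_le_jacobson ⊥
  refine ⟨n, fun a ha x => ?_⟩
  have : a • x ∈ (maximalIdeal A) ^ n • (⊤ : Submodule A M.obj) :=
    Submodule.smul_mem_smul (Ideal.pow_le_pow_right (Nat.le_succ n) ha) Submodule.mem_top
  rw [h2] at this
  exact (Submodule.mem_bot A).1 this

/-- The morphism `Q A n ⟶ M`, `ā ↦ a • x`. -/
noncomputable def ev (n : ℕ) (M : Dual.FinLen A) (h : Kills n M) (x : M.obj) : Q A n ⟶ M :=
  mkHom (Submodule.liftQ (mI A n) (LinearMap.toSpanSingleton A M.obj x) (by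
    intro a ha
    rw [LinearMap.mem_ker, LinearMap.toSpanSingleton_apply]
    exact h a ha x))

lemma lin_ev_cl (n : ℕ) (M : Dual.FinLen A) (h : Kills n M) (x : M.obj) (a : A) :
    lin (ev n M h x) (cl n a) = a • x := by
  show Submodule.liftQ (mI A n) (LinearMap.toSpanSingleton A M.obj x) _ (Submodule.Quotient.mk a) = _
  rw [Submodule.liftQ_apply, LinearMap.toSpanSingleton_apply]

@[simp] lemma lin_ev_one (n : ℕ) (M : Dual.FinLen A) (h : Kills n M) (x : M.obj) :
    lin (ev n M h x) (cl n 1) = x := by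
  rw [lin_ev_cl, one_smul]

lemma hom_ext_Q {n : ℕ} {M : Dual.FinLen A} (f g : Q A n ⟶ M)
    (h : lin f (cl n 1) = lin g (cl n 1)) : f = g := by
  apply lin_injective
  apply LinearMap.ext
  intro q
  obtain ⟨a, rfl⟩ := cl_surjective n q
  rw [cl_eq_smul, map_smul, map_smul, h]

lemma eq_ev {n : ℕ} {M : Dual.FinLen A} (h : Kills n M) (f : Q A n ⟶ M) :
    f = ev n M h (lin f (cl n 1)) :=
  hom_ext_Q _ _ (lin_ev_one n M h _).symm

lemma ev_add (n : ℕ) (M : Dual.FinLen A) (h : Kills n M) (x y : M.obj) :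
    ev n M h (x + y) = ev n M h x + ev n M h y :=
  hom_ext_Q _ _ (by rw [lin_ev_one, lin_add, LinearMap.add_apply, lin_ev_one, lin_ev_one])

lemma ev_smul (n : ℕ) (M : Dual.FinLen A) (h : Kills n M) (a : A) (x : M.obj) :
    ev n M h (a • x) = a • ev n M h x :=
  hom_ext_Q _ _ (by rw [lin_ev_one, lin_smul, LinearMap.smul_apply, lin_ev_one])

lemma ev_comp (n : ℕ) {M M' : Dual.FinLen A} (h : Kills n M) (h' : Kills n M') (x : M.obj)
    (φ : M ⟶ M') : ev n M h x ≫ φ = ev n M' h' (lin φ x) :=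
  hom_ext_Q _ _ (by rw [lin_comp_apply, lin_ev_one, lin_ev_one])

/-- The projection `Q A n ⟶ Q A 0 = A/m`. -/
noncomputable def c (n : ℕ) : Q A n ⟶ Q A 0 :=
  ev n (Q A 0) ((kills_Q 0).of_le (Nat.zero_le n)) (cl 0 1)

lemma lin_c_cl (n : ℕ) (a : A) : lin (c (A := A) n) (cl n a) = cl 0 a := by
  rw [c, lin_ev_cl, ← cl_eq_smul]

lemma c_ne_zero (n : ℕ) : c (A := A) n ≠ 0 := by
  intro h
  have := congrArg (fun f => lin f (cl n 1)) h
  simp only [lin_zero, LinearMap.zero_apply] at this
  rw [lin_c_cl] at this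
  exact cl_one_ne_zero 0 this

lemma comp_c_eq_zero_of_not_surj {n : ℕ} {X : Dual.FinLen A} (s : X ⟶ Q A n)
    (hs : ¬ Function.Surjective (lin s)) : s ≫ c n = 0 := by
  apply lin_injective
  apply LinearMap.ext
  intro x
  rw [lin_comp_apply, lin_zero, LinearMap.zero_apply]
  obtain ⟨a, ha⟩ := cl_surjective n (lin s x)
  rw [← ha, lin_c_cl, cl_eq_zero_iff]
  by_contra ham
  have hu : IsUnit a := by
    by_contra hnu
    exact ham (by simpa [mI] using hnu)
  apply hs
  intro q
  obtain ⟨b, rfl⟩ := cl_surjective n q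
  obtain ⟨v, rfl⟩ := hu
  refine ⟨(b * (↑v⁻¹ : A)) • x, ?_⟩
  rw [map_smul, ← ha, smul_cl, mul_assoc, Units.inv_mul, mul_one]

/-- The projection `Q A (n+1) ⟶ Q A n`. -/
noncomputable def π (n : ℕ) : Q A (n + 1) ⟶ Q A n :=
  ev (n + 1) (Q A n) (kills_Q n).succ (cl n 1)

lemma lin_π_cl (n : ℕ) (a : A) : lin (π (A := A) n) (cl (n + 1) a) = cl n a := by
  rw [π, lin_ev_cl, ← cl_eq_smul]

lemma π_surj (n : ℕ) : Function.Surjective (lin (π (A := A) n)) := fun q => by
  obtain ⟨a, rfl⟩ := cl_surjective n q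
  exact ⟨cl (n + 1) a, lin_π_cl n a⟩

lemma π_comp_ev (n : ℕ) (M : Dual.FinLen A) (h : Kills n M) (x : M.obj) :
    π n ≫ ev n M h x = ev (n + 1) M h.succ x :=
  hom_ext_Q _ _ (by rw [lin_comp_apply, lin_π_cl, lin_ev_one, lin_ev_one])

end Local

section Functor
variable {A : Type u} [CommRing A] [IsLocalRing A] [IsNoetherianRing A]
variable (G : Dual.FinLen A ⥤ Dual.FinLen A) [G.Additive] [G.Linear A]

lemma kills_map {n : ℕ} {M : Dual.FinLen A} (h : Kills n M) : Kills n (G.obj M) := by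
  rw [kills_iff] at h ⊢
  intro a ha
  rw [← G.map_id, ← G.map_smul, h a ha, G.map_zero]

lemma kills_of_map [G.Faithful] {n : ℕ} {M : Dual.FinLen A} (h : Kills n (G.obj M)) :
    Kills n M := by
  rw [kills_iff] at h ⊢
  intro a ha
  apply G.map_injective
  rw [G.map_smul, G.map_id, h a ha, G.map_zero]

variable [G.Full] [G.Faithful] [G.EssSurj]

lemma eq_zero_of_forall {X : Dual.FinLen A} (ψ : G.obj X ⟶ Q A 0)
    (h : ∀ x : X.obj, ∃ (Y : Dual.FinLen A) (f : Y ⟶ X) (y : Y.obj),
      lin f y = x ∧ G.map f ≫ ψ = 0) : ψ = 0 := by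
  let e0 : G.obj (G.objPreimage (Q A 0)) ≅ Q A 0 := G.objObjPreimageIso (Q A 0)
  obtain ⟨c', hc'⟩ := G.map_surjective (ψ ≫ e0.inv)
  have hc0 : c' = 0 := by
    apply lin_injective
    apply LinearMap.ext
    intro x
    obtain ⟨Y, f, y, rfl, hf⟩ := h x
    have h1 : f ≫ c' = 0 := by
      apply G.map_injective
      rw [G.map_comp, hc', ← Category.assoc, hf, Limits.zero_comp, G.map_zero]
    have h2 := congrArg (fun t => lin t y) h1
    simpa [lin_comp_apply] using h2
  rw [hc0, G.map_zero] at hc'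
  have h3 : ψ = (ψ ≫ e0.inv) ≫ e0.hom := by simp
  rw [h3, ← hc', Limits.zero_comp]

/-- `g` is a generator of `G (A/m^(n+1))`, freely over `A/m^(n+1)`. -/
def IsGen (n : ℕ) (g : (G.obj (Q A n)).obj) : Prop :=
  Function.Bijective (lin (ev n (G.obj (Q A n)) (kills_map G (kills_Q n)) g))

lemma gen_span {n : ℕ} {g : (G.obj (Q A n)).obj} (hg : IsGen G n g) (y : (G.obj (Q A n)).obj) :
    ∃ a : A, y = a • g := by
  obtain ⟨q, rfl⟩ := hg.2 y
  obtain ⟨a, rfl⟩ := cl_surjective n q
  exact ⟨a, lin_ev_cl _ _ _ _ _⟩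

theorem exists_gen (n : ℕ) : ∃ g, IsGen G n g := by
  let Q' := G.objPreimage (Q A n)
  let e : G.obj Q' ≅ Q A n := G.objObjPreimageIso (Q A n)
  have hQ' : Kills n Q' := kills_of_map G (kills_of_iso e (kills_Q n))
  have hb : ∃ x : Q'.obj, Function.Surjective (lin (G.map (ev n Q' hQ' x) ≫ e.hom)) := by
    by_contra hcon
    push Not at hcon
    have h1 : e.hom ≫ c n = 0 := by
      apply eq_zero_of_forall G
      intro x
      refine ⟨Q A n, ev n Q' hQ' x, cl n 1, lin_ev_one _ _ _ _, ?_⟩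
      rw [← Category.assoc]
      exact comp_c_eq_zero_of_not_surj _ (hcon x)
    have h2 : c (A := A) n = e.inv ≫ (e.hom ≫ c n) := by simp
    rw [h1, Limits.comp_zero] at h2
    exact c_ne_zero n h2
  obtain ⟨x, hx⟩ := hb
  set s := G.map (ev n Q' hQ' x) ≫ e.hom with hs
  have hP : Kills n (G.obj (Q A n)) := kills_map G (kills_Q n)
  obtain ⟨p, hp⟩ := hx (cl n 1)
  set t := ev n (G.obj (Q A n)) hP p with ht
  have hts : t ≫ s = 𝟙 _ := hom_ext_Q _ _ (by rw [lin_comp_apply, lin_ev_one, hp, lin_id_apply])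
  obtain ⟨ε, hε⟩ := G.map_surjective (s ≫ t)
  have hεε : ε ≫ ε = ε := by
    apply G.map_injective
    rw [G.map_comp, hε, Category.assoc, ← Category.assoc t, hts, Category.id_comp]
  obtain ⟨a, ha⟩ := cl_surjective n (lin ε (cl n 1))
  have hmul : cl (A := A) n (a * a) = cl n a := by
    have h1 : lin ε (lin ε (cl n 1)) = lin ε (cl n 1) := by
      rw [← lin_comp_apply, hεε]
    rw [← ha, cl_eq_smul n a, map_smul, ← ha, smul_cl, smul_cl, mul_one] at h1
    exact h1
  rw [cl_eq_cl_iff] at hmul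
  have hcase : ε = 0 ∨ ε = 𝟙 _ := by
    by_cases ham : a ∈ maximalIdeal A
    · left
      have hu : IsUnit (1 - a) := by
        by_contra hnu
        have h1 : (1 - a) ∈ maximalIdeal A := hnu
        have h2 : (1 : A) ∈ maximalIdeal A := by
          have := Ideal.add_mem _ h1 ham
          simpa using this
        exact (maximalIdeal.isMaximal A).ne_top ((Ideal.eq_top_iff_one _).2 h2)
      obtain ⟨v, hv⟩ := hu
      have h3 : a ∈ mI A n := by
        have h4 : a = -((a * a - a) * (↑v⁻¹ : A)) := by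
          have : a * a - a = -(a * (1 - a)) := by ring
          rw [this, ← hv, neg_mul, neg_neg, mul_assoc, Units.mul_inv, mul_one]
        rw [h4]
        exact neg_mem (Ideal.mul_mem_right _ _ hmul)
      apply hom_ext_Q
      rw [← ha, lin_zero, LinearMap.zero_apply, cl_eq_zero_iff]
      exact h3
    · right
      have hu : IsUnit a := by
        by_contra hnu
        exact ham hnu
      obtain ⟨v, rfl⟩ := hu
      have h3 : (↑v : A) - 1 ∈ mI A n := by
        have h4 : (↑v : A) - 1 = (↑v⁻¹ : A) * ((↑v : A) * ↑v - ↑v) := by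
          have : (↑v : A) * ↑v - ↑v = ↑v * ((↑v : A) - 1) := by ring
          rw [this, ← mul_assoc, Units.inv_mul, one_mul]
        rw [h4]
        exact Ideal.mul_mem_left _ _ hmul
      apply hom_ext_Q
      rw [← ha, lin_id_apply, cl_eq_cl_iff]
      exact h3
  rcases hcase with h0 | h1
  · exfalso
    rw [h0, G.map_zero] at hε
    have h5 : s = 0 := by
      have : s = (s ≫ t) ≫ s := by rw [Category.assoc, hts, Category.comp_id]
      rw [this, ← hε, Limits.zero_comp]
    have h6 := congrArg (fun f => lin f p) h5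
    simp only [lin_zero, LinearMap.zero_apply] at h6
    rw [hp] at h6
    exact cl_one_ne_zero n h6
  · rw [h1, G.map_id] at hε
    refine ⟨p, ?_⟩
    show Function.Bijective (lin t)
    refine Function.bijective_iff_has_inverse.2 ⟨lin s, ?_, ?_⟩
    · intro q
      rw [← lin_comp_apply, hts, lin_id_apply]
    · intro y
      rw [← lin_comp_apply, ← hε, lin_id_apply]

theorem exists_gen_lift (n : ℕ) (g : (G.obj (Q A n)).obj) (hg : IsGen G n g) :
    ∃ g', IsGen G (n + 1) g' ∧ lin (G.map (π n)) g' = g := by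
  obtain ⟨g', hg'⟩ := exists_gen G (n + 1)
  obtain ⟨u, hu⟩ := gen_span G hg (lin (G.map (π n)) g')
  have hunit : IsUnit u := by
    by_contra hnu
    have hum : u ∈ mI A 0 := by simpa [mI] using hnu
    let E := LinearEquiv.ofBijective _ hg
    have hE : E.symm g = cl n 1 := by
      rw [LinearEquiv.symm_apply_eq]
      show g = lin (ev n (G.obj (Q A n)) (kills_map G (kills_Q n)) g) (cl n 1)
      exact (lin_ev_one _ _ _ _).symm
    let ψ : G.obj (Q A n) ⟶ Q A 0 := mkHom ((lin (c n)) ∘ₗ E.symm.toLinearMap)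
    have hψ : ψ = 0 := by
      apply eq_zero_of_forall G
      intro q
      obtain ⟨q', hq'⟩ := π_surj n q
      refine ⟨Q A (n + 1), π n, q', hq', ?_⟩
      apply lin_injective
      apply LinearMap.ext
      intro y
      obtain ⟨b, rfl⟩ := gen_span G hg' y
      rw [lin_comp_apply, map_smul, hu, lin_zero, LinearMap.zero_apply]
      rw [map_smul, map_smul]
      show b • u • (lin (c n)) (E.symm g) = 0
      rw [hE, lin_c_cl, smul_cl, smul_cl, cl_eq_zero_iff, mul_one]
      exact Ideal.mul_mem_left _ _ hum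
    have h0 : c (A := A) n = 0 := by
      apply lin_injective
      apply LinearMap.ext
      intro q
      have h1 := congrArg (fun f => lin f (E q)) hψ
      simp only [ψ, lin_mkHom, LinearMap.comp_apply, LinearEquiv.coe_coe,
        LinearEquiv.symm_apply_apply, lin_zero, LinearMap.zero_apply] at h1
      rw [h1, lin_zero, LinearMap.zero_apply]
    exact c_ne_zero n h0
  obtain ⟨v, rfl⟩ := hunit
  refine ⟨(↑v⁻¹ : A) • g', ?_, ?_⟩
  · show Function.Bijective (lin (ev (n + 1) _ _ ((↑v⁻¹ : A) • g')))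
    rw [ev_smul, lin_smul]
    have hb : Function.Bijective (fun y : (G.obj (Q A (n + 1))).obj => (↑v⁻¹ : A) • y) :=
      Function.bijective_iff_has_inverse.2
        ⟨fun y => (↑v : A) • y, fun y => by simp [smul_smul], fun y => by simp [smul_smul]⟩
    exact hb.comp hg'
  · rw [map_smul, hu, smul_smul, Units.inv_mul, one_smul]

/-- A compatible system of generators. -/
noncomputable def gens : (n : ℕ) → {g : (G.obj (Q A n)).obj // IsGen G n g}
  | 0 => ⟨(exists_gen G 0).choose, (exists_gen G 0).choose_spec⟩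
  | n + 1 => ⟨(exists_gen_lift G n (gens n).1 (gens n).2).choose,
      (exists_gen_lift G n (gens n).1 (gens n).2).choose_spec.1⟩

lemma gens_succ (n : ℕ) : lin (G.map (π n)) (gens G (n + 1)).1 = (gens G n).1 :=
  (exists_gen_lift G n (gens G n).1 (gens G n).2).choose_spec.2

/-- The comparison map `M → G M` (defined using a level `n` killing `M`). -/
noncomputable def etaAux (n : ℕ) (M : Dual.FinLen A) (h : Kills n M) :
    M.obj →ₗ[A] (G.obj M).obj where
  toFun x := lin (G.map (ev n M h x)) (gens G n).1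
  map_add' x y := by rw [ev_add, G.map_add, lin_add, LinearMap.add_apply]
  map_smul' a x := by rw [ev_smul, G.map_smul, lin_smul, LinearMap.smul_apply]; rfl

lemma etaAux_apply (n : ℕ) (M : Dual.FinLen A) (h : Kills n M) (x : M.obj) :
    etaAux G n M h x = lin (G.map (ev n M h x)) (gens G n).1 := rfl

lemma etaAux_succ (n : ℕ) (M : Dual.FinLen A) (h : Kills n M) :
    etaAux G (n + 1) M h.succ = etaAux G n M h := by
  apply LinearMap.ext
  intro x
  rw [etaAux_apply, etaAux_apply, ← π_comp_ev n M h x, G.map_comp, lin_comp_apply, gens_succ]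

lemma etaAux_of_le {n k : ℕ} (hnk : n ≤ k) (M : Dual.FinLen A) (hn : Kills n M)
    (hk : Kills k M) : etaAux G k M hk = etaAux G n M hn := by
  induction hnk with
  | refl => rfl
  | step hle ih => rw [← ih (hn.of_le hle)]; exact etaAux_succ G _ M _

lemma etaAux_eq {n k : ℕ} (M : Dual.FinLen A) (hn : Kills n M) (hk : Kills k M) :
    etaAux G n M hn = etaAux G k M hk := by
  rw [← etaAux_of_le G (le_max_left n k) M hn (hn.of_le (le_max_left n k)),
    ← etaAux_of_le G (le_max_right n k) M hk (hk.of_le (le_max_right n k))]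

lemma etaAux_injective (n : ℕ) (M : Dual.FinLen A) (h : Kills n M) :
    Function.Injective (etaAux G n M h) := by
  rw [← LinearMap.ker_eq_bot, LinearMap.ker_eq_bot']
  intro x hx
  rw [etaAux_apply] at hx
  have h1 : G.map (ev n M h x) = 0 := by
    apply lin_injective
    apply LinearMap.ext
    intro y
    obtain ⟨b, rfl⟩ := gen_span G (gens G n).2 y
    rw [map_smul, hx, smul_zero, lin_zero, LinearMap.zero_apply]
  have h2 : ev n M h x = 0 := by
    apply G.map_injective
    rw [h1, G.map_zero]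
  have h3 : lin (ev n M h x) (cl n 1) = lin (0 : Q A n ⟶ M) (cl n 1) := by rw [h2]
  rw [lin_ev_one, lin_zero, LinearMap.zero_apply] at h3
  exact h3

lemma etaAux_surjective (n : ℕ) (M : Dual.FinLen A) (h : Kills n M) :
    Function.Surjective (etaAux G n M h) := by
  intro y
  let E := LinearEquiv.ofBijective _ (gens G n).2
  have hE : E.symm (gens G n).1 = cl n 1 := by
    rw [LinearEquiv.symm_apply_eq]
    show (gens G n).1 = lin (ev n (G.obj (Q A n)) (kills_map G (kills_Q n)) (gens G n).1) (cl n 1)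
    exact (lin_ev_one _ _ _ _).symm
  let ψ : G.obj (Q A n) ⟶ G.obj M :=
    mkHom ((lin (ev n (G.obj M) (kills_map G h) y)) ∘ₗ E.symm.toLinearMap)
  obtain ⟨f, hf⟩ := G.map_surjective ψ
  refine ⟨lin f (cl n 1), ?_⟩
  rw [etaAux_apply, ← eq_ev h f, hf]
  show lin (ev n (G.obj M) (kills_map G h) y) (E.symm (gens G n).1) = y
  rw [hE, lin_ev_one]

lemma etaAux_natural (n : ℕ) {M M' : Dual.FinLen A} (h : Kills n M) (h' : Kills n M')
    (φ : M ⟶ M') (x : M.obj) :
    lin (G.map φ) (etaAux G n M h x) = etaAux G n M' h' (lin φ x) := by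
  rw [etaAux_apply, etaAux_apply, ← ev_comp n h h' x φ, G.map_comp, lin_comp_apply]

/-- A level killing `M`. -/
noncomputable def lvl (M : Dual.FinLen A) : ℕ := (exists_kills M).choose

lemma lvl_spec (M : Dual.FinLen A) : Kills (lvl M) M := (exists_kills M).choose_spec

/-- The comparison morphism `M ⟶ G M`. -/
noncomputable def etaHom (M : Dual.FinLen A) : M ⟶ G.obj M :=
  mkHom (etaAux G (lvl M) M (lvl_spec M))

lemma etaHom_natural {M M' : Dual.FinLen A} (φ : M ⟶ M') :
    φ ≫ etaHom G M' = etaHom G M ≫ G.map φ := by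
  apply lin_injective
  apply LinearMap.ext
  intro x
  simp only [lin_comp_apply, etaHom, lin_mkHom]
  rw [etaAux_eq G M' (lvl_spec M') ((lvl_spec M').of_le (le_max_right (lvl M) (lvl M'))),
    etaAux_eq G M (lvl_spec M) ((lvl_spec M).of_le (le_max_left (lvl M) (lvl M')))]
  exact (etaAux_natural G _ _ _ φ x).symm

instance etaHom_isIso (M : Dual.FinLen A) : IsIso (etaHom G M) := by
  let E := LinearEquiv.ofBijective (etaAux G (lvl M) M (lvl_spec M))
    ⟨etaAux_injective G _ M _, etaAux_surjective G _ M _⟩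
  refine ⟨⟨mkHom E.symm.toLinearMap, ?_, ?_⟩⟩
  · apply lin_injective
    apply LinearMap.ext
    intro x
    simp only [lin_comp_apply, etaHom, lin_mkHom, lin_id_apply]
    exact E.symm_apply_apply x
  · apply lin_injective
    apply LinearMap.ext
    intro x
    simp only [lin_comp_apply, etaHom, lin_mkHom, lin_id_apply]
    exact E.apply_symm_apply x

/-- Main theorem. -/
theorem nonempty_iso_id : Nonempty (G ≅ 𝟭 (Dual.FinLen A)) :=
  ⟨(NatIso.ofComponents (fun M => @asIso _ _ _ _ (etaHom G M) (etaHom_isIso G M))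
    (fun φ => by simpa using etaHom_natural G φ)).symm⟩

end Functor

end Groth.Agent.Lib.Helper27.FinLenEquiv
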