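import Mathlib

/-!
Symmetric 2-cocycle lemma in characteristic `p` (helper27): basic tools.
-/

set_option autoImplicit false

namespace Groth.Agent.Lib.Helper27.Lazard

open MvPolynomial

universe u

variable {R : Type u} [CommRing R]

/-- exponent vector on two variables -/
noncomputable def mon (a b : ℕ) : Fin 2 →₀ ℕ := Finsupp.single 0 a + Finsupp.single 1 b

@[simp] lemma mon_zero (a b : ℕ) : mon a b 0 = a := by simp [mon]
@[simp] lemma mon_one (a b : ℕ) : mon a b 1 = b := by simp [mon]

lemma mon_eta (m : Fin 2 →₀ ℕ) : mon (m 0) (m 1) = m := by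
  ext i
  fin_cases i <;> simp

lemma mon_inj {a b c d : ℕ} : mon a b = mon c d ↔ a = c ∧ b = d := by
  constructor
  · intro h
    have h0 := DFunLike.congr_fun h 0
    have h1 := DFunLike.congr_fun h 1
    simp at h0 h1
    exact ⟨h0, h1⟩
  · rintro ⟨rfl, rfl⟩
    rfl

lemma monomial_mon (a b : ℕ) (r : R) :
    monomial (mon a b) r = C r * X 0 ^ a * X 1 ^ b := by
  rw [mon, monomial_add_single, ← C_mul_X_pow_eq_monomial]

lemma coeff_X_pow_mul (a b c d : ℕ) :
    coeff (mon c d) (X 0 ^ a * X 1 ^ b : MvPolynomial (Fin 2) R) =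
      if a = c ∧ b = d then 1 else 0 := by
  have h : (X 0 ^ a * X 1 ^ b : MvPolynomial (Fin 2) R) = monomial (mon a b) 1 := by
    rw [monomial_mon, C_1, one_mul]
  rw [h, coeff_monomial]
  simp only [mon_inj]

lemma coeff_add_pow (n a b : ℕ) :
    coeff (mon a b) ((X 0 + X 1 : MvPolynomial (Fin 2) R) ^ n) =
      if a + b = n then (n.choose a : R) else 0 := by
  rw [add_pow, coeff_sum]
  have h : ∀ m ∈ Finset.range (n + 1),
      coeff (mon a b) ((X 0 ^ m * X 1 ^ (n - m) * (n.choose m : MvPolynomial (Fin 2) R))) =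
        if m = a then (if n - m = b then (n.choose m : R) else 0) else 0 := by
    intro m _
    have : ((n.choose m : ℕ) : MvPolynomial (Fin 2) R) = C ((n.choose m : ℕ) : R) := by
      simp
    rw [this, mul_comm, coeff_C_mul, coeff_X_pow_mul]
    by_cases h1 : m = a
    · by_cases h2 : n - m = b
      · simp [h1, h2]
      · simp [h1, h2]
    · simp [h1]
  rw [Finset.sum_congr rfl h, Finset.sum_ite_eq' (Finset.range (n + 1)) a]
  by_cases hab : a + b = n
  · have ha : a ∈ Finset.range (n + 1) := by rw [Finset.mem_range]; omega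
    have hb : n - a = b := by omega
    simp [ha, hb, hab]
  · by_cases ha : a ∈ Finset.range (n + 1)
    · have hb : n - a ≠ b := by
        rw [Finset.mem_range] at ha
        omega
      simp [ha, hb, hab]
    · simp [ha, hab]

lemma coeff_aeval_add (g : Polynomial R) (a b : ℕ) :
    coeff (mon a b) (Polynomial.aeval (X 0 + X 1 : MvPolynomial (Fin 2) R) g) =
      g.coeff (a + b) * ((a + b).choose a : R) := by
  have hN : g.natDegree < max (g.natDegree + 1) (a + b + 1) := by
    have := le_max_left (g.natDegree + 1) (a + b + 1)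
    omega
  rw [Polynomial.aeval_eq_sum_range' hN, coeff_sum]
  simp only [coeff_smul, coeff_add_pow, smul_eq_mul]
  rw [Finset.sum_eq_single (a + b)]
  · simp
  · intro i _ hi
    rw [if_neg (Ne.symm hi), mul_zero]
  · intro h
    exfalso
    apply h
    rw [Finset.mem_range]
    have := le_max_right (g.natDegree + 1) (a + b + 1)
    omega

lemma coeff_aeval_X0 (g : Polynomial R) (a b : ℕ) :
    coeff (mon a b) (Polynomial.aeval (X 0 : MvPolynomial (Fin 2) R) g) =
      if b = 0 then g.coeff a else 0 := by
  have hN : g.natDegree < max (g.natDegree + 1) (a + 1) := by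
    have := le_max_left (g.natDegree + 1) (a + 1)
    omega
  rw [Polynomial.aeval_eq_sum_range' hN, coeff_sum]
  have h : ∀ i : ℕ, coeff (mon a b) ((X 0 : MvPolynomial (Fin 2) R) ^ i) =
      if i = a ∧ 0 = b then 1 else 0 := by
    intro i
    have : ((X 0 : MvPolynomial (Fin 2) R) ^ i) = X 0 ^ i * X 1 ^ 0 := by rw [pow_zero, mul_one]
    rw [this, coeff_X_pow_mul]
  simp only [coeff_smul, h, smul_eq_mul]
  by_cases hb : b = 0
  · subst hb
    rw [Finset.sum_eq_single a]
    · simp
    · intro i _ hi
      simp [hi]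
    · intro h
      exfalso
      apply h
      rw [Finset.mem_range]
      have := le_max_right (g.natDegree + 1) (a + 1)
      omega
  · rw [if_neg hb]
    refine Finset.sum_eq_zero (fun i _ => ?_)
    rw [if_neg (fun h => hb h.2.symm), mul_zero]

lemma coeff_aeval_X1 (g : Polynomial R) (a b : ℕ) :
    coeff (mon a b) (Polynomial.aeval (X 1 : MvPolynomial (Fin 2) R) g) =
      if a = 0 then g.coeff b else 0 := by
  have hN : g.natDegree < max (g.natDegree + 1) (b + 1) := by
    have := le_max_left (g.natDegree + 1) (b + 1)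
    omega
  rw [Polynomial.aeval_eq_sum_range' hN, coeff_sum]
  have h : ∀ i : ℕ, coeff (mon a b) ((X 1 : MvPolynomial (Fin 2) R) ^ i) =
      if 0 = a ∧ i = b then 1 else 0 := by
    intro i
    have : ((X 1 : MvPolynomial (Fin 2) R) ^ i) = X 0 ^ 0 * X 1 ^ i := by rw [pow_zero, one_mul]
    rw [this, coeff_X_pow_mul]
  simp only [coeff_smul, h, smul_eq_mul]
  by_cases ha : a = 0
  · subst ha
    rw [Finset.sum_eq_single b]
    · simp
    · intro i _ hi
      simp [hi]
    · intro h
      exfalso
      apply h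
      rw [Finset.mem_range]
      have := le_max_right (g.natDegree + 1) (b + 1)
      omega
  · rw [if_neg ha]
    refine Finset.sum_eq_zero (fun i _ => ?_)
    rw [if_neg (fun h => ha h.1.symm), mul_zero]

/-- chain rule for `aeval` on two variables -/
theorem pderiv_aeval2 {τ : Type*} (a b : MvPolynomial τ R) (k : τ) (F : MvPolynomial (Fin 2) R) :
    pderiv k (aeval ![a, b] F) =
      aeval ![a, b] (pderiv 0 F) * pderiv k a + aeval ![a, b] (pderiv 1 F) * pderiv k b := by
  induction F using MvPolynomial.induction_on with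
  | C r => simp
  | add p q hp hq =>
    simp only [map_add, hp, hq]
    ring
  | mul_X p i hp =>
    fin_cases i
    · simp only [Fin.zero_eta, pderiv_mul, pderiv_X_self,
        pderiv_X_of_ne (show (0 : Fin 2) ≠ 1 by decide), map_add, map_mul, aeval_X,
        Matrix.cons_val_zero, hp, mul_zero, add_zero, mul_one]
      ring
    · simp only [Fin.mk_one, pderiv_mul, pderiv_X_self,
        pderiv_X_of_ne (show (1 : Fin 2) ≠ 0 by decide), map_add, map_mul, aeval_X,
        Matrix.cons_val_one, Matrix.cons_val_zero, hp, mul_zero, add_zero, mul_one]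
      ring

theorem map_aeval2 {S T : Type*} [CommRing S] [Algebra R S] [CommRing T] [Algebra R T]
    (φ : S →ₐ[R] T) (a b : S) (F : MvPolynomial (Fin 2) R) :
    φ (aeval ![a, b] F) = aeval ![φ a, φ b] F := by
  have : φ.comp (aeval ![a, b]) = aeval ![φ a, φ b] := by
    apply MvPolynomial.algHom_ext
    intro i
    fin_cases i <;> simp
  exact DFunLike.congr_fun this F

theorem aeval_id2 (F : MvPolynomial (Fin 2) R) : aeval ![X 0, X 1] F = F := by
  have : (![X 0, X 1] : Fin 2 → MvPolynomial (Fin 2) R) = X := by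
    ext i
    fin_cases i <;> rfl
  rw [this, aeval_X_left]
  rfl

section charp

variable (p : ℕ) [Fact p.Prime] [CharP R p]

lemma isUnit_natCast {n : ℕ} (hn : ¬ p ∣ n) : IsUnit (n : R) := by
  have h1 : (n : ZMod p) ≠ 0 := by
    rw [Ne, ZMod.natCast_eq_zero_iff]
    exact hn
  have h2 : IsUnit (n : ZMod p) := isUnit_iff_ne_zero.2 h1
  have h3 := h2.map (ZMod.castHom (dvd_refl p) R)
  rwa [map_natCast] at h3

/-- an inverse of `n` in `R` -/
noncomputable def inv (n : ℕ) : R := ZMod.castHom (dvd_refl p) R ((n : ZMod p)⁻¹)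

lemma inv_mul {n : ℕ} (hn : ¬ p ∣ n) : inv (R := R) p n * (n : R) = 1 := by
  have h1 : (n : ZMod p) ≠ 0 := by
    rw [Ne, ZMod.natCast_eq_zero_iff]
    exact hn
  have : (n : R) = ZMod.castHom (dvd_refl p) R (n : ZMod p) := by rw [map_natCast]
  rw [inv, this, ← map_mul, inv_mul_cancel₀ h1, map_one]

lemma choose_pred_cast {m : ℕ} (hm : p ∣ m + 1) : ((m.choose (p - 1) : ℕ) : R) = 1 := by
  have hp := (Fact.out : p.Prime)
  have hp1 : 1 ≤ p := hp.one_lt.le
  have h1 := Choose.choose_modEq_choose_mod_mul_choose_div_nat (p := p) (n := m) (k := p - 1)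
  have hmod : m % p = p - 1 := by
    obtain ⟨k, hk⟩ := hm
    have hk1 : 1 ≤ k := by
      rcases Nat.eq_zero_or_pos k with h | h
      · subst h; omega
      · exact h
    have : m = p * (k - 1) + (p - 1) := by
      have : p * k = p * (k - 1) + p := by
        rw [← Nat.mul_succ]
        congr 1
        omega
      omega
    rw [this, Nat.mul_add_mod]
    exact Nat.mod_eq_of_lt (by omega)
  have h2 : (p - 1) % p = p - 1 := Nat.mod_eq_of_lt (by omega)
  have h3 : (p - 1) / p = 0 := Nat.div_eq_of_lt (by omega)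
  rw [hmod, h2, h3, Nat.choose_self, Nat.choose_zero_right, one_mul] at h1
  have := (CharP.natCast_eq_natCast R p).2 h1
  rw [this, Nat.cast_one]

end charp

end Groth.Agent.Lib.Helper27.Lazard
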