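import Mathlib
import Groth.Agent.Lib.Helper27.LazardA

/-!
Symmetric 2-cocycle lemma in characteristic `p` (helper27): the cocycle module, coboundaries and
the polynomial `S`.
-/

set_option autoImplicit false

namespace Groth.Agent.Lib.Helper27.Lazard

open MvPolynomial

universe u

variable {R : Type u} [CommRing R]

/-- the cocycle expression -/
noncomputable def coc (F : MvPolynomial (Fin 2) R) : MvPolynomial (Fin 3) R :=
  aeval ![X 0, X 1 + X 2] F + aeval ![X 1, X 2] F - aeval ![X 0 + X 1, X 2] F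
    - aeval ![X 0, X 1] F

lemma coc_add (F G : MvPolynomial (Fin 2) R) : coc (F + G) = coc F + coc G := by
  simp only [coc, map_add]
  ring

lemma coc_smul (r : R) (F : MvPolynomial (Fin 2) R) : coc (r • F) = r • coc F := by
  simp only [coc, map_smul, smul_add, smul_sub]

lemma coc_zero : coc (0 : MvPolynomial (Fin 2) R) = 0 := by
  simp [coc]

/-- symmetric cocycles -/
def IsSC (F : MvPolynomial (Fin 2) R) : Prop :=
  aeval ![X 1, X 0] F = F ∧ coc F = 0

lemma IsSC.add {F G : MvPolynomial (Fin 2) R} (hF : IsSC F) (hG : IsSC G) : IsSC (F + G) :=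
  ⟨by rw [map_add, hF.1, hG.1], by rw [coc_add, hF.2, hG.2, add_zero]⟩

lemma IsSC.smul (r : R) {F : MvPolynomial (Fin 2) R} (hF : IsSC F) : IsSC (r • F) :=
  ⟨by rw [map_smul, hF.1], by rw [coc_smul, hF.2, smul_zero]⟩

lemma IsSC.zero : IsSC (0 : MvPolynomial (Fin 2) R) := ⟨by simp, coc_zero⟩

lemma IsSC.neg {F : MvPolynomial (Fin 2) R} (hF : IsSC F) : IsSC (-F) := by
  have := hF.smul (-1)
  rwa [neg_one_smul] at this

lemma IsSC.sub {F G : MvPolynomial (Fin 2) R} (hF : IsSC F) (hG : IsSC G) : IsSC (F - G) := by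
  rw [sub_eq_add_neg]
  exact hF.add hG.neg

lemma IsSC.sum {ι : Type*} (s : Finset ι) (f : ι → MvPolynomial (Fin 2) R)
    (h : ∀ i ∈ s, IsSC (f i)) : IsSC (∑ i ∈ s, f i) := by
  classical
  induction s using Finset.induction_on with
  | empty => simpa using IsSC.zero
  | insert a s ha ih =>
    rw [Finset.sum_insert ha]
    exact (h a (Finset.mem_insert_self a s)).add
      (ih (fun i hi => h i (Finset.mem_insert_of_mem hi)))

/-- the coboundary of a one-variable polynomial -/
noncomputable def delta (G : Polynomial R) : MvPolynomial (Fin 2) R :=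
  Polynomial.aeval (X 0 + X 1 : MvPolynomial (Fin 2) R) G - Polynomial.aeval (X 0) G
    - Polynomial.aeval (X 1) G

lemma delta_add (G H : Polynomial R) : delta (G + H) = delta G + delta H := by
  simp only [delta, map_add]
  ring

lemma aeval2_polyAeval {S : Type*} [CommRing S] [Algebra R S] (a b : S)
    (x : MvPolynomial (Fin 2) R) (G : Polynomial R) :
    aeval ![a, b] (Polynomial.aeval x G) = Polynomial.aeval (aeval ![a, b] x) G :=
  (Polynomial.aeval_algHom_apply (aeval ![a, b]) x G).symm

lemma delta_isSC (G : Polynomial R) : IsSC (delta G) := by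
  constructor
  · simp only [delta, map_sub, aeval2_polyAeval, map_add, aeval_X, Matrix.cons_val_zero,
      Matrix.cons_val_one]
    rw [add_comm (X 1) (X 0)]
    ring
  · simp only [coc, delta, map_sub, aeval2_polyAeval, map_add, aeval_X, Matrix.cons_val_zero,
      Matrix.cons_val_one]
    rw [add_assoc (X 0) (X 1) (X 2)]
    ring

/-- the polynomial `S` -/
noncomputable def Sp (R : Type u) [CommRing R] (p : ℕ) : MvPolynomial (Fin 2) R :=
  ∑ j ∈ Finset.Ioo 0 p, C ((p.choose j / p : ℕ) : R) * X 0 ^ j * X 1 ^ (p - j)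

lemma map_Sp (p : ℕ) : map (Int.castRingHom R) (Sp ℤ p) = Sp R p := by
  rw [Sp, Sp, map_sum]
  refine Finset.sum_congr rfl (fun j _ => ?_)
  rw [map_mul, map_mul, map_pow, map_pow, map_X, map_X, map_C, eq_intCast, Int.cast_natCast]

lemma p_mul_SpZ (p : ℕ) [hp : Fact p.Prime] :
    (p : MvPolynomial (Fin 2) ℤ) * Sp ℤ p = (X 0 + X 1) ^ p - X 0 ^ p - X 1 ^ p := by
  have hp' := hp.out
  rw [add_pow]
  have hrange : Finset.range (p + 1) = insert 0 (insert p (Finset.Ioo 0 p)) := by
    ext j
    simp only [Finset.mem_range, Finset.mem_insert, Finset.mem_Ioo]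
    omega
  rw [hrange, Finset.sum_insert (by simp; exact hp'.pos.ne), Finset.sum_insert (by simp)]
  simp only [pow_zero, Nat.sub_zero, Nat.choose_zero_right, Nat.cast_one, mul_one, one_mul,
    Nat.sub_self, Nat.choose_self]
  rw [Sp, Finset.mul_sum]
  have : ∀ j ∈ Finset.Ioo 0 p, (p : MvPolynomial (Fin 2) ℤ) *
      (C ((p.choose j / p : ℕ) : ℤ) * X 0 ^ j * X 1 ^ (p - j)) =
      X 0 ^ j * X 1 ^ (p - j) * (p.choose j : MvPolynomial (Fin 2) ℤ) := by
    intro j hj
    rw [Finset.mem_Ioo] at hj
    have hdvd : p ∣ p.choose j := hp'.dvd_choose_self hj.1.ne' hj.2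
    have h1 : (p.choose j : MvPolynomial (Fin 2) ℤ) =
        (p : MvPolynomial (Fin 2) ℤ) * C ((p.choose j / p : ℕ) : ℤ) := by
      rw [show C (((p.choose j / p : ℕ)) : ℤ) = ((p.choose j / p : ℕ) : MvPolynomial (Fin 2) ℤ)
        from map_natCast C _, ← Nat.cast_mul, Nat.mul_div_cancel' hdvd]
    rw [h1]
    ring
  rw [Finset.sum_congr rfl this]
  ring

lemma map_aeval2_ringHom {A B : Type*} [CommRing A] [CommRing B] (f : A →+* B) {τ : Type*}
    (a b : MvPolynomial τ A) (F : MvPolynomial (Fin 2) A) :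
    map f (aeval ![a, b] F) = aeval ![map f a, map f b] (map f F) := by
  induction F using MvPolynomial.induction_on with
  | C r => simp
  | add p q hp hq => simp only [map_add, hp, hq]
  | mul_X p i hp =>
    fin_cases i
    · simp only [Fin.zero_eta, map_mul, aeval_X, map_X, Matrix.cons_val_zero, hp]
    · simp only [Fin.mk_one, map_mul, aeval_X, map_X, Matrix.cons_val_one, Matrix.cons_val_zero,
        hp]

lemma isSC_map {A B : Type*} [CommRing A] [CommRing B] (f : A →+* B)
    {F : MvPolynomial (Fin 2) A} (hF : IsSC F) : IsSC (map f F) := by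
  constructor
  · have := congrArg (map f) hF.1
    rw [map_aeval2_ringHom] at this
    simpa using this
  · have := congrArg (map f) hF.2
    simp only [coc, map_sub, map_add, map_aeval2_ringHom, map_X, map_zero] at this
    exact this

lemma Sp_isSC (p : ℕ) [Fact p.Prime] : IsSC (Sp R p) := by
  rw [← map_Sp]
  apply isSC_map
  have hp0 : (p : MvPolynomial (Fin 2) ℤ) ≠ 0 := by
    have : (p : MvPolynomial (Fin 2) ℤ) = C (p : ℤ) := by simp
    rw [this, Ne, C_eq_zero]
    exact_mod_cast (Fact.out : p.Prime).ne_zero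
  have hp3 : (p : MvPolynomial (Fin 3) ℤ) ≠ 0 := by
    have : (p : MvPolynomial (Fin 3) ℤ) = C (p : ℤ) := by simp
    rw [this, Ne, C_eq_zero]
    exact_mod_cast (Fact.out : p.Prime).ne_zero
  have h1 : (X 0 + X 1 : MvPolynomial (Fin 2) ℤ) ^ p - X 0 ^ p - X 1 ^ p =
      delta (Polynomial.X ^ p) := by
    simp [delta]
  have h2 : IsSC ((p : MvPolynomial (Fin 2) ℤ) * Sp ℤ p) := by
    rw [p_mul_SpZ, h1]
    exact delta_isSC _
  constructor
  · have := h2.1
    rw [map_mul, map_natCast] at this
    exact mul_left_cancel₀ hp0 this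
  · have := h2.2
    have h3 : coc ((p : MvPolynomial (Fin 2) ℤ) * Sp ℤ p) =
        (p : MvPolynomial (Fin 3) ℤ) * coc (Sp ℤ p) := by
      simp only [coc, map_mul, map_natCast]
      ring
    rw [h3] at this
    exact (mul_eq_zero.1 this).resolve_left hp3

end Groth.Agent.Lib.Helper27.Lazard
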