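import Mathlib
import Groth.Agent.Lib.Helper27.LazardB

/-!
Symmetric 2-cocycle lemma in characteristic `p` (helper27): twisted `S`, the derivative identity.
-/

set_option autoImplicit false

namespace Groth.Agent.Lib.Helper27.Lazard

open MvPolynomial

universe u

variable {R : Type u} [CommRing R] (p : ℕ) [Fact p.Prime] [CharP R p]

/-- the twisted `S` -/
noncomputable def T (i : ℕ) : MvPolynomial (Fin 2) R :=
  aeval ![X 0 ^ p ^ i, X 1 ^ p ^ i] (Sp R p)

lemma T_zero : T (R := R) p 0 = Sp R p := by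
  rw [T, pow_zero, pow_one, pow_one, aeval_id2]

lemma T_isSC (i : ℕ) : IsSC (T (R := R) p i) := by
  have hS := Sp_isSC (R := R) p
  constructor
  · have h1 : aeval ![(X 1 : MvPolynomial (Fin 2) R), X 0] (T (R := R) p i) =
        aeval ![(X 1 : MvPolynomial (Fin 2) R) ^ p ^ i, X 0 ^ p ^ i] (Sp R p) := by
      rw [T, map_aeval2]
      simp
    have h2 : T (R := R) p i =
        aeval ![(X 1 : MvPolynomial (Fin 2) R) ^ p ^ i, X 0 ^ p ^ i] (Sp R p) := by
      conv_lhs => rw [T, ← hS.1, map_aeval2]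
      simp
    rw [h1, ← h2]
  · have key : ∀ u v : MvPolynomial (Fin 3) R,
        aeval ![u, v] (T (R := R) p i) = aeval ![u ^ p ^ i, v ^ p ^ i] (Sp R p) := by
      intro u v
      rw [T, map_aeval2]
      simp
    have key2 : ∀ u v : MvPolynomial (Fin 3) R,
        aeval ![(X 0 : MvPolynomial (Fin 3) R) ^ p ^ i, X 1 ^ p ^ i, X 2 ^ p ^ i]
            (aeval ![u, v] (Sp R p)) =
          aeval ![aeval ![(X 0 : MvPolynomial (Fin 3) R) ^ p ^ i, X 1 ^ p ^ i, X 2 ^ p ^ i] u,
            aeval ![(X 0 : MvPolynomial (Fin 3) R) ^ p ^ i, X 1 ^ p ^ i, X 2 ^ p ^ i] v]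
              (Sp R p) := by
      intro u v
      rw [map_aeval2]
    have h := congrArg (aeval ![(X 0 : MvPolynomial (Fin 3) R) ^ p ^ i, X 1 ^ p ^ i,
      X 2 ^ p ^ i]) hS.2
    simp only [coc, map_sub, map_add, key2, aeval_X, Matrix.cons_val_zero, Matrix.cons_val_one,
      Matrix.cons_val_two, Matrix.tail_cons, Matrix.head_cons, map_zero] at h
    simp only [coc, key, add_pow_char_pow]
    exact h

omit [CharP R p] in
lemma pderiv_SpZ : pderiv 0 (Sp ℤ p) =
    ((X 0 + X 1) ^ (p - 1) - X 0 ^ (p - 1) : MvPolynomial (Fin 2) ℤ) := by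
  have hp0 : (p : MvPolynomial (Fin 2) ℤ) ≠ 0 := by
    have : (p : MvPolynomial (Fin 2) ℤ) = C (p : ℤ) := by simp
    rw [this, Ne, C_eq_zero]
    exact_mod_cast (Fact.out : p.Prime).ne_zero
  have h := congrArg (pderiv (0 : Fin 2)) (p_mul_SpZ p)
  have hC : (p : MvPolynomial (Fin 2) ℤ) = C (p : ℤ) := by simp
  rw [hC, pderiv_C_mul, ← hC] at h
  simp only [map_sub, pderiv_pow, map_add, pderiv_X_self,
    pderiv_X_of_ne (show (1 : Fin 2) ≠ 0 by decide), add_zero, mul_one, mul_zero, sub_zero] at h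
  apply mul_left_cancel₀ hp0
  rw [h]
  ring

omit [CharP R p] in
lemma pderiv_Sp : pderiv 0 (Sp R p) =
    ((X 0 + X 1) ^ (p - 1) - X 0 ^ (p - 1) : MvPolynomial (Fin 2) R) := by
  rw [← map_Sp, pderiv_map, pderiv_SpZ]
  simp

omit [Fact p.Prime] [CharP R p] in
/-- the derivative identity -/
lemma deriv_identity (F : MvPolynomial (Fin 2) R) (hF : IsSC F) :
    pderiv 0 F =
      Polynomial.aeval (X 0 + X 1 : MvPolynomial (Fin 2) R)
          (aeval ![(0 : Polynomial R), Polynomial.X] (pderiv 0 F)) -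
        Polynomial.aeval (X 0 : MvPolynomial (Fin 2) R)
          (aeval ![(0 : Polynomial R), Polynomial.X] (pderiv 0 F)) := by
  have h := congrArg (pderiv (0 : Fin 3)) hF.2
  simp only [coc, map_sub, map_add, pderiv_aeval2, pderiv_X_self,
    pderiv_X_of_ne (show (1 : Fin 3) ≠ 0 by decide),
    pderiv_X_of_ne (show (2 : Fin 3) ≠ 0 by decide), mul_one, mul_zero, add_zero, map_zero,
    zero_add] at h
  have h2 := congrArg (aeval ![(0 : MvPolynomial (Fin 2) R), X 0, X 1]) h
  simp only [map_sub, map_add, map_aeval2, aeval_X, Matrix.cons_val_zero, Matrix.cons_val_one,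
    Matrix.cons_val_two, Matrix.tail_cons, Matrix.head_cons, map_zero, zero_add, aeval_id2,
    add_zero] at h2
  have h3 : ∀ y : MvPolynomial (Fin 2) R,
      Polynomial.aeval y (aeval ![(0 : Polynomial R), Polynomial.X] (pderiv 0 F)) =
        aeval ![0, y] (pderiv 0 F) := by
    intro y
    rw [map_aeval2 (Polynomial.aeval y) 0 Polynomial.X, map_zero, Polynomial.aeval_X]
  rw [h3, h3]
  rw [sub_eq_zero] at h2
  rw [← sub_eq_zero, ← h2]
  ring

end Groth.Agent.Lib.Helper27.Lazard
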