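import Mathlib
import Groth.Agent.Lib.Helper27.LazardC

/-!
Symmetric 2-cocycle lemma in characteristic `p` (helper27): the normal form and the main step.
-/

set_option autoImplicit false

namespace Groth.Agent.Lib.Helper27.Lazard

open MvPolynomial

universe u

variable {R : Type u} [CommRing R] (p : ℕ) [Fact p.Prime] [CharP R p]

/-- the normal form -/
def Form (F : MvPolynomial (Fin 2) R) : Prop :=
  ∃ (G : Polynomial R) (r : ℕ →₀ R), F = delta G + r.sum (fun i c => C c * T (R := R) p i)

omit [CharP R p] in
lemma Form.add {F F' : MvPolynomial (Fin 2) R} (h : Form p F) (h' : Form p F') :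
    Form p (F + F') := by
  obtain ⟨G, r, rfl⟩ := h
  obtain ⟨G', r', rfl⟩ := h'
  refine ⟨G + G', r + r', ?_⟩
  rw [delta_add, Finsupp.sum_add_index' (fun i => by simp) (fun i a b => by rw [map_add, add_mul])]
  ring

omit [CharP R p] in
lemma Form.delta (G : Polynomial R) : Form p (delta G) :=
  ⟨G, 0, by simp⟩

lemma Form.S (c : R) : Form p (C c * Sp R p) :=
  ⟨0, Finsupp.single 0 c, by
    rw [Finsupp.sum_single_index (by simp), T_zero]
    simp [Lazard.delta]⟩

omit [CharP R p] in
lemma Form.const (a : R) : Form p (C a : MvPolynomial (Fin 2) R) := by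
  have : (C a : MvPolynomial (Fin 2) R) = Lazard.delta (Polynomial.C (-a)) := by
    simp [Lazard.delta]
  rw [this]
  exact Form.delta p _

lemma expand_delta (G : Polynomial R) :
    expand p (Lazard.delta G) = Lazard.delta (Polynomial.expand R p G) := by
  have h : ∀ x : MvPolynomial (Fin 2) R, expand p (Polynomial.aeval x G) =
      Polynomial.aeval (expand p x) G := fun x =>
    (Polynomial.aeval_algHom_apply (expand p) x G).symm
  simp only [Lazard.delta, map_sub, h, map_add, expand_X, Polynomial.expand_aeval]
  rw [add_pow_char]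

omit [CharP R p] in
lemma expand_T (i : ℕ) : expand p (T (R := R) p i) = T p (i + 1) := by
  rw [T, map_aeval2, T]
  simp only [map_pow, expand_X, ← pow_mul, ← pow_succ']

lemma Form.expand {F : MvPolynomial (Fin 2) R} (h : Form p F) : Form p (expand p F) := by
  obtain ⟨G, r, rfl⟩ := h
  refine ⟨Polynomial.expand R p G, r.mapDomain (· + 1), ?_⟩
  rw [map_add, expand_delta, Finsupp.sum_mapDomain_index_inj (add_left_injective 1)]
  congr 1
  rw [map_finsuppSum]
  refine Finsupp.sum_congr (fun i _ => ?_)
  rw [map_mul, expand_C, expand_T]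

end Groth.Agent.Lib.Helper27.Lazard
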