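import Mathlib
import Groth.Agent.Lib.Helper27.LazardD

/-!
Symmetric 2-cocycle lemma in characteristic `p` (helper27): the main step and the theorem.
-/

set_option autoImplicit false

namespace Groth.Agent.Lib.Helper27.Lazard

open MvPolynomial

universe u

variable {R : Type u} [CommRing R] (p : ℕ) [Fact p.Prime] [CharP R p]

omit [Fact p.Prime] [CharP R p] in
lemma aeval2_expand {S : Type*} [CommRing S] [Algebra R S] (a b : S)
    (F : MvPolynomial (Fin 2) R) :
    (aeval ![a, b] (expand p F) : S) = aeval ![a ^ p, b ^ p] F := by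
  have : (aeval ![a, b] : MvPolynomial (Fin 2) R →ₐ[R] S).comp (expand p) =
      aeval ![a ^ p, b ^ p] := by
    apply MvPolynomial.algHom_ext
    intro i
    fin_cases i <;> simp
  exact DFunLike.congr_fun this F

set_option maxHeartbeats 1000000 in
theorem main_step (F : MvPolynomial (Fin 2) R) (hF : IsSC F) :
    ∃ (G : Polynomial R) (c : R) (F' : MvPolynomial (Fin 2) R),
      F = delta G + C c * Sp R p + expand p F' ∧ IsSC F' ∧
        F'.totalDegree * p ≤ F.totalDegree := by
  classical
  have hp := (Fact.out : p.Prime)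
  obtain ⟨g, hg⟩ : ∃ g : Polynomial R,
      g = aeval ![(0 : Polynomial R), Polynomial.X] (pderiv 0 F) := ⟨_, rfl⟩
  have hL1 : pderiv 0 F = Polynomial.aeval (X 0 + X 1 : MvPolynomial (Fin 2) R) g -
      Polynomial.aeval (X 0 : MvPolynomial (Fin 2) R) g := by
    rw [hg]
    exact deriv_identity F hF
  -- vanishing of some coefficients of g
  have hi : ∀ m, p ∣ m + 1 → m + 1 ≠ p → g.coeff m = 0 := by
    intro m hm hmp
    obtain ⟨k, hk⟩ := hm
    have hk2 : 2 ≤ k := by
      rcases k with _ | _ | k
      · omega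
      · exfalso
        apply hmp
        omega
      · omega
    have hpk : p * 2 ≤ p * k := Nat.mul_le_mul_left p hk2
    have hb : 1 ≤ m - (p - 1) := by
      have := hp.one_lt
      omega
    have hab : (p - 1) + (m - (p - 1)) = m := by omega
    have h1 := congrArg (coeff (mon (p - 1) (m - (p - 1)))) hL1
    rw [coeff_pderiv, coeff_sub, coeff_aeval_add, coeff_aeval_X0, if_neg (by omega), sub_zero,
      hab, choose_pred_cast p ⟨k, hk⟩, mul_one] at h1
    rw [← h1]
    simp only [mon_zero]
    have h2 : ((p - 1 : ℕ) : R) + 1 = 0 := by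
      have : ((p - 1 : ℕ) : R) + 1 = ((p - 1 + 1 : ℕ) : R) := by push_cast; ring
      rw [this, Nat.sub_add_cancel hp.one_lt.le, CharP.cast_eq_zero]
    rw [h2, mul_zero]
  -- the polynomial G
  obtain ⟨cG, hcG⟩ : ∃ cG : ℕ → R,
      cG = fun m => if p ∣ m + 1 then 0 else g.coeff m * inv p (m + 1) := ⟨_, rfl⟩
  obtain ⟨G, hGdef⟩ : ∃ G : Polynomial R,
      G = ∑ m ∈ Finset.range (g.natDegree + 1), Polynomial.monomial (m + 1) (cG m) := ⟨_, rfl⟩
  have hcG' : ∀ m, cG m = if p ∣ m + 1 then 0 else g.coeff m * inv p (m + 1) := fun m => by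
    rw [hcG]
  have hG0 : G.coeff 0 = 0 := by
    rw [hGdef, Polynomial.finsetSum_coeff]
    refine Finset.sum_eq_zero (fun m _ => ?_)
    rw [Polynomial.coeff_monomial, if_neg (by omega)]
  have hGs : ∀ k, G.coeff (k + 1) = cG k := by
    intro k
    rw [hGdef, Polynomial.finsetSum_coeff]
    simp only [Polynomial.coeff_monomial]
    by_cases hk : k ∈ Finset.range (g.natDegree + 1)
    · rw [Finset.sum_eq_single k]
      · simp
      · intro m _ hm
        rw [if_neg (by omega)]
      · intro h
        exact absurd hk h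
    · rw [Finset.sum_eq_zero]
      · have : g.coeff k = 0 := Polynomial.coeff_eq_zero_of_natDegree_lt (by
          rw [Finset.mem_range] at hk
          omega)
        rw [hcG' k]
        simp [this]
      · intro m hm
        rw [if_neg]
        intro h
        apply hk
        have : m = k := by omega
        rwa [this] at hm
  have hGp : ∀ k, p ∣ k → G.coeff k = 0 := by
    intro k hk
    rcases k with _ | k
    · exact hG0
    · rw [hGs, hcG' k, if_pos hk]
  -- F₂
  obtain ⟨c, hc⟩ : ∃ c : R, c = g.coeff (p - 1) := ⟨_, rfl⟩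
  obtain ⟨F₂, hF₂⟩ : ∃ F₂ : MvPolynomial (Fin 2) R, F₂ = F - delta G - C c * Sp R p := ⟨_, rfl⟩
  have hF₂sc : IsSC F₂ := by
    rw [hF₂]
    refine (hF.sub (delta_isSC G)).sub ?_
    rw [← smul_eq_C_mul]
    exact (Sp_isSC p).smul c
  have hd0 : pderiv 0 F₂ = 0 := by
    have hdelta : pderiv 0 (delta G) =
        Polynomial.aeval (X 0 + X 1 : MvPolynomial (Fin 2) R) (Polynomial.derivative G) -
          Polynomial.aeval (X 0 : MvPolynomial (Fin 2) R) (Polynomial.derivative G) := by
      simp only [delta, map_sub, Derivation.map_aeval, map_add, pderiv_X_self,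
        pderiv_X_of_ne (show (1 : Fin 2) ≠ 0 by decide), add_zero, smul_eq_mul, mul_one,
        mul_zero, sub_zero]
    have hh : g - Polynomial.derivative G - Polynomial.C c * Polynomial.X ^ (p - 1) = 0 := by
      ext m
      simp only [Polynomial.coeff_sub, Polynomial.coeff_derivative, hGs, Polynomial.coeff_C_mul,
        Polynomial.coeff_X_pow, Polynomial.coeff_zero]
      by_cases hm : p ∣ m + 1
      · by_cases hmp : m = p - 1
        · subst hmp
          rw [hcG' (p - 1), if_pos hm, zero_mul, sub_zero, hc]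
          simp
        · have : g.coeff m = 0 := hi m hm (by omega)
          rw [hcG' m]
          simp only [if_pos hm, if_neg hmp, this, zero_mul, sub_zero, mul_zero]
      · have hmp : m ≠ p - 1 := by
          rintro rfl
          apply hm
          rw [Nat.sub_add_cancel hp.one_lt.le]
        rw [hcG' m]
        simp only [if_neg hm, if_neg hmp, mul_zero, sub_zero]
        have h3 := inv_mul (R := R) p hm
        push_cast at h3
        rw [mul_assoc, h3, mul_one, sub_self]
    have h4 : Polynomial.aeval (X 0 + X 1 : MvPolynomial (Fin 2) R)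
          (g - Polynomial.derivative G - Polynomial.C c * Polynomial.X ^ (p - 1)) -
        Polynomial.aeval (X 0 : MvPolynomial (Fin 2) R)
          (g - Polynomial.derivative G - Polynomial.C c * Polynomial.X ^ (p - 1)) = 0 := by
      rw [hh]
      simp
    simp only [map_sub, map_mul, Polynomial.aeval_C, map_pow, Polynomial.aeval_X,
      algebraMap_eq] at h4
    rw [hF₂, map_sub, map_sub, hL1, hdelta, pderiv_C_mul, pderiv_Sp, ← h4]
    ring
  have hd1 : pderiv 1 F₂ = 0 := by
    have hren : rename (Equiv.swap (0 : Fin 2) 1) F₂ = F₂ := by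
      have : (rename (Equiv.swap (0 : Fin 2) 1) :
          MvPolynomial (Fin 2) R →ₐ[R] MvPolynomial (Fin 2) R) = aeval ![X 1, X 0] := by
        apply MvPolynomial.algHom_ext
        intro i
        fin_cases i <;> simp
      rw [this]
      exact hF₂sc.1
    have := pderiv_rename (Equiv.swap (0 : Fin 2) 1).injective (0 : Fin 2) F₂
    rw [Equiv.swap_apply_left, hren, hd0, map_zero] at this
    exact this
  -- support
  have hsupp : ∀ m ∈ F₂.support, p ∣ m 0 ∧ p ∣ m 1 := by
    intro m hm
    rw [mem_support_iff] at hm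
    have key : ∀ i : Fin 2, pderiv i F₂ = 0 → p ∣ m i := by
      intro i hi0
      by_contra hnd
      have hmi : m i ≠ 0 := fun h => hnd (h ▸ dvd_zero p)
      have hm' : m - Finsupp.single i 1 + Finsupp.single i 1 = m := by
        ext j
        by_cases hj : j = i
        · subst hj
          simp only [Finsupp.coe_add, Finsupp.coe_tsub, Pi.add_apply, Pi.sub_apply,
            Finsupp.single_eq_same]
          omega
        · simp [Finsupp.single_eq_of_ne hj]
      have h1 := congrArg (coeff (m - Finsupp.single i 1)) hi0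
      rw [coeff_pderiv, hm', coeff_zero] at h1
      have h2 : (((m - Finsupp.single i 1 : Fin 2 →₀ ℕ) i : ℕ) : R) + 1 = ((m i : ℕ) : R) := by
        have : (m - Finsupp.single i 1 : Fin 2 →₀ ℕ) i + 1 = m i := by
          simp only [Finsupp.coe_tsub, Pi.sub_apply, Finsupp.single_eq_same]
          omega
        rw [← this]
        push_cast
        ring
      rw [h2] at h1
      exact hm ((isUnit_natCast p hnd).mul_left_eq_zero.1 h1)
    exact ⟨key 0 hd0, key 1 hd1⟩
  -- F'
  obtain ⟨F', hF'⟩ : ∃ F' : MvPolynomial (Fin 2) R,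
      F' = ∑ m ∈ F₂.support, monomial (mon (m 0 / p) (m 1 / p)) (coeff m F₂) := ⟨_, rfl⟩
  have hexp : expand p F' = F₂ := by
    rw [hF', map_sum]
    conv_rhs => rw [F₂.as_sum]
    refine Finset.sum_congr rfl (fun m hm => ?_)
    obtain ⟨h0, h1⟩ := hsupp m hm
    rw [monomial_mon, map_mul, map_mul, map_pow, map_pow, expand_C, expand_X, expand_X, ← pow_mul,
      ← pow_mul, Nat.mul_div_cancel' h0, Nat.mul_div_cancel' h1, ← monomial_mon, mon_eta]
  have hinj := expand_injective (R := R) (σ := Fin 2) hp.pos
  have hinj3 := expand_injective (R := R) (σ := Fin 3) hp.pos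
  have hF'sc : IsSC F' := by
    constructor
    · apply hinj
      rw [map_aeval2, expand_X, expand_X, ← aeval2_expand, hexp]
      exact hF₂sc.1
    · apply hinj3
      rw [map_zero, ← hF₂sc.2, ← hexp]
      simp only [coc, map_sub, map_add, map_aeval2, expand_X, aeval2_expand, add_pow_char]
  have hdeg : F₂.totalDegree ≤ F.totalDegree := by
    apply totalDegree_le_of_support_subset
    intro m hm
    obtain ⟨⟨a, ha⟩, ⟨b, hb⟩⟩ := hsupp m hm
    have hmm : m = mon (p * a) (p * b) := by rw [← ha, ← hb, mon_eta]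
    rw [mem_support_iff] at hm ⊢
    have h1 : coeff m (delta G) = 0 := by
      rw [hmm, delta, coeff_sub, coeff_sub, coeff_aeval_add, coeff_aeval_X0, coeff_aeval_X1,
        hGp _ ⟨a + b, by ring⟩, zero_mul, hGp _ ⟨a, rfl⟩, hGp _ ⟨b, rfl⟩]
      simp
    have h2 : coeff m (C c * Sp R p) = 0 := by
      rw [hmm, coeff_C_mul, Sp, coeff_sum, Finset.sum_eq_zero, mul_zero]
      intro j hj
      rw [Finset.mem_Ioo] at hj
      rw [mul_assoc, coeff_C_mul, coeff_X_pow_mul, if_neg, mul_zero]
      rintro ⟨h3, -⟩
      rcases a with _ | a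
      · omega
      · have : p ≤ p * (a + 1) := Nat.le_mul_of_pos_right p (Nat.succ_pos a)
        omega
    intro h
    apply hm
    rw [hF₂, coeff_sub, coeff_sub, h, h1, h2]
    simp
  refine ⟨G, c, F', ?_, hF'sc, ?_⟩
  · rw [hexp, hF₂]
    ring
  · rw [← totalDegree_expand, hexp]
    exact hdeg

end Groth.Agent.Lib.Helper27.Lazard
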