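import Mathlib
import Groth.Agent.Lib.Helper27.LazardE

/-!
Symmetric 2-cocycle lemma in characteristic `p` (helper27): the theorem.
-/

set_option autoImplicit false

namespace Groth.Agent.Lib.Helper27.Lazard

open MvPolynomial

universe u

variable {R : Type u} [CommRing R] (p : ℕ) [Fact p.Prime] [CharP R p]

theorem form_of_isSC : ∀ (n : ℕ) (F : MvPolynomial (Fin 2) R), F.totalDegree = n → IsSC F →
    Form p F := by
  intro n
  induction n using Nat.strong_induction_on with
  | _ n ih =>
    intro F hn hF
    by_cases h0 : F.totalDegree = 0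
    · rw [totalDegree_eq_zero_iff_eq_C] at h0
      rw [h0]
      exact Form.const p _
    · obtain ⟨G, c, F', hF', hsc, hdeg⟩ := main_step p F hF
      have hlt : F'.totalDegree < n := by
        have hp2 := (Fact.out : p.Prime).two_le
        rw [← hn]
        have : F'.totalDegree * 2 ≤ F'.totalDegree * p := Nat.mul_le_mul_left _ hp2
        omega
      rw [hF']
      exact ((Form.delta p G).add p (Form.S p c)).add p ((ih _ hlt F' rfl hsc).expand p)

theorem lazard (F : MvPolynomial (Fin 2) R) :
    (MvPolynomial.aeval ![MvPolynomial.X 1, MvPolynomial.X 0] F = F ∧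
      MvPolynomial.aeval ![MvPolynomial.X 0, MvPolynomial.X 1 + MvPolynomial.X 2] F
          + MvPolynomial.aeval ![MvPolynomial.X 1, MvPolynomial.X 2] F
          - MvPolynomial.aeval ![MvPolynomial.X 0 + MvPolynomial.X 1, MvPolynomial.X 2] F
          - MvPolynomial.aeval ![MvPolynomial.X 0, MvPolynomial.X 1] F = (0 : MvPolynomial (Fin 3) R)) ↔
      ∃ (G : Polynomial R) (N : ℕ) (r : ℕ → R),
        F = Polynomial.aeval (MvPolynomial.X 0 + MvPolynomial.X 1 : MvPolynomial (Fin 2) R) G
              - Polynomial.aeval (MvPolynomial.X 0 : MvPolynomial (Fin 2) R) G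
              - Polynomial.aeval (MvPolynomial.X 1 : MvPolynomial (Fin 2) R) G
            + ∑ i ∈ Finset.range N, MvPolynomial.C (r i) *
                MvPolynomial.aeval ![MvPolynomial.X 0 ^ p ^ i, MvPolynomial.X 1 ^ p ^ i]
                  (∑ j ∈ Finset.Ioo 0 p, MvPolynomial.C ((p.choose j / p : ℕ) : R) *
                    MvPolynomial.X 0 ^ j * MvPolynomial.X 1 ^ (p - j) : MvPolynomial (Fin 2) R) := by
  constructor
  · intro h
    have hF : IsSC F := h
    obtain ⟨G, r, hr⟩ := form_of_isSC p _ F rfl hF
    refine ⟨G, r.support.sup id + 1, ⇑r, ?_⟩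
    rw [hr]
    change delta G + _ = delta G + ∑ i ∈ Finset.range (r.support.sup id + 1), C (r i) * T p i
    congr 1
    rw [Finsupp.sum]
    apply Finset.sum_subset
    · intro i hi
      rw [Finset.mem_range]
      exact Nat.lt_succ_of_le (Finset.le_sup (f := id) hi)
    · intro i _ hi
      rw [Finsupp.notMem_support_iff.1 hi, C_0, zero_mul]
  · rintro ⟨G, N, r, hF⟩
    change IsSC F
    rw [hF]
    change IsSC (delta G + ∑ i ∈ Finset.range N, C (r i) * T p i)
    refine (delta_isSC G).add (IsSC.sum _ _ (fun i _ => ?_))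
    rw [← smul_eq_C_mul]
    exact (T_isSC p i).smul _

end Groth.Agent.Lib.Helper27.Lazard
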