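import Mathlib
import Groth.Agent.Lib.Helper27.LazardF

/-!
Symmetric 2-cocycle lemma in characteristic `p` (helper27): version tracking an ideal of
coefficients.
-/

set_option autoImplicit false

namespace Groth.Agent.Lib.Helper27.Lazard

open MvPolynomial

universe u

section gen

variable {R : Type u} [CommRing R]

lemma algHom_mem_map {A B : Type*} [CommRing A] [Algebra R A] [CommRing B] [Algebra R B]
    (φ : A →ₐ[R] B) (𝔞 : Ideal R) {x : A} (hx : x ∈ 𝔞.map (algebraMap R A)) :
    φ x ∈ 𝔞.map (algebraMap R B) := by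
  have h : 𝔞.map (algebraMap R A) ≤ (𝔞.map (algebraMap R B)).comap φ := by
    rw [Ideal.map_le_iff_le_comap]
    intro r hr
    rw [Ideal.mem_comap, Ideal.mem_comap, AlgHom.commutes]
    exact Ideal.mem_map_of_mem _ hr
  exact h hx

lemma mv_mem_iff {σ : Type*} (𝔞 : Ideal R) (F : MvPolynomial σ R) :
    F ∈ 𝔞.map (algebraMap R (MvPolynomial σ R)) ↔ ∀ m, coeff m F ∈ 𝔞 :=
  MvPolynomial.mem_map_C_iff

lemma poly_mem_iff (𝔞 : Ideal R) (G : Polynomial R) :
    G ∈ 𝔞.map (algebraMap R (Polynomial R)) ↔ ∀ k, G.coeff k ∈ 𝔞 :=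
  Ideal.mem_map_C_iff

lemma delta_mem (𝔞 : Ideal R) {G : Polynomial R}
    (hG : G ∈ 𝔞.map (algebraMap R (Polynomial R))) :
    delta G ∈ 𝔞.map (algebraMap R (MvPolynomial (Fin 2) R)) := by
  rw [delta]
  exact Ideal.sub_mem _ (Ideal.sub_mem _ (algHom_mem_map (Polynomial.aeval _) 𝔞 hG)
    (algHom_mem_map (Polynomial.aeval _) 𝔞 hG)) (algHom_mem_map (Polynomial.aeval _) 𝔞 hG)

end gen

variable {R : Type u} [CommRing R] (p : ℕ) [Fact p.Prime] [CharP R p]

set_option maxHeartbeats 1000000 in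
theorem main_step_I (𝔞 : Ideal R) (F : MvPolynomial (Fin 2) R) (hF : IsSC F)
    (hFa : ∀ m, coeff m F ∈ 𝔞) :
    ∃ (G : Polynomial R) (c : R) (F' : MvPolynomial (Fin 2) R),
      F = delta G + C c * Sp R p + expand p F' ∧ IsSC F' ∧
        F'.totalDegree * p ≤ F.totalDegree ∧
        (∀ k, G.coeff k ∈ 𝔞) ∧ c ∈ 𝔞 ∧ ∀ m, coeff m F' ∈ 𝔞 := by
  classical
  have hp := (Fact.out : p.Prime)
  obtain ⟨g, hg⟩ : ∃ g : Polynomial R,
      g = aeval ![(0 : Polynomial R), Polynomial.X] (pderiv 0 F) := ⟨_, rfl⟩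
  have hL1 : pderiv 0 F = Polynomial.aeval (X 0 + X 1 : MvPolynomial (Fin 2) R) g -
      Polynomial.aeval (X 0 : MvPolynomial (Fin 2) R) g := by
    rw [hg]
    exact deriv_identity F hF
  -- vanishing of some coefficients of g
  have hi : ∀ m, p ∣ m + 1 → m + 1 ≠ p → g.coeff m = 0 := by
    intro m hm hmp
    obtain ⟨k, hk⟩ := hm
    have hk2 : 2 ≤ k := by
      rcases k with _ | _ | k
      · omega
      · exfalso
        apply hmp
        omega
      · omega
    have hpk : p * 2 ≤ p * k := Nat.mul_le_mul_left p hk2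
    have hb : 1 ≤ m - (p - 1) := by
      have := hp.one_lt
      omega
    have hab : (p - 1) + (m - (p - 1)) = m := by omega
    have h1 := congrArg (coeff (mon (p - 1) (m - (p - 1)))) hL1
    rw [coeff_pderiv, coeff_sub, coeff_aeval_add, coeff_aeval_X0, if_neg (by omega), sub_zero,
      hab, choose_pred_cast p ⟨k, hk⟩, mul_one] at h1
    rw [← h1]
    simp only [mon_zero]
    have h2 : ((p - 1 : ℕ) : R) + 1 = 0 := by
      have : ((p - 1 : ℕ) : R) + 1 = ((p - 1 + 1 : ℕ) : R) := by push_cast; ring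
      rw [this, Nat.sub_add_cancel hp.one_lt.le, CharP.cast_eq_zero]
    rw [h2, mul_zero]
  -- the polynomial G
  obtain ⟨cG, hcG⟩ : ∃ cG : ℕ → R,
      cG = fun m => if p ∣ m + 1 then 0 else g.coeff m * inv p (m + 1) := ⟨_, rfl⟩
  obtain ⟨G, hGdef⟩ : ∃ G : Polynomial R,
      G = ∑ m ∈ Finset.range (g.natDegree + 1), Polynomial.monomial (m + 1) (cG m) := ⟨_, rfl⟩
  have hcG' : ∀ m, cG m = if p ∣ m + 1 then 0 else g.coeff m * inv p (m + 1) := fun m => by
    rw [hcG]
  have hG0 : G.coeff 0 = 0 := by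
    rw [hGdef, Polynomial.finsetSum_coeff]
    refine Finset.sum_eq_zero (fun m _ => ?_)
    rw [Polynomial.coeff_monomial, if_neg (by omega)]
  have hGs : ∀ k, G.coeff (k + 1) = cG k := by
    intro k
    rw [hGdef, Polynomial.finsetSum_coeff]
    simp only [Polynomial.coeff_monomial]
    by_cases hk : k ∈ Finset.range (g.natDegree + 1)
    · rw [Finset.sum_eq_single k]
      · simp
      · intro m _ hm
        rw [if_neg (by omega)]
      · intro h
        exact absurd hk h
    · rw [Finset.sum_eq_zero]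
      · have : g.coeff k = 0 := Polynomial.coeff_eq_zero_of_natDegree_lt (by
          rw [Finset.mem_range] at hk
          omega)
        rw [hcG' k]
        simp [this]
      · intro m hm
        rw [if_neg]
        intro h
        apply hk
        have : m = k := by omega
        rwa [this] at hm
  have hGp : ∀ k, p ∣ k → G.coeff k = 0 := by
    intro k hk
    rcases k with _ | k
    · exact hG0
    · rw [hGs, hcG' k, if_pos hk]
  -- F₂
  obtain ⟨c, hc⟩ : ∃ c : R, c = g.coeff (p - 1) := ⟨_, rfl⟩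
  obtain ⟨F₂, hF₂⟩ : ∃ F₂ : MvPolynomial (Fin 2) R, F₂ = F - delta G - C c * Sp R p := ⟨_, rfl⟩
  have hF₂sc : IsSC F₂ := by
    rw [hF₂]
    refine (hF.sub (delta_isSC G)).sub ?_
    rw [← smul_eq_C_mul]
    exact (Sp_isSC p).smul c
  have hd0 : pderiv 0 F₂ = 0 := by
    have hdelta : pderiv 0 (delta G) =
        Polynomial.aeval (X 0 + X 1 : MvPolynomial (Fin 2) R) (Polynomial.derivative G) -
          Polynomial.aeval (X 0 : MvPolynomial (Fin 2) R) (Polynomial.derivative G) := by
      simp only [delta, map_sub, Derivation.map_aeval, map_add, pderiv_X_self,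
        pderiv_X_of_ne (show (1 : Fin 2) ≠ 0 by decide), add_zero, smul_eq_mul, mul_one,
        mul_zero, sub_zero]
    have hh : g - Polynomial.derivative G - Polynomial.C c * Polynomial.X ^ (p - 1) = 0 := by
      ext m
      simp only [Polynomial.coeff_sub, Polynomial.coeff_derivative, hGs, Polynomial.coeff_C_mul,
        Polynomial.coeff_X_pow, Polynomial.coeff_zero]
      by_cases hm : p ∣ m + 1
      · by_cases hmp : m = p - 1
        · subst hmp
          rw [hcG' (p - 1), if_pos hm, zero_mul, sub_zero, hc]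
          simp
        · have : g.coeff m = 0 := hi m hm (by omega)
          rw [hcG' m]
          simp only [if_pos hm, if_neg hmp, this, zero_mul, sub_zero, mul_zero]
      · have hmp : m ≠ p - 1 := by
          rintro rfl
          apply hm
          rw [Nat.sub_add_cancel hp.one_lt.le]
        rw [hcG' m]
        simp only [if_neg hm, if_neg hmp, mul_zero, sub_zero]
        have h3 := inv_mul (R := R) p hm
        push_cast at h3
        rw [mul_assoc, h3, mul_one, sub_self]
    have h4 : Polynomial.aeval (X 0 + X 1 : MvPolynomial (Fin 2) R)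
          (g - Polynomial.derivative G - Polynomial.C c * Polynomial.X ^ (p - 1)) -
        Polynomial.aeval (X 0 : MvPolynomial (Fin 2) R)
          (g - Polynomial.derivative G - Polynomial.C c * Polynomial.X ^ (p - 1)) = 0 := by
      rw [hh]
      simp
    simp only [map_sub, map_mul, Polynomial.aeval_C, map_pow, Polynomial.aeval_X,
      algebraMap_eq] at h4
    rw [hF₂, map_sub, map_sub, hL1, hdelta, pderiv_C_mul, pderiv_Sp, ← h4]
    ring
  have hd1 : pderiv 1 F₂ = 0 := by
    have hren : rename (Equiv.swap (0 : Fin 2) 1) F₂ = F₂ := by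
      have : (rename (Equiv.swap (0 : Fin 2) 1) :
          MvPolynomial (Fin 2) R →ₐ[R] MvPolynomial (Fin 2) R) = aeval ![X 1, X 0] := by
        apply MvPolynomial.algHom_ext
        intro i
        fin_cases i <;> simp
      rw [this]
      exact hF₂sc.1
    have := pderiv_rename (Equiv.swap (0 : Fin 2) 1).injective (0 : Fin 2) F₂
    rw [Equiv.swap_apply_left, hren, hd0, map_zero] at this
    exact this
  -- support
  have hsupp : ∀ m ∈ F₂.support, p ∣ m 0 ∧ p ∣ m 1 := by
    intro m hm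
    rw [mem_support_iff] at hm
    have key : ∀ i : Fin 2, pderiv i F₂ = 0 → p ∣ m i := by
      intro i hi0
      by_contra hnd
      have hmi : m i ≠ 0 := fun h => hnd (h ▸ dvd_zero p)
      have hm' : m - Finsupp.single i 1 + Finsupp.single i 1 = m := by
        ext j
        by_cases hj : j = i
        · subst hj
          simp only [Finsupp.coe_add, Finsupp.coe_tsub, Pi.add_apply, Pi.sub_apply,
            Finsupp.single_eq_same]
          omega
        · simp [Finsupp.single_eq_of_ne hj]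
      have h1 := congrArg (coeff (m - Finsupp.single i 1)) hi0
      rw [coeff_pderiv, hm', coeff_zero] at h1
      have h2 : (((m - Finsupp.single i 1 : Fin 2 →₀ ℕ) i : ℕ) : R) + 1 = ((m i : ℕ) : R) := by
        have : (m - Finsupp.single i 1 : Fin 2 →₀ ℕ) i + 1 = m i := by
          simp only [Finsupp.coe_tsub, Pi.sub_apply, Finsupp.single_eq_same]
          omega
        rw [← this]
        push_cast
        ring
      rw [h2] at h1
      exact hm ((isUnit_natCast p hnd).mul_left_eq_zero.1 h1)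
    exact ⟨key 0 hd0, key 1 hd1⟩
  -- F'
  obtain ⟨F', hF'⟩ : ∃ F' : MvPolynomial (Fin 2) R,
      F' = ∑ m ∈ F₂.support, monomial (mon (m 0 / p) (m 1 / p)) (coeff m F₂) := ⟨_, rfl⟩
  have hexp : expand p F' = F₂ := by
    rw [hF', map_sum]
    conv_rhs => rw [F₂.as_sum]
    refine Finset.sum_congr rfl (fun m hm => ?_)
    obtain ⟨h0, h1⟩ := hsupp m hm
    rw [monomial_mon, map_mul, map_mul, map_pow, map_pow, expand_C, expand_X, expand_X, ← pow_mul,
      ← pow_mul, Nat.mul_div_cancel' h0, Nat.mul_div_cancel' h1, ← monomial_mon, mon_eta]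
  have hinj := expand_injective (R := R) (σ := Fin 2) hp.pos
  have hinj3 := expand_injective (R := R) (σ := Fin 3) hp.pos
  have hF'sc : IsSC F' := by
    constructor
    · apply hinj
      rw [map_aeval2, expand_X, expand_X, ← aeval2_expand, hexp]
      exact hF₂sc.1
    · apply hinj3
      rw [map_zero, ← hF₂sc.2, ← hexp]
      simp only [coc, map_sub, map_add, map_aeval2, expand_X, aeval2_expand, add_pow_char]
  have hdeg : F₂.totalDegree ≤ F.totalDegree := by
    apply totalDegree_le_of_support_subset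
    intro m hm
    obtain ⟨⟨a, ha⟩, ⟨b, hb⟩⟩ := hsupp m hm
    have hmm : m = mon (p * a) (p * b) := by rw [← ha, ← hb, mon_eta]
    rw [mem_support_iff] at hm ⊢
    have h1 : coeff m (delta G) = 0 := by
      rw [hmm, delta, coeff_sub, coeff_sub, coeff_aeval_add, coeff_aeval_X0, coeff_aeval_X1,
        hGp _ ⟨a + b, by ring⟩, zero_mul, hGp _ ⟨a, rfl⟩, hGp _ ⟨b, rfl⟩]
      simp
    have h2 : coeff m (C c * Sp R p) = 0 := by
      rw [hmm, coeff_C_mul, Sp, coeff_sum, Finset.sum_eq_zero, mul_zero]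
      intro j hj
      rw [Finset.mem_Ioo] at hj
      rw [mul_assoc, coeff_C_mul, coeff_X_pow_mul, if_neg, mul_zero]
      rintro ⟨h3, -⟩
      rcases a with _ | a
      · omega
      · have : p ≤ p * (a + 1) := Nat.le_mul_of_pos_right p (Nat.succ_pos a)
        omega
    intro h
    apply hm
    rw [hF₂, coeff_sub, coeff_sub, h, h1, h2]
    simp
  -- tracking
  have hgA : ∀ k, g.coeff k ∈ 𝔞 := by
    have h1 : pderiv 0 F ∈ 𝔞.map (algebraMap R (MvPolynomial (Fin 2) R)) := by
      rw [mv_mem_iff]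
      intro m
      rw [coeff_pderiv]
      exact 𝔞.mul_mem_right _ (hFa _)
    have h2 := algHom_mem_map (aeval ![(0 : Polynomial R), Polynomial.X]) 𝔞 h1
    rw [← hg, poly_mem_iff] at h2
    exact h2
  have hGA : ∀ k, G.coeff k ∈ 𝔞 := by
    intro k
    rcases k with _ | k
    · rw [hG0]
      exact 𝔞.zero_mem
    · rw [hGs, hcG' k]
      split_ifs
      · exact 𝔞.zero_mem
      · exact 𝔞.mul_mem_right _ (hgA k)
  have hcA : c ∈ 𝔞 := by
    rw [hc]
    exact hgA _
  have hF₂A : ∀ m, coeff m F₂ ∈ 𝔞 := by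
    rw [← mv_mem_iff, hF₂]
    refine Ideal.sub_mem _ (Ideal.sub_mem _ ((mv_mem_iff 𝔞 F).2 hFa) ?_) ?_
    · exact delta_mem 𝔞 ((poly_mem_iff 𝔞 G).2 hGA)
    · exact Ideal.mul_mem_right _ _ (Ideal.mem_map_of_mem _ hcA)
  have hF'A : ∀ m, coeff m F' ∈ 𝔞 := by
    rw [← mv_mem_iff, hF']
    refine Ideal.sum_mem _ (fun m _ => ?_)
    rw [mv_mem_iff]
    intro m'
    rw [coeff_monomial]
    split_ifs
    · exact hF₂A m
    · exact 𝔞.zero_mem
  refine ⟨G, c, F', ?_, hF'sc, ?_, hGA, hcA, hF'A⟩
  · rw [hexp, hF₂]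
    ring
  · rw [← totalDegree_expand, hexp]
    exact hdeg


/-- the normal form with coefficients in an ideal -/
def FormI (𝔞 : Ideal R) (F : MvPolynomial (Fin 2) R) : Prop :=
  ∃ (G : Polynomial R) (r : ℕ →₀ R), G ∈ 𝔞.map (algebraMap R (Polynomial R)) ∧
    F = delta G + r.sum (fun i c => C c * T (R := R) p i)

omit [CharP R p] in
lemma FormI.add {𝔞 : Ideal R} {F F' : MvPolynomial (Fin 2) R} (h : FormI p 𝔞 F)
    (h' : FormI p 𝔞 F') : FormI p 𝔞 (F + F') := by
  obtain ⟨G, r, hG, rfl⟩ := h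
  obtain ⟨G', r', hG', rfl⟩ := h'
  refine ⟨G + G', r + r', Ideal.add_mem _ hG hG', ?_⟩
  rw [delta_add, Finsupp.sum_add_index' (fun i => by simp) (fun i a b => by rw [map_add, add_mul])]
  ring

omit [CharP R p] in
lemma FormI.delta {𝔞 : Ideal R} {G : Polynomial R}
    (hG : G ∈ 𝔞.map (algebraMap R (Polynomial R))) : FormI p 𝔞 (delta G) :=
  ⟨G, 0, hG, by simp⟩

lemma FormI.S (𝔞 : Ideal R) (c : R) : FormI p 𝔞 (C c * Sp R p) :=
  ⟨0, Finsupp.single 0 c, Ideal.zero_mem _, by
    rw [Finsupp.sum_single_index (by simp), T_zero]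
    simp [Lazard.delta]⟩

omit [CharP R p] in
lemma FormI.const {𝔞 : Ideal R} {a : R} (ha : a ∈ 𝔞) :
    FormI p 𝔞 (C a : MvPolynomial (Fin 2) R) := by
  have : (C a : MvPolynomial (Fin 2) R) = Lazard.delta (Polynomial.C (-a)) := by
    simp [Lazard.delta]
  rw [this]
  refine FormI.delta p ?_
  rw [poly_mem_iff]
  intro k
  rw [Polynomial.coeff_C]
  split_ifs
  · exact 𝔞.neg_mem ha
  · exact 𝔞.zero_mem

lemma FormI.expand {𝔞 : Ideal R} {F : MvPolynomial (Fin 2) R} (h : FormI p 𝔞 F) :
    FormI p 𝔞 (expand p F) := by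
  obtain ⟨G, r, hG, rfl⟩ := h
  refine ⟨Polynomial.expand R p G, r.mapDomain (· + 1),
    algHom_mem_map (Polynomial.expand R p) 𝔞 hG, ?_⟩
  rw [map_add, expand_delta, Finsupp.sum_mapDomain_index_inj (add_left_injective 1)]
  congr 1
  rw [map_finsuppSum]
  refine Finsupp.sum_congr (fun i _ => ?_)
  rw [map_mul, expand_C, expand_T]

theorem formI_of_isSC (𝔞 : Ideal R) : ∀ (n : ℕ) (F : MvPolynomial (Fin 2) R),
    F.totalDegree = n → IsSC F → (∀ m, coeff m F ∈ 𝔞) → FormI p 𝔞 F := by
  intro n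
  induction n using Nat.strong_induction_on with
  | _ n ih =>
    intro F hn hF hFa
    by_cases h0 : F.totalDegree = 0
    · rw [totalDegree_eq_zero_iff_eq_C] at h0
      rw [h0]
      exact FormI.const p (hFa 0)
    · obtain ⟨G, c, F', hF', hsc, hdeg, hGA, hcA, hF'A⟩ := main_step_I p 𝔞 F hF hFa
      have hlt : F'.totalDegree < n := by
        have hp2 := (Fact.out : p.Prime).two_le
        rw [← hn]
        have : F'.totalDegree * 2 ≤ F'.totalDegree * p := Nat.mul_le_mul_left _ hp2
        omega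
      rw [hF']
      exact ((FormI.delta p ((poly_mem_iff 𝔞 G).2 hGA)).add p (FormI.S p 𝔞 c)).add p
        ((ih _ hlt F' rfl hsc hF'A).expand p)

end Groth.Agent.Lib.Helper27.Lazard
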