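import Mathlib
import Groth.Agent.Lib.Helper27.LazardG

/-!
Symmetric 2-cocycle lemma in characteristic `p` (helper27): extracting the coefficients of the
twisted `S` from a normal form.
-/

set_option autoImplicit false

namespace Groth.Agent.Lib.Helper27.Lazard

open MvPolynomial

universe u

variable {R : Type u} [CommRing R] (p : ℕ) [Fact p.Prime] [CharP R p]

omit [CharP R p] in
lemma coeff_T (i j : ℕ) :
    coeff (mon ((p - 1) * p ^ i) (p ^ i)) (T (R := R) p j) = if j = i then 1 else 0 := by
  have hp := (Fact.out : p.Prime)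
  have hp2 := hp.two_le
  rw [T, Sp, map_sum, coeff_sum]
  have hterm : ∀ l ∈ Finset.Ioo 0 p, coeff (mon ((p - 1) * p ^ i) (p ^ i))
      (aeval ![(X 0 : MvPolynomial (Fin 2) R) ^ p ^ j, X 1 ^ p ^ j]
        (C ((p.choose l / p : ℕ) : R) * X 0 ^ l * X 1 ^ (p - l))) =
      if l = p - 1 ∧ j = i then 1 else 0 := by
    intro l hl
    rw [Finset.mem_Ioo] at hl
    simp only [map_mul, map_pow, aeval_C, aeval_X, Matrix.cons_val_zero, Matrix.cons_val_one,
      algebraMap_eq, ← pow_mul]
    rw [mul_assoc, coeff_C_mul, coeff_X_pow_mul]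
    by_cases h : l = p - 1 ∧ j = i
    · obtain ⟨rfl, rfl⟩ := h
      have h1 : p - (p - 1) = 1 := by omega
      rw [if_pos ⟨by ring, by rw [h1, mul_one]⟩, if_pos ⟨rfl, rfl⟩, mul_one]
      have h2 : p.choose (p - 1) = p := by
        rw [Nat.choose_symm hp.one_lt.le, Nat.choose_one_right]
      rw [h2, Nat.div_self hp.pos, Nat.cast_one]
    · rw [if_neg h, if_neg, mul_zero]
      rintro ⟨h1, h2⟩
      apply h
      have hsum : p ^ j * p = p ^ i * p := by
        have e1 : p ^ j * p = p ^ j * l + p ^ j * (p - l) := by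
          rw [← Nat.mul_add]
          congr 1
          omega
        have e2 : p ^ i * p = (p - 1) * p ^ i + p ^ i := by
          have : (p - 1) * p ^ i + p ^ i = (p - 1 + 1) * p ^ i := by ring
          rw [this, Nat.sub_add_cancel hp.one_lt.le, mul_comm]
        rw [e1, e2, h1, h2]
      have hji : j = i := by
        have := Nat.eq_of_mul_eq_mul_right hp.pos hsum
        exact Nat.pow_right_injective hp2 this
      subst hji
      have h3 : p - l = 1 := by
        have : p ^ j * (p - l) = p ^ j * 1 := by rw [h2, mul_one]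
        exact Nat.eq_of_mul_eq_mul_left (pow_pos hp.pos j) this
      exact ⟨by omega, rfl⟩
  rw [Finset.sum_congr rfl hterm]
  by_cases hji : j = i
  · subst hji
    rw [if_pos rfl, Finset.sum_eq_single (p - 1)]
    · simp
    · intro l _ hl
      rw [if_neg (fun h => hl h.1)]
    · intro h
      exfalso
      apply h
      rw [Finset.mem_Ioo]
      omega
  · rw [if_neg hji]
    refine Finset.sum_eq_zero (fun l _ => ?_)
    rw [if_neg (fun h => hji h.2)]

lemma extract (G : Polynomial R) (r : ℕ →₀ R) (i : ℕ) :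
    coeff (mon ((p - 1) * p ^ i) (p ^ i))
      (delta G + r.sum (fun j c => C c * T (R := R) p j)) = r i := by
  have hp := (Fact.out : p.Prime)
  have hp2 := hp.two_le
  have hq : 0 < p ^ i := pow_pos hp.pos i
  have hq1 : 0 < (p - 1) * p ^ i := Nat.mul_pos (by omega) hq
  have hsum : (p - 1) * p ^ i + p ^ i = p ^ (i + 1) := by
    have : (p - 1) * p ^ i + p ^ i = (p - 1 + 1) * p ^ i := by ring
    rw [this, Nat.sub_add_cancel hp.one_lt.le, pow_succ, mul_comm]
  have hch : ((((p - 1) * p ^ i + p ^ i).choose ((p - 1) * p ^ i) : ℕ) : R) = 0 := by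
    rw [hsum, CharP.cast_eq_zero_iff R p]
    refine hp.dvd_choose_pow hq1.ne' ?_
    intro h
    rw [← hsum] at h
    omega
  rw [coeff_add, delta, coeff_sub, coeff_sub, coeff_aeval_add, coeff_aeval_X0, coeff_aeval_X1,
    if_neg hq.ne', if_neg hq1.ne', hch, mul_zero, sub_zero, sub_zero, zero_add, Finsupp.sum,
    coeff_sum]
  simp only [coeff_C_mul, coeff_T]
  rw [Finset.sum_eq_single i]
  · simp
  · intro j _ hj
    rw [if_neg hj, mul_zero]
  · intro h
    rw [Finsupp.notMem_support_iff.1 h, zero_mul]

end Groth.Agent.Lib.Helper27.Lazard
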