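import Mathlib
import Groth.Agent.Lib.Helper27.LazardH

/-!
Extensions of `G_a` by `G_m` (helper27): multiplicative cochains and cocycles.
-/

set_option autoImplicit false

namespace Groth.Agent.Lib.Helper27.Lazard

open MvPolynomial

universe u

variable {R : Type u} [CommRing R]

/-- `k` is the multiplicative coboundary of `f` -/
def Cob (f : Polynomial R) (k : MvPolynomial (Fin 2) R) : Prop :=
  Polynomial.aeval (X 0 + X 1 : MvPolynomial (Fin 2) R) f =
    Polynomial.aeval (X 0 : MvPolynomial (Fin 2) R) f *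
      Polynomial.aeval (X 1 : MvPolynomial (Fin 2) R) f * k

/-- multiplicative symmetric 2-cocycles -/
def IsMSC (k : MvPolynomial (Fin 2) R) : Prop :=
  aeval ![(X 1 : MvPolynomial (Fin 2) R), X 0] k = k ∧
    aeval ![(X 1 : MvPolynomial (Fin 3) R), X 2] k * aeval ![X 0, X 1 + X 2] k =
      aeval ![X 0 + X 1, X 2] k * aeval ![X 0, X 1] k

lemma Cob.one : Cob (1 : Polynomial R) 1 := by
  simp [Cob]

lemma Cob.mul {f f' : Polynomial R} {k k' : MvPolynomial (Fin 2) R} (h : Cob f k)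
    (h' : Cob f' k') : Cob (f * f') (k * k') := by
  unfold Cob at *
  rw [map_mul, map_mul, map_mul, h, h']
  ring

lemma Cob.congr {f : Polynomial R} {k k' : MvPolynomial (Fin 2) R} (h : Cob f k)
    (hk : k = k') : Cob f k' := hk ▸ h

lemma Cob.apply {f : Polynomial R} {k : MvPolynomial (Fin 2) R} (h : Cob f k)
    {A : Type*} [CommRing A] [Algebra R A] (a b : A) :
    Polynomial.aeval (a + b) f =
      Polynomial.aeval a f * Polynomial.aeval b f * aeval ![a, b] k := by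
  have := congrArg (aeval ![a, b]) h
  simp only [map_mul, aeval2_polyAeval, map_add, aeval_X, Matrix.cons_val_zero,
    Matrix.cons_val_one] at this
  exact this

lemma Cob.isMSC {f : Polynomial R} {k : MvPolynomial (Fin 2) R} (h : Cob f k)
    (hf : IsUnit f) : IsMSC k := by
  constructor
  · have e1 := h.apply (X 1 : MvPolynomial (Fin 2) R) (X 0)
    have e2 : Polynomial.aeval (X 1 + X 0 : MvPolynomial (Fin 2) R) f =
        Polynomial.aeval (X 1 : MvPolynomial (Fin 2) R) f *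
          Polynomial.aeval (X 0 : MvPolynomial (Fin 2) R) f * k := by
      rw [add_comm, h]
      ring
    have hu : IsUnit (Polynomial.aeval (X 1 : MvPolynomial (Fin 2) R) f *
        Polynomial.aeval (X 0 : MvPolynomial (Fin 2) R) f) :=
      (hf.map (Polynomial.aeval (X 1 : MvPolynomial (Fin 2) R))).mul
        (hf.map (Polynomial.aeval (X 0 : MvPolynomial (Fin 2) R)))
    apply (IsUnit.mul_right_inj hu).1
    rw [← e1, e2]
  · have e1 := h.apply (X 0 : MvPolynomial (Fin 3) R) (X 1 + X 2)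
    have e2 := h.apply (X 1 : MvPolynomial (Fin 3) R) (X 2)
    have e3 := h.apply (X 0 + X 1 : MvPolynomial (Fin 3) R) (X 2)
    have e4 := h.apply (X 0 : MvPolynomial (Fin 3) R) (X 1)
    have hu : IsUnit (Polynomial.aeval (X 0 : MvPolynomial (Fin 3) R) f *
        Polynomial.aeval (X 1 : MvPolynomial (Fin 3) R) f *
        Polynomial.aeval (X 2 : MvPolynomial (Fin 3) R) f) :=
      ((hf.map (Polynomial.aeval (X 0 : MvPolynomial (Fin 3) R))).mul
        (hf.map (Polynomial.aeval (X 1 : MvPolynomial (Fin 3) R)))).mul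
        (hf.map (Polynomial.aeval (X 2 : MvPolynomial (Fin 3) R)))
    apply (IsUnit.mul_right_inj hu).1
    rw [e2] at e1
    rw [e4] at e3
    rw [add_assoc, e1] at e3
    linear_combination e3

lemma IsMSC.of_mul {h k : MvPolynomial (Fin 2) R} (hh : IsMSC h) (hu : IsUnit h)
    (hhk : IsMSC (h * k)) : IsMSC k := by
  constructor
  · have e := hhk.1
    rw [map_mul, hh.1] at e
    exact (IsUnit.mul_right_inj hu).1 e
  · have e := hhk.2
    simp only [map_mul] at e
    have hw : IsUnit (aeval ![(X 1 : MvPolynomial (Fin 3) R), X 2] h *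
        aeval ![(X 0 : MvPolynomial (Fin 3) R), X 1 + X 2] h) :=
      (hu.map (aeval ![(X 1 : MvPolynomial (Fin 3) R), X 2])).mul
        (hu.map (aeval ![(X 0 : MvPolynomial (Fin 3) R), X 1 + X 2]))
    apply (IsUnit.mul_right_inj hw).1
    linear_combination e - (aeval ![(X 0 + X 1 : MvPolynomial (Fin 3) R), X 2] k *
      aeval ![(X 0 : MvPolynomial (Fin 3) R), X 1] k) * hh.2

lemma mul_eq_zero_of_mem {A : Type*} [CommRing A] [Algebra R A] {𝔞 : Ideal R}
    (h𝔞 : 𝔞 * 𝔞 = ⊥) {x y : A} (hx : x ∈ 𝔞.map (algebraMap R A))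
    (hy : y ∈ 𝔞.map (algebraMap R A)) : x * y = 0 := by
  have : x * y ∈ (𝔞 * 𝔞).map (algebraMap R A) := by
    rw [Ideal.map_mul]
    exact Ideal.mul_mem_mul hx hy
  rw [h𝔞, Ideal.map_bot] at this
  exact this

lemma IsMSC.isSC {𝔞 : Ideal R} (h𝔞 : 𝔞 * 𝔞 = ⊥) {n : MvPolynomial (Fin 2) R}
    (hn : n ∈ 𝔞.map (algebraMap R (MvPolynomial (Fin 2) R))) (hm : IsMSC (1 + n)) :
    IsSC n := by
  constructor
  · have e := hm.1
    rw [map_add, map_one] at e
    exact add_left_cancel e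
  · have e := hm.2
    simp only [map_add, map_one] at e
    have p1 := mul_eq_zero_of_mem h𝔞
      (algHom_mem_map (aeval ![(X 1 : MvPolynomial (Fin 3) R), X 2]) 𝔞 hn)
      (algHom_mem_map (aeval ![(X 0 : MvPolynomial (Fin 3) R), X 1 + X 2]) 𝔞 hn)
    have p2 := mul_eq_zero_of_mem h𝔞
      (algHom_mem_map (aeval ![(X 0 + X 1 : MvPolynomial (Fin 3) R), X 2]) 𝔞 hn)
      (algHom_mem_map (aeval ![(X 0 : MvPolynomial (Fin 3) R), X 1]) 𝔞 hn)
    rw [coc]
    linear_combination e - p1 + p2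

lemma delta_neg (G : Polynomial R) : delta (-G) = -delta G := by
  simp only [delta, map_neg]
  ring

lemma Cob.one_add {𝔞 : Ideal R} (h𝔞 : 𝔞 * 𝔞 = ⊥) {G : Polynomial R}
    (hG : G ∈ 𝔞.map (algebraMap R (Polynomial R))) : Cob (1 + G) (1 + delta G) := by
  have ha := algHom_mem_map (Polynomial.aeval (X 0 : MvPolynomial (Fin 2) R)) 𝔞 hG
  have hb := algHom_mem_map (Polynomial.aeval (X 1 : MvPolynomial (Fin 2) R)) 𝔞 hG
  have hc := algHom_mem_map (Polynomial.aeval (X 0 + X 1 : MvPolynomial (Fin 2) R)) 𝔞 hG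
  have hab := mul_eq_zero_of_mem h𝔞 ha hb
  have hac := mul_eq_zero_of_mem h𝔞 ha hc
  have hbc := mul_eq_zero_of_mem h𝔞 hb hc
  have haa := mul_eq_zero_of_mem h𝔞 ha ha
  have hbb := mul_eq_zero_of_mem h𝔞 hb hb
  unfold Cob
  rw [delta]
  simp only [map_add, map_one]
  linear_combination (-1 : MvPolynomial (Fin 2) R) * hac + haa +
    (1 + Polynomial.aeval (X 0 : MvPolynomial (Fin 2) R) G +
      Polynomial.aeval (X 1 : MvPolynomial (Fin 2) R) G -
      Polynomial.aeval (X 0 + X 1 : MvPolynomial (Fin 2) R) G) * hab - hbc + hbb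

lemma isUnit_one_add {𝔞 : Ideal R} (h𝔞 : 𝔞 * 𝔞 = ⊥) {A : Type*} [CommRing A] [Algebra R A]
    {x : A} (hx : x ∈ 𝔞.map (algebraMap R A)) : IsUnit (1 + x) := by
  have := mul_eq_zero_of_mem h𝔞 hx hx
  exact IsUnit.of_mul_eq_one (1 - x) (by linear_combination (-1 : A) * this)

lemma Cob.finset {𝔞 : Ideal R} (h𝔞 : 𝔞 * 𝔞 = ⊥) (a : ℕ → MvPolynomial (Fin 2) R)
    (ha : ∀ i, a i ∈ 𝔞.map (algebraMap R (MvPolynomial (Fin 2) R)))
    (hφ : ∀ i, ∃ φ : Polynomial R, IsUnit φ ∧ Cob φ (1 + a i)) (s : Finset ℕ) :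
    ∃ φ : Polynomial R, IsUnit φ ∧ Cob φ (1 + ∑ i ∈ s, a i) := by
  classical
  induction s using Finset.induction_on with
  | empty => exact ⟨1, isUnit_one, by simpa using Cob.one⟩
  | insert i s hi ih =>
    obtain ⟨φ, hφu, hφc⟩ := ih
    obtain ⟨ψ, hψu, hψc⟩ := hφ i
    refine ⟨φ * ψ, hφu.mul hψu, (hφc.mul hψc).congr ?_⟩
    rw [Finset.sum_insert hi]
    have h0 := mul_eq_zero_of_mem h𝔞 (Ideal.sum_mem _ (fun j (_ : j ∈ s) => ha j)) (ha i)
    linear_combination h0

end Groth.Agent.Lib.Helper27.Lazard
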