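import Mathlib
import Groth.Agent.Lib.Helper27.GaGmA

/-!
Extensions of `G_a` by `G_m` (helper27): the truncated exponential.
-/

set_option autoImplicit false

namespace Groth.Agent.Lib.Helper27.Lazard

open MvPolynomial

universe u

section gen

variable {R : Type u} [CommRing R]

lemma coeff_aeval_mul (f g : Polynomial R) (a b : ℕ) :
    coeff (mon a b) (Polynomial.aeval (X 0 : MvPolynomial (Fin 2) R) f *
      Polynomial.aeval (X 1 : MvPolynomial (Fin 2) R) g) = f.coeff a * g.coeff b := by
  have hN : f.natDegree < max (f.natDegree + 1) (a + 1) := by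
    have := le_max_left (f.natDegree + 1) (a + 1)
    omega
  have hM : g.natDegree < max (g.natDegree + 1) (b + 1) := by
    have := le_max_left (g.natDegree + 1) (b + 1)
    omega
  rw [Polynomial.aeval_eq_sum_range' hN, Polynomial.aeval_eq_sum_range' hM, Finset.sum_mul_sum,
    coeff_sum]
  simp only [coeff_sum, smul_mul_smul_comm, coeff_smul, coeff_X_pow_mul, smul_eq_mul]
  rw [Finset.sum_eq_single a]
  · rw [Finset.sum_eq_single b]
    · simp
    · intro j _ hj
      rw [if_neg (fun h => hj h.2), mul_zero]
    · intro h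
      exfalso
      apply h
      rw [Finset.mem_range]
      have := le_max_right (g.natDegree + 1) (b + 1)
      omega
  · intro i _ hi
    refine Finset.sum_eq_zero (fun j _ => ?_)
    rw [if_neg (fun h => hi h.1), mul_zero]
  · intro h
    exfalso
    apply h
    rw [Finset.mem_range]
    have := le_max_right (f.natDegree + 1) (a + 1)
    omega

lemma totalDegree_polyAeval_le {σ : Type*} (G : Polynomial R) (x : MvPolynomial σ R) (N : ℕ)
    (hN : G.natDegree ≤ N) : (Polynomial.aeval x G).totalDegree ≤ N * x.totalDegree := by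
  rw [Polynomial.aeval_eq_sum_range' (Nat.lt_succ_of_le hN)]
  refine totalDegree_finsetSum_le (fun i hi => ?_)
  rw [Finset.mem_range] at hi
  refine (totalDegree_smul_le _ _).trans ((totalDegree_pow _ _).trans ?_)
  exact Nat.mul_le_mul_right _ (by omega)

lemma mon_degree (a b : ℕ) : ∑ i ∈ (mon a b).support, (mon a b) i = a + b := by
  rw [Finset.sum_subset (Finset.subset_univ _)
    (fun i _ hi => Finsupp.notMem_support_iff.1 hi), Fin.sum_univ_two, mon_zero, mon_one]

lemma coeff_mul_of_order (A B : MvPolynomial (Fin 2) R) (k : ℕ)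
    (hA : ∀ a b, a + b < k → coeff (mon a b) A = 0) (hB : coeff 0 B = 0) (a b : ℕ)
    (hab : a + b ≤ k) : coeff (mon a b) (A * B) = 0 := by
  classical
  rw [coeff_mul]
  refine Finset.sum_eq_zero ?_
  rintro ⟨x, y⟩ hxy
  have hxy : x + y = mon a b := Finset.HasAntidiagonal.mem_antidiagonal.1 hxy
  simp only
  by_cases hy : y = 0
  · rw [hy, hB, mul_zero]
  · have h0 := DFunLike.congr_fun hxy 0
    have h1 := DFunLike.congr_fun hxy 1
    simp only [Finsupp.coe_add, Pi.add_apply, mon_zero, mon_one] at h0 h1
    have hy1 : 1 ≤ y 0 + y 1 := by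
      by_contra hcon
      apply hy
      ext i
      fin_cases i
      · simp only [Fin.zero_eta, Finsupp.coe_zero, Pi.zero_apply]
        omega
      · simp only [Fin.mk_one, Finsupp.coe_zero, Pi.zero_apply]
        omega
    rw [← mon_eta x, hA _ _ (by omega), zero_mul]

end gen

variable {R : Type u} [CommRing R] (p : ℕ) [Fact p.Prime] [CharP R p]

/-- the truncated exponential of `s T` -/
noncomputable def E (s : R) : Polynomial R :=
  ∑ k ∈ Finset.range p, Polynomial.C (s ^ k * inv p k.factorial) * Polynomial.X ^ k

lemma coeff_E (s : R) (k : ℕ) :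
    (E p s).coeff k = if k < p then s ^ k * inv p k.factorial else 0 := by
  rw [E, Polynomial.finsetSum_coeff]
  simp only [Polynomial.coeff_C_mul_X_pow]
  rw [Finset.sum_ite_eq (Finset.range p) k]
  simp only [Finset.mem_range]

lemma inv_one' : inv (R := R) p 1 = 1 := by
  simp [inv]

lemma inv_factorial_pred : inv (R := R) p (p - 1).factorial = -1 := by
  rw [inv, ZMod.wilsons_lemma, inv_neg_one, map_neg, map_one]

lemma inv_choose (a b : ℕ) (hab : a + b < p) :
    inv (R := R) p a.factorial * inv p b.factorial =
      inv p (a + b).factorial * ((a + b).choose a : R) := by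
  have hp := (Fact.out : p.Prime)
  have h1 : ((a + b).factorial : ZMod p) ≠ 0 := by
    rw [Ne, ZMod.natCast_eq_zero_iff, hp.dvd_factorial]
    omega
  have h2 : ((a + b).choose a : ZMod p) * (a.factorial : ZMod p) * (b.factorial : ZMod p) =
      ((a + b).factorial : ZMod p) := by
    have h2' := Nat.add_choose_mul_factorial_mul_factorial a b
    rw [← Nat.choose_symm_add] at h2'
    exact_mod_cast congrArg (Nat.cast : ℕ → ZMod p) h2'
  have ha : (a.factorial : ZMod p) ≠ 0 := by
    rw [Ne, ZMod.natCast_eq_zero_iff, hp.dvd_factorial]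
    omega
  have hb : (b.factorial : ZMod p) ≠ 0 := by
    rw [Ne, ZMod.natCast_eq_zero_iff, hp.dvd_factorial]
    omega
  have hz : ((a.factorial : ZMod p))⁻¹ * ((b.factorial : ZMod p))⁻¹ =
      (((a + b).factorial : ZMod p))⁻¹ * ((a + b).choose a : ZMod p) := by
    have hc : ((a + b).choose a : ZMod p) ≠ 0 := by
      intro h0
      apply h1
      rw [← h2, h0, zero_mul, zero_mul]
    rw [← h2]
    field_simp
  have := congrArg (ZMod.castHom (dvd_refl p) R) hz
  rw [map_mul, map_mul, map_natCast] at this
  exact this

/-- the defect of additivity of the truncated exponential -/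
noncomputable def D (s : R) : MvPolynomial (Fin 2) R :=
  Polynomial.aeval (X 0 : MvPolynomial (Fin 2) R) (E p s) *
      Polynomial.aeval (X 1 : MvPolynomial (Fin 2) R) (E p s) -
    Polynomial.aeval (X 0 + X 1 : MvPolynomial (Fin 2) R) (E p s)

lemma coeff_D (s : R) (a b : ℕ) :
    coeff (mon a b) (D p s) =
      (E p s).coeff a * (E p s).coeff b - (E p s).coeff (a + b) * ((a + b).choose a : R) := by
  rw [D, coeff_sub, coeff_aeval_mul, coeff_aeval_add]

lemma coeff_D_low (s : R) (a b : ℕ) (hab : a + b < p) : coeff (mon a b) (D p s) = 0 := by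
  rw [coeff_D, coeff_E, coeff_E, coeff_E, if_pos (by omega), if_pos (by omega), if_pos hab,
    sub_eq_zero]
  calc s ^ a * inv p a.factorial * (s ^ b * inv p b.factorial)
      = s ^ (a + b) * (inv p a.factorial * inv p b.factorial) := by ring
    _ = _ := by
      rw [inv_choose p a b hab]
      ring

lemma coeff_D_mem (s : R) (a b : ℕ) : coeff (mon a b) (D p s) ∈ Ideal.span {s ^ p} := by
  by_cases hab : a + b < p
  · rw [coeff_D_low p s a b hab]
    exact Ideal.zero_mem _
  · rw [coeff_D, coeff_E p s (a + b), if_neg hab, zero_mul, sub_zero, coeff_E, coeff_E]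
    by_cases ha : a < p
    · by_cases hb : b < p
      · rw [if_pos ha, if_pos hb]
        have h1 : s ^ a * s ^ b = s ^ p * s ^ (a + b - p) := by
          rw [← pow_add, ← pow_add]
          congr 1
          omega
        have : s ^ a * inv p a.factorial * (s ^ b * inv p b.factorial) =
            s ^ p * (s ^ (a + b - p) * inv p a.factorial * inv p b.factorial) := by
          linear_combination (inv p a.factorial * inv p b.factorial) * h1
        rw [this]
        exact Ideal.mul_mem_right _ _ (Ideal.subset_span rfl)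
      · rw [if_neg hb, mul_zero]
        exact Ideal.zero_mem _
    · rw [if_neg ha, zero_mul]
      exact Ideal.zero_mem _

lemma coeff_D_top (s : R) : coeff (mon (p - 1) 1) (D p s) = -s ^ p := by
  have hp := (Fact.out : p.Prime)
  have h1 : p - 1 + 1 = p := Nat.sub_add_cancel hp.one_lt.le
  rw [coeff_D, coeff_E p s (p - 1 + 1), if_neg (by omega), zero_mul, sub_zero, coeff_E, coeff_E,
    if_pos (by omega), if_pos hp.one_lt, inv_factorial_pred, Nat.factorial_one, inv_one', pow_one]
  have : s ^ (p - 1) * s = s ^ p := by rw [← pow_succ, h1]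
  linear_combination (-1 : R) * this

lemma aeval_E_neg {A : Type*} [CommRing A] [Algebra R A] (s : R) (x : A) :
    Polynomial.aeval x (E p (-s)) = Polynomial.aeval (-x) (E p s) := by
  simp only [E, map_sum, map_mul, Polynomial.aeval_C, map_pow, Polynomial.aeval_X]
  refine Finset.sum_congr rfl (fun k _ => ?_)
  rw [map_neg, neg_pow (algebraMap R A s) k, neg_pow x k]
  ring

lemma aeval_D {A : Type*} [CommRing A] [Algebra R A] (s : R) (a b : A) :
    aeval ![a, b] (D p s) =
      Polynomial.aeval a (E p s) * Polynomial.aeval b (E p s) -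
        Polynomial.aeval (a + b) (E p s) := by
  simp only [D, map_sub, map_mul, aeval2_polyAeval, map_add, aeval_X, Matrix.cons_val_zero,
    Matrix.cons_val_one]

lemma aeval_E_zero {A : Type*} [CommRing A] [Algebra R A] (s : R) :
    Polynomial.aeval (0 : A) (E p s) = 1 := by
  have hp := (Fact.out : p.Prime)
  rw [← Polynomial.coeff_zero_eq_aeval_zero', coeff_E, if_pos hp.pos, pow_zero,
    Nat.factorial_zero, inv_one', mul_one, map_one]

lemma natDegree_E_le (s : R) : (E p s).natDegree ≤ p - 1 := by
  have hp := (Fact.out : p.Prime)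
  rw [Polynomial.natDegree_le_iff_coeff_eq_zero]
  intro N hN
  rw [coeff_E, if_neg (by omega)]

end Groth.Agent.Lib.Helper27.Lazard
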