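import Mathlib
import Groth.Agent.Lib.Helper27.GaGmB

/-!
Extensions of `G_a` by `G_m` (helper27): splitting square-zero cocycles.
-/

set_option autoImplicit false

namespace Groth.Agent.Lib.Helper27.Lazard

open MvPolynomial

universe u

variable {R : Type u} [CommRing R] (p : ℕ) [Fact p.Prime] [CharP R p]

set_option maxHeartbeats 800000 in
theorem exp_step (s : R) (hs : s ^ p * s ^ p = 0) :
    ∃ φ : Polynomial R, IsUnit φ ∧ Cob φ (1 + C (s ^ p) * Sp R p) := by
  have hp := (Fact.out : p.Prime)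
  haveI : Nontrivial R := CharP.nontrivial_of_char_ne_one (R := R) hp.ne_one
  obtain ⟨𝔟, h𝔟⟩ : ∃ 𝔟 : Ideal R, 𝔟 = Ideal.span {s ^ p} := ⟨_, rfl⟩
  have h𝔟2 : 𝔟 * 𝔟 = ⊥ := by
    rw [h𝔟, Ideal.span_singleton_mul_span_singleton, hs]
    exact Ideal.span_singleton_eq_bot.2 rfl
  have hr𝔟 : s ^ p ∈ 𝔟 := by
    rw [h𝔟]
    exact Ideal.subset_span rfl
  -- E is a unit
  have hsn : IsNilpotent s := ⟨p + p, by rw [pow_add]; exact hs⟩
  have hEu : IsUnit (E p s) := by
    rw [Polynomial.isUnit_iff_coeff_isUnit_isNilpotent]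
    constructor
    · rw [coeff_E, if_pos hp.pos, pow_zero, Nat.factorial_zero, inv_one', mul_one]
      exact isUnit_one
    · intro i hi
      rw [coeff_E]
      split_ifs
      · exact (Commute.all _ _).isNilpotent_mul_right (hsn.pow_of_pos hi)
      · exact IsNilpotent.zero
  -- D
  have hD : D p s ∈ 𝔟.map (algebraMap R (MvPolynomial (Fin 2) R)) := by
    rw [mv_mem_iff]
    intro m
    rw [← mon_eta m, h𝔟]
    exact coeff_D_mem p s _ _
  obtain ⟨V, hV⟩ : ∃ V : MvPolynomial (Fin 2) R,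
      V = Polynomial.aeval (X 0 + X 1 : MvPolynomial (Fin 2) R) (E p (-s)) := ⟨_, rfl⟩
  obtain ⟨m, hm⟩ : ∃ m : MvPolynomial (Fin 2) R,
      m = aeval ![(X 0 + X 1 : MvPolynomial (Fin 2) R), -(X 0 + X 1)] (D p s) := ⟨_, rfl⟩
  have hmb : m ∈ 𝔟.map (algebraMap R (MvPolynomial (Fin 2) R)) := by
    rw [hm]
    exact algHom_mem_map _ 𝔟 hD
  have hEV : Polynomial.aeval (X 0 + X 1 : MvPolynomial (Fin 2) R) (E p s) * V = 1 + m := by
    rw [hm, aeval_D, add_neg_cancel, aeval_E_zero, hV, aeval_E_neg]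
    ring
  obtain ⟨n', hn'⟩ : ∃ n' : MvPolynomial (Fin 2) R, n' = D p s * V := ⟨_, rfl⟩
  have hn'b : n' ∈ 𝔟.map (algebraMap R (MvPolynomial (Fin 2) R)) := by
    rw [hn']
    exact Ideal.mul_mem_right _ _ hD
  have hDm : D p s * m = 0 := mul_eq_zero_of_mem h𝔟2 hD hmb
  have hDD : D p s * D p s = 0 := mul_eq_zero_of_mem h𝔟2 hD hD
  have hDdef : Polynomial.aeval (X 0 : MvPolynomial (Fin 2) R) (E p s) *
      Polynomial.aeval (X 1 : MvPolynomial (Fin 2) R) (E p s) =
      Polynomial.aeval (X 0 + X 1 : MvPolynomial (Fin 2) R) (E p s) + D p s := by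
    rw [D]
    ring
  have hcob : Cob (E p s) (1 - n') := by
    unfold Cob
    rw [hDdef, hn']
    linear_combination (D p s) * hEV + hDm + V * hDD
  have hmsc : IsMSC (1 - n') := hcob.isMSC hEu
  have hnn : (-n') ∈ 𝔟.map (algebraMap R (MvPolynomial (Fin 2) R)) := Ideal.neg_mem_iff _ |>.2 hn'b
  have hsc : IsSC (-n') := IsMSC.isSC h𝔟2 hnn (by rwa [← sub_eq_add_neg])
  obtain ⟨G', r', hG', hform⟩ := formI_of_isSC p 𝔟 _ (-n') rfl hsc ((mv_mem_iff _ _).1 hnn)
  have hr' : ∀ i, r' i = coeff (mon ((p - 1) * p ^ i) (p ^ i)) (-n') := by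
    intro i
    rw [hform]
    exact (extract p G' r' i).symm
  -- the coefficient r' 0
  have hV0 : coeff 0 (V - 1) = 0 := by
    have h00 : (0 : Fin 2 →₀ ℕ) = mon 0 0 := by simp [mon]
    rw [coeff_sub, h00, hV, coeff_aeval_add, coeff_E, if_pos hp.pos, ← h00, coeff_one, if_pos rfl]
    simp [inv_one']
  have hr0 : r' 0 = s ^ p := by
    rw [hr' 0, pow_zero, mul_one, coeff_neg, hn']
    have : D p s * V = D p s + D p s * (V - 1) := by ring
    rw [this, coeff_add, coeff_mul_of_order (D p s) (V - 1) p (coeff_D_low p s) hV0 (p - 1) 1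
      (by have := hp.pos; omega), add_zero, coeff_D_top, neg_neg]
  -- higher coefficients vanish by degree
  have hdegX : (X 0 + X 1 : MvPolynomial (Fin 2) R).totalDegree ≤ 1 := by
    refine (totalDegree_add _ _).trans ?_
    rw [totalDegree_X, totalDegree_X, max_self]
  have hdeg : n'.totalDegree ≤ 3 * (p - 1) := by
    rw [hn']
    refine (totalDegree_mul _ _).trans ?_
    have h1 : (D p s).totalDegree ≤ 2 * (p - 1) := by
      rw [D]
      refine (totalDegree_sub _ _).trans (max_le ?_ ?_)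
      · refine (totalDegree_mul _ _).trans ?_
        have a1 := totalDegree_polyAeval_le (E p s) (X 0 : MvPolynomial (Fin 2) R) (p - 1)
          (natDegree_E_le p s)
        have a2 := totalDegree_polyAeval_le (E p s) (X 1 : MvPolynomial (Fin 2) R) (p - 1)
          (natDegree_E_le p s)
        rw [totalDegree_X] at a1 a2
        omega
      · have a1 := totalDegree_polyAeval_le (E p s) (X 0 + X 1 : MvPolynomial (Fin 2) R) (p - 1)
          (natDegree_E_le p s)
        have : (p - 1) * (X 0 + X 1 : MvPolynomial (Fin 2) R).totalDegree ≤ (p - 1) * 1 :=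
          Nat.mul_le_mul_left _ hdegX
        omega
    have h2 : V.totalDegree ≤ p - 1 := by
      rw [hV]
      have a1 := totalDegree_polyAeval_le (E p (-s)) (X 0 + X 1 : MvPolynomial (Fin 2) R) (p - 1)
        (natDegree_E_le p (-s))
      have : (p - 1) * (X 0 + X 1 : MvPolynomial (Fin 2) R).totalDegree ≤ (p - 1) * 1 :=
        Nat.mul_le_mul_left _ hdegX
      omega
    omega
  have hri : ∀ i, r' (i + 1) = 0 := by
    intro i
    rw [hr' (i + 1), coeff_neg, neg_eq_zero]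
    apply coeff_eq_zero_of_totalDegree_lt
    rw [mon_degree]
    have h3 : 3 * (p - 1) < p * p := by
      obtain ⟨k, rfl⟩ : ∃ k, p = k + 2 := ⟨p - 2, by have := hp.two_le; omega⟩
      have : k + 2 - 1 = k + 1 := by omega
      rw [this]
      nlinarith
    have h4 : (p - 1) * p ^ (i + 1) + p ^ (i + 1) = p ^ (i + 2) := by
      have : (p - 1) * p ^ (i + 1) + p ^ (i + 1) = (p - 1 + 1) * p ^ (i + 1) := by ring
      rw [this, Nat.sub_add_cancel hp.one_lt.le, pow_succ p (i + 1), mul_comm]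
    have h5 : p * p ≤ p ^ (i + 2) := by
      rw [← sq]
      exact Nat.pow_le_pow_right hp.pos (by omega)
    omega
  have hr'eq : r' = Finsupp.single 0 (s ^ p) := by
    ext i
    rcases i with _ | i
    · rw [hr0, Finsupp.single_eq_same]
    · rw [hri i, Finsupp.single_eq_of_ne (by omega)]
  have hform' : -n' = delta G' + C (s ^ p) * Sp R p := by
    rw [hform, hr'eq, Finsupp.sum_single_index (by simp), T_zero]
  -- assemble
  have hG'n : -G' ∈ 𝔟.map (algebraMap R (Polynomial R)) := Ideal.neg_mem_iff _ |>.2 hG'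
  have hc2 := Cob.one_add h𝔟2 hG'n
  have hdG : delta G' ∈ 𝔟.map (algebraMap R (MvPolynomial (Fin 2) R)) := delta_mem 𝔟 hG'
  have hCS : C (s ^ p) * Sp R p ∈ 𝔟.map (algebraMap R (MvPolynomial (Fin 2) R)) :=
    Ideal.mul_mem_right _ _ (Ideal.mem_map_of_mem _ hr𝔟)
  have hdd := mul_eq_zero_of_mem h𝔟2 hdG hdG
  have hsd := mul_eq_zero_of_mem h𝔟2 hCS hdG
  refine ⟨E p s * (1 + -G'), hEu.mul (isUnit_one_add h𝔟2 hG'n), (hcob.mul hc2).congr ?_⟩
  rw [delta_neg]
  have : (1 : MvPolynomial (Fin 2) R) - n' = 1 + (delta G' + C (s ^ p) * Sp R p) := by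
    rw [← hform']
    ring
  rw [this]
  linear_combination (-1 : MvPolynomial (Fin 2) R) * hdd - hsd

theorem exp_step_T (s : R) (hs : s ^ p * s ^ p = 0) (i : ℕ) :
    ∃ φ : Polynomial R, IsUnit φ ∧ Cob φ (1 + C (s ^ p) * T (R := R) p i) := by
  obtain ⟨φ, hφu, hφc⟩ := exp_step p s hs
  refine ⟨Polynomial.expand R (p ^ i) φ, hφu.map (Polynomial.expand R (p ^ i)), ?_⟩
  have h := hφc.apply ((X 0 : MvPolynomial (Fin 2) R) ^ p ^ i) (X 1 ^ p ^ i)
  unfold Cob
  rw [Polynomial.expand_aeval, Polynomial.expand_aeval, Polynomial.expand_aeval,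
    add_pow_char_pow, h, T]
  simp only [map_add, map_one, map_mul, aeval_C, algebraMap_eq]

theorem sq_step (hF : Function.Surjective (frobenius R p)) (𝔞 : Ideal R) (h𝔞 : 𝔞 * 𝔞 = ⊥)
    (n : MvPolynomial (Fin 2) R) (hn : n ∈ 𝔞.map (algebraMap R (MvPolynomial (Fin 2) R)))
    (hsc : IsSC n) : ∃ f : Polynomial R, IsUnit f ∧ Cob f (1 + n) := by
  obtain ⟨G, r, hG, hform⟩ := formI_of_isSC p 𝔞 _ n rfl hsc ((mv_mem_iff _ _).1 hn)
  have hr : ∀ i, r i ∈ 𝔞 := by
    intro i
    have := extract p G r i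
    rw [← hform] at this
    rw [← this]
    exact (mv_mem_iff _ _).1 hn _
  have hφ : ∀ i, ∃ φ : Polynomial R, IsUnit φ ∧ Cob φ (1 + C (r i) * T (R := R) p i) := by
    intro i
    obtain ⟨s, hs⟩ := hF (r i)
    rw [frobenius_def] at hs
    have hss : s ^ p * s ^ p = 0 := by
      rw [hs]
      have : r i * r i ∈ 𝔞 * 𝔞 := Ideal.mul_mem_mul (hr i) (hr i)
      rw [h𝔞] at this
      exact this
    have := exp_step_T p s hss i
    rwa [hs] at this
  have ha : ∀ i, C (r i) * T (R := R) p i ∈ 𝔞.map (algebraMap R (MvPolynomial (Fin 2) R)) :=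
    fun i => Ideal.mul_mem_right _ _ (Ideal.mem_map_of_mem _ (hr i))
  obtain ⟨φ, hφu, hφc⟩ := Cob.finset h𝔞 (fun i => C (r i) * T (R := R) p i) ha hφ r.support
  refine ⟨(1 + G) * φ, (isUnit_one_add h𝔞 hG).mul hφu, ((Cob.one_add h𝔞 hG).mul hφc).congr ?_⟩
  have h0 := mul_eq_zero_of_mem h𝔞 (delta_mem 𝔞 hG) (Ideal.sum_mem _ (fun j (_ : j ∈ r.support) => ha j))
  rw [hform, Finsupp.sum]
  linear_combination h0

end Groth.Agent.Lib.Helper27.Lazard
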