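import Mathlib
import Groth.Agent.Lib.Helper27.GaGmC

/-!
Extensions of `G_a` by `G_m` (helper27): the induction on the nilpotency order.
-/

set_option autoImplicit false

namespace Groth.Agent.Lib.Helper27.Lazard

open MvPolynomial

universe u

section gen

variable {R : Type u} [CommRing R]

lemma map_polyAeval {S : Type*} [CommRing S] {σ : Type*} (φ : R →+* S) (x : MvPolynomial σ R)
    (f : Polynomial R) :
    map φ (Polynomial.aeval x f) = Polynomial.aeval (map φ x) (Polynomial.map φ f) := by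
  induction f using Polynomial.induction_on' with
  | add p q hp hq => simp only [map_add, Polynomial.map_add, hp, hq]
  | monomial n a =>
    simp only [Polynomial.aeval_monomial, Polynomial.map_monomial, map_mul, map_pow,
      algebraMap_eq, map_C]

lemma isMSC_map {S : Type*} [CommRing S] (φ : R →+* S) {k : MvPolynomial (Fin 2) R}
    (hk : IsMSC k) : IsMSC (map φ k) := by
  constructor
  · have := congrArg (map φ) hk.1
    rw [map_aeval2_ringHom] at this
    simpa using this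
  · have := congrArg (map φ) hk.2
    simp only [map_mul, map_aeval2_ringHom, map_add, map_X] at this
    exact this

lemma map_mem_map {S : Type*} [CommRing S] {σ : Type*} (φ : R →+* S) (N : Ideal R)
    {x : MvPolynomial σ R} (hx : x ∈ N.map (algebraMap R (MvPolynomial σ R))) :
    map φ x ∈ (N.map φ).map (algebraMap S (MvPolynomial σ S)) := by
  rw [mv_mem_iff] at hx ⊢
  intro m
  rw [coeff_map]
  exact Ideal.mem_map_of_mem _ (hx m)

end gen

set_option maxHeartbeats 800000 in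
theorem main_ind (p : ℕ) [Fact p.Prime] (e : ℕ) : ∀ (R : Type u) [CommRing R] [CharP R p]
    (_ : Function.Surjective (frobenius R p)) (N : Ideal R) (_ : N ^ (2 ^ e) = ⊥)
    (h : MvPolynomial (Fin 2) R) (_ : IsUnit h)
    (_ : h - 1 ∈ N.map (algebraMap R (MvPolynomial (Fin 2) R))) (_ : IsMSC h),
    ∃ f : Polynomial R, IsUnit f ∧ Cob f h := by
  induction e with
  | zero =>
    intro R _ _ hF N hN h hu hN1 hm
    rw [pow_zero, pow_one] at hN
    rw [hN, Ideal.map_bot, Ideal.mem_bot, sub_eq_zero] at hN1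
    exact ⟨1, isUnit_one, hN1 ▸ Cob.one⟩
  | succ e ih =>
    intro R _ _ hF N hN h hu hN1 hm
    have hp := (Fact.out : p.Prime)
    obtain ⟨𝔞, h𝔞def⟩ : ∃ 𝔞 : Ideal R, 𝔞 = N ^ (2 ^ e) := ⟨_, rfl⟩
    have h𝔞 : 𝔞 * 𝔞 = ⊥ := by
      rw [h𝔞def, ← pow_add, ← two_mul, ← pow_succ', hN]
    have hnil : IsNilpotent 𝔞 := ⟨2, by rw [pow_two]; exact h𝔞⟩
    -- the quotient
    haveI : CharP (R ⧸ 𝔞) p := by
      refine CharP.quotient' p 𝔞 ?_
      intro x hx
      by_cases hpx : p ∣ x
      · exact (CharP.cast_eq_zero_iff R p x).2 hpx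
      · have hux := isUnit_natCast (R := R) p hpx
        have htop : 𝔞 = ⊤ := Ideal.eq_top_of_isUnit_mem _ hx hux
        have h1 : (1 : R) ∈ 𝔞 * 𝔞 := by
          rw [htop, Ideal.top_mul]
          trivial
        rw [h𝔞, Ideal.mem_bot] at h1
        calc (x : R) = (x : R) * 1 := (mul_one _).symm
          _ = 0 := by rw [h1, mul_zero]
    have hF' : Function.Surjective (frobenius (R ⧸ 𝔞) p) := by
      intro y
      obtain ⟨y', rfl⟩ := Ideal.Quotient.mk_surjective y
      obtain ⟨z, hz⟩ := hF y'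
      refine ⟨Ideal.Quotient.mk 𝔞 z, ?_⟩
      rw [frobenius_def] at hz ⊢
      rw [← map_pow, hz]
    obtain ⟨π, hπ⟩ : ∃ π : R →+* R ⧸ 𝔞, π = Ideal.Quotient.mk 𝔞 := ⟨_, rfl⟩
    have hN' : (N.map π) ^ (2 ^ e) = ⊥ := by
      rw [← Ideal.map_pow, ← h𝔞def, hπ, Ideal.map_quotient_self]
    have hN1' : map π h - 1 ∈
        (N.map π).map (algebraMap (R ⧸ 𝔞) (MvPolynomial (Fin 2) (R ⧸ 𝔞))) := by
      have := map_mem_map π N hN1
      rwa [map_sub, map_one] at this
    obtain ⟨fbar, hfu, hfc⟩ := ih (R ⧸ 𝔞) hF' (N.map π) hN' (map π h) (hu.map (map π)) hN1'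
      (isMSC_map π hm)
    obtain ⟨f₀, hf₀⟩ := Polynomial.map_surjective π
      (by rw [hπ]; exact Ideal.Quotient.mk_surjective) fbar
    -- f₀ is a unit
    have hf₀u : IsUnit f₀ := by
      rw [Polynomial.isUnit_iff_coeff_isUnit_isNilpotent] at hfu ⊢
      rw [← hf₀] at hfu
      simp only [Polynomial.coeff_map] at hfu
      constructor
      · have := hfu.1
        rw [hπ] at this
        exact hnil.isUnit_quotient_mk_iff.1 this
      · intro i hi
        obtain ⟨k, hk⟩ := hfu.2 i hi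
        rw [← map_pow, hπ, Ideal.Quotient.eq_zero_iff_mem] at hk
        refine ⟨k + k, ?_⟩
        have : (f₀.coeff i) ^ k * (f₀.coeff i) ^ k ∈ 𝔞 * 𝔞 := Ideal.mul_mem_mul hk hk
        rw [h𝔞, Ideal.mem_bot] at this
        rw [pow_add]
        exact this
    -- the defect
    obtain ⟨d, hd⟩ : ∃ d : MvPolynomial (Fin 2) R,
        d = Polynomial.aeval (X 0 + X 1 : MvPolynomial (Fin 2) R) f₀ -
          Polynomial.aeval (X 0 : MvPolynomial (Fin 2) R) f₀ *
            Polynomial.aeval (X 1 : MvPolynomial (Fin 2) R) f₀ * h := ⟨_, rfl⟩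
    have hd𝔞 : d ∈ 𝔞.map (algebraMap R (MvPolynomial (Fin 2) R)) := by
      have h0 : map π d = 0 := by
        rw [hd, map_sub, map_mul, map_mul, map_polyAeval, map_polyAeval, map_polyAeval, hf₀,
          map_add, map_X, map_X, sub_eq_zero]
        exact hfc
      have : d ∈ RingHom.ker
          (map π : MvPolynomial (Fin 2) R →+* MvPolynomial (Fin 2) (R ⧸ 𝔞)) := h0
      rw [ker_map, hπ, Ideal.mk_ker] at this
      exact this
    obtain ⟨u, hudef⟩ : ∃ u : MvPolynomial (Fin 2) R,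
        u = Polynomial.aeval (X 0 : MvPolynomial (Fin 2) R) f₀ *
          Polynomial.aeval (X 1 : MvPolynomial (Fin 2) R) f₀ * h := ⟨_, rfl⟩
    have huu : IsUnit u := by
      rw [hudef]
      exact ((hf₀u.map (Polynomial.aeval (X 0 : MvPolynomial (Fin 2) R))).mul
        (hf₀u.map (Polynomial.aeval (X 1 : MvPolynomial (Fin 2) R)))).mul hu
    obtain ⟨v, hv⟩ := huu.exists_right_inv
    obtain ⟨n₁, hn₁⟩ : ∃ n₁ : MvPolynomial (Fin 2) R, n₁ = v * d := ⟨_, rfl⟩
    have hn₁𝔞 : n₁ ∈ 𝔞.map (algebraMap R (MvPolynomial (Fin 2) R)) := by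
      rw [hn₁]
      exact Ideal.mul_mem_left _ _ hd𝔞
    have hc0 : Cob f₀ (h * (1 + n₁)) := by
      unfold Cob
      have e1 : Polynomial.aeval (X 0 + X 1 : MvPolynomial (Fin 2) R) f₀ = u + d := by
        rw [hd, hudef]
        ring
      have e2 : Polynomial.aeval (X 0 : MvPolynomial (Fin 2) R) f₀ *
          Polynomial.aeval (X 1 : MvPolynomial (Fin 2) R) f₀ * (h * (1 + n₁)) =
          u * (1 + v * d) := by
        rw [hudef, hn₁]
        ring
      rw [e1, e2]
      linear_combination (-d) * hv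
    have hm1 : IsMSC (1 + n₁) := IsMSC.of_mul hm hu (hc0.isMSC hf₀u)
    have hsc : IsSC (-n₁) := (IsMSC.isSC h𝔞 hn₁𝔞 hm1).neg
    obtain ⟨f₁, hf₁u, hf₁c⟩ := sq_step p hF 𝔞 h𝔞 (-n₁) (Ideal.neg_mem_iff _ |>.2 hn₁𝔞) hsc
    refine ⟨f₀ * f₁, hf₀u.mul hf₁u, (hc0.mul hf₁c).congr ?_⟩
    have := mul_eq_zero_of_mem h𝔞 hn₁𝔞 hn₁𝔞
    linear_combination (-h) * this

theorem gagm_split (p : ℕ) [Fact p.Prime] (R : Type u) [CommRing R] [CharP R p]
    (hF : Function.Surjective (frobenius R p)) (h : MvPolynomial (Fin 2) R) (hu : IsUnit h)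
    (h0 : aeval ![(X 0 : MvPolynomial (Fin 2) R), 0] h = 1) (hm : IsMSC h) :
    ∃ f : Polynomial R, IsUnit f ∧ Cob f h := by
  have hc0 : coeff 0 h = 1 := by
    have := congrArg (aeval (![0, 0] : Fin 2 → R)) h0
    rw [map_aeval2] at this
    simp only [aeval_X, Matrix.cons_val_zero, map_zero, map_one] at this
    have h00 : (![0, 0] : Fin 2 → R) = 0 := by
      ext i
      fin_cases i <;> rfl
    rw [h00, aeval_zero, constantCoeff_eq] at this
    exact this
  obtain ⟨N, hNdef⟩ : ∃ N : Ideal R, N = Ideal.span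
      ((fun m => coeff m (h - 1)) '' ((h - 1).support : Set (Fin 2 →₀ ℕ))) := ⟨_, rfl⟩
  have hfg : N.FG := by
    classical
    refine ⟨(h - 1).support.image (fun m => coeff m (h - 1)), ?_⟩
    rw [hNdef, Finset.coe_image]
  have hle : N ≤ nilradical R := by
    rw [hNdef, Ideal.span_le]
    rintro _ ⟨m, hm', rfl⟩
    rw [SetLike.mem_coe, mem_nilradical]
    have hm0 : m ≠ 0 := by
      rintro rfl
      rw [Finset.mem_coe, mem_support_iff, coeff_sub, hc0, coeff_one, if_pos rfl, sub_self] at hm'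
      exact hm' rfl
    change IsNilpotent (coeff m (h - 1))
    rw [coeff_sub, coeff_one, if_neg (Ne.symm hm0), sub_zero]
    exact (MvPolynomial.isUnit_iff.1 hu).2 m hm0
  obtain ⟨k, hk⟩ := (Ideal.FG.isNilpotent_iff_le_nilradical hfg).2 hle
  have hk' : N ^ (2 ^ k) = ⊥ := by
    rw [eq_bot_iff]
    calc N ^ (2 ^ k) ≤ N ^ k := Ideal.pow_le_pow_right Nat.lt_two_pow_self.le
      _ = ⊥ := hk
  have hN1 : h - 1 ∈ N.map (algebraMap R (MvPolynomial (Fin 2) R)) := by
    rw [mv_mem_iff]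
    intro m
    by_cases hm' : m ∈ (h - 1).support
    · rw [hNdef]
      exact Ideal.subset_span ⟨m, hm', rfl⟩
    · rw [notMem_support_iff.1 hm']
      exact N.zero_mem
  exact main_ind p k R hF N hk' h hu hN1 hm

end Groth.Agent.Lib.Helper27.Lazard
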