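import Mathlib

/-!
# Graded smooth algebras are symmetric algebras over their degree-zero part, part A (helper27)

Abstract injectivity criterion: if `A` is a formally smooth `R`-algebra, an `A₀`-algebra with a
retraction `e : A → A₀`, `P` is a finite projective `A₀`-module with `s : P → ker e` inducing a
section of a "derivation" `d : A → P`, then `Sym_{A₀} P → A` is injective.
-/

namespace Groth.Agent.Lib.Helper27.GrSmooth

open MvPolynomial

universe u

section Filtration

variable {B : Type*} [CommRing B] (J : Ideal B)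

theorem filt_step (m : ℕ) (E : B →+* B ⧸ J ^ m)
    (hE : ∀ b, E b - Ideal.Quotient.mk (J ^ m) b ∈ (J ^ 2).map (Ideal.Quotient.mk (J ^ m)))
    (k : ℕ) : ∀ b ∈ J ^ k,
    E b - Ideal.Quotient.mk (J ^ m) b ∈ (J ^ (k + 1)).map (Ideal.Quotient.mk (J ^ m)) := by
  induction k with
  | zero =>
    intro b _
    exact Ideal.map_mono (Ideal.pow_le_pow_right (by norm_num)) (hE b)
  | succ k ih =>
    intro b hb
    rw [pow_succ] at hb
    refine Submodule.mul_induction_on hb ?_ ?_
    · intro c hc j hj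
      have e1 : E (c * j) - Ideal.Quotient.mk (J ^ m) (c * j) =
          (E c - Ideal.Quotient.mk (J ^ m) c) * E j +
            Ideal.Quotient.mk (J ^ m) c * (E j - Ideal.Quotient.mk (J ^ m) j) := by
        rw [map_mul, map_mul]; ring
      rw [e1]
      have hj1 : Ideal.Quotient.mk (J ^ m) j ∈ J.map (Ideal.Quotient.mk (J ^ m)) :=
        Ideal.mem_map_of_mem _ hj
      have hj2 : E j - Ideal.Quotient.mk (J ^ m) j ∈ J.map (Ideal.Quotient.mk (J ^ m)) :=
        Ideal.map_mono (Ideal.pow_le_self (by norm_num)) (hE j)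
      have hEj : E j ∈ J.map (Ideal.Quotient.mk (J ^ m)) := by
        have := add_mem hj2 hj1
        simpa using this
      refine add_mem ?_ ?_
      · have := Ideal.mul_mem_mul (ih c hc) hEj
        rwa [← Ideal.map_mul, ← pow_succ] at this
      · have := Ideal.mul_mem_mul (Ideal.mem_map_of_mem (Ideal.Quotient.mk (J ^ m)) hc) (hE j)
        rwa [← Ideal.map_mul, ← pow_add] at this
    · intro x y hx hy
      have : E (x + y) - Ideal.Quotient.mk (J ^ m) (x + y) =
          (E x - Ideal.Quotient.mk (J ^ m) x) + (E y - Ideal.Quotient.mk (J ^ m) y) := by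
        rw [map_add, map_add]; ring
      rw [this]
      exact add_mem hx hy

theorem mem_pow_of_E_eq_zero (m : ℕ) (E : B →+* B ⧸ J ^ m)
    (hE : ∀ b, E b - Ideal.Quotient.mk (J ^ m) b ∈ (J ^ 2).map (Ideal.Quotient.mk (J ^ m)))
    (b : B) (hb0 : E b = 0) : b ∈ J ^ m := by
  have key : ∀ k, k ≤ m → b ∈ J ^ k := by
    intro k
    induction k with
    | zero => intro _; simp
    | succ k ih =>
      intro hk
      have hbk := ih (by omega)
      have h1 := filt_step J m E hE k b hbk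
      rw [hb0, zero_sub, neg_mem_iff] at h1
      rw [Ideal.mem_map_iff_of_surjective _ Ideal.Quotient.mk_surjective] at h1
      obtain ⟨x, hx, hxb⟩ := h1
      rw [Ideal.Quotient.eq] at hxb
      have h2 : x - b ∈ J ^ (k + 1) := Ideal.pow_le_pow_right hk hxb
      have := sub_mem hx h2
      simpa using this
  exact key m le_rfl

theorem isNilpotent_ker_factor (R : Type*) [CommRing R] [Algebra R B] (m : ℕ)
    (hle : J ^ m ≤ J ^ 2) :
    IsNilpotent (RingHom.ker ((Ideal.Quotient.factorₐ R hle : (B ⧸ J ^ m) →ₐ[R] (B ⧸ J ^ 2)) :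
      (B ⧸ J ^ m) →+* (B ⧸ J ^ 2))) := by
  have hker : RingHom.ker ((Ideal.Quotient.factorₐ R hle : (B ⧸ J ^ m) →ₐ[R] (B ⧸ J ^ 2)) :
      (B ⧸ J ^ m) →+* (B ⧸ J ^ 2)) ≤ J.map (Ideal.Quotient.mk (J ^ m)) := by
    intro x hx
    obtain ⟨q, rfl⟩ := Ideal.Quotient.mk_surjective x
    rw [RingHom.mem_ker] at hx
    have hq : q ∈ J ^ 2 := by
      rw [← Ideal.Quotient.eq_zero_iff_mem]; exact hx
    exact Ideal.mem_map_of_mem _ (Ideal.pow_le_self (by norm_num) hq)
  refine ⟨m, ?_⟩
  rw [Ideal.zero_eq_bot, eq_bot_iff]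
  calc _ ≤ (J.map (Ideal.Quotient.mk (J ^ m))) ^ m := Ideal.pow_right_mono hker m
    _ = ⊥ := by rw [← Ideal.map_pow, Ideal.map_quotient_self]

theorem ker_factor_le (R : Type*) [CommRing R] [Algebra R B] (m : ℕ)
    (hle : J ^ m ≤ J ^ 2) (x : B ⧸ J ^ m)
    (hx : (Ideal.Quotient.factorₐ R hle : (B ⧸ J ^ m) →ₐ[R] (B ⧸ J ^ 2)) x = 0) :
    x ∈ (J ^ 2).map (Ideal.Quotient.mk (J ^ m)) := by
  obtain ⟨q, rfl⟩ := Ideal.Quotient.mk_surjective x
  have hq : q ∈ J ^ 2 := by
    rw [← Ideal.Quotient.eq_zero_iff_mem]; exact hx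
  exact Ideal.mem_map_of_mem _ hq

end Filtration

section SymSep

variable {A₀ : Type*} [CommRing A₀] {P : Type*} [AddCommGroup P] [Module A₀ P]

theorem equivMvPolynomial_ι_mem {r : ℕ} (v : Fin r → A₀) :
    SymmetricAlgebra.equivMvPolynomial (Pi.basisFun A₀ (Fin r))
      (SymmetricAlgebra.ι A₀ (Fin r → A₀) v) ∈ idealOfVars (Fin r) A₀ := by
  have : SymmetricAlgebra.equivMvPolynomial (Pi.basisFun A₀ (Fin r))
      (SymmetricAlgebra.ι A₀ (Fin r → A₀) v) =
      (Pi.basisFun A₀ (Fin r)).constr A₀ (X : Fin r → MvPolynomial (Fin r) A₀) v := by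
    simp [SymmetricAlgebra.equivMvPolynomial]
  rw [this, Module.Basis.constr_apply_fintype]
  refine Ideal.sum_mem _ fun j _ => ?_
  exact Submodule.smul_of_tower_mem _ _ (Ideal.subset_span ⟨j, rfl⟩)

theorem eq_zero_of_forall_mem_pow [Module.Finite A₀ P] [Module.Projective A₀ P]
    (b : SymmetricAlgebra A₀ P)
    (hb : ∀ m, b ∈ (Ideal.span (Set.range (SymmetricAlgebra.ι A₀ P))) ^ m) : b = 0 := by
  obtain ⟨r, f, g, _, _, hfg⟩ := Module.Finite.exists_comp_eq_id_of_projective A₀ P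
  let Sg : SymmetricAlgebra A₀ P →ₐ[A₀] SymmetricAlgebra A₀ (Fin r → A₀) :=
    SymmetricAlgebra.lift (SymmetricAlgebra.ι A₀ (Fin r → A₀) ∘ₗ g)
  let Sf : SymmetricAlgebra A₀ (Fin r → A₀) →ₐ[A₀] SymmetricAlgebra A₀ P :=
    SymmetricAlgebra.lift (SymmetricAlgebra.ι A₀ P ∘ₗ f)
  have h1 : Sf.comp Sg = AlgHom.id A₀ _ := by
    apply SymmetricAlgebra.algHom_ext
    ext p
    have := LinearMap.congr_fun hfg p
    simp only [LinearMap.comp_apply, LinearMap.id_apply] at this
    simp [Sf, Sg, this]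
  let eqv := SymmetricAlgebra.equivMvPolynomial (Pi.basisFun A₀ (Fin r))
  let Φ : SymmetricAlgebra A₀ P →ₐ[A₀] MvPolynomial (Fin r) A₀ := (eqv : _ →ₐ[A₀] _).comp Sg
  have h3 : (Ideal.span (Set.range (SymmetricAlgebra.ι A₀ P))).map Φ ≤ idealOfVars (Fin r) A₀ := by
    rw [Ideal.map_le_iff_le_comap, Ideal.span_le]
    rintro _ ⟨p, rfl⟩
    show Φ (SymmetricAlgebra.ι A₀ P p) ∈ idealOfVars (Fin r) A₀
    simp only [Φ, Sg, AlgHom.comp_apply, SymmetricAlgebra.lift_ι_apply, LinearMap.comp_apply]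
    exact equivMvPolynomial_ι_mem (g p)
  have h4 : ∀ m, Φ b ∈ idealOfVars (Fin r) A₀ ^ m := by
    intro m
    have := Ideal.mem_map_of_mem Φ (hb m)
    rw [Ideal.map_pow] at this
    exact Ideal.pow_right_mono h3 m this
  have h5 : Φ b = 0 := by
    ext x
    rw [coeff_zero]
    exact (mem_pow_idealOfVars_iff' (x.degree + 1) _).mp (h4 _) x (Nat.lt_succ_self _)
  have h6 : Sg b = 0 := by
    have : eqv (Sg b) = 0 := h5
    simpa using this
  have := AlgHom.congr_fun h1 b
  simp only [AlgHom.comp_apply, AlgHom.id_apply] at this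
  rw [← this, h6, map_zero]

end SymSep

section Inj

theorem injective_lift (R : Type*) {A₀ A P : Type*} [CommRing R] [CommRing A₀] [CommRing A]
    [Algebra R A₀]
    [Algebra A₀ A] [Algebra R A] [IsScalarTower R A₀ A] [Algebra.FormallySmooth R A]
    [AddCommGroup P] [Module A₀ P] [Module.Finite A₀ P] [Module.Projective A₀ P]
    (e : A →ₐ[A₀] A₀) (d : A →ₗ[A₀] P)
    (hd : ∀ a b, d (a * b) = e a • d b + e b • d a) (s : P →ₗ[A₀] A)
    (hes : ∀ p, e (s p) = 0) (hds : ∀ p, d (s p) = p) :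
    Function.Injective (SymmetricAlgebra.lift s) := by
  classical
  letI algRB : Algebra R (SymmetricAlgebra A₀ P) :=
    ((algebraMap A₀ (SymmetricAlgebra A₀ P)).comp (algebraMap R A₀)).toAlgebra
  haveI towB : IsScalarTower R A₀ (SymmetricAlgebra A₀ P) :=
    IsScalarTower.of_algebraMap_eq (fun _ => rfl)
  set J : Ideal (SymmetricAlgebra A₀ P) := Ideal.span (Set.range (SymmetricAlgebra.ι A₀ P)) with hJ
  have hιJ : ∀ p, SymmetricAlgebra.ι A₀ P p ∈ J := fun p => Ideal.subset_span ⟨p, rfl⟩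
  have hd1 : d 1 = 0 := by
    have := hd 1 1
    simp only [mul_one, map_one, one_smul] at this
    exact left_eq_add.mp this
  have hdalg : ∀ c : A₀, d (algebraMap A₀ A c) = 0 := by
    intro c
    rw [Algebra.algebraMap_eq_smul_one, map_smul, hd1, smul_zero]
  rw [injective_iff_map_eq_zero]
  intro b hb
  apply eq_zero_of_forall_mem_pow
  intro m
  suffices h : b ∈ J ^ (m + 2) from Ideal.pow_le_pow_right (by omega) h
  -- the map χ₂
  let χ₂r : A →+* (SymmetricAlgebra A₀ P ⧸ J ^ 2) :=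
    { toFun := fun a => Ideal.Quotient.mk (J ^ 2)
        (algebraMap A₀ (SymmetricAlgebra A₀ P) (e a) + SymmetricAlgebra.ι A₀ P (d a))
      map_one' := by
        rw [map_one, hd1, map_zero, add_zero, map_one, map_one]
      map_mul' := by
        intro a b
        rw [← map_mul, Ideal.Quotient.eq]
        have key : algebraMap A₀ (SymmetricAlgebra A₀ P) (e (a * b)) +
            SymmetricAlgebra.ι A₀ P (d (a * b)) -
            (algebraMap A₀ (SymmetricAlgebra A₀ P) (e a) + SymmetricAlgebra.ι A₀ P (d a)) *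
            (algebraMap A₀ (SymmetricAlgebra A₀ P) (e b) + SymmetricAlgebra.ι A₀ P (d b)) =
            - (SymmetricAlgebra.ι A₀ P (d a) * SymmetricAlgebra.ι A₀ P (d b)) := by
          rw [hd, map_mul, map_add, map_smul, map_smul, Algebra.smul_def, Algebra.smul_def, map_mul]
          ring
        rw [key, neg_mem_iff, pow_two]
        exact Ideal.mul_mem_mul (hιJ _) (hιJ _)
      map_zero' := by
        rw [map_zero, map_zero, map_zero, map_zero, add_zero, map_zero]
      map_add' := by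
        intro a b
        simp only [map_add]
        abel }
  let χ₂ : A →ₐ[R] (SymmetricAlgebra A₀ P ⧸ J ^ 2) :=
    { χ₂r with
      commutes' := by
        intro r
        show Ideal.Quotient.mk (J ^ 2)
          (algebraMap A₀ (SymmetricAlgebra A₀ P) (e (algebraMap R A r)) +
            SymmetricAlgebra.ι A₀ P (d (algebraMap R A r))) = _
        rw [IsScalarTower.algebraMap_apply R A₀ A, hdalg, map_zero, add_zero, e.commutes]
        rfl }
  have hχ₂ : ∀ a, χ₂ a = Ideal.Quotient.mk (J ^ 2)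
      (algebraMap A₀ (SymmetricAlgebra A₀ P) (e a) + SymmetricAlgebra.ι A₀ P (d a)) := fun _ => rfl
  have hle : J ^ (m + 2) ≤ J ^ 2 := Ideal.pow_le_pow_right (by omega)
  let g : (SymmetricAlgebra A₀ P ⧸ J ^ (m + 2)) →ₐ[R] (SymmetricAlgebra A₀ P ⧸ J ^ 2) :=
    Ideal.Quotient.factorₐ R hle
  have hg : Function.Surjective g := Ideal.Quotient.factor_surjective hle
  have hg' := isNilpotent_ker_factor J R (m + 2) hle
  let χ := Algebra.FormallySmooth.liftOfSurjective χ₂ g hg hg'
  have hχ : ∀ x, g (χ x) = χ₂ x := Algebra.FormallySmooth.liftOfSurjective_apply χ₂ g hg hg'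
  let E : SymmetricAlgebra A₀ P →+* (SymmetricAlgebra A₀ P ⧸ J ^ (m + 2)) :=
    (χ : A →+* _).comp ((SymmetricAlgebra.lift s : SymmetricAlgebra A₀ P →ₐ[A₀] A) :
      SymmetricAlgebra A₀ P →+* A)
  have hE0 : ∀ x, E x = χ (SymmetricAlgebra.lift s x) := fun _ => rfl
  have hcomp : ∀ x : SymmetricAlgebra A₀ P, χ₂ (SymmetricAlgebra.lift s x) =
      Ideal.Quotient.mk (J ^ 2) x := by
    intro x
    induction x using SymmetricAlgebra.induction with
    | algebraMap r =>
      rw [AlgHom.commutes, hχ₂, hdalg, map_zero, add_zero, e.commutes]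
      rfl
    | ι p =>
      rw [SymmetricAlgebra.lift_ι_apply, hχ₂, hes, hds, map_zero, zero_add]
    | mul a b ha hb => rw [map_mul, map_mul, ha, hb, map_mul]
    | add a b ha hb => rw [map_add, map_add, ha, hb, map_add]
  have hE : ∀ x, E x - Ideal.Quotient.mk (J ^ (m + 2)) x ∈
      (J ^ 2).map (Ideal.Quotient.mk (J ^ (m + 2))) := by
    intro x
    apply ker_factor_le J R (m + 2) hle
    rw [map_sub]
    have h1 : (Ideal.Quotient.factorₐ R hle) (E x) = χ₂ (SymmetricAlgebra.lift s x) := hχ _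
    have h2 : (Ideal.Quotient.factorₐ R hle) (Ideal.Quotient.mk (J ^ (m + 2)) x) =
        Ideal.Quotient.mk (J ^ 2) x := rfl
    rw [h1, h2, hcomp, sub_self]
  apply mem_pow_of_E_eq_zero J (m + 2) E hE b
  rw [hE0, hb, map_zero]

end Inj

end Groth.Agent.Lib.Helper27.GrSmooth
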