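import Mathlib
import Groth.Agent.Lib.Helper27.DiagMonSmooth
import Groth.Agent.Lib.Helper27.GrSmoothA

/-!
# Graded smooth algebras, part B (helper27): the graded setting

`A` graded by a fine sharp monoid `N`; `e0 : A → A₀` the projection, `I = ker e0`,
`P = I/I²`; graded section and surjectivity of `Sym_{A₀} P → A`.
-/

namespace Groth.Agent.Lib.Helper27.GrSmooth

open DirectSum

universe u

section Height

variable {N : Type*} [AddCommMonoid N] [AddMonoid.FG N] [IsCancelAdd N]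

theorem exists_height (hsharp : ∀ n : N, IsAddUnit n → n = 0) :
    ∃ h : N → ℕ, ∀ i j : N, i ≠ 0 → j ≠ 0 → h i < h (i + j) ∧ h j < h (i + j) := by
  classical
  obtain ⟨S, hS, hmin⟩ := DiagMonSmooth.exists_min_gen (N := N)
  have hsurj := DiagMonSmooth.pi_surjective S hS
  have hz := DiagMonSmooth.pi_eq_zero S hS hmin hsharp
  have hfin : ∀ n : N, {c : S →₀ ℕ | DiagMonSmooth.pi S c = n}.Finite := by
    intro n
    apply IsAntichain.finite_of_partiallyWellOrderedOn (r := (· ≤ ·))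
    · intro c hc c' hc' hne hle
      obtain ⟨t, rfl⟩ := le_iff_exists_add.mp hle
      simp only [Set.mem_setOf_eq] at hc hc'
      rw [map_add, hc, add_eq_left] at hc'
      have := hz t hc'
      subst this
      exact hne (by simp)
    · exact Set.isPWO_of_wellQuasiOrderedLE _
  let h : N → ℕ := fun n => (hfin n).toFinset.sup (fun c => c.degree)
  have hle : ∀ n c, DiagMonSmooth.pi S c = n → c.degree ≤ h n := by
    intro n c hc
    exact Finset.le_sup (f := fun c : S →₀ ℕ => c.degree) ((hfin n).mem_toFinset.mpr hc)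
  have hex : ∀ n, ∃ c, DiagMonSmooth.pi S c = n ∧ c.degree = h n := by
    intro n
    obtain ⟨c0, hc0⟩ := hsurj n
    have hne : (hfin n).toFinset.Nonempty := ⟨c0, (hfin n).mem_toFinset.mpr hc0⟩
    obtain ⟨c, hc, hceq⟩ := Finset.exists_mem_eq_sup _ hne (fun c : S →₀ ℕ => c.degree)
    exact ⟨c, (hfin n).mem_toFinset.mp hc, hceq.symm⟩
  have hpos : ∀ j c, j ≠ 0 → DiagMonSmooth.pi S c = j → 1 ≤ c.degree := by
    intro j c hj hc
    by_contra hlt
    have : c.degree = 0 := by omega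
    rw [Finsupp.degree_eq_zero_iff] at this
    subst this
    rw [map_zero] at hc
    exact hj hc.symm
  have key : ∀ i j : N, j ≠ 0 → h i < h (i + j) := by
    intro i j hj
    obtain ⟨ci, hci, hdi⟩ := hex i
    obtain ⟨cj, hcj⟩ := hsurj j
    have h1 := hpos j cj hj hcj
    have h2 := hle (i + j) (ci + cj) (by rw [map_add, hci, hcj])
    rw [map_add] at h2
    omega
  refine ⟨h, fun i j hi hj => ⟨key i j hj, ?_⟩⟩
  rw [add_comm]
  exact key j i hi

end Height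

section Graded

variable {R : Type u} [CommRing R] {A : Type u} [CommRing A] [Algebra R A]
  {N : Type} [AddCommMonoid N] [DecidableEq N]
  (𝒜 : N → Submodule R A) [GradedAlgebra 𝒜]

theorem coe_decompose_mul_zero (hsharp : ∀ n : N, IsAddUnit n → n = 0) (a b : A) :
    (decompose 𝒜 (a * b) 0 : A) = (decompose 𝒜 a 0 : A) * (decompose 𝒜 b 0 : A) := by
  classical
  rw [decompose_mul, coe_mul_apply]
  have hz : ∀ ij : N × N, ij.1 + ij.2 = 0 → ij = (0, 0) := by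
    rintro ⟨i, j⟩ h
    have hi : i = 0 := hsharp i (IsAddUnit.of_add_eq_zero _ h)
    have hj : j = 0 := hsharp j (IsAddUnit.of_add_eq_zero _ (by rwa [add_comm] at h))
    simp [hi, hj]
  rw [Finset.sum_eq_single (0, 0)]
  · intro ij hij hne
    rw [Finset.mem_filter] at hij
    exact absurd (hz ij hij.2) hne
  · intro hnot
    rw [Finset.mem_filter, Finset.mem_product, DFinsupp.mem_support_iff,
      DFinsupp.mem_support_iff] at hnot
    simp only [add_zero, and_true, not_and_or, not_not] at hnot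
    rcases hnot with h | h
    · rw [h]; simp
    · rw [h]; simp

theorem coe_decompose_coe_zero (c : 𝒜 0) : decompose 𝒜 (c : A) 0 = c := by
  rw [decompose_coe, of_eq_same]

/-- The projection to the degree-zero part, as an algebra map. -/
noncomputable def e0 (hsharp : ∀ n : N, IsAddUnit n → n = 0) : A →ₐ[𝒜 0] 𝒜 0 where
  toFun a := decompose 𝒜 a 0
  map_one' := by
    have : (1 : A) = ((1 : 𝒜 0) : A) := rfl
    rw [this, coe_decompose_coe_zero]
  map_mul' a b := by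
    apply Subtype.ext
    rw [coe_decompose_mul_zero 𝒜 hsharp]
    rfl
  map_zero' := by rw [decompose_zero]; rfl
  map_add' a b := by rw [decompose_add]; rfl
  commutes' c := coe_decompose_coe_zero 𝒜 c

theorem e0_apply (hsharp : ∀ n : N, IsAddUnit n → n = 0) (a : A) :
    e0 𝒜 hsharp a = decompose 𝒜 a 0 := rfl

theorem e0_coe (hsharp : ∀ n : N, IsAddUnit n → n = 0) (c : 𝒜 0) :
    e0 𝒜 hsharp (c : A) = c := coe_decompose_coe_zero 𝒜 c

theorem e0_of_mem_ne (hsharp : ∀ n : N, IsAddUnit n → n = 0) {n : N} (hn : n ≠ 0) {a : A}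
    (ha : a ∈ 𝒜 n) : e0 𝒜 hsharp a = 0 := by
  apply Subtype.ext
  rw [e0_apply, decompose_of_mem_ne 𝒜 ha hn]
  rfl

theorem coe_decompose_smul (c : 𝒜 0) (x : A) (n : N) :
    (decompose 𝒜 ((c : A) * x) n : A) = (c : A) * (decompose 𝒜 x n : A) := by
  induction x using DirectSum.Decomposition.inductionOn 𝒜 with
  | zero => simp
  | @homogeneous m x =>
    have hcx : (c : A) * (x : A) ∈ 𝒜 m := by
      have := SetLike.mul_mem_graded c.2 x.2
      rwa [zero_add] at this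
    by_cases hmn : m = n
    · subst hmn
      rw [decompose_of_mem_same 𝒜 hcx, decompose_of_mem_same 𝒜 x.2]
    · rw [decompose_of_mem_ne 𝒜 hcx hmn, decompose_of_mem_ne 𝒜 x.2 hmn, mul_zero]
  | add x y hx hy =>
    rw [mul_add, decompose_add, decompose_add, DirectSum.add_apply, DirectSum.add_apply, Submodule.coe_add,
      Submodule.coe_add, hx, hy, mul_add]

end Graded

section Graded2

variable {R : Type u} [CommRing R] {A : Type u} [CommRing A] [Algebra R A]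
  {N : Type} [AddCommMonoid N] [DecidableEq N]
  (𝒜 : N → Submodule R A) [GradedAlgebra 𝒜] (hsharp : ∀ n : N, IsAddUnit n → n = 0)

/-- The irrelevant ideal `A₊ = ker (A → A₀)`. -/
noncomputable def Iplus : Ideal A := RingHom.ker (e0 𝒜 hsharp : A →+* 𝒜 0)

theorem mem_Iplus {a : A} : a ∈ Iplus 𝒜 hsharp ↔ e0 𝒜 hsharp a = 0 := Iff.rfl

theorem mem_Iplus_of_mem_ne {n : N} (hn : n ≠ 0) {a : A} (ha : a ∈ 𝒜 n) :
    a ∈ Iplus 𝒜 hsharp :=
  (mem_Iplus 𝒜 hsharp).mpr (e0_of_mem_ne 𝒜 hsharp hn ha)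

theorem sub_e0_mem (a : A) : a - (e0 𝒜 hsharp a : A) ∈ Iplus 𝒜 hsharp := by
  rw [mem_Iplus, map_sub, e0_coe, sub_self]

theorem decompose_mem_Iplus {x : A} (hx : x ∈ Iplus 𝒜 hsharp) (i : N) :
    (decompose 𝒜 x i : A) ∈ Iplus 𝒜 hsharp := by
  by_cases hi : i = 0
  · subst hi
    have : decompose 𝒜 x 0 = 0 := (mem_Iplus 𝒜 hsharp).mp hx
    rw [this]
    exact zero_mem _
  · exact mem_Iplus_of_mem_ne 𝒜 hsharp hi (decompose 𝒜 x i).2

theorem decompose_mem_sq {z : A} (hz : z ∈ Iplus 𝒜 hsharp ^ 2) (n : N) :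
    (decompose 𝒜 z n : A) ∈ Iplus 𝒜 hsharp ^ 2 := by
  classical
  rw [pow_two] at hz ⊢
  refine Submodule.mul_induction_on hz ?_ ?_
  · intro x hx y hy
    rw [decompose_mul, coe_mul_apply]
    exact Ideal.sum_mem _ fun ij _ => Ideal.mul_mem_mul (decompose_mem_Iplus 𝒜 hsharp hx _)
      (decompose_mem_Iplus 𝒜 hsharp hy _)
  · intro x y hx hy
    rw [decompose_add, DirectSum.add_apply, Submodule.coe_add]
    exact add_mem hx hy

/-- The "derivation" `d : A → I/I²`, `a ↦ [a - a₀]`. -/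
noncomputable def dmap : A →ₗ[𝒜 0] (Iplus 𝒜 hsharp).Cotangent where
  toFun a := (Iplus 𝒜 hsharp).toCotangent ⟨a - (e0 𝒜 hsharp a : A), sub_e0_mem 𝒜 hsharp a⟩
  map_add' a b := by
    rw [← map_add]
    congr 1
    apply Subtype.ext
    simp only [map_add, Submodule.coe_add]
    ring
  map_smul' c a := by
    simp only [RingHom.id_apply]
    rw [← LinearMap.map_smul_of_tower]
    congr 1
    apply Subtype.ext
    simp only [map_smul, SetLike.val_smul_of_tower, smul_sub]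
    rfl

theorem dmap_apply (a : A) : dmap 𝒜 hsharp a =
    (Iplus 𝒜 hsharp).toCotangent ⟨a - (e0 𝒜 hsharp a : A), sub_e0_mem 𝒜 hsharp a⟩ := rfl

theorem dmap_of_mem {y : A} (hy : y ∈ Iplus 𝒜 hsharp) :
    dmap 𝒜 hsharp y = (Iplus 𝒜 hsharp).toCotangent ⟨y, hy⟩ := by
  rw [dmap_apply]
  congr 1
  apply Subtype.ext
  simp [(mem_Iplus 𝒜 hsharp).mp hy]

theorem dmap_of_mem_sq {z : A} (hz : z ∈ Iplus 𝒜 hsharp ^ 2) : dmap 𝒜 hsharp z = 0 := by
  rw [dmap_of_mem 𝒜 hsharp (Ideal.pow_le_self (by norm_num) hz), Ideal.toCotangent_eq_zero]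
  exact hz

theorem dmap_coe (c : 𝒜 0) : dmap 𝒜 hsharp (c : A) = 0 := by
  rw [dmap_apply]
  have : (⟨(c : A) - (e0 𝒜 hsharp (c : A) : A), sub_e0_mem 𝒜 hsharp _⟩ : Iplus 𝒜 hsharp) = 0 := by
    apply Subtype.ext
    simp [e0_coe]
  rw [this, map_zero]

theorem dmap_mul (a b : A) : dmap 𝒜 hsharp (a * b) =
    e0 𝒜 hsharp a • dmap 𝒜 hsharp b + e0 𝒜 hsharp b • dmap 𝒜 hsharp a := by
  have h1 : a * b = (a - (e0 𝒜 hsharp a : A)) * (b - (e0 𝒜 hsharp b : A)) +
      ((e0 𝒜 hsharp a : A) * b + (e0 𝒜 hsharp b : A) * a) -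
      ((e0 𝒜 hsharp a * e0 𝒜 hsharp b : 𝒜 0) : A) := by
    rw [SetLike.GradeZero.coe_mul]; ring
  have h2 : dmap 𝒜 hsharp ((a - (e0 𝒜 hsharp a : A)) * (b - (e0 𝒜 hsharp b : A))) = 0 := by
    apply dmap_of_mem_sq
    rw [pow_two]
    exact Ideal.mul_mem_mul (sub_e0_mem 𝒜 hsharp a) (sub_e0_mem 𝒜 hsharp b)
  have h3 : ∀ (c : 𝒜 0) (x : A), dmap 𝒜 hsharp ((c : A) * x) = c • dmap 𝒜 hsharp x := by
    intro c x
    rw [← map_smul]
    rfl
  conv_lhs => rw [h1]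
  rw [map_sub, map_add, map_add, h2, dmap_coe, h3, h3, zero_add, sub_zero]

end Graded2

section Section

variable {R : Type u} [CommRing R] {A : Type u} [CommRing A] [Algebra R A]
  {N : Type} [AddCommMonoid N] [DecidableEq N]
  (𝒜 : N → Submodule R A) [GradedAlgebra 𝒜] (hsharp : ∀ n : N, IsAddUnit n → n = 0)

theorem exists_section [Module.Projective (𝒜 0) (Iplus 𝒜 hsharp).Cotangent] :
    ∃ s₀ : (Iplus 𝒜 hsharp).Cotangent →ₗ[𝒜 0] Iplus 𝒜 hsharp,
      ∀ p, (Iplus 𝒜 hsharp).toCotangent (s₀ p) = p := by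
  obtain ⟨h, hh⟩ := Module.projective_lifting_property
    ((Iplus 𝒜 hsharp).toCotangent.restrictScalars (𝒜 0)) LinearMap.id
    (Ideal.toCotangent_surjective _)
  exact ⟨h, fun p => LinearMap.congr_fun hh p⟩

variable (s₀ : (Iplus 𝒜 hsharp).Cotangent →ₗ[𝒜 0] Iplus 𝒜 hsharp)

/-- `σ x = s₀ (d x)` as an element of `A`. -/
noncomputable def sigma : A →ₗ[𝒜 0] A :=
  ((Iplus 𝒜 hsharp).subtype.restrictScalars (𝒜 0)) ∘ₗ s₀ ∘ₗ dmap 𝒜 hsharp

theorem sigma_apply (x : A) : sigma 𝒜 hsharp s₀ x = (s₀ (dmap 𝒜 hsharp x) : A) := rfl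

/-- The graded correction `s̃ = ∑ₙ εₙ ∘ σ ∘ εₙ`. -/
noncomputable def stilde : A →+ A :=
  (DirectSum.toAddMonoid (fun n => ((GradedRing.proj 𝒜 n).comp
    (sigma 𝒜 hsharp s₀).toAddMonoidHom).comp (𝒜 n).subtype.toAddMonoidHom)).comp
      (decomposeAddEquiv 𝒜).toAddMonoidHom

theorem stilde_coe {n : N} (x : 𝒜 n) :
    stilde 𝒜 hsharp s₀ (x : A) = (decompose 𝒜 (sigma 𝒜 hsharp s₀ (x : A)) n : A) := by
  simp only [stilde, AddMonoidHom.comp_apply, AddEquiv.coe_toAddMonoidHom,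
    decomposeAddEquiv_apply, decompose_coe, toAddMonoid_of]
  rfl

theorem stilde_mem {n : N} {x : A} (hx : x ∈ 𝒜 n) : stilde 𝒜 hsharp s₀ x ∈ 𝒜 n := by
  have := stilde_coe 𝒜 hsharp s₀ (⟨x, hx⟩ : 𝒜 n)
  simp only at this
  rw [this]
  exact (decompose 𝒜 _ n).2

theorem stilde_coe_zero (c : 𝒜 0) : stilde 𝒜 hsharp s₀ (c : A) = 0 := by
  rw [stilde_coe, sigma_apply, dmap_coe, map_zero]
  simp

theorem stilde_of_mem_sq {z : A} (hz : z ∈ Iplus 𝒜 hsharp ^ 2) : stilde 𝒜 hsharp s₀ z = 0 := by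
  classical
  conv_lhs => rw [← DirectSum.sum_support_decompose 𝒜 z]
  rw [map_sum]
  refine Finset.sum_eq_zero fun n _ => ?_
  rw [stilde_coe, sigma_apply, dmap_of_mem_sq 𝒜 hsharp (decompose_mem_sq 𝒜 hsharp hz n), map_zero]
  simp

theorem stilde_smul (c : 𝒜 0) (x : A) :
    stilde 𝒜 hsharp s₀ (c • x) = c • stilde 𝒜 hsharp s₀ x := by
  induction x using DirectSum.Decomposition.inductionOn 𝒜 with
  | zero => simp
  | @homogeneous m x =>
    have hcx : (c : A) * (x : A) ∈ 𝒜 m := by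
      have := SetLike.mul_mem_graded c.2 x.2
      rwa [zero_add] at this
    have e1 : c • (x : A) = (c : A) * (x : A) := rfl
    have e2 := stilde_coe 𝒜 hsharp s₀ (⟨(c : A) * (x : A), hcx⟩ : 𝒜 m)
    simp only at e2
    rw [e1, e2, stilde_coe, ← e1, map_smul]
    exact coe_decompose_smul 𝒜 c _ m
  | add x y hx hy =>
    rw [smul_add, map_add, map_add, hx, hy, smul_add]

variable (hs₀ : ∀ p, (Iplus 𝒜 hsharp).toCotangent (s₀ p) = p)
include hs₀

theorem sigma_sub_mem (x : A) :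
    sigma 𝒜 hsharp s₀ x - (x - (e0 𝒜 hsharp x : A)) ∈ Iplus 𝒜 hsharp ^ 2 := by
  have := hs₀ (dmap 𝒜 hsharp x)
  conv_rhs at this => rw [dmap_apply]
  rw [Ideal.toCotangent_eq] at this
  exact this

theorem stilde_sub_mem (x : A) :
    stilde 𝒜 hsharp s₀ x - (x - (e0 𝒜 hsharp x : A)) ∈ Iplus 𝒜 hsharp ^ 2 := by
  induction x using DirectSum.Decomposition.inductionOn 𝒜 with
  | zero => simp
  | @homogeneous n x =>
    by_cases hn : n = 0
    · subst hn
      rw [stilde_coe_zero, e0_coe, sub_self, sub_zero]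
      exact zero_mem _
    · have h1 := decompose_mem_sq 𝒜 hsharp (sigma_sub_mem 𝒜 hsharp s₀ hs₀ (x : A)) n
      rw [e0_of_mem_ne 𝒜 hsharp hn x.2] at h1 ⊢
      rw [decompose_sub, DirectSum.sub_apply, Submodule.coe_sub, decompose_sub,
        DirectSum.sub_apply, Submodule.coe_sub, ← stilde_coe, decompose_coe, of_eq_same] at h1
      simpa using h1
  | add x y hx hy =>
    have : stilde 𝒜 hsharp s₀ (x + y) - (x + y - (e0 𝒜 hsharp (x + y) : A)) =
        (stilde 𝒜 hsharp s₀ x - (x - (e0 𝒜 hsharp x : A))) +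
        (stilde 𝒜 hsharp s₀ y - (y - (e0 𝒜 hsharp y : A))) := by
      rw [map_add, map_add, Submodule.coe_add]; ring
    rw [this]
    exact add_mem hx hy

/-- The graded section `s : I/I² → A`. -/
noncomputable def sLin : (Iplus 𝒜 hsharp).Cotangent →ₗ[𝒜 0] A where
  toFun p := stilde 𝒜 hsharp s₀ (s₀ p : A)
  map_add' p q := by rw [map_add, Submodule.coe_add, map_add]
  map_smul' c p := by
    rw [map_smul, RingHom.id_apply, ← stilde_smul]
    rfl

omit hs₀ in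
theorem sLin_apply (p : (Iplus 𝒜 hsharp).Cotangent) :
    sLin 𝒜 hsharp s₀ p = stilde 𝒜 hsharp s₀ (s₀ p : A) := rfl

theorem sLin_dmap (x : A) : sLin 𝒜 hsharp s₀ (dmap 𝒜 hsharp x) = stilde 𝒜 hsharp s₀ x := by
  rw [sLin_apply, ← sigma_apply]
  have h := sigma_sub_mem 𝒜 hsharp s₀ hs₀ x
  have h2 := stilde_of_mem_sq 𝒜 hsharp s₀ h
  rw [map_sub, map_sub, stilde_coe_zero, sub_zero, sub_eq_zero] at h2
  exact h2

theorem sLin_mem (p : (Iplus 𝒜 hsharp).Cotangent) : sLin 𝒜 hsharp s₀ p ∈ Iplus 𝒜 hsharp := by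
  rw [sLin_apply]
  have h1 := stilde_sub_mem 𝒜 hsharp s₀ hs₀ (s₀ p : A)
  have h2 : e0 𝒜 hsharp (s₀ p : A) = 0 := (mem_Iplus 𝒜 hsharp).mp (s₀ p).2
  rw [h2] at h1
  have h3 := Ideal.pow_le_self (by norm_num) h1
  have := add_mem h3 (s₀ p).2
  simpa using this

theorem e0_sLin (p : (Iplus 𝒜 hsharp).Cotangent) : e0 𝒜 hsharp (sLin 𝒜 hsharp s₀ p) = 0 :=
  (mem_Iplus 𝒜 hsharp).mp (sLin_mem 𝒜 hsharp s₀ hs₀ p)

theorem dmap_sLin (p : (Iplus 𝒜 hsharp).Cotangent) :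
    dmap 𝒜 hsharp (sLin 𝒜 hsharp s₀ p) = p := by
  have h1 := stilde_sub_mem 𝒜 hsharp s₀ hs₀ (s₀ p : A)
  have h2 : e0 𝒜 hsharp (s₀ p : A) = 0 := (mem_Iplus 𝒜 hsharp).mp (s₀ p).2
  rw [h2] at h1
  have h3 := dmap_of_mem_sq 𝒜 hsharp h1
  rw [map_sub, map_sub, sub_eq_zero] at h3
  rw [sLin_apply, h3, dmap_of_mem 𝒜 hsharp (s₀ p).2]
  simp [hs₀]

end Section

section Surj

variable {R : Type u} [CommRing R] {A : Type u} [CommRing A] [Algebra R A]
  {N : Type} [AddCommMonoid N] [DecidableEq N]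
  (𝒜 : N → Submodule R A) [GradedAlgebra 𝒜] (hsharp : ∀ n : N, IsAddUnit n → n = 0)

theorem mem_of_mem_sq (S' : Subalgebra (𝒜 0) A) (n : N)
    (IH : ∀ i j : N, i ≠ 0 → j ≠ 0 → i + j = n → (∀ a ∈ 𝒜 i, a ∈ S') ∧ (∀ a ∈ 𝒜 j, a ∈ S'))
    {z : A} (hz : z ∈ Iplus 𝒜 hsharp ^ 2) : (decompose 𝒜 z n : A) ∈ S' := by
  classical
  rw [pow_two] at hz
  refine Submodule.mul_induction_on hz ?_ ?_
  · intro x hx y hy
    rw [decompose_mul, coe_mul_apply]
    refine Subalgebra.sum_mem _ fun ij hij => ?_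
    rw [Finset.mem_filter, Finset.mem_product, DFinsupp.mem_support_iff,
      DFinsupp.mem_support_iff] at hij
    obtain ⟨⟨h1, h2⟩, h3⟩ := hij
    have hi : ij.1 ≠ 0 := by
      intro h0
      apply h1
      rw [h0]
      exact (mem_Iplus 𝒜 hsharp).mp hx
    have hj : ij.2 ≠ 0 := by
      intro h0
      apply h2
      rw [h0]
      exact (mem_Iplus 𝒜 hsharp).mp hy
    obtain ⟨k1, k2⟩ := IH ij.1 ij.2 hi hj h3
    exact Subalgebra.mul_mem _ (k1 _ (decompose 𝒜 x ij.1).2) (k2 _ (decompose 𝒜 y ij.2).2)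
  · intro x y hx hy
    rw [decompose_add, DirectSum.add_apply, Submodule.coe_add]
    exact Subalgebra.add_mem _ hx hy

variable [AddMonoid.FG N] [IsCancelAdd N]
variable (s₀ : (Iplus 𝒜 hsharp).Cotangent →ₗ[𝒜 0] Iplus 𝒜 hsharp)
  (hs₀ : ∀ p, (Iplus 𝒜 hsharp).toCotangent (s₀ p) = p)
include hs₀

theorem surjective_lift : Function.Surjective (SymmetricAlgebra.lift (sLin 𝒜 hsharp s₀)) := by
  classical
  obtain ⟨h, hh⟩ := exists_height (N := N) hsharp
  set ψ := SymmetricAlgebra.lift (sLin 𝒜 hsharp s₀) with hψ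
  have hst : ∀ x : A, stilde 𝒜 hsharp s₀ x ∈ ψ.range := by
    intro x
    refine (AlgHom.mem_range _).mpr ⟨SymmetricAlgebra.ι _ _ (dmap 𝒜 hsharp x), ?_⟩
    rw [hψ, SymmetricAlgebra.lift_ι_apply, sLin_dmap 𝒜 hsharp s₀ hs₀]
  have key : ∀ k n, h n = k → ∀ a ∈ 𝒜 n, a ∈ ψ.range := by
    intro k
    induction k using Nat.strong_induction_on with
    | _ k IH =>
      intro n hn a ha
      by_cases hn0 : n = 0
      · subst hn0
        exact (AlgHom.mem_range _).mpr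
          ⟨algebraMap _ _ (⟨a, ha⟩ : 𝒜 0), by rw [AlgHom.commutes]; rfl⟩
      · have h1 := stilde_sub_mem 𝒜 hsharp s₀ hs₀ a
        rw [e0_of_mem_ne 𝒜 hsharp hn0 ha] at h1
        have h1' : stilde 𝒜 hsharp s₀ a - a ∈ Iplus 𝒜 hsharp ^ 2 := by simpa using h1
        have h2 : a = stilde 𝒜 hsharp s₀ a - (stilde 𝒜 hsharp s₀ a - a) := by ring
        have h3 : stilde 𝒜 hsharp s₀ a - a ∈ 𝒜 n := sub_mem (stilde_mem 𝒜 hsharp s₀ ha) ha
        have h4 : (decompose 𝒜 (stilde 𝒜 hsharp s₀ a - a) n : A) ∈ ψ.range := by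
          apply mem_of_mem_sq 𝒜 hsharp ψ.range n _ h1'
          intro i j hi hj hij
          have := hh i j hi hj
          rw [hij, hn] at this
          exact ⟨fun a ha => IH (h i) this.1 i rfl a ha, fun a ha => IH (h j) this.2 j rfl a ha⟩
        rw [decompose_of_mem_same 𝒜 h3] at h4
        rw [h2]
        exact Subalgebra.sub_mem _ (hst a) h4
  intro a
  show a ∈ ψ.range
  rw [← DirectSum.sum_support_decompose 𝒜 a]
  exact Subalgebra.sum_mem _ fun i _ => key _ i rfl _ (decompose 𝒜 a i).2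

omit hs₀ s₀ in
theorem nonempty_algEquiv [Algebra.FormallySmooth R A]
    [Module.Finite (𝒜 0) (Iplus 𝒜 hsharp).Cotangent]
    [Module.Projective (𝒜 0) (Iplus 𝒜 hsharp).Cotangent] :
    Nonempty (A ≃ₐ[𝒜 0] SymmetricAlgebra (𝒜 0) (Iplus 𝒜 hsharp).Cotangent) := by
  obtain ⟨s₀, hs₀⟩ := exists_section 𝒜 hsharp
  haveI : IsScalarTower R (𝒜 0) A := IsScalarTower.of_algebraMap_eq (fun r => rfl)
  have hinj := injective_lift R (e0 𝒜 hsharp) (dmap 𝒜 hsharp) (dmap_mul 𝒜 hsharp)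
    (sLin 𝒜 hsharp s₀) (e0_sLin 𝒜 hsharp s₀ hs₀) (dmap_sLin 𝒜 hsharp s₀ hs₀)
  have hsurj := surjective_lift 𝒜 hsharp s₀ hs₀
  exact ⟨(AlgEquiv.ofBijective _ ⟨hinj, hsurj⟩).symm⟩

end Surj

end Groth.Agent.Lib.Helper27.GrSmooth
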