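import Mathlib
import Groth.Agent.Lib.Helper27.GrSmoothB

/-!
# Graded smooth algebras, part C (helper27): `I/I²` is finite projective over `A₀`; main theorem.
-/

namespace Groth.Agent.Lib.Helper27.GrSmooth

open DirectSum TensorProduct KaehlerDifferential

universe u

section Proj

variable {R : Type u} [CommRing R] {A : Type u} [CommRing A] [Algebra R A]
  {N : Type} [AddCommMonoid N] [DecidableEq N]
  (𝒜 : N → Submodule R A) [GradedAlgebra 𝒜] (hsharp : ∀ n : N, IsAddUnit n → n = 0)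

theorem finite_projective_cotangent [Algebra.Smooth R A] :
    Module.Finite (𝒜 0) (Iplus 𝒜 hsharp).Cotangent ∧
      Module.Projective (𝒜 0) (Iplus 𝒜 hsharp).Cotangent := by
  letI algA0 : Algebra A (𝒜 0) := (e0 𝒜 hsharp : A →+* 𝒜 0).toAlgebra
  haveI tow1 : IsScalarTower R (𝒜 0) A := IsScalarTower.of_algebraMap_eq (fun r => rfl)
  haveI tow2 : IsScalarTower R A (𝒜 0) := IsScalarTower.of_algebraMap_eq (fun r => by
    show algebraMap R (𝒜 0) r = e0 𝒜 hsharp (algebraMap R A r)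
    exact (e0_coe 𝒜 hsharp (algebraMap R (𝒜 0) r)).symm)
  have halg : ∀ a : A, algebraMap A (𝒜 0) a = e0 𝒜 hsharp a := fun _ => rfl
  have hsurj : Function.Surjective (algebraMap A (𝒜 0)) :=
    fun c => ⟨(c : A), e0_coe 𝒜 hsharp c⟩
  let incl : (𝒜 0) →ₐ[R] A := (Algebra.ofId (𝒜 0) A).restrictScalars R
  let g : (𝒜 0) →ₐ[R] A ⧸ RingHom.ker (IsScalarTower.toAlgHom R A (𝒜 0)).toRingHom ^ 2 :=
    (Ideal.Quotient.mkₐ R _).comp incl
  have hg : (IsScalarTower.toAlgHom R A (𝒜 0)).kerSquareLift.comp g = AlgHom.id R (𝒜 0) := by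
    ext c
    simp only [g, incl, AlgHom.comp_apply, Ideal.Quotient.mkₐ_eq_mk, AlgHom.kerSquareLift_mk,
      AlgHom.id_apply]
    exact congrArg Subtype.val (e0_coe 𝒜 hsharp c)
  obtain ⟨l, hl⟩ := (retractionKerCotangentToTensorEquivSection (R := R) hsurj).symm ⟨g, hg⟩
  have coe_smul_T : ∀ (c : 𝒜 0) (t : (𝒜 0) ⊗[A] Ω[A⁄R]), (c : A) • t = c • t := by
    intro c t
    induction t using TensorProduct.induction_on with
    | zero => simp
    | tmul b ω =>
      rw [TensorProduct.smul_tmul', TensorProduct.smul_tmul', Algebra.smul_def, halg, e0_coe]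
      rfl
    | add x y hx hy => rw [smul_add, smul_add, hx, hy]
  let k : (Iplus 𝒜 hsharp).Cotangent →ₗ[A] (𝒜 0) ⊗[A] Ω[A⁄R] := kerCotangentToTensor R A (𝒜 0)
  let l₀ : (𝒜 0) ⊗[A] Ω[A⁄R] →ₗ[A] (Iplus 𝒜 hsharp).Cotangent := l
  have hl₀ : ∀ x, l₀ (k x) = x := fun x => LinearMap.congr_fun hl x
  let k' : (Iplus 𝒜 hsharp).Cotangent →ₗ[𝒜 0] (𝒜 0) ⊗[A] Ω[A⁄R] :=
    { toFun := k
      map_add' := k.map_add
      map_smul' := fun c x => by
        rw [RingHom.id_apply, ← coe_smul_T, ← k.map_smul]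
        congr 1 }
  let l' : (𝒜 0) ⊗[A] Ω[A⁄R] →ₗ[𝒜 0] (Iplus 𝒜 hsharp).Cotangent :=
    { toFun := l₀
      map_add' := l₀.map_add
      map_smul' := fun c t => by
        rw [RingHom.id_apply, ← coe_smul_T, l₀.map_smul]
        exact algebraMap_smul A c (l₀ t) }
  have hl' : l' ∘ₗ k' = LinearMap.id := by
    ext x
    exact hl₀ x
  refine ⟨Module.Finite.of_surjective l' ?_, Module.Projective.of_split k' l' hl'⟩
  intro x
  exact ⟨k' x, hl₀ x⟩

end Proj

theorem main (R : Type u) [CommRing R] (A : Type u)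
    [CommRing A] [Algebra R A] (N : Type) [AddCommMonoid N] [DecidableEq N] [AddMonoid.FG N]
    [IsCancelAdd N]
    (hsharp : ∀ n : N, IsAddUnit n → n = 0) (𝒜 : N → Submodule R A) [GradedAlgebra 𝒜]
    [Algebra.Smooth R A] :
    ∃ (P : Type u) (_ : AddCommGroup P) (_ : Module (𝒜 0) P), Module.Finite (𝒜 0) P ∧
      Module.Projective (𝒜 0) P ∧ Nonempty (A ≃ₐ[𝒜 0] SymmetricAlgebra (𝒜 0) P) := by
  obtain ⟨hfin, hproj⟩ := finite_projective_cotangent 𝒜 hsharp
  exact ⟨(Iplus 𝒜 hsharp).Cotangent, inferInstance, inferInstance, hfin, hproj,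
    nonempty_algEquiv 𝒜 hsharp⟩

end Groth.Agent.Lib.Helper27.GrSmooth
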