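import Mathlib
import Groth.Prelude.Def_SGA3b
import Groth.Agent.Lib.Helper27.MultRigid2

/-!
# Rigidity of homomorphisms from groups of multiplicative type over a local base (helper27)

`rigid_local`: over a local ring `R`, two coalgebra maps `φ ψ : C → A` into a Hopf algebra of
multiplicative type which agree modulo the maximal ideal, whose "characters" commute for
convolution, and such that all differences `φ c - ψ c` lie in the ideal generated by finitely many
of them, are equal.  (Idempotent content ideal + Nakayama; no Noetherian hypothesis.)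
-/

set_option autoImplicit false
universe u
open TensorProduct WithConv

namespace Groth.Agent.Lib.Helper27.MultRigidLocal

open Groth.Agent.Lib.Helper27.MultRigid

section CoeffIdeal

variable {R' : Type u} [CommRing R'] {M : Type u} [CommGroup M]

/-- elements of the group algebra all of whose coefficients lie in `J` -/
def coeffIdeal (J : Ideal R') : Ideal (MonoidAlgebra R' M) where
  carrier := {y | ∀ m, y.coeff m ∈ J}
  add_mem' := by
    intro a b ha hb m
    rw [MonoidAlgebra.coeff_add, Finsupp.add_apply]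
    exact J.add_mem (ha m) (hb m)
  zero_mem' := by
    intro m
    simp
  smul_mem' := by
    intro x y hy
    induction x using MonoidAlgebra.induction_linear with
    | zero => intro m; simp
    | add a b ha hb =>
      intro m
      rw [smul_eq_mul, add_mul, MonoidAlgebra.coeff_add, Finsupp.add_apply]
      exact J.add_mem (ha m) (hb m)
    | single p r =>
      intro m
      rw [smul_eq_mul, MonoidAlgebra.coeff_single_mul_apply]
      exact J.mul_mem_left _ (hy _)

theorem mem_coeffIdeal (J : Ideal R') (y : MonoidAlgebra R' M) :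
    y ∈ coeffIdeal J ↔ ∀ m, y.coeff m ∈ J := Iff.rfl

end CoeffIdeal

section Abstract

variable {R : Type u} [CommRing R] [IsLocalRing R]
  {R' : Type u} [CommRing R'] [Algebra R R']
  {A : Type u} [CommRing A] [HopfAlgebra R A]
  {C : Type u} [AddCommGroup C] [Module R C] [Coalgebra R C]
  {M : Type u} [CommGroup M]

theorem rigid_local_abstract
    (θ : A →ₗ[R] MonoidAlgebra R' M)
    (hmul : ∀ a b, θ (a * b) = θ a * θ b)
    (hθ : IsSemiComul (R := R) (R' := R') θ)
    (hP : ∀ (N : Submodule R A) (y : A),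
      θ y ∈ Submodule.span R' ((fun a => θ a) '' (N : Set A)) → y ∈ N)
    (φ ψ : C →ₗc[R] A)
    (hmod : ∀ c, φ c - ψ c ∈ (IsLocalRing.maximalIdeal R) • (⊤ : Submodule R A))
    (t : Finset C)
    (ht : ∀ c, φ c - ψ c ∈ Ideal.span ((fun c => φ c - ψ c) '' (t : Set C)))
    (hcomm : ∀ m, Commute (toConv (chi θ m ∘ₗ φ.toLinearMap))
      (toConv (chi θ m ∘ₗ ψ.toLinearMap)))
    (c : C) : φ c = ψ c := by
  classical
  set δ : C → A := fun c => φ c - ψ c with hδ
  let G : Finset R' :=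
    t.biUnion (fun c => (θ (δ c)).coeff.support.image (fun m => (θ (δ c)).coeff m))
  let 𝔡 : Ideal R' := Ideal.span (G : Set R')
  have h𝔡fg : 𝔡.FG := ⟨G, rfl⟩
  have hgen : ∀ c ∈ t, ∀ m, (θ (δ c)).coeff m ∈ 𝔡 := by
    intro c hc m
    by_cases hm : m ∈ (θ (δ c)).coeff.support
    · apply Ideal.subset_span
      simp only [G, Finset.coe_biUnion, Finset.coe_image, Set.mem_iUnion, Set.mem_image,
        Finset.mem_coe]
      exact ⟨c, hc, m, hm, rfl⟩
    · rw [Finsupp.notMem_support_iff.1 hm]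
      exact 𝔡.zero_mem
  -- the ideal of A of elements whose image has coefficients in 𝔡
  let J : Ideal A :=
    { carrier := {a | θ a ∈ coeffIdeal (M := M) 𝔡}
      add_mem' := by
        intro a b ha hb
        simp only [Set.mem_setOf_eq] at ha hb ⊢
        rw [map_add]; exact Ideal.add_mem _ ha hb
      zero_mem' := by
        simp only [Set.mem_setOf_eq]
        rw [map_zero]; exact Ideal.zero_mem _
      smul_mem' := by
        intro x a ha
        simp only [Set.mem_setOf_eq, smul_eq_mul] at ha ⊢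
        rw [hmul]; exact Ideal.mul_mem_left _ _ ha }
  have hJmem : ∀ a, a ∈ J ↔ θ a ∈ coeffIdeal (M := M) 𝔡 := fun a => Iff.rfl
  have hall : ∀ c m, (θ (δ c)).coeff m ∈ 𝔡 := by
    intro c m
    have h1 : Ideal.span (δ '' (t : Set C)) ≤ J := by
      rw [Ideal.span_le]
      rintro _ ⟨c₀, hc₀, rfl⟩
      exact (hJmem _).2 (fun m => hgen c₀ hc₀ m)
    exact (hJmem _).1 (h1 (ht c)) m
  -- step 2: coefficients lie in 𝔡 ^ 3
  have hcube : ∀ c m, (θ (δ c)).coeff m ∈ 𝔡 ^ 3 := by
    intro c m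
    have hee : toConv (chi θ m ∘ₗ φ.toLinearMap) * toConv (chi θ m ∘ₗ φ.toLinearMap) =
        toConv (chi θ m ∘ₗ φ.toLinearMap) := by simpa using chi_comp_orth θ hθ φ m m
    have hff : toConv (chi θ m ∘ₗ ψ.toLinearMap) * toConv (chi θ m ∘ₗ ψ.toLinearMap) =
        toConv (chi θ m ∘ₗ ψ.toLinearMap) := by simpa using chi_comp_orth θ hθ ψ m m
    have h3 := sub_pow_three_of_idem hee hff (hcomm m)
    have hd : ∀ c, (toConv (chi θ m ∘ₗ φ.toLinearMap) -
        toConv (chi θ m ∘ₗ ψ.toLinearMap)).ofConv c = (θ (δ c)).coeff m := by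
      intro c
      simp [hδ, map_sub]
    have h4 := conv_pow_mem (toConv (chi θ m ∘ₗ φ.toLinearMap) -
        toConv (chi θ m ∘ₗ ψ.toLinearMap)) 𝔡 (fun c => by rw [hd]; exact hall c m) 3 c
    rw [h3, hd] at h4
    exact h4
  have hidem : IsIdempotentElem 𝔡 := by
    apply le_antisymm
    · exact Ideal.mul_le_right
    · have h1 : 𝔡 ≤ 𝔡 ^ 3 := by
        rw [Ideal.span_le]
        intro g hg
        simp only [G, Finset.coe_biUnion, Finset.coe_image, Set.mem_iUnion, Set.mem_image,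
          Finset.mem_coe] at hg
        obtain ⟨c₀, _, m, _, rfl⟩ := hg
        exact hcube c₀ m
      have h2 : 𝔡 ^ 3 ≤ 𝔡 * 𝔡 := by
        rw [← pow_two]
        exact Ideal.pow_le_pow_right (by norm_num)
      exact h1.trans h2
  obtain ⟨e, he, h𝔡e⟩ := (Ideal.isIdempotentElem_iff_of_fg 𝔡 h𝔡fg).1 hidem
  -- step 3: 𝔡 ≤ 𝔪 R'
  have h𝔪 : 𝔡 ≤ Ideal.map (algebraMap R R') (IsLocalRing.maximalIdeal R) := by
    rw [Ideal.span_le]
    intro g hg
    simp only [G, Finset.coe_biUnion, Finset.coe_image, Set.mem_iUnion, Set.mem_image,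
      Finset.mem_coe] at hg
    obtain ⟨c₀, _, m, _, rfl⟩ := hg
    have hgenl : ∀ a ∈ (IsLocalRing.maximalIdeal R) • (⊤ : Submodule R A),
        chi θ m a ∈ Ideal.map (algebraMap R R') (IsLocalRing.maximalIdeal R) := by
      intro a ha
      refine Submodule.smul_induction_on
        (p := fun a => chi θ m a ∈ Ideal.map (algebraMap R R') (IsLocalRing.maximalIdeal R))
        ha ?_ ?_
      · intro i hi a _
        rw [map_smul, Algebra.smul_def]
        exact Ideal.mul_mem_right _ _ (Ideal.mem_map_of_mem _ hi)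
      · intro x y hx hy
        rw [map_add]; exact Ideal.add_mem _ hx hy
    exact hgenl _ (hmod c₀)
  have he𝔪 : e ∈ Ideal.map (algebraMap R R') (IsLocalRing.maximalIdeal R) := by
    apply h𝔪
    rw [h𝔡e]
    exact Ideal.mem_span_singleton_self e
  -- step 4
  let D : Submodule R A := Submodule.span R (δ '' (t : Set C))
  have hDfg : D.FG := ⟨t.image δ, by simp [D]⟩
  have heθ : ∀ c₀, e • θ (δ c₀) = θ (δ c₀) := by
    intro c₀
    rw [← MonoidAlgebra.coeff_inj]
    ext m
    rw [MonoidAlgebra.coeff_smul, Finsupp.smul_apply, smul_eq_mul]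
    have h1 : (θ (δ c₀)).coeff m ∈ 𝔡 := hall c₀ m
    rw [h𝔡e, Ideal.mem_span_singleton'] at h1
    obtain ⟨r, hr⟩ := h1
    rw [← hr, mul_comm r e, ← mul_assoc, he.eq]
  have hle : D ≤ (IsLocalRing.maximalIdeal R) • D := by
    rw [Submodule.span_le]
    rintro _ ⟨c₀, hc₀, rfl⟩
    apply hP
    rw [← heθ c₀]
    have hy : δ c₀ ∈ D := Submodule.subset_span ⟨c₀, hc₀, rfl⟩
    have key : ∀ x ∈ Ideal.map (algebraMap R R') (IsLocalRing.maximalIdeal R),
        x • θ (δ c₀) ∈ Submodule.span R'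
          ((fun a => θ a) '' (((IsLocalRing.maximalIdeal R) • D : Submodule R A) : Set A)) := by
      intro x hx
      rw [Ideal.map] at hx
      induction hx using Submodule.span_induction with
      | mem x hx =>
        obtain ⟨μ, hμ, rfl⟩ := hx
        apply Submodule.subset_span
        refine ⟨μ • δ c₀, Submodule.smul_mem_smul hμ hy, ?_⟩
        simp only
        rw [map_smul, algebraMap_smul]
      | zero => rw [zero_smul]; exact Submodule.zero_mem _
      | add x y _ _ hx hy => rw [add_smul]; exact Submodule.add_mem _ hx hy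
      | smul r x _ hx => rw [smul_eq_mul, mul_smul]; exact Submodule.smul_mem _ r hx
    exact key e he𝔪
  have hD : D = ⊥ := Submodule.eq_bot_of_le_smul_of_le_jacobson_bot _ D hDfg hle
    (IsLocalRing.maximalIdeal_le_jacobson ⊥)
  have hzero : ∀ c₀ ∈ t, δ c₀ = 0 := by
    intro c₀ hc₀
    have : δ c₀ ∈ D := Submodule.subset_span ⟨c₀, hc₀, rfl⟩
    rw [hD] at this
    exact (Submodule.mem_bot R).1 this
  have hspan : Ideal.span (δ '' (t : Set C)) = ⊥ := by
    rw [Ideal.span_eq_bot]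
    rintro _ ⟨c₀, hc₀, rfl⟩
    exact hzero c₀ hc₀
  have := ht c
  rw [hspan] at this
  exact sub_eq_zero.1 ((Submodule.mem_bot A).1 this)

end Abstract

section Assembly

variable {R : Type u} [CommRing R] [IsLocalRing R] {A : Type u} [CommRing A] [HopfAlgebra R A]
  {C : Type u} [AddCommGroup C] [Module R C] [Coalgebra R C]

theorem rigid_local_const
    (Rf : Type u) [CommRing Rf] [Algebra R Rf] [Module.FaithfullyFlat R Rf]
    (hH : SGA3b.IsMultTypeConst Rf (Rf ⊗[R] A))
    (φ ψ : C →ₗc[R] A)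
    (hmod : ∀ c, φ c - ψ c ∈ (IsLocalRing.maximalIdeal R) • (⊤ : Submodule R A))
    (t : Finset C)
    (ht : ∀ c, φ c - ψ c ∈ Ideal.span ((fun c => φ c - ψ c) '' (t : Set C)))
    (hcomm : ∀ (R' : Type u) [CommRing R'] [Algebra R R'] (g : A →ₗ[R] R'),
      (g 1 = 0 ∨ g 1 = 1) →
        Commute (toConv (g ∘ₗ φ.toLinearMap)) (toConv (g ∘ₗ ψ.toLinearMap))) (c : C) :
    φ c = ψ c := by
  obtain ⟨R', _, _, hff, M, _, ⟨e⟩⟩ := hH
  letI : Algebra R R' := ((algebraMap Rf R').comp (algebraMap R Rf)).toAlgebra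
  haveI : IsScalarTower R Rf R' := IsScalarTower.of_algebraMap_eq (fun _ => rfl)
  have hθ1 : IsSemiComul (R := R) (R' := Rf) (bcMap Rf A) := isSemiComul_bcMap
  have hθ2 : IsSemiComul (R := Rf) (R' := R') (bcMap R' (Rf ⊗[R] A)) := isSemiComul_bcMap
  have hθ3 : IsSemiComul (R := R') (R' := R')
      (e : (R' ⊗[Rf] (Rf ⊗[R] A)) →ₗc[R'] MonoidAlgebra R' M).toLinearMap :=
    isSemiComul_coalgHom _
  have h12 := IsSemiComul.comp hθ1 hθ2
  have h123 := IsSemiComul.comp h12 hθ3
  set θ : A →ₗ[R] MonoidAlgebra R' M :=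
    ((e : (R' ⊗[Rf] (Rf ⊗[R] A)) →ₗc[R'] MonoidAlgebra R' M).toLinearMap.restrictScalars R) ∘ₗ
      (((bcMap R' (Rf ⊗[R] A)).restrictScalars R) ∘ₗ (bcMap Rf A)) with hθdef
  have hθapp : ∀ a : A, θ a = e ((1 : R') ⊗ₜ[Rf] ((1 : Rf) ⊗ₜ[R] a)) := fun a => rfl
  have hθ1' : θ 1 = 1 := by
    rw [hθapp]
    have : ((1 : R') ⊗ₜ[Rf] ((1 : Rf) ⊗ₜ[R] (1 : A))) = 1 := rfl
    rw [this]
    exact map_one e
  have hmul : ∀ a b, θ (a * b) = θ a * θ b := by
    intro a b
    rw [hθapp, hθapp, hθapp, ← map_mul]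
    congr 1
    simp [Algebra.TensorProduct.tmul_mul_tmul]
  have hP : ∀ (N : Submodule R A) (y : A),
      θ y ∈ Submodule.span R' ((fun a => θ a) '' (N : Set A)) → y ∈ N := by
    intro N y hy
    let q : A →ₗ[R] A ⧸ N := N.mkQ
    let q₁ : Rf ⊗[R] A →ₗ[Rf] Rf ⊗[R] (A ⧸ N) := q.baseChange Rf
    let q₂ : R' ⊗[Rf] (Rf ⊗[R] A) →ₗ[R'] R' ⊗[Rf] (Rf ⊗[R] (A ⧸ N)) := q₁.baseChange R'
    let el : (R' ⊗[Rf] (Rf ⊗[R] A)) ≃ₗ[R'] MonoidAlgebra R' M := e.toCoalgEquiv.toLinearEquiv
    let Q : MonoidAlgebra R' M →ₗ[R'] R' ⊗[Rf] (Rf ⊗[R] (A ⧸ N)) := q₂ ∘ₗ el.symm.toLinearMap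
    have hQ : ∀ a, Q (θ a) = (1 : R') ⊗ₜ[Rf] ((1 : Rf) ⊗ₜ[R] q a) := by
      intro a
      have h1 : el.symm (θ a) = (1 : R') ⊗ₜ[Rf] ((1 : Rf) ⊗ₜ[R] a) := by
        rw [hθapp]
        exact el.symm_apply_apply _
      simp only [Q, LinearMap.comp_apply, LinearEquiv.coe_coe, h1]
      simp [q₂, q₁, LinearMap.baseChange_tmul]
    have hker : Submodule.span R' ((fun a => θ a) '' (N : Set A)) ≤ LinearMap.ker Q := by
      rw [Submodule.span_le]
      rintro _ ⟨n, hn, rfl⟩
      rw [SetLike.mem_coe, LinearMap.mem_ker, hQ]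
      have : q n = 0 := (Submodule.Quotient.mk_eq_zero N).2 hn
      rw [this, tmul_zero, tmul_zero]
    have h0 := hker hy
    rw [LinearMap.mem_ker, hQ] at h0
    have h1 : (1 : Rf) ⊗ₜ[R] q y = 0 := by
      apply Module.FaithfullyFlat.tensorProduct_mk_injective (A := Rf) (B := R')
        (Rf ⊗[R] (A ⧸ N))
      simpa using h0
    have h2 : q y = 0 := by
      apply Module.FaithfullyFlat.tensorProduct_mk_injective (A := R) (B := Rf) (A ⧸ N)
      simpa using h1
    exact (Submodule.Quotient.mk_eq_zero N).1 h2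
  refine rigid_local_abstract θ hmul h123 hP φ ψ hmod t ht ?_ c
  intro m
  apply hcomm
  by_cases hm : m = 1
  · right
    rw [chi_apply, hθ1', hm]
    simp [MonoidAlgebra.one_def]
  · left
    rw [chi_apply, hθ1']
    simp [MonoidAlgebra.one_def, hm]

/-- Rigidity over a local base. -/
theorem rigid_local (hH : SGA3b.IsMultType R A)
    (φ ψ : C →ₗc[R] A)
    (hmod : ∀ c, φ c - ψ c ∈ (IsLocalRing.maximalIdeal R) • (⊤ : Submodule R A))
    (t : Finset C)
    (ht : ∀ c, φ c - ψ c ∈ Ideal.span ((fun c => φ c - ψ c) '' (t : Set C)))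
    (hcomm : ∀ (R' : Type u) [CommRing R'] [Algebra R R'] (g : A →ₗ[R] R'),
      (g 1 = 0 ∨ g 1 = 1) →
        Commute (toConv (g ∘ₗ φ.toLinearMap)) (toConv (g ∘ₗ ψ.toLinearMap))) (c : C) :
    φ c = ψ c := by
  obtain ⟨s, hs, hs'⟩ := hH
  have hex : ∃ f ∈ s, IsUnit f := by
    by_contra hcon
    push Not at hcon
    have h1 : Ideal.span s ≤ IsLocalRing.maximalIdeal R :=
      Ideal.span_le.2 (fun f hf => (IsLocalRing.mem_maximalIdeal f).2 (hcon f hf))
    rw [hs] at h1
    exact (IsLocalRing.maximalIdeal.isMaximal R).ne_top (top_le_iff.1 h1)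
  obtain ⟨f, hf, hfu⟩ := hex
  have hff : Module.FaithfullyFlat R (Localization.Away f) := by
    have e : R ≃ₐ[R] Localization.Away f := IsLocalization.atUnits R (Submonoid.powers f) (by
      rintro x ⟨n, rfl⟩
      exact hfu.pow n)
    exact Module.FaithfullyFlat.of_linearEquiv R R e.symm.toLinearEquiv
  exact rigid_local_const (Localization.Away f) (hs' f hf) φ ψ hmod t ht hcomm c

end Assembly

section Finiteness

theorem mem_smul_top_of_mem_map {R : Type u} [CommRing R] {A : Type u} [CommRing A] [Algebra R A]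
    (I : Ideal R) (x : A) (hx : x ∈ Ideal.map (algebraMap R A) I) :
    x ∈ I • (⊤ : Submodule R A) := by
  rw [Ideal.smul_top_eq_map]
  exact hx

theorem exists_finset_of_noeth {A : Type u} [CommRing A] [IsNoetherianRing A] {C : Type u}
    (δ : C → A) : ∃ t : Finset C, ∀ c, δ c ∈ Ideal.span (δ '' (t : Set C)) := by
  classical
  have hfg : (Ideal.span (Set.range δ)).FG := IsNoetherian.noetherian _
  obtain ⟨s', hs', hspan⟩ := (Submodule.fg_span_iff_fg_span_finset_subset _).1 hfg
  have hs'' : (s' : Set A) ⊆ δ '' (Set.univ : Set C) := by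
    rw [Set.image_univ]; exact hs'
  obtain ⟨t, _, ht⟩ := Finset.subset_set_image_iff.1 hs''
  refine ⟨t, fun c => ?_⟩
  have h1 : δ c ∈ Ideal.span (Set.range δ) := Ideal.subset_span ⟨c, rfl⟩
  have h2 : Ideal.span (δ '' (t : Set C)) = Ideal.span (Set.range δ) := by
    rw [← Finset.coe_image, ht]
    exact hspan.symm
  rw [h2]
  exact h1

theorem exists_finset_of_finiteType {R : Type u} [CommRing R] {A : Type u} [CommRing A]
    [Algebra R A] {C : Type u} [CommRing C] [Algebra R C] (hC : Algebra.FiniteType R C)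
    (φ ψ : C →ₐ[R] A) :
    ∃ t : Finset C, ∀ c, φ c - ψ c ∈ Ideal.span ((fun c => φ c - ψ c) '' (t : Set C)) := by
  obtain ⟨t, ht⟩ := hC.out
  refine ⟨t, fun c => ?_⟩
  set J₀ : Ideal A := Ideal.span ((fun c => φ c - ψ c) '' (t : Set C)) with hJ₀
  have hagree : (Ideal.Quotient.mkₐ R J₀).comp φ = (Ideal.Quotient.mkₐ R J₀).comp ψ := by
    apply AlgHom.ext_of_adjoin_eq_top ht
    intro x hx
    simp only [AlgHom.comp_apply, Ideal.Quotient.mkₐ_eq_mk]
    rw [Ideal.Quotient.eq]
    exact Ideal.subset_span ⟨x, hx, rfl⟩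
  have := congrArg (fun g => g c) hagree
  simp only [AlgHom.comp_apply, Ideal.Quotient.mkₐ_eq_mk] at this
  exact Ideal.Quotient.eq.1 this

end Finiteness

end Groth.Agent.Lib.Helper27.MultRigidLocal
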