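import Mathlib
import Groth.Prelude.Def_SGA3b
import Groth.Agent.Lib.Helper16.MTField
import Groth.Agent.Lib.Helper27.AdicLiftC
import Groth.Agent.Lib.Helper27.MultRigidLocal

/-!
# Finite groups of multiplicative type over a henselian local ring: structural facts (helper27)
-/

set_option autoImplicit false
universe u
open TensorProduct WithConv SGA3b

namespace Groth.Agent.Lib.Helper27.HensMT

open Groth.Agent.Lib.Helper27.MultRigid Groth.Agent.Lib.Helper17.MultLift
  Groth.Agent.Lib.Helper17.MultBC Groth.Agent.Lib.Helper27.AdicLift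

section Local

variable {A : Type u} [CommRing A] [IsLocalRing A] {B : Type u} [CommRing B] [HopfAlgebra A B]

/-- over a local ring, multiplicative type means multiplicative type of constant type -/
theorem isMultTypeConst_of_local (h : IsMultType A B) : IsMultTypeConst A B := by
  obtain ⟨s, hs, hmt⟩ := h
  have hex : ∃ f ∈ s, IsUnit f := by
    by_contra hcon
    push Not at hcon
    have h1 : Ideal.span s ≤ IsLocalRing.maximalIdeal A :=
      Ideal.span_le.2 (fun f hf => (IsLocalRing.mem_maximalIdeal f).2 (hcon f hf))
    rw [hs] at h1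
    exact (IsLocalRing.maximalIdeal.isMaximal A).ne_top (top_le_iff.1 h1)
  obtain ⟨f, hfs, hfu⟩ := hex
  obtain ⟨R', _, _, hff, M, _, ⟨e⟩⟩ := hmt f hfs
  have hff0 : Module.FaithfullyFlat A (Localization.Away f) := by
    have e0 : A ≃ₐ[A] Localization.Away f :=
      IsLocalization.atUnits A (Submonoid.powers f) (by
        rintro x ⟨n, rfl⟩
        exact hfu.pow n)
    exact Module.FaithfullyFlat.of_linearEquiv A A e0.symm.toLinearEquiv
  letI : Algebra A R' :=
    ((algebraMap (Localization.Away f) R').comp (algebraMap A (Localization.Away f))).toAlgebra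
  haveI : IsScalarTower A (Localization.Away f) R' := IsScalarTower.of_algebraMap_eq (fun x => rfl)
  haveI : Module.FaithfullyFlat A R' := Module.FaithfullyFlat.trans A (Localization.Away f) R'
  exact ⟨R', inferInstance, inferInstance, inferInstance, M, inferInstance,
    ⟨(Groth.Agent.Lib.Helper16.MT.cancelBaseChangeBialg A (Localization.Away f) R' B).symm.trans e⟩⟩

end Local

section Split

variable {A A' B M : Type u} [CommRing A] [CommRing A'] [Algebra A A'] [CommRing B]
  [HopfAlgebra A B] [CommGroup M] [Module.FaithfullyFlat A A']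
  (e : A' ⊗[A] B ≃ₐc[A'] MonoidAlgebra A' M)

include e

theorem isCocomm_of_split : Coalgebra.IsCocomm A B := by
  refine ⟨?_⟩
  apply LinearMap.ext
  intro b
  apply Xi_thetaOf_injective e
  rw [LinearMap.comp_apply, LinearEquiv.coe_coe]
  have hsw : ∀ z : B ⊗[A] B, Xi (R := A) (R' := A') (thetaOf e) (TensorProduct.comm A B B z) =
      TensorProduct.comm A' _ _ (Xi (R := A) (R' := A') (thetaOf e) z) := by
    intro z
    induction z using TensorProduct.induction_on with
    | zero => simp
    | tmul x y => simp
    | add x y hx hy => rw [map_add, map_add, map_add, map_add, hx, hy]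
  rw [hsw, ← isSemiComul_thetaOf e b]
  exact Coalgebra.comm_comul A' _

theorem flat_of_split : Module.Flat A B := by
  haveI : Module.Free A' (MonoidAlgebra A' M) := Module.Free.of_basis (MonoidAlgebra.basis M A')
  haveI : Module.Flat A' (A' ⊗[A] B) :=
    Module.Flat.of_linearEquiv (e : A' ⊗[A] B ≃ₐ[A'] MonoidAlgebra A' M).toLinearEquiv
  exact Module.Flat.of_flat_tensorProduct A B A'

theorem finite_of_split [Nontrivial A'] [Module.Finite A B] : Finite M := by
  haveI : Module.Finite A' (MonoidAlgebra A' M) :=
    Module.Finite.equiv (e : A' ⊗[A] B ≃ₐ[A'] MonoidAlgebra A' M).toLinearEquiv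
  exact Module.Finite.finite_basis (MonoidAlgebra.basis M A')

end Split

section Fin

theorem exists_finset_of_finite {A : Type u} [CommRing A] {B : Type u} [CommRing B] [Algebra A B]
    {C : Type u} [AddCommGroup C] [Module A C] [Module.Finite A C] (φ ψ : C →ₗ[A] B) :
    ∃ t : Finset C, ∀ c, φ c - ψ c ∈ Ideal.span ((fun c => φ c - ψ c) '' (t : Set C)) := by
  obtain ⟨t, ht⟩ := (Module.Finite.fg_top : (⊤ : Submodule A C).FG)
  refine ⟨t, fun c => ?_⟩
  have hc : c ∈ Submodule.span A (t : Set C) := by rw [ht]; trivial
  induction hc using Submodule.span_induction with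
  | mem x hx => exact Ideal.subset_span ⟨x, hx, rfl⟩
  | zero => simp
  | add x y _ _ hx hy =>
    have : φ (x + y) - ψ (x + y) = (φ x - ψ x) + (φ y - ψ y) := by
      rw [map_add, map_add]; abel
    rw [this]
    exact Ideal.add_mem _ hx hy
  | smul r x _ hx =>
    have : φ (r • x) - ψ (r • x) = algebraMap A B r * (φ x - ψ x) := by
      rw [map_smul, map_smul, ← smul_sub, Algebra.smul_def]
    rw [this]
    exact Ideal.mul_mem_left _ _ hx

end Fin

end Groth.Agent.Lib.Helper27.HensMT
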