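import Mathlib
import Groth.Agent.Lib.Helper27.HensMTA

/-!
# Dual algebras and base change of functionals (helper27)
-/

set_option autoImplicit false
universe u
open TensorProduct WithConv SGA3b

namespace Groth.Agent.Lib.Helper27.HensMT

open Groth.Agent.Lib.Helper27.MultRigid Groth.Agent.Lib.Helper17.MultLift
  Groth.Agent.Lib.Helper17.MultBC Groth.Agent.Lib.Helper27.AdicLift

section BC

variable {A : Type u} [CommRing A] (K : Type u) [CommRing K] [Algebra A K]
  {B : Type u} [AddCommGroup B] [Module A B] [Coalgebra A B]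
  {C : Type u} [AddCommGroup C] [Module A C] [Coalgebra A C]

/-- base change of a functional -/
noncomputable def bcF : (B →ₗ[A] A) →ₗ[A] (K ⊗[A] B →ₗ[K] K) := Module.Dual.baseChange K

theorem bcF_tmul (f : B →ₗ[A] A) (x : K) (b : B) : bcF K f (x ⊗ₜ[A] b) = f b • x := rfl

theorem bcF_one_tmul (f : B →ₗ[A] A) (b : B) :
    bcF K f ((1 : K) ⊗ₜ[A] b) = algebraMap A K (f b) := by
  rw [bcF_tmul, Algebra.algebraMap_eq_smul_one]

variable {K}

/-- convolution of `K`-functionals pulled back along a semi-comultiplicative map -/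
theorem conv_comp_semi {D : Type u} [AddCommGroup D] [Module K D] [Module A D]
    [IsScalarTower A K D] [Coalgebra K D]
    (ϑ : C →ₗ[A] D) (hϑ : IsSemiComul (R := A) (R' := K) ϑ) (g₁ g₂ : WithConv (D →ₗ[K] K)) :
    toConv (((g₁ * g₂).ofConv.restrictScalars A) ∘ₗ ϑ) =
      toConv ((g₁.ofConv.restrictScalars A) ∘ₗ ϑ) * toConv ((g₂.ofConv.restrictScalars A) ∘ₗ ϑ) := by
  apply WithConv.ofConv_injective
  ext c
  have h1 : (toConv ((g₁.ofConv.restrictScalars A) ∘ₗ ϑ) *
      toConv ((g₂.ofConv.restrictScalars A) ∘ₗ ϑ)).ofConv c =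
      LinearMap.mul' A K (TensorProduct.map ((g₁.ofConv.restrictScalars A) ∘ₗ ϑ)
        ((g₂.ofConv.restrictScalars A) ∘ₗ ϑ) (Coalgebra.comul (R := A) c)) := rfl
  have h2 : (toConv (((g₁ * g₂).ofConv.restrictScalars A) ∘ₗ ϑ)).ofConv c =
      LinearMap.mul' K K (TensorProduct.map g₁.ofConv g₂.ofConv
        (Coalgebra.comul (R := K) (ϑ c))) := rfl
  rw [h1, h2, hϑ c]
  generalize Coalgebra.comul (R := A) c = z
  induction z using TensorProduct.induction_on with
  | zero => simp
  | tmul x y => simp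
  | add x y hx hy => rw [map_add, map_add, map_add, map_add, map_add, hx, hy]

variable (K)

theorem bcF_comp_bcMap (f : B →ₗ[A] A) :
    ((bcF K f).restrictScalars A) ∘ₗ bcMap K B = (Algebra.ofId A K).toLinearMap ∘ₗ f := by
  ext b
  show bcF K f ((1 : K) ⊗ₜ[A] b) = algebraMap A K (f b)
  exact bcF_one_tmul K f b

theorem bcF_mul (f g : WithConv (B →ₗ[A] A)) :
    toConv (bcF K (f * g).ofConv) = toConv (bcF K f.ofConv) * toConv (bcF K g.ofConv) := by
  apply WithConv.ofConv_injective
  apply TensorProduct.AlgebraTensorModule.ext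
  intro x b
  have hx : x ⊗ₜ[A] b = x • ((1 : K) ⊗ₜ[A] b) := by
    rw [TensorProduct.smul_tmul', smul_eq_mul, mul_one]
  rw [hx, map_smul, map_smul]
  congr 1
  have hX := conv_comp_semi (K := K) (bcMap K B) isSemiComul_bcMap (toConv (bcF K f.ofConv))
    (toConv (bcF K g.ofConv))
  have h1 := congrArg (fun h => h.ofConv b) hX
  simp only [ofConv_toConv] at h1
  rw [bcF_comp_bcMap, bcF_comp_bcMap, ← LinearMap.algHom_comp_convMul_distrib] at h1
  rw [ofConv_toConv, bcF_one_tmul]
  exact h1.symm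

theorem bcF_one : toConv (bcF K (1 : WithConv (B →ₗ[A] A)).ofConv) = 1 := by
  apply WithConv.ofConv_injective
  apply TensorProduct.AlgebraTensorModule.ext
  intro x b
  rw [ofConv_toConv, bcF_tmul]
  show algebraMap A A (Coalgebra.counit (R := A) b) • x =
    algebraMap K K (Coalgebra.counit (R := K) (x ⊗ₜ[A] b))
  rw [TensorProduct.counit_tmul]
  simp

/-- base change of functionals as an algebra map between the dual algebras -/
noncomputable def betaHom : WithConv (B →ₗ[A] A) →ₐ[A] WithConv (K ⊗[A] B →ₗ[K] K) :=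
  AlgHom.ofLinearMap
    ((WithConv.linearEquiv A (K ⊗[A] B →ₗ[K] K)).symm.toLinearMap ∘ₗ bcF K ∘ₗ
      (WithConv.linearEquiv A (B →ₗ[A] A)).toLinearMap)
    (bcF_one K) (fun f g => bcF_mul K f g)

theorem betaHom_apply (f : WithConv (B →ₗ[A] A)) : (betaHom K f).ofConv = bcF K f.ofConv := rfl

end BC

section EvGL

variable {K : Type u} [CommRing K] {D : Type u} [AddCommGroup D] [Module K D] [Coalgebra K D]

/-- evaluation at a group-like element is an algebra map on the dual algebra -/
noncomputable def evGL (x : D) (hx : IsGroupLikeElem K x) : WithConv (D →ₗ[K] K) →ₐ[K] K :=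
  AlgHom.ofLinearMap
    ((LinearMap.applyₗ x) ∘ₗ (WithConv.linearEquiv K (D →ₗ[K] K)).toLinearMap)
    (by
      show algebraMap K K (Coalgebra.counit (R := K) x) = 1
      rw [hx.counit_eq_one]
      simp)
    (fun f g => by
      show LinearMap.mul' K K (TensorProduct.map f.ofConv g.ofConv (Coalgebra.comul (R := K) x)) =
        f.ofConv x * g.ofConv x
      rw [hx.comul_eq_tmul_self]
      simp)

theorem evGL_apply (x : D) (hx : IsGroupLikeElem K x) (f : WithConv (D →ₗ[K] K)) :
    evGL x hx f = f.ofConv x := rfl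

end EvGL

section Sigma

variable {A : Type u} [CommRing A] (K : Type u) [CommRing K] [Algebra A K]
  {B : Type u} [AddCommGroup B] [Module A B] [Coalgebra A B]
  {C : Type u} [AddCommGroup C] [Module A C] [Coalgebra A C]

/-- the algebra map between dual algebras induced by a semi-coalgebra map `C → K ⊗ B` -/
noncomputable def sigmaHom (ϑ : C →ₗ[A] K ⊗[A] B) (hϑ : IsSemiComul (R := A) (R' := K) ϑ)
    (hc : ∀ c, Coalgebra.counit (R := K) (ϑ c) = algebraMap A K (Coalgebra.counit (R := A) c)) :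
    WithConv (B →ₗ[A] A) →ₐ[A] WithConv (C →ₗ[A] K) :=
  AlgHom.ofLinearMap
    ((WithConv.linearEquiv A (C →ₗ[A] K)).symm.toLinearMap ∘ₗ
      (LinearMap.lcomp A K ϑ) ∘ₗ
      ({ toFun := fun g => g.restrictScalars A
         map_add' := fun _ _ => rfl
         map_smul' := fun _ _ => rfl } : (K ⊗[A] B →ₗ[K] K) →ₗ[A] (K ⊗[A] B →ₗ[A] K)) ∘ₗ
      bcF K ∘ₗ (WithConv.linearEquiv A (B →ₗ[A] A)).toLinearMap)
    (by
      apply WithConv.ofConv_injective
      ext c
      show bcF K (1 : WithConv (B →ₗ[A] A)).ofConv (ϑ c) = algebraMap A K (Coalgebra.counit (R := A) c)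
      have h := congrArg (fun g => g.ofConv (ϑ c)) (bcF_one (A := A) (B := B) K)
      simp only [ofConv_toConv] at h
      rw [h]
      show algebraMap K K (Coalgebra.counit (R := K) (ϑ c)) = _
      rw [hc]
      rfl)
    (fun f g => by
      show toConv ((bcF K (f * g).ofConv).restrictScalars A ∘ₗ ϑ) =
        toConv ((bcF K f.ofConv).restrictScalars A ∘ₗ ϑ) *
          toConv ((bcF K g.ofConv).restrictScalars A ∘ₗ ϑ)
      have h := bcF_mul K f g
      have h2 := conv_comp_semi ϑ hϑ (toConv (bcF K f.ofConv)) (toConv (bcF K g.ofConv))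
      rw [← h] at h2
      exact h2)

theorem sigmaHom_apply (ϑ : C →ₗ[A] K ⊗[A] B) (hϑ : IsSemiComul (R := A) (R' := K) ϑ)
    (hc : ∀ c, Coalgebra.counit (R := K) (ϑ c) = algebraMap A K (Coalgebra.counit (R := A) c))
    (f : WithConv (B →ₗ[A] A)) (c : C) :
    (sigmaHom K ϑ hϑ hc f).ofConv c = bcF K f.ofConv (ϑ c) := rfl

/-- reduction of functionals: `D A C → Hom_A(C, K)` -/
noncomputable def piHom : WithConv (C →ₗ[A] A) →ₐ[A] WithConv (C →ₗ[A] K) :=
  AlgHom.ofLinearMap
    ((WithConv.linearEquiv A (C →ₗ[A] K)).symm.toLinearMap ∘ₗ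
      (LinearMap.compRight A (Algebra.ofId A K).toLinearMap) ∘ₗ
      (WithConv.linearEquiv A (C →ₗ[A] A)).toLinearMap)
    (by
      apply WithConv.ofConv_injective
      ext c
      show algebraMap A K (algebraMap A A (Coalgebra.counit (R := A) c)) =
        algebraMap A K (Coalgebra.counit (R := A) c)
      rfl)
    (fun f g => by
      apply WithConv.ofConv_injective
      exact LinearMap.algHom_comp_convMul_distrib (Algebra.ofId A K) f g)

theorem piHom_apply (f : WithConv (C →ₗ[A] A)) (c : C) :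
    (piHom (A := A) (C := C) K f).ofConv c = algebraMap A K (f.ofConv c) := rfl

end Sigma

end Groth.Agent.Lib.Helper27.HensMT
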