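import Mathlib
import Groth.Agent.Lib.Helper27.HensMTB

/-!
# The dual algebra of a finite group of multiplicative type is étale (helper27)
-/

set_option autoImplicit false
universe u
open TensorProduct WithConv SGA3b

namespace Groth.Agent.Lib.Helper27.HensMT

open Groth.Agent.Lib.Helper27.MultRigid Groth.Agent.Lib.Helper17.MultLift
  Groth.Agent.Lib.Helper17.MultBC Groth.Agent.Lib.Helper27.AdicLift

section Etale

variable {A : Type u} [CommRing A] {A' : Type u} [CommRing A'] [Algebra A A']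
  {B : Type u} [CommRing B] [HopfAlgebra A B]
  {M : Type u} [CommGroup M]
  (e : A' ⊗[A] B ≃ₐc[A'] MonoidAlgebra A' M)

/-- the group-like element of `A' ⊗ B` attached to `m` -/
noncomputable def gl (m : M) : A' ⊗[A] B := e.symm (MonoidAlgebra.single m (1 : A'))

theorem gl_isGroupLike (m : M) : IsGroupLikeElem A' (gl e m) :=
  (MonoidAlgebra.isGroupLikeElem_single_one (R := A') (A := A') m).map e.symm

noncomputable def psiLin : WithConv (B →ₗ[A] A) →ₗ[A] (M → A') :=
  LinearMap.pi (fun m =>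
    ({ toFun := fun g => g (gl e m)
       map_add' := fun _ _ => rfl
       map_smul' := fun _ _ => rfl } : (A' ⊗[A] B →ₗ[A'] A') →ₗ[A] A') ∘ₗ bcF A' ∘ₗ
      (WithConv.linearEquiv A (B →ₗ[A] A)).toLinearMap)

theorem psiLin_apply (f : WithConv (B →ₗ[A] A)) (m : M) :
    psiLin e f m = bcF A' f.ofConv (gl e m) := rfl

noncomputable def psiHom : WithConv (B →ₗ[A] A) →ₐ[A] (M → A') :=
  AlgHom.ofLinearMap (psiLin e)
    (by
      funext m
      rw [psiLin_apply]
      have h := congrArg (fun g => g.ofConv (gl e m)) (bcF_one (A := A) (B := B) A')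
      simp only [ofConv_toConv] at h
      rw [h]
      show algebraMap A' A' (Coalgebra.counit (R := A') (gl e m)) = 1
      rw [(gl_isGroupLike e m).counit_eq_one]
      simp)
    (fun f g => by
      funext m
      rw [psiLin_apply]
      have h := congrArg (fun g => g.ofConv (gl e m)) (bcF_mul A' f g)
      simp only [ofConv_toConv] at h
      rw [h]
      exact map_mul (evGL (gl e m) (gl_isGroupLike e m)) _ _)

theorem psiHom_apply (f : WithConv (B →ₗ[A] A)) (m : M) :
    psiHom e f m = bcF A' f.ofConv (gl e m) := rfl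

noncomputable def PsiHom : A' ⊗[A] WithConv (B →ₗ[A] A) →ₐ[A'] (M → A') :=
  Algebra.TensorProduct.lift (Algebra.ofId A' (M → A')) (psiHom e) (fun _ _ => Commute.all _ _)

theorem PsiHom_tmul (a : A') (f : WithConv (B →ₗ[A] A)) (m : M) :
    PsiHom e (a ⊗ₜ[A] f) m = a * bcF A' f.ofConv (gl e m) := by
  rw [PsiHom, Algebra.TensorProduct.lift_tmul, Pi.mul_apply, psiHom_apply]
  rfl

variable [Module.Finite A B] [Module.Free A B]

theorem toDualBaseChange_eq (a : A') (g : B →ₗ[A] A) :
    (TensorProduct.isBaseChange A B A').toDualBaseChange (a ⊗ₜ[A] g) = a • bcF A' g := by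
  apply (TensorProduct.isBaseChange A B A').algHom_ext
  intro v
  rw [IsBaseChange.toDualBaseChange_tmul, LinearMap.smul_apply]
  show _ = a • bcF A' g ((1 : A') ⊗ₜ[A] v)
  rw [bcF_one_tmul, smul_eq_mul]

noncomputable def LEquiv : A' ⊗[A] WithConv (B →ₗ[A] A) ≃ₗ[A'] (M → A') :=
  (TensorProduct.AlgebraTensorModule.congr (LinearEquiv.refl A' A')
      (WithConv.linearEquiv A (B →ₗ[A] A))) ≪≫ₗ
    (TensorProduct.isBaseChange A B A').toDualBaseChange ≪≫ₗ
    ((e.symm : MonoidAlgebra A' M ≃ₐ[A'] A' ⊗[A] B).toLinearEquiv.dualMap) ≪≫ₗ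
    ((MonoidAlgebra.basis M A').constr A').symm

theorem LEquiv_tmul (a : A') (f : WithConv (B →ₗ[A] A)) (m : M) :
    LEquiv e (a ⊗ₜ[A] f) m = a * bcF A' f.ofConv (gl e m) := by
  have h1 : LEquiv e (a ⊗ₜ[A] f) m =
      (TensorProduct.isBaseChange A B A').toDualBaseChange (a ⊗ₜ[A] f.ofConv) (gl e m) := rfl
  rw [h1, toDualBaseChange_eq, LinearMap.smul_apply, smul_eq_mul]

theorem PsiHom_eq_LEquiv (z : A' ⊗[A] WithConv (B →ₗ[A] A)) : PsiHom e z = LEquiv e z := by
  induction z using TensorProduct.induction_on with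
  | zero => rw [map_zero, map_zero]
  | tmul a f =>
    funext m
    rw [PsiHom_tmul, LEquiv_tmul]
  | add x y hx hy => rw [map_add, map_add, hx, hy]

theorem PsiHom_bijective : Function.Bijective (PsiHom e) := by
  have h : ⇑(PsiHom e) = ⇑(LEquiv e) := funext (PsiHom_eq_LEquiv e)
  rw [h]
  exact (LEquiv e).bijective

include e in
theorem etale_dual [Coalgebra.IsCocomm A B] [Module.FaithfullyFlat A A'] [Finite M] :
    Algebra.Etale A (WithConv (B →ₗ[A] A)) := by
  let Ψ : A' ⊗[A] WithConv (B →ₗ[A] A) ≃ₐ[A'] (M → A') :=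
    AlgEquiv.ofBijective (PsiHom e) (PsiHom_bijective e)
  haveI : Algebra.Etale A' (M → A') := inferInstance
  haveI : Algebra.Etale A' (A' ⊗[A] WithConv (B →ₗ[A] A)) := Algebra.Etale.of_equiv Ψ.symm
  exact Algebra.Etale.of_etale_tensorProduct_of_faithfullyFlat A'

end Etale

end Groth.Agent.Lib.Helper27.HensMT
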