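import Mathlib
import Groth.Agent.Lib.Helper27.HensMTC
import Groth.Agent.Lib.Helper37.HenselHom

/-!
# Finite groups of multiplicative type over a henselian local ring: lifting homomorphisms
(helper27)
-/

set_option autoImplicit false
universe u
open TensorProduct WithConv SGA3b

namespace Groth.Agent.Lib.Helper27.HensMT

open Groth.Agent.Lib.Helper27.MultRigid Groth.Agent.Lib.Helper17.MultLift
  Groth.Agent.Lib.Helper17.MultBC Groth.Agent.Lib.Helper27.AdicLift

section Pi

variable {A : Type u} [CommRing A] (K : Type u) [CommRing K] [Algebra A K]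
  {C : Type u} [CommRing C] [HopfAlgebra A C] [Module.Finite A C] [Module.Free A C]

theorem piHom_surjective (hsurj : Function.Surjective (algebraMap A K)) :
    Function.Surjective (piHom (A := A) (C := C) K) := by
  intro g
  obtain ⟨f, hf⟩ := Module.projective_lifting_property (Algebra.ofId A K).toLinearMap g.ofConv hsurj
  refine ⟨toConv f, ?_⟩
  apply WithConv.ofConv_injective
  exact hf

theorem ker_piHom_le [Coalgebra.IsCocomm A C] :
    RingHom.ker (piHom (A := A) (C := C) K) ≤
      Ideal.map (algebraMap A (WithConv (C →ₗ[A] A))) (RingHom.ker (algebraMap A K)) := by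
  intro f hf
  classical
  let b := Module.Free.chooseBasis A C
  have hval : ∀ c, f.ofConv c ∈ RingHom.ker (algebraMap A K) := by
    intro c
    rw [RingHom.mem_ker]
    have h := congrArg (fun g => g.ofConv c) ((RingHom.mem_ker).1 hf)
    exact h
  have hdecomp : f = ∑ i, f.ofConv (b i) • toConv (b.coord i) := by
    apply WithConv.ofConv_injective
    rw [WithConv.ofConv_sum]
    simp only [WithConv.ofConv_smul, ofConv_toConv]
    exact (b.sum_dual_apply_smul_coord f.ofConv).symm
  rw [hdecomp]
  refine Ideal.sum_mem _ (fun i _ => ?_)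
  rw [Algebra.smul_def]
  exact Ideal.mul_mem_right _ _ (Ideal.mem_map_of_mem _ (hval (b i)))

end Pi

section Theta

variable {A : Type u} [CommRing A] [IsLocalRing A] [HenselianRing A (IsLocalRing.maximalIdeal A)]
  (K : Type u) [CommRing K] [Algebra A K]
  {B : Type u} [CommRing B] [HopfAlgebra A B] [Coalgebra.IsCocomm A B]
  {C : Type u} [CommRing C] [HopfAlgebra A C] [Module.Finite A C] [Module.Free A C]
  [Coalgebra.IsCocomm A C]

theorem exists_theta [Algebra.Etale A (WithConv (B →ₗ[A] A))]
    (hsurj : Function.Surjective (algebraMap A K))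
    (hker : RingHom.ker (algebraMap A K) = IsLocalRing.maximalIdeal A)
    (σ : WithConv (B →ₗ[A] A) →ₐ[A] WithConv (C →ₗ[A] K)) :
    ∃ θ : WithConv (B →ₗ[A] A) →ₐ[A] WithConv (C →ₗ[A] A), ∀ f, piHom K (θ f) = σ f := by
  haveI : Module.Finite A (WithConv (C →ₗ[A] A)) :=
    Module.Finite.equiv (WithConv.linearEquiv A (C →ₗ[A] A)).symm
  haveI : Algebra.IsIntegral A (WithConv (C →ₗ[A] A)) :=
    Algebra.IsIntegral.of_finite A (WithConv (C →ₗ[A] A))
  have hkerπ : RingHom.ker (piHom (A := A) (C := C) K) =
      Ideal.map (algebraMap A (WithConv (C →ₗ[A] A))) (IsLocalRing.maximalIdeal A) := by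
    apply le_antisymm
    · rw [← hker]
      exact ker_piHom_le K
    · rw [Ideal.map_le_iff_le_comap]
      intro r hr
      rw [Ideal.mem_comap, RingHom.mem_ker, AlgHom.commutes]
      rw [← hker, RingHom.mem_ker] at hr
      apply WithConv.ofConv_injective
      ext c
      show r • algebraMap A K (Coalgebra.counit (R := A) c) = 0
      rw [Algebra.smul_def, hr, zero_mul]
  let π' : (WithConv (C →ₗ[A] A) ⧸
      Ideal.map (algebraMap A (WithConv (C →ₗ[A] A))) (IsLocalRing.maximalIdeal A)) ≃ₐ[A]
        WithConv (C →ₗ[A] K) :=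
    (Ideal.quotientEquivAlgOfEq A hkerπ.symm).trans
      (Ideal.quotientKerAlgEquivOfSurjective (piHom_surjective K hsurj))
  have hπ' : ∀ x : WithConv (C →ₗ[A] A), π' (Ideal.Quotient.mk _ x) = piHom K x := fun x => rfl
  obtain ⟨θ, hθ⟩ := (Groth.Agent.Lib.Helper37.algHom_comp_mk_bijective (IsLocalRing.maximalIdeal A)
    (WithConv (C →ₗ[A] A)) (WithConv (B →ₗ[A] A))).2 (π'.symm.toAlgHom.comp σ)
  refine ⟨θ, fun f => ?_⟩
  have h1 := congrArg (fun g => g f) hθ
  simp only [AlgHom.comp_apply, Ideal.Quotient.mkₐ_eq_mk] at h1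
  rw [← hπ', h1]
  exact π'.apply_symm_apply _

end Theta

section Trans

variable {A : Type u} [CommRing A]
  {B : Type u} [AddCommGroup B] [Module A B] [Module.Finite A B] [Module.Free A B]
  {C : Type u} [AddCommGroup C] [Module A C]

/-- transpose of a linear map between duals, for a finite free target -/
noncomputable def transLin (θ : WithConv (B →ₗ[A] A) →ₗ[A] WithConv (C →ₗ[A] A)) : C →ₗ[A] B :=
  ∑ i, (LinearMap.toSpanSingleton A B (Module.Free.chooseBasis A B i)) ∘ₗ
    (θ (toConv ((Module.Free.chooseBasis A B).coord i))).ofConv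

theorem apply_transLin (θ : WithConv (B →ₗ[A] A) →ₗ[A] WithConv (C →ₗ[A] A)) (f : B →ₗ[A] A)
    (c : C) : f (transLin θ c) = (θ (toConv f)).ofConv c := by
  classical
  set b := Module.Free.chooseBasis A B with hb
  have h1 : transLin θ c = ∑ i, (θ (toConv (b.coord i))).ofConv c • b i := by
    simp [transLin, LinearMap.sum_apply, LinearMap.toSpanSingleton_apply, hb]
  have h2 : toConv f = ∑ i, f (b i) • toConv (b.coord i) := by
    apply WithConv.ofConv_injective
    rw [WithConv.ofConv_sum]
    simp only [WithConv.ofConv_smul, ofConv_toConv]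
    exact (b.sum_dual_apply_smul_coord f).symm
  rw [h1, map_sum, h2, map_sum, WithConv.ofConv_sum, LinearMap.sum_apply]
  refine Finset.sum_congr rfl (fun i _ => ?_)
  rw [map_smul, map_smul, WithConv.ofConv_smul, LinearMap.smul_apply, smul_eq_mul, smul_eq_mul,
    mul_comm]

variable (K : Type u) [CommRing K] [Algebra A K]

theorem eq_zero_of_bcF (y : K ⊗[A] B) (h : ∀ f : B →ₗ[A] A, Module.Dual.baseChange K f y = 0) :
    y = 0 := by
  classical
  set b := Module.Free.chooseBasis A B
  have hrep : ∀ i, ((b.baseChange K).repr y) i = Module.Dual.baseChange K (b.coord i) y := by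
    intro i
    have : (Finsupp.lapply i : _ →ₗ[K] K) ∘ₗ ((b.baseChange K).repr : K ⊗[A] B →ₗ[K] _) =
        Module.Dual.baseChange K (b.coord i) := by
      apply TensorProduct.AlgebraTensorModule.ext
      intro x v
      simp [Module.Basis.baseChange_repr_tmul]
    exact LinearMap.congr_fun this y
  apply (b.baseChange K).repr.injective
  ext i
  rw [hrep, h, map_zero, Finsupp.zero_apply]

theorem eq_zero_of_dual_tmul (t : B ⊗[A] B)
    (h : ∀ f g : B →ₗ[A] A, LinearMap.mul' A A (TensorProduct.map f g t) = 0) : t = 0 := by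
  classical
  let b := Module.Free.chooseBasis A B
  have key : ∀ i j, (Finsupp.lapply (i, j) : _ →ₗ[A] A) ∘ₗ
      ((b.tensorProduct b).repr : B ⊗[A] B →ₗ[A] _) =
      LinearMap.mul' A A ∘ₗ TensorProduct.map (b.coord i) (b.coord j) := by
    intro i j
    apply TensorProduct.ext'
    intro x y
    simp [Module.Basis.tensorProduct_repr_tmul_apply, mul_comm]
  apply (b.tensorProduct b).repr.injective
  ext ⟨i, j⟩
  have h1 := LinearMap.congr_fun (key i j) t
  simp only [LinearMap.coe_comp, LinearEquiv.coe_coe, Function.comp_apply,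
    Finsupp.lapply_apply] at h1
  rw [h1, h, map_zero, Finsupp.zero_apply]

end Trans

end Groth.Agent.Lib.Helper27.HensMT
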