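import Mathlib
import Groth.Agent.Lib.Helper27.HensMTD

/-!
# Finite groups of multiplicative type over a henselian local ring: reduction to the closed
fibre is bijective on homomorphisms (helper27)
-/

set_option autoImplicit false
universe u
open TensorProduct WithConv SGA3b

namespace Groth.Agent.Lib.Helper27.HensMT

open Groth.Agent.Lib.Helper27.MultRigid Groth.Agent.Lib.Helper17.MultLift
  Groth.Agent.Lib.Helper17.MultBC Groth.Agent.Lib.Helper27.AdicLift

section Main

variable {A : Type u} [CommRing A] [IsLocalRing A] [HenselianRing A (IsLocalRing.maximalIdeal A)]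
  (K : Type u) [CommRing K] [Algebra A K]
  {B : Type u} [CommRing B] [HopfAlgebra A B] [Module.Finite A B]
  {C : Type u} [CommRing C] [HopfAlgebra A C] [Module.Finite A C]

theorem exists_bialgHom (hsurj : Function.Surjective (algebraMap A K))
    (hker : RingHom.ker (algebraMap A K) = IsLocalRing.maximalIdeal A)
    (hB : IsMultType A B) (hC : IsMultType A C)
    (φ₀ : (K ⊗[A] C) →ₐc[K] (K ⊗[A] B)) :
    ∃ φ : C →ₐc[A] B, ∀ c : C, φ₀ ((1 : K) ⊗ₜ[A] c) = (1 : K) ⊗ₜ[A] φ c := by
  classical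
  obtain ⟨A', _, _, hff, M, _, ⟨e⟩⟩ := isMultTypeConst_of_local hB
  obtain ⟨A'', _, _, hff', N, _, ⟨e'⟩⟩ := isMultTypeConst_of_local hC
  haveI := hff
  haveI := hff'
  haveI : Coalgebra.IsCocomm A B := isCocomm_of_split e
  haveI : Coalgebra.IsCocomm A C := isCocomm_of_split e'
  haveI : Module.Flat A B := flat_of_split e
  haveI : Module.Flat A C := flat_of_split e'
  haveI : Module.Free A B := Module.free_of_flat_of_isLocalRing
  haveI : Module.Free A C := Module.free_of_flat_of_isLocalRing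
  haveI : Nontrivial A' := Groth.Agent.Lib.Helper16.MT.nontrivial_of_faithfullyFlat hff
  haveI : Finite M := finite_of_split e
  haveI : Algebra.Etale A (WithConv (B →ₗ[A] A)) := etale_dual e
  -- the semi-coalgebra map
  set ϑ : C →ₗ[A] K ⊗[A] B :=
    ((φ₀ : (K ⊗[A] C) →ₗc[K] (K ⊗[A] B)).toLinearMap.restrictScalars A) ∘ₗ bcMap K C with hϑdef
  have hϑapp : ∀ c, ϑ c = φ₀ ((1 : K) ⊗ₜ[A] c) := fun c => rfl
  have hϑ : IsSemiComul (R := A) (R' := K) ϑ :=
    IsSemiComul.comp isSemiComul_bcMap (isSemiComul_coalgHom _)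
  have hϑc : ∀ c, Coalgebra.counit (R := K) (ϑ c) =
      algebraMap A K (Coalgebra.counit (R := A) c) := by
    intro c
    rw [hϑapp, CoalgHomClass.counit_comp_apply, TensorProduct.counit_tmul]
    simp [Algebra.algebraMap_eq_smul_one]
  obtain ⟨θ, hθ⟩ := exists_theta K hsurj hker (sigmaHom K ϑ hϑ hϑc)
  have hstar : ∀ (f : B →ₗ[A] A) (c : C),
      algebraMap A K ((θ (toConv f)).ofConv c) = Module.Dual.baseChange K f (ϑ c) := by
    intro f c
    have h := congrArg (fun g => g.ofConv c) (hθ (toConv f))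
    exact h
  set φl : C →ₗ[A] B := transLin θ.toLinearMap with hφl
  have hT : ∀ (f : B →ₗ[A] A) (c : C), f (φl c) = (θ (toConv f)).ofConv c :=
    fun f c => apply_transLin θ.toLinearMap f c
  -- reduction
  have hred : ∀ c, (1 : K) ⊗ₜ[A] φl c = ϑ c := by
    intro c
    rw [← sub_eq_zero]
    apply eq_zero_of_bcF K
    intro f
    have h1 : Module.Dual.baseChange K f ((1 : K) ⊗ₜ[A] φl c) = algebraMap A K (f (φl c)) :=
      bcF_one_tmul K f (φl c)
    rw [map_sub, h1, hT, hstar, sub_self]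
  -- counit
  have hcounit : ∀ c, Coalgebra.counit (R := A) (φl c) = Coalgebra.counit (R := A) c := by
    intro c
    have h1 := hT (Coalgebra.counit (R := A) (A := B)) c
    have h2 : toConv (Coalgebra.counit (R := A) (A := B)) = (1 : WithConv (B →ₗ[A] A)) := by
      apply WithConv.ofConv_injective
      ext b
      rfl
    rw [h2, map_one] at h1
    rw [h1]
    rfl
  -- comultiplication
  have h4 : ∀ f : B →ₗ[A] A, (θ (toConv f)).ofConv = f ∘ₗ φl := by
    intro f
    ext c
    exact (hT f c).symm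
  have hcomul : ∀ c, Coalgebra.comul (R := A) (φl c) =
      TensorProduct.map φl φl (Coalgebra.comul (R := A) c) := by
    intro c
    rw [← sub_eq_zero]
    apply eq_zero_of_dual_tmul
    intro f g
    rw [map_sub, map_sub, sub_eq_zero]
    have h1 : LinearMap.mul' A A (TensorProduct.map f g (Coalgebra.comul (R := A) (φl c))) =
        (toConv f * toConv g).ofConv (φl c) := rfl
    have h2 := hT (toConv f * toConv g).ofConv c
    rw [toConv_ofConv, map_mul] at h2
    have h3 : (θ (toConv f) * θ (toConv g)).ofConv c =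
        LinearMap.mul' A A (TensorProduct.map (θ (toConv f)).ofConv (θ (toConv g)).ofConv
          (Coalgebra.comul (R := A) c)) := rfl
    rw [h1, h2, h3, h4 f, h4 g, TensorProduct.map_comp, LinearMap.comp_apply]
  let φc : C →ₗc[A] B :=
    { toLinearMap := φl
      counit_comp := LinearMap.ext hcounit
      map_comp_comul := LinearMap.ext (fun c => (hcomul c).symm) }
  have hφc : ∀ c, φc c = φl c := fun c => rfl
  -- multiplicativity by rigidity
  set φ1 : C ⊗[A] C →ₗc[A] B := φc.comp (Bialgebra.mulCoalgHom A C) with hφ1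
  set φ2 : C ⊗[A] C →ₗc[A] B :=
    (Bialgebra.mulCoalgHom A B).comp (Coalgebra.TensorProduct.map φc φc) with hφ2
  have h1app : ∀ c c', φ1 (c ⊗ₜ[A] c') = φl (c * c') := fun _ _ => rfl
  have h2app : ∀ c c', φ2 (c ⊗ₜ[A] c') = φl c * φl c' := fun _ _ => rfl
  have hmodK : ∀ z, (1 : K) ⊗ₜ[A] (φ1 z - φ2 z) = 0 := by
    intro z
    induction z using TensorProduct.induction_on with
    | zero => simp
    | tmul c c' =>
      rw [h1app, h2app, TensorProduct.tmul_sub, sub_eq_zero, hred, hϑapp]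
      have h5 : (1 : K) ⊗ₜ[A] (φl c * φl c') =
          ((1 : K) ⊗ₜ[A] φl c) * ((1 : K) ⊗ₜ[A] φl c') := by
        rw [Algebra.TensorProduct.tmul_mul_tmul, one_mul]
      rw [h5, hred, hred, hϑapp, hϑapp, ← map_mul, Algebra.TensorProduct.tmul_mul_tmul, one_mul]
    | add x y hx hy =>
      rw [map_add, map_add, add_sub_add_comm, TensorProduct.tmul_add, hx, hy, add_zero]
  have hmod : ∀ z, φ1 z - φ2 z ∈ IsLocalRing.maximalIdeal A • (⊤ : Submodule A B) := by
    intro z
    have h := mem_smul_top_of_one_tmul_eq_zero hsurj (hmodK z)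
    rw [hker] at h
    exact h
  obtain ⟨t, ht⟩ := exists_finset_of_finite φ1.toLinearMap φ2.toLinearMap
  have ht' : ∀ z, φ1 z - φ2 z ∈ Ideal.span ((fun z => φ1 z - φ2 z) '' (t : Set (C ⊗[A] C))) := ht
  have hmul : ∀ z, φ1 z = φ2 z := fun z =>
    Groth.Agent.Lib.Helper27.MultRigidLocal.rigid_local hB φ1 φ2 hmod t ht'
      (fun R' _ _ g _ => Commute.all _ _) z
  have hmul' : ∀ c c', φl (c * c') = φl c * φl c' := fun c c' => by
    have h := hmul (c ⊗ₜ[A] c')
    rwa [h1app, h2app] at h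
  have hgl : IsGroupLikeElem A (φl 1) := (IsGroupLikeElem.one (R := A) (A := C)).map φc
  have hone : φl 1 = 1 := by
    have h := hmul' 1 1
    rw [one_mul] at h
    exact hgl.isUnit.mul_left_cancel (by rw [mul_one]; exact h.symm)
  let φ : C →ₐc[A] B :=
    { φc with
      map_one' := hone
      map_mul' := hmul' }
  refine ⟨φ, fun c => ?_⟩
  rw [← hϑapp, ← hred]
  rfl

theorem bialgHom_ext_of_red (hsurj : Function.Surjective (algebraMap A K))
    (hker : RingHom.ker (algebraMap A K) = IsLocalRing.maximalIdeal A)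
    (hB : IsMultType A B) (hC : IsMultType A C)
    (φ ψ : C →ₐc[A] B) (h : ∀ c : C, (1 : K) ⊗ₜ[A] (φ c) = (1 : K) ⊗ₜ[A] (ψ c)) : φ = ψ := by
  classical
  obtain ⟨A'', _, _, hff', N, _, ⟨e'⟩⟩ := isMultTypeConst_of_local hC
  haveI := hff'
  haveI : Coalgebra.IsCocomm A C := isCocomm_of_split e'
  have hmod : ∀ c, (φ : C →ₗc[A] B) c - (ψ : C →ₗc[A] B) c ∈
      IsLocalRing.maximalIdeal A • (⊤ : Submodule A B) := by
    intro c
    have h0 : (1 : K) ⊗ₜ[A] (φ c - ψ c) = 0 := by
      rw [TensorProduct.tmul_sub, h c, sub_self]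
    have h1 := mem_smul_top_of_one_tmul_eq_zero hsurj h0
    rw [hker] at h1
    exact h1
  obtain ⟨t, ht⟩ := exists_finset_of_finite (φ : C →ₗc[A] B).toLinearMap (ψ : C →ₗc[A] B).toLinearMap
  have ht' : ∀ c, (φ : C →ₗc[A] B) c - (ψ : C →ₗc[A] B) c ∈
      Ideal.span ((fun c => (φ : C →ₗc[A] B) c - (ψ : C →ₗc[A] B) c) '' (t : Set C)) := ht
  apply BialgHom.ext
  intro c
  exact Groth.Agent.Lib.Helper27.MultRigidLocal.rigid_local hB (φ : C →ₗc[A] B) (ψ : C →ₗc[A] B)
    hmod t ht' (fun R' _ _ g _ => Commute.all _ _) c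

end Main

theorem reduction_bijective (A : Type u) [CommRing A] [HenselianLocalRing A]
    (B : Type u) [CommRing B] [HopfAlgebra A B] [Module.Finite A B] (hG : IsMultType A B)
    (C : Type u) [CommRing C] [HopfAlgebra A C] [Module.Finite A C] (hH : IsMultType A C) :
    (∀ φ ψ : C →ₐc[A] B, (∀ c : C, (1 : IsLocalRing.ResidueField A) ⊗ₜ[A] (φ c) =
        (1 : IsLocalRing.ResidueField A) ⊗ₜ[A] (ψ c)) → φ = ψ) ∧
    (∀ φ₀ : (IsLocalRing.ResidueField A ⊗[A] C) →ₐc[IsLocalRing.ResidueField A]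
        (IsLocalRing.ResidueField A ⊗[A] B),
      ∃ φ : C →ₐc[A] B, ∀ c : C, φ₀ ((1 : IsLocalRing.ResidueField A) ⊗ₜ[A] c) =
        (1 : IsLocalRing.ResidueField A) ⊗ₜ[A] (φ c)) := by
  have hsurj : Function.Surjective (algebraMap A (IsLocalRing.ResidueField A)) :=
    IsLocalRing.residue_surjective
  have hker : RingHom.ker (algebraMap A (IsLocalRing.ResidueField A)) =
      IsLocalRing.maximalIdeal A := IsLocalRing.ker_residue
  exact ⟨fun φ ψ h => bialgHom_ext_of_red (IsLocalRing.ResidueField A) hsurj hker hG hH φ ψ h,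
    fun φ₀ => exists_bialgHom (IsLocalRing.ResidueField A) hsurj hker hG hH φ₀⟩

end Groth.Agent.Lib.Helper27.HensMT
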