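import Mathlib
import Groth.Prelude.Def_SGA3b

/-!
# Faithfully flat descent for twisted forms of `S ⊗ N₀` (helper27): modules

`R → S` faithfully flat, `T = S ⊗ S`, `N₀` an `R`-module and `φ : N₀ → T ⊗ N₀` a "twist"
(the restriction of a `T`-linear endomorphism `Φ` of `T ⊗ N₀`) which is normalised and satisfies the
cocycle condition. Then the `R`-module `N = {x ∈ S ⊗ N₀ | Φ (i₁ x) = i₂ x}` satisfies
`S ⊗ N ≅ S ⊗ N₀`.
-/

set_option autoImplicit false
universe u
open TensorProduct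

namespace Groth.Agent.Lib.Helper27.HopfDesc

section BC

variable {R : Type u} [CommRing R] {N₀ : Type u} [AddCommGroup N₀] [Module R N₀]
  {X Y Z : Type u} [CommRing X] [CommRing Y] [CommRing Z] [Algebra R X] [Algebra R Y] [Algebra R Z]

/-- change of scalars in the first factor -/
noncomputable def bcL (N₀ : Type u) [AddCommGroup N₀] [Module R N₀] (f : X →ₐ[R] Y) :
    X ⊗[R] N₀ →ₗ[R] Y ⊗[R] N₀ :=
  LinearMap.rTensor N₀ f.toLinearMap

@[simp] theorem bcL_tmul (f : X →ₐ[R] Y) (x : X) (n : N₀) : bcL N₀ f (x ⊗ₜ[R] n) = f x ⊗ₜ[R] n := rfl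

theorem bcL_smul (f : X →ₐ[R] Y) (x : X) (z : X ⊗[R] N₀) :
    bcL N₀ f (x • z) = f x • bcL N₀ f z := by
  induction z using TensorProduct.induction_on with
  | zero => simp
  | tmul a n => rw [TensorProduct.smul_tmul', bcL_tmul, bcL_tmul, TensorProduct.smul_tmul',
      smul_eq_mul, smul_eq_mul, map_mul]
  | add a b ha hb => rw [smul_add, map_add, map_add, ha, hb, smul_add]

theorem bcL_comp (f : X →ₐ[R] Y) (g : Y →ₐ[R] Z) (z : X ⊗[R] N₀) :
    bcL N₀ g (bcL N₀ f z) = bcL N₀ (g.comp f) z := by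
  induction z using TensorProduct.induction_on with
  | zero => simp
  | tmul a n => rfl
  | add a b ha hb => rw [map_add, map_add, map_add, ha, hb]

theorem bcL_id (z : X ⊗[R] N₀) : bcL N₀ (AlgHom.id R X) z = z := by
  induction z using TensorProduct.induction_on with
  | zero => simp
  | tmul a n => rfl
  | add a b ha hb => rw [map_add, ha, hb]

/-- the `X`-linear extension of a twist -/
noncomputable def ext (φ : N₀ →ₗ[R] X ⊗[R] N₀) : X ⊗[R] N₀ →ₗ[X] X ⊗[R] N₀ :=
  φ.liftBaseChange X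

@[simp] theorem ext_tmul (φ : N₀ →ₗ[R] X ⊗[R] N₀) (x : X) (n : N₀) :
    ext φ (x ⊗ₜ[R] n) = x • φ n := LinearMap.liftBaseChange_tmul _ _ _ _

theorem bcL_ext (f : X →ₐ[R] Y) (φ : N₀ →ₗ[R] X ⊗[R] N₀) (z : X ⊗[R] N₀) :
    bcL N₀ f (ext φ z) = ext (bcL N₀ f ∘ₗ φ) (bcL N₀ f z) := by
  induction z using TensorProduct.induction_on with
  | zero => simp
  | tmul a n => rw [ext_tmul, bcL_smul, bcL_tmul, ext_tmul]; rfl
  | add a b ha hb => rw [map_add, map_add, map_add, map_add, ha, hb]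

theorem ext_mk (z : X ⊗[R] N₀) : ext (TensorProduct.mk R X N₀ 1) z = z := by
  induction z using TensorProduct.induction_on with
  | zero => simp
  | tmul a n => rw [ext_tmul, TensorProduct.mk_apply, TensorProduct.smul_tmul', smul_eq_mul, mul_one]
  | add a b ha hb => rw [map_add, ha, hb]

end BC

end Groth.Agent.Lib.Helper27.HopfDesc
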