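import Mathlib
import Groth.Agent.Lib.Helper27.HopfDescA

/-!
# Faithfully flat descent of twisted forms: the module statement (helper27)
-/

set_option autoImplicit false
universe u
open TensorProduct

namespace Groth.Agent.Lib.Helper27.HopfDesc

section Maps

variable (R : Type u) [CommRing R] (S : Type u) [CommRing S] [Algebra R S]

noncomputable def i₁ : S →ₐ[R] S ⊗[R] S := Algebra.TensorProduct.includeLeft
noncomputable def i₂ : S →ₐ[R] S ⊗[R] S := Algebra.TensorProduct.includeRight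
noncomputable def μ : S ⊗[R] S →ₐ[R] S := Algebra.TensorProduct.lmul' R
noncomputable def p₂₃ : S ⊗[R] S →ₐ[R] S ⊗[R] (S ⊗[R] S) := Algebra.TensorProduct.includeRight
noncomputable def p₁₂ : S ⊗[R] S →ₐ[R] S ⊗[R] (S ⊗[R] S) :=
  Algebra.TensorProduct.map (AlgHom.id R S) (i₁ R S)
noncomputable def p₁₃ : S ⊗[R] S →ₐ[R] S ⊗[R] (S ⊗[R] S) :=
  Algebra.TensorProduct.map (AlgHom.id R S) (i₂ R S)
noncomputable def dd : S ⊗[R] (S ⊗[R] S) →ₐ[R] S ⊗[R] S :=
  (Algebra.TensorProduct.map (μ R S) (AlgHom.id R S)).comp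
    (Algebra.TensorProduct.assoc R R R S S S).symm.toAlgHom

@[simp] theorem i₁_apply (s : S) : i₁ R S s = s ⊗ₜ[R] (1 : S) := rfl
@[simp] theorem i₂_apply (s : S) : i₂ R S s = (1 : S) ⊗ₜ[R] s := rfl
@[simp] theorem μ_tmul (s s' : S) : μ R S (s ⊗ₜ[R] s') = s * s' := by
  simp [μ]
@[simp] theorem p₂₃_apply (t : S ⊗[R] S) : p₂₃ R S t = (1 : S) ⊗ₜ[R] t := rfl
@[simp] theorem p₁₂_tmul (s s' : S) : p₁₂ R S (s ⊗ₜ[R] s') = s ⊗ₜ[R] (s' ⊗ₜ[R] (1 : S)) := rfl
@[simp] theorem p₁₃_tmul (s s' : S) : p₁₃ R S (s ⊗ₜ[R] s') = s ⊗ₜ[R] ((1 : S) ⊗ₜ[R] s') := rfl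
@[simp] theorem dd_tmul (s s' s'' : S) :
    dd R S (s ⊗ₜ[R] (s' ⊗ₜ[R] s'')) = (s * s') ⊗ₜ[R] s'' := by
  simp [dd]

theorem dd_comp_p₂₃ : (dd R S).comp (p₂₃ R S) = AlgHom.id R _ := by
  apply Algebra.TensorProduct.ext'
  intro a b
  simp

end Maps

section Desc

variable {R : Type u} [CommRing R] {S : Type u} [CommRing S] [Algebra R S]
  {N₀ : Type u} [AddCommGroup N₀] [Module R N₀]

/-- normalisation and cocycle condition for a twist -/
structure IsDescent (φ : N₀ →ₗ[R] (S ⊗[R] S) ⊗[R] N₀) : Prop where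
  norm : ∀ n, bcL N₀ (μ R S) (φ n) = (1 : S) ⊗ₜ[R] n
  coc : ∀ n, ext (bcL N₀ (p₂₃ R S) ∘ₗ φ) (bcL N₀ (p₁₂ R S) (φ n)) = bcL N₀ (p₁₃ R S) (φ n)

noncomputable def aMap (φ : N₀ →ₗ[R] (S ⊗[R] S) ⊗[R] N₀) :
    S ⊗[R] N₀ →ₗ[R] (S ⊗[R] S) ⊗[R] N₀ :=
  ((ext φ).restrictScalars R) ∘ₗ bcL N₀ (i₁ R S)

variable (R S N₀) in
noncomputable def bMap : S ⊗[R] N₀ →ₗ[R] (S ⊗[R] S) ⊗[R] N₀ := bcL N₀ (i₂ R S)

theorem aMap_tmul (φ : N₀ →ₗ[R] (S ⊗[R] S) ⊗[R] N₀) (s : S) (n : N₀) :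
    aMap φ (s ⊗ₜ[R] n) = (s ⊗ₜ[R] (1 : S)) • φ n := by
  show ext φ ((i₁ R S s) ⊗ₜ[R] n) = _
  rw [ext_tmul]
  rfl

theorem bMap_tmul (s : S) (n : N₀) : bMap R S N₀ (s ⊗ₜ[R] n) = ((1 : S) ⊗ₜ[R] s) ⊗ₜ[R] n := rfl

/-- the descended module -/
noncomputable def desc (φ : N₀ →ₗ[R] (S ⊗[R] S) ⊗[R] N₀) : Submodule R (S ⊗[R] N₀) :=
  LinearMap.ker (aMap φ - bMap R S N₀)

theorem mem_desc (φ : N₀ →ₗ[R] (S ⊗[R] S) ⊗[R] N₀) (x : S ⊗[R] N₀) :
    x ∈ desc φ ↔ aMap φ x = bMap R S N₀ x := by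
  rw [desc, LinearMap.mem_ker, LinearMap.sub_apply, sub_eq_zero]

variable (R S N₀) in
noncomputable def mulW : S ⊗[R] (S ⊗[R] N₀) →ₗ[R] S ⊗[R] N₀ :=
  (LinearMap.liftBaseChange S (LinearMap.id : S ⊗[R] N₀ →ₗ[R] S ⊗[R] N₀)).restrictScalars R

theorem mulW_tmul (s : S) (y : S ⊗[R] N₀) : mulW R S N₀ (s ⊗ₜ[R] y) = s • y := by
  show LinearMap.liftBaseChange S (LinearMap.id : S ⊗[R] N₀ →ₗ[R] S ⊗[R] N₀) (s ⊗ₜ[R] y) = _
  rw [LinearMap.liftBaseChange_tmul]
  rfl

theorem mulW_assoc (y : (S ⊗[R] S) ⊗[R] N₀) :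
    mulW R S N₀ (TensorProduct.assoc R S S N₀ y) = bcL N₀ (μ R S) y := by
  induction y using TensorProduct.induction_on with
  | zero => simp
  | add x y hx hy => rw [map_add, map_add, map_add, hx, hy]
  | tmul t n =>
    induction t using TensorProduct.induction_on with
    | zero => simp
    | add x y hx hy => rw [TensorProduct.add_tmul, map_add, map_add, map_add, hx, hy]
    | tmul s s' =>
      rw [TensorProduct.assoc_tmul, mulW_tmul, bcL_tmul, μ_tmul, TensorProduct.smul_tmul',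
        smul_eq_mul]

theorem assoc₃_smul (s : S) (t : S ⊗[R] S) (z : (S ⊗[R] S) ⊗[R] N₀) :
    TensorProduct.assoc R S (S ⊗[R] S) N₀ ((s ⊗ₜ[R] t) • bcL N₀ (p₂₃ R S) z) = s ⊗ₜ[R] (t • z) := by
  induction z using TensorProduct.induction_on with
  | zero => simp
  | add x y hx hy => rw [map_add, smul_add, map_add, hx, hy, smul_add, TensorProduct.tmul_add]
  | tmul t' n =>
    rw [bcL_tmul, p₂₃_apply, TensorProduct.smul_tmul', smul_eq_mul,
      Algebra.TensorProduct.tmul_mul_tmul, mul_one, TensorProduct.assoc_tmul,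
      TensorProduct.smul_tmul', smul_eq_mul]

theorem assoc₃_symm_smul (s : S) (t : S ⊗[R] S) (z : (S ⊗[R] S) ⊗[R] N₀) :
    (TensorProduct.assoc R S (S ⊗[R] S) N₀).symm (s ⊗ₜ[R] (t • z)) =
      (s ⊗ₜ[R] t) • bcL N₀ (p₂₃ R S) z := by
  rw [← assoc₃_smul, LinearEquiv.symm_apply_apply]

theorem rel_b (y : (S ⊗[R] S) ⊗[R] N₀) :
    LinearMap.lTensor S (bMap R S N₀) (TensorProduct.assoc R S S N₀ y) =
      TensorProduct.assoc R S (S ⊗[R] S) N₀ (bcL N₀ (p₁₃ R S) y) := by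
  induction y using TensorProduct.induction_on with
  | zero => simp
  | add x y hx hy => rw [map_add, map_add, map_add, map_add, hx, hy]
  | tmul t n =>
    induction t using TensorProduct.induction_on with
    | zero => simp
    | add x y hx hy => rw [TensorProduct.add_tmul, map_add, map_add, map_add, map_add, hx, hy]
    | tmul s s' => rfl

theorem rel_a (φ : N₀ →ₗ[R] (S ⊗[R] S) ⊗[R] N₀) (y : (S ⊗[R] S) ⊗[R] N₀) :
    LinearMap.lTensor S (aMap φ) (TensorProduct.assoc R S S N₀ y) =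
      TensorProduct.assoc R S (S ⊗[R] S) N₀
        (ext (bcL N₀ (p₂₃ R S) ∘ₗ φ) (bcL N₀ (p₁₂ R S) y)) := by
  induction y using TensorProduct.induction_on with
  | zero => simp
  | add x y hx hy => rw [map_add, map_add, map_add, map_add, map_add, hx, hy]
  | tmul t n =>
    induction t using TensorProduct.induction_on with
    | zero => simp
    | add x y hx hy =>
      rw [TensorProduct.add_tmul, map_add, map_add, map_add, map_add, map_add, hx, hy]
    | tmul s s' =>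
      rw [TensorProduct.assoc_tmul, LinearMap.lTensor_tmul, aMap_tmul, bcL_tmul, p₁₂_tmul,
        ext_tmul, LinearMap.comp_apply, assoc₃_smul]

theorem coc_aMap (φ : N₀ →ₗ[R] (S ⊗[R] S) ⊗[R] N₀) (hφ : IsDescent φ) (x : S ⊗[R] N₀) :
    ext (bcL N₀ (p₂₃ R S) ∘ₗ φ) (bcL N₀ (p₁₂ R S) (aMap φ x)) = bcL N₀ (p₁₃ R S) (aMap φ x) := by
  induction x using TensorProduct.induction_on with
  | zero => simp
  | add x y hx hy => rw [map_add, map_add, map_add, map_add, hx, hy]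
  | tmul s n =>
    rw [aMap_tmul, bcL_smul, map_smul, hφ.coc, bcL_smul]
    rfl

theorem norm_aMap (φ : N₀ →ₗ[R] (S ⊗[R] S) ⊗[R] N₀) (hφ : IsDescent φ) (x : S ⊗[R] N₀) :
    bcL N₀ (μ R S) (aMap φ x) = x := by
  induction x using TensorProduct.induction_on with
  | zero => simp
  | add x y hx hy => rw [map_add, map_add, hx, hy]
  | tmul s n =>
    rw [aMap_tmul, bcL_smul, hφ.norm, μ_tmul, mul_one, TensorProduct.smul_tmul', smul_eq_mul,
      mul_one]

/-- the retraction used in the proof -/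
noncomputable def DD : S ⊗[R] ((S ⊗[R] S) ⊗[R] N₀) →ₗ[R] S ⊗[R] (S ⊗[R] N₀) :=
  (TensorProduct.assoc R S S N₀).toLinearMap ∘ₗ bcL N₀ (dd R S) ∘ₗ
    (TensorProduct.assoc R S (S ⊗[R] S) N₀).symm.toLinearMap

theorem DD_b (w : S ⊗[R] (S ⊗[R] N₀)) : DD (LinearMap.lTensor S (bMap R S N₀) w) = w := by
  induction w using TensorProduct.induction_on with
  | zero => simp
  | add x y hx hy => rw [map_add, map_add, hx, hy]
  | tmul s y =>
    induction y using TensorProduct.induction_on with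
    | zero => simp
    | add x y hx hy => rw [TensorProduct.tmul_add, map_add, map_add, hx, hy]
    | tmul s' n =>
      show TensorProduct.assoc R S S N₀ (bcL N₀ (dd R S)
        ((TensorProduct.assoc R S (S ⊗[R] S) N₀).symm (s ⊗ₜ[R] (((1 : S) ⊗ₜ[R] s') ⊗ₜ[R] n)))) = _
      rw [TensorProduct.assoc_symm_tmul, bcL_tmul, dd_tmul, mul_one, TensorProduct.assoc_tmul]

theorem DD_a (φ : N₀ →ₗ[R] (S ⊗[R] S) ⊗[R] N₀) (w : S ⊗[R] (S ⊗[R] N₀)) :
    DD (LinearMap.lTensor S (aMap φ) w) =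
      TensorProduct.assoc R S S N₀ (aMap φ (mulW R S N₀ w)) := by
  induction w using TensorProduct.induction_on with
  | zero => simp
  | add x y hx hy => rw [map_add, map_add, hx, hy, map_add, map_add, map_add]
  | tmul s y =>
    induction y using TensorProduct.induction_on with
    | zero => simp
    | add x y hx hy =>
      rw [TensorProduct.tmul_add, map_add, map_add, hx, hy, map_add, map_add, map_add]
    | tmul s' n =>
      show TensorProduct.assoc R S S N₀ (bcL N₀ (dd R S)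
        ((TensorProduct.assoc R S (S ⊗[R] S) N₀).symm (s ⊗ₜ[R] (aMap φ (s' ⊗ₜ[R] n))))) = _
      rw [aMap_tmul, assoc₃_symm_smul, bcL_smul, bcL_comp, dd_comp_p₂₃, bcL_id, dd_tmul,
        mulW_tmul, TensorProduct.smul_tmul', smul_eq_mul, aMap_tmul]

theorem desc_bijective [Module.Flat R S] (φ : N₀ →ₗ[R] (S ⊗[R] S) ⊗[R] N₀) (hφ : IsDescent φ) :
    Function.Bijective (LinearMap.liftBaseChange S (desc φ).subtype) := by
  have hι : Function.Injective (LinearMap.lTensor S (desc φ).subtype) :=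
    Module.Flat.lTensor_preserves_injective_linearMap _ (Submodule.injective_subtype _)
  have hex : Function.Exact (LinearMap.lTensor S (desc φ).subtype)
      (LinearMap.lTensor S (aMap φ - bMap R S N₀)) := by
    rw [LinearMap.exact_iff]
    exact Module.Flat.ker_lTensor_eq (R := R) R S (aMap φ - bMap R S N₀)
  have hν : ∀ z, LinearMap.liftBaseChange S (desc φ).subtype z =
      mulW R S N₀ (LinearMap.lTensor S (desc φ).subtype z) := by
    intro z
    induction z using TensorProduct.induction_on with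
    | zero => simp
    | add x y hx hy => rw [map_add, map_add, map_add, hx, hy]
    | tmul s x => rw [LinearMap.liftBaseChange_tmul, LinearMap.lTensor_tmul, mulW_tmul]
  have hker : ∀ w : S ⊗[R] (S ⊗[R] N₀),
      LinearMap.lTensor S (aMap φ - bMap R S N₀) w = 0 →
      TensorProduct.assoc R S S N₀ (aMap φ (mulW R S N₀ w)) = w := by
    intro w hw
    rw [LinearMap.lTensor_sub, LinearMap.sub_apply, sub_eq_zero] at hw
    rw [← DD_a, hw, DD_b]
  constructor
  · rw [injective_iff_map_eq_zero]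
    intro z hz
    apply hι
    rw [map_zero]
    have h1 : LinearMap.lTensor S (aMap φ - bMap R S N₀)
        (LinearMap.lTensor S (desc φ).subtype z) = 0 := (hex _).2 ⟨z, rfl⟩
    rw [← hker _ h1, ← hν, hz, map_zero, map_zero]
  · intro x
    have h1 : LinearMap.lTensor S (aMap φ - bMap R S N₀)
        (TensorProduct.assoc R S S N₀ (aMap φ x)) = 0 := by
      rw [LinearMap.lTensor_sub, LinearMap.sub_apply, sub_eq_zero, rel_a, rel_b, coc_aMap φ hφ]
    obtain ⟨z, hz⟩ := (hex _).1 h1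
    refine ⟨z, ?_⟩
    have hz' : LinearMap.lTensor S (desc φ).subtype z =
        TensorProduct.assoc R S S N₀ (aMap φ x) := hz
    rw [hν, hz', mulW_assoc, norm_aMap φ hφ]

end Desc

end Groth.Agent.Lib.Helper27.HopfDesc
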