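import Mathlib
import Groth.Agent.Lib.Helper27.HopfDescB
import Groth.Agent.Lib.Helper27.SemiGroupLike

/-!
# Descent of a Hopf algebra structure along a faithfully flat base change (helper27)
-/

set_option autoImplicit false
universe u
open TensorProduct

namespace Groth.Agent.Lib.Helper27.HopfDesc

open Groth.Agent.Lib.Helper27.MultRigid

section XiP

variable {R : Type u} [CommRing R] {S : Type u} [CommRing S] [Algebra R S]
variable {A A' : Type u} [AddCommGroup A] [Module R A] [AddCommGroup A'] [Module R A']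
variable {B B' : Type u} [AddCommGroup B] [Module S B] [Module R B] [IsScalarTower R S B]
  [AddCommGroup B'] [Module S B'] [Module R B'] [IsScalarTower R S B']

/-- `x ⊗ y ↦ θ x ⊗[S] θ' y` -/
noncomputable def XiP (θ : A →ₗ[R] B) (θ' : A' →ₗ[R] B') : A ⊗[R] A' →ₗ[R] B ⊗[S] B' :=
  TensorProduct.lift (LinearMap.mk₂ R (fun x y => θ x ⊗ₜ[S] θ' y)
    (fun x y z => by rw [map_add, TensorProduct.add_tmul])
    (fun r x y => by rw [map_smul, TensorProduct.smul_tmul'])
    (fun x y z => by rw [map_add, TensorProduct.tmul_add])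
    (fun r x y => by rw [map_smul, TensorProduct.tmul_smul]))

@[simp] theorem XiP_tmul (θ : A →ₗ[R] B) (θ' : A' →ₗ[R] B') (x : A) (y : A') :
    XiP (S := S) θ θ' (x ⊗ₜ y) = θ x ⊗ₜ[S] θ' y := by
  simp [XiP]

/-- the comparison isomorphism for a tensor product -/
noncomputable def EE (ν : S ⊗[R] A ≃ₗ[S] B) (ν' : S ⊗[R] A' ≃ₗ[S] B') :
    S ⊗[R] (A ⊗[R] A') ≃ₗ[S] B ⊗[S] B' :=
  (TensorProduct.AlgebraTensorModule.distribBaseChange R S A A') ≪≫ₗ TensorProduct.congr ν ν'

theorem EE_one_tmul (θ : A →ₗ[R] B) (θ' : A' →ₗ[R] B') (ν : S ⊗[R] A ≃ₗ[S] B)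
    (ν' : S ⊗[R] A' ≃ₗ[S] B') (hν : ∀ a, ν ((1 : S) ⊗ₜ[R] a) = θ a)
    (hν' : ∀ a, ν' ((1 : S) ⊗ₜ[R] a) = θ' a) (z : A ⊗[R] A') :
    EE ν ν' ((1 : S) ⊗ₜ[R] z) = XiP (S := S) θ θ' z := by
  induction z using TensorProduct.induction_on with
  | zero => simp
  | tmul x y =>
    show TensorProduct.congr ν ν'
      (TensorProduct.AlgebraTensorModule.distribBaseChange R S A A' ((1 : S) ⊗ₜ[R] (x ⊗ₜ[R] y))) = _
    rw [TensorProduct.AlgebraTensorModule.distribBaseChange_tmul, TensorProduct.congr_tmul, hν, hν',
      XiP_tmul]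
  | add x y hx hy => rw [TensorProduct.tmul_add, map_add, map_add, hx, hy]

theorem injective_of_equiv [Module.FaithfullyFlat R S] {M N : Type u} [AddCommGroup M] [Module R M]
    [AddCommGroup N] [Module S N] (E : S ⊗[R] M ≃ₗ[S] N) (f : M → N)
    (h : ∀ m, E ((1 : S) ⊗ₜ[R] m) = f m) : Function.Injective f := by
  intro x y hxy
  apply Module.FaithfullyFlat.tensorProduct_mk_injective (A := R) (B := S) M
  apply E.injective
  rw [TensorProduct.mk_apply, TensorProduct.mk_apply, h, h, hxy]

end XiP

section Main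

variable {R : Type u} [CommRing R] {S : Type u} [CommRing S] [Algebra R S]
  [Module.FaithfullyFlat R S]
  {A : Type u} [CommRing A] [Algebra R A]
  {B : Type u} [CommRing B] [HopfAlgebra S B] [Algebra R B] [IsScalarTower R S B]

theorem algebraMap_injective_of_ff : Function.Injective (algebraMap R S) := by
  intro r r' h
  apply Module.FaithfullyFlat.tensorProduct_mk_injective (A := R) (B := S) R
  show (1 : S) ⊗ₜ[R] r = (1 : S) ⊗ₜ[R] r'
  have e : ∀ x : R, (1 : S) ⊗ₜ[R] x = (algebraMap R S x) ⊗ₜ[R] (1 : R) := fun x => by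
    rw [Algebra.algebraMap_eq_smul_one, TensorProduct.smul_tmul, smul_eq_mul, mul_one]
  rw [e, e, h]

theorem XiP_mul (u : A →ₐ[R] B) (z z' : A ⊗[R] A) :
    XiP (S := S) u.toLinearMap u.toLinearMap (z * z') =
      XiP (S := S) u.toLinearMap u.toLinearMap z * XiP (S := S) u.toLinearMap u.toLinearMap z' := by
  induction z using TensorProduct.induction_on with
  | zero => simp
  | add x y hx hy => rw [add_mul, map_add, map_add, hx, hy, add_mul]
  | tmul a b =>
    induction z' using TensorProduct.induction_on with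
    | zero => simp
    | add x y hx hy => rw [mul_add, map_add, map_add, hx, hy, mul_add]
    | tmul a' b' =>
      rw [Algebra.TensorProduct.tmul_mul_tmul, XiP_tmul, XiP_tmul, XiP_tmul,
        Algebra.TensorProduct.tmul_mul_tmul]
      simp

theorem smulR_comul (r : R) (x : B) :
    Coalgebra.comul (R := S) (r • x) = r • Coalgebra.comul (R := S) x := by
  rw [← algebraMap_smul S r x, map_smul, algebraMap_smul]

theorem exists_hopf_of_closure
    (u : A →ₐ[R] B) (ν : S ⊗[R] A ≃ₗ[S] B) (hν : ∀ a, ν ((1 : S) ⊗ₜ[R] a) = u a)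
    (hΔ : ∀ a, ∃ z : A ⊗[R] A,
      Coalgebra.comul (R := S) (u a) = XiP (S := S) u.toLinearMap u.toLinearMap z)
    (hε : ∀ a, ∃ r : R, Coalgebra.counit (R := S) (u a) = algebraMap R S r)
    (hS : ∀ a, ∃ a' : A, HopfAlgebra.antipode S (u a) = u a') :
    ∃ (A' : Type u) (_ : CommRing A') (_ : HopfAlgebra R A') (e : S ⊗[R] A' ≃ₐc[S] B)
      (j : A' ≃ A), ∀ a, e ((1 : S) ⊗ₜ[R] a) = u (j a) := by
  classical
  have inj_u : Function.Injective u := injective_of_equiv ν u hν
  obtain ⟨X₂, hX₂⟩ : ∃ X : A ⊗[R] A →ₗ[R] B ⊗[S] B,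
      X = XiP (S := S) u.toLinearMap u.toLinearMap := ⟨_, rfl⟩
  obtain ⟨X₃, hX₃⟩ : ∃ X : A ⊗[R] (A ⊗[R] A) →ₗ[R] B ⊗[S] (B ⊗[S] B),
      X = XiP (S := S) u.toLinearMap X₂ := ⟨_, rfl⟩
  have hX₂t : ∀ x y, X₂ (x ⊗ₜ[R] y) = u x ⊗ₜ[S] u y := fun x y => by
    rw [hX₂, XiP_tmul]; rfl
  have hX₃t : ∀ x z, X₃ (x ⊗ₜ[R] z) = u x ⊗ₜ[S] X₂ z := fun x z => by
    rw [hX₃, XiP_tmul]; rfl
  have hX₂mul : ∀ z z', X₂ (z * z') = X₂ z * X₂ z' := fun z z' => by
    rw [hX₂]; exact XiP_mul u z z'
  replace hΔ : ∀ a, ∃ z : A ⊗[R] A, Coalgebra.comul (R := S) (u a) = X₂ z := by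
    rw [hX₂]; exact hΔ
  have hE₂ : ∀ z, EE ν ν ((1 : S) ⊗ₜ[R] z) = X₂ z := by
    rw [hX₂]; exact EE_one_tmul u.toLinearMap u.toLinearMap ν ν hν hν
  have hE₃ : ∀ z, EE ν (EE ν ν) ((1 : S) ⊗ₜ[R] z) = X₃ z := by
    rw [hX₃]; exact EE_one_tmul u.toLinearMap X₂ ν (EE ν ν) hν hE₂
  have inj₂ : Function.Injective X₂ := injective_of_equiv (EE ν ν) X₂ hE₂
  have inj₃ : Function.Injective X₃ := injective_of_equiv (EE ν (EE ν ν)) X₃ hE₃
  have hinjS : Function.Injective (algebraMap R S) := algebraMap_injective_of_ff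
  choose Δf hΔf using hΔ
  choose εf hεf using hε
  choose Sf hSf using hS
  -- comultiplication
  let Δl : A →ₗ[R] A ⊗[R] A :=
    { toFun := Δf
      map_add' := fun a b => inj₂ (by
        rw [map_add, ← hΔf, ← hΔf, ← hΔf, map_add, map_add])
      map_smul' := fun r a => inj₂ (by
        rw [RingHom.id_apply, map_smul, ← hΔf, ← hΔf, map_smul, smulR_comul]) }
  have hΔl : ∀ a, Δl a = Δf a := fun a => rfl
  have hX₂one : X₂ 1 = 1 := by
    rw [Algebra.TensorProduct.one_def, hX₂t, map_one, Algebra.TensorProduct.one_def]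
  let Δalg : A →ₐ[R] A ⊗[R] A := AlgHom.ofLinearMap Δl
    (inj₂ (by
      rw [hΔl, ← hΔf, map_one, hX₂one]
      exact Bialgebra.comul_one))
    (fun a b => inj₂ (by
      rw [hΔl, hΔl, hΔl, hX₂mul, ← hΔf, ← hΔf, ← hΔf, map_mul]
      exact Bialgebra.comul_mul _ _))
  have hΔalg : ∀ a, Δalg a = Δf a := fun a => rfl
  -- counit
  let εl : A →ₗ[R] R :=
    { toFun := εf
      map_add' := fun a b => hinjS (by
        rw [map_add, ← hεf, ← hεf, ← hεf, map_add, map_add])
      map_smul' := fun r a => hinjS (by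
        rw [RingHom.id_apply, smul_eq_mul, map_mul, ← hεf, ← hεf, map_smul,
          ← algebraMap_smul S r (u a), map_smul, smul_eq_mul]) }
  have hεl : ∀ a, εl a = εf a := fun a => rfl
  let εalg : A →ₐ[R] R := AlgHom.ofLinearMap εl
    (hinjS (by
      rw [hεl, ← hεf, map_one u, map_one (algebraMap R S)]
      exact Bialgebra.counit_one))
    (fun a b => hinjS (by
      rw [hεl, hεl, hεl, map_mul, ← hεf, ← hεf, ← hεf, map_mul]
      exact Bialgebra.counit_mul _ _))
  have hεalg : ∀ a, εalg a = εf a := fun a => rfl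
  -- naturality
  have n1 : ∀ z : A ⊗[R] A, X₃ (Algebra.TensorProduct.map (AlgHom.id R A) Δalg z) =
      LinearMap.lTensor B (Coalgebra.comul (R := S) (A := B)) (X₂ z) := by
    intro z
    induction z using TensorProduct.induction_on with
    | zero => simp
    | add x y hx hy => rw [map_add, map_add, map_add, map_add, hx, hy]
    | tmul a a' =>
      rw [Algebra.TensorProduct.map_tmul, AlgHom.id_apply, hΔalg, hX₃t, hX₂t,
        LinearMap.lTensor_tmul, ← hΔf]
  have n2aux : ∀ (w : A ⊗[R] A) (a' : A),
      X₃ (Algebra.TensorProduct.assoc R R R A A A (w ⊗ₜ[R] a')) =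
        TensorProduct.assoc S B B B (X₂ w ⊗ₜ[S] u a') := by
    intro w a'
    induction w using TensorProduct.induction_on with
    | zero => simp
    | add x y hx hy =>
      rw [TensorProduct.add_tmul, map_add, map_add, hx, hy, map_add, TensorProduct.add_tmul, map_add]
    | tmul x y =>
      rw [Algebra.TensorProduct.assoc_tmul, hX₃t, hX₂t, hX₂t, TensorProduct.assoc_tmul]
  have n2 : ∀ z : A ⊗[R] A, X₃ (Algebra.TensorProduct.assoc R R R A A A
      (Algebra.TensorProduct.map Δalg (AlgHom.id R A) z)) =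
      TensorProduct.assoc S B B B
        (LinearMap.rTensor B (Coalgebra.comul (R := S) (A := B)) (X₂ z)) := by
    intro z
    induction z using TensorProduct.induction_on with
    | zero => simp
    | add x y hx hy => rw [map_add, map_add, map_add, map_add, map_add, map_add, hx, hy]
    | tmul a a' =>
      rw [Algebra.TensorProduct.map_tmul, AlgHom.id_apply, hΔalg, n2aux, hX₂t,
        LinearMap.rTensor_tmul, ← hΔf]
  have n3 : ∀ z : A ⊗[R] A, u (Algebra.TensorProduct.lid R A
      (Algebra.TensorProduct.map εalg (AlgHom.id R A) z)) =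
      TensorProduct.lid S B (LinearMap.rTensor B (Coalgebra.counit (R := S) (A := B)) (X₂ z)) := by
    intro z
    induction z using TensorProduct.induction_on with
    | zero => simp
    | add x y hx hy => rw [map_add, map_add, map_add, map_add, map_add, map_add, hx, hy]
    | tmul x y =>
      rw [Algebra.TensorProduct.map_tmul, AlgHom.id_apply, hεalg, Algebra.TensorProduct.lid_tmul,
        map_smul, hX₂t, LinearMap.rTensor_tmul, TensorProduct.lid_tmul, hεf, algebraMap_smul]
  have n4 : ∀ z : A ⊗[R] A, u (Algebra.TensorProduct.rid R R A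
      (Algebra.TensorProduct.map (AlgHom.id R A) εalg z)) =
      TensorProduct.rid S B (LinearMap.lTensor B (Coalgebra.counit (R := S) (A := B)) (X₂ z)) := by
    intro z
    induction z using TensorProduct.induction_on with
    | zero => simp
    | add x y hx hy => rw [map_add, map_add, map_add, map_add, map_add, map_add, hx, hy]
    | tmul x y =>
      rw [Algebra.TensorProduct.map_tmul, AlgHom.id_apply, hεalg, Algebra.TensorProduct.rid_tmul,
        map_smul, hX₂t, LinearMap.lTensor_tmul, TensorProduct.rid_tmul, hεf, algebraMap_smul]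
  letI bi : Bialgebra R A := Bialgebra.ofAlgHom Δalg εalg
    (by
      apply AlgHom.ext
      intro a
      apply inj₃
      show X₃ (Algebra.TensorProduct.assoc R R R A A A
        (Algebra.TensorProduct.map Δalg (AlgHom.id R A) (Δalg a))) =
        X₃ (Algebra.TensorProduct.map (AlgHom.id R A) Δalg (Δalg a))
      rw [n1, n2, hΔalg, ← hΔf, Coalgebra.coassoc_apply])
    (by
      apply AlgHom.ext
      intro a
      apply (Algebra.TensorProduct.lid R A).injective
      apply inj_u
      show u (Algebra.TensorProduct.lid R A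
        (Algebra.TensorProduct.map εalg (AlgHom.id R A) (Δalg a))) =
        u (Algebra.TensorProduct.lid R A ((Algebra.TensorProduct.lid R A).symm a))
      rw [n3, hΔalg, ← hΔf, Coalgebra.rTensor_counit_comul, TensorProduct.lid_tmul, one_smul,
        AlgEquiv.apply_symm_apply])
    (by
      apply AlgHom.ext
      intro a
      apply (Algebra.TensorProduct.rid R R A).injective
      apply inj_u
      show u (Algebra.TensorProduct.rid R R A
        (Algebra.TensorProduct.map (AlgHom.id R A) εalg (Δalg a))) =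
        u (Algebra.TensorProduct.rid R R A ((Algebra.TensorProduct.rid R R A).symm a))
      rw [n4, hΔalg, ← hΔf, Coalgebra.lTensor_counit_comul, TensorProduct.rid_tmul, one_smul,
        AlgEquiv.apply_symm_apply])
  have hcomul : ∀ a : A, Coalgebra.comul (R := R) (A := A) a = Δf a := fun a => rfl
  have hcounit : ∀ a : A, Coalgebra.counit (R := R) (A := A) a = εf a := fun a => rfl
  -- antipode
  let Sl : A →ₗ[R] A :=
    { toFun := Sf
      map_add' := fun a b => inj_u (by
        rw [map_add, ← hSf, ← hSf, ← hSf, map_add, map_add])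
      map_smul' := fun r a => inj_u (by
        rw [RingHom.id_apply, map_smul, ← hSf, ← hSf, map_smul,
          ← algebraMap_smul S r (u a), map_smul, algebraMap_smul]) }
  have hSl : ∀ a, Sl a = Sf a := fun a => rfl
  have n5 : ∀ z : A ⊗[R] A, u (LinearMap.mul' R A (LinearMap.rTensor A Sl z)) =
      LinearMap.mul' S B (LinearMap.rTensor B (HopfAlgebra.antipode S (A := B)) (X₂ z)) := by
    intro z
    induction z using TensorProduct.induction_on with
    | zero => simp
    | add x y hx hy => rw [map_add, map_add, map_add, map_add, map_add, map_add, hx, hy]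
    | tmul x y =>
      rw [LinearMap.rTensor_tmul, LinearMap.mul'_apply, map_mul, hSl, ← hSf, hX₂t,
        LinearMap.rTensor_tmul, LinearMap.mul'_apply]
  have n6 : ∀ z : A ⊗[R] A, u (LinearMap.mul' R A (LinearMap.lTensor A Sl z)) =
      LinearMap.mul' S B (LinearMap.lTensor B (HopfAlgebra.antipode S (A := B)) (X₂ z)) := by
    intro z
    induction z using TensorProduct.induction_on with
    | zero => simp
    | add x y hx hy => rw [map_add, map_add, map_add, map_add, map_add, map_add, hx, hy]
    | tmul x y =>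
      rw [LinearMap.lTensor_tmul, LinearMap.mul'_apply, map_mul, hSl, ← hSf, hX₂t,
        LinearMap.lTensor_tmul, LinearMap.mul'_apply]
  letI hs : HopfAlgebraStruct R A := { bi with antipode := Sl }
  letI hh : HopfAlgebra R A :=
    { hs with
      mul_antipode_rTensor_comul := by
        apply LinearMap.ext
        intro a
        apply inj_u
        show u (LinearMap.mul' R A (LinearMap.rTensor A Sl (Δf a))) = u (algebraMap R A (εf a))
        rw [n5, ← hΔf, HopfAlgebra.mul_antipode_rTensor_comul_apply, hεf, AlgHom.commutes,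
          ← IsScalarTower.algebraMap_apply]
      mul_antipode_lTensor_comul := by
        apply LinearMap.ext
        intro a
        apply inj_u
        show u (LinearMap.mul' R A (LinearMap.lTensor A Sl (Δf a))) = u (algebraMap R A (εf a))
        rw [n6, ← hΔf, HopfAlgebra.mul_antipode_lTensor_comul_apply, hεf, AlgHom.commutes,
          ← IsScalarTower.algebraMap_apply] }
  -- the comparison isomorphism is a bialgebra isomorphism
  have hsemi : IsSemiComul (R := R) (R' := S) u.toLinearMap := fun a => by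
    show Coalgebra.comul (R := S) (u a) = Xi (R' := S) u.toLinearMap (Δf a)
    rw [hΔf, hX₂]
    rfl
  have hsemic : IsSemiCounit (R := R) (R' := S) u.toLinearMap := fun a => by
    show Coalgebra.counit (R := S) (u a) = algebraMap R S (εf a)
    exact hεf a
  have h1 := IsSemiComul.liftBaseChange (R₁ := S) (R₂ := S) hsemi
  have h2 := IsSemiCounit.liftBaseChange (R₁ := S) (R₂ := S) hsemic
  let νA : S ⊗[R] A →ₐ[S] B :=
    Algebra.TensorProduct.lift (Algebra.ofId S B) u (fun _ _ => Commute.all _ _)
  have hνA : ∀ x, νA x = u.toLinearMap.liftBaseChange S x := by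
    intro x
    induction x using TensorProduct.induction_on with
    | zero => simp
    | add x y hx hy => rw [map_add, map_add, hx, hy]
    | tmul s a =>
      rw [LinearMap.liftBaseChange_tmul]
      show algebraMap S B s * u a = s • u a
      rw [Algebra.smul_def]
  have hνν : ∀ x, u.toLinearMap.liftBaseChange S x = ν x := by
    intro x
    induction x using TensorProduct.induction_on with
    | zero => simp
    | add x y hx hy => rw [map_add, map_add, hx, hy]
    | tmul s a =>
      rw [LinearMap.liftBaseChange_tmul]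
      have : s ⊗ₜ[R] a = s • ((1 : S) ⊗ₜ[R] a) := by
        rw [TensorProduct.smul_tmul', smul_eq_mul, mul_one]
      rw [this, map_smul, hν]
      rfl
  have hXimap : ∀ z : (S ⊗[R] A) ⊗[S] (S ⊗[R] A),
      Xi (R := S) (R' := S) (u.toLinearMap.liftBaseChange S) z =
        Algebra.TensorProduct.map νA νA z := by
    intro z
    induction z using TensorProduct.induction_on with
    | zero => simp
    | add x y hx hy => rw [map_add, map_add, hx, hy]
    | tmul x y => rw [Xi_tmul, Algebra.TensorProduct.map_tmul, hνA, hνA]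
  let ψ : S ⊗[R] A →ₐc[S] B := BialgHom.ofAlgHom νA
    (by
      apply AlgHom.ext
      intro x
      show Coalgebra.counit (R := S) (νA x) = Coalgebra.counit (R := S) x
      rw [hνA, h2 x]
      rfl)
    (by
      apply AlgHom.ext
      intro x
      show Algebra.TensorProduct.map νA νA (Coalgebra.comul (R := S) x) =
        Coalgebra.comul (R := S) (νA x)
      rw [hνA, h1 x, hXimap])
  have hψ : ∀ x, ψ x = ν x := fun x => (hνA x).trans (hνν x)
  have hbij : Function.Bijective ψ := by
    constructor
    · intro x y hxy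
      rw [hψ, hψ] at hxy
      exact ν.injective hxy
    · intro b
      obtain ⟨x, hx⟩ := ν.surjective b
      exact ⟨x, (hψ x).trans hx⟩
  exact ⟨A, inferInstance, hh, BialgEquiv.ofBijective ψ hbij, Equiv.refl A,
    fun a => (hψ _).trans (hν a)⟩

end Main

end Groth.Agent.Lib.Helper27.HopfDesc
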