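import Mathlib
import Groth.Agent.Lib.Helper27.HopfDescC
import Groth.Agent.Lib.Helper27.MultMono
import Groth.Agent.S1156

/-!
# Descent of a twisted form of `S ⊗ B₀` to a Hopf algebra over the base (helper27)
-/

set_option autoImplicit false
universe u
open TensorProduct

namespace Groth.Agent.Lib.Helper27.HopfDesc

open Groth.Agent.Lib.Helper27.MultRigid

section AssocLemmas

variable {R : Type u} [CommRing R] {S : Type u} [CommRing S] [Algebra R S]
  {N : Type u} [AddCommGroup N] [Module R N]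

theorem assoc_smul_i₂ (s : S) (y : S ⊗[R] N) :
    TensorProduct.assoc R S S N ((s ⊗ₜ[R] (1 : S)) • bcL N (i₂ R S) y) = s ⊗ₜ[R] y := by
  induction y using TensorProduct.induction_on with
  | zero => simp
  | add x y hx hy => rw [map_add, smul_add, map_add, hx, hy, TensorProduct.tmul_add]
  | tmul s' n =>
    rw [bcL_tmul, i₂_apply, TensorProduct.smul_tmul', smul_eq_mul,
      Algebra.TensorProduct.tmul_mul_tmul, mul_one, one_mul, TensorProduct.assoc_tmul]

theorem assoc_symm_tmul' (s : S) (y : S ⊗[R] N) :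
    (TensorProduct.assoc R S S N).symm (s ⊗ₜ[R] y) = (s ⊗ₜ[R] (1 : S)) • bcL N (i₂ R S) y := by
  rw [← assoc_smul_i₂, LinearEquiv.symm_apply_apply]

theorem assoc_symm_one_tmul' (y : S ⊗[R] N) :
    (TensorProduct.assoc R S S N).symm ((1 : S) ⊗ₜ[R] y) = bcL N (i₂ R S) y := by
  rw [assoc_symm_tmul', ← Algebra.TensorProduct.one_def, one_smul]

end AssocLemmas

section Gen

variable {R : Type u} [CommRing R] {B₀ : Type u} [CommRing B₀] [HopfAlgebra R B₀]
  {X Y : Type u} [CommRing X] [Algebra R X] [CommRing Y] [Algebra R Y]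

/-- `(x, y) ↦ x ⊗ y` in the model `X ⊗ (B₀ ⊗ B₀)` -/
noncomputable def JJ (x y : X ⊗[R] B₀) : X ⊗[R] (B₀ ⊗[R] B₀) :=
  (TensorProduct.AlgebraTensorModule.distribBaseChange R X B₀ B₀).symm (x ⊗ₜ[X] y)

theorem JJ_tmul (s s' : X) (b b' : B₀) :
    JJ (s ⊗ₜ[R] b) (s' ⊗ₜ[R] b') = (s * s') ⊗ₜ[R] (b ⊗ₜ[R] b') := by
  rw [JJ]
  exact TensorProduct.AlgebraTensorModule.distribBaseChange_symm_tmul R X b b' s s'

theorem JJ_add_left (x x' y : X ⊗[R] B₀) : JJ (x + x') y = JJ x y + JJ x' y := by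
  rw [JJ, JJ, JJ, TensorProduct.add_tmul, map_add]

theorem JJ_add_right (x y y' : X ⊗[R] B₀) : JJ x (y + y') = JJ x y + JJ x y' := by
  rw [JJ, JJ, JJ, TensorProduct.tmul_add, map_add]

theorem JJ_zero_left (y : X ⊗[R] B₀) : JJ (0 : X ⊗[R] B₀) y = 0 := by
  rw [JJ, TensorProduct.zero_tmul, map_zero]

theorem JJ_zero_right (x : X ⊗[R] B₀) : JJ x (0 : X ⊗[R] B₀) = 0 := by
  rw [JJ, TensorProduct.tmul_zero, map_zero]

theorem JJ_bcL (f : X →ₐ[R] Y) (x y : X ⊗[R] B₀) :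
    bcL (B₀ ⊗[R] B₀) f (JJ x y) = JJ (bcL B₀ f x) (bcL B₀ f y) := by
  induction x using TensorProduct.induction_on with
  | zero => rw [JJ_zero_left, map_zero, map_zero, JJ_zero_left]
  | add x x' hx hx' => rw [JJ_add_left, map_add, hx, hx', map_add, JJ_add_left]
  | tmul s b =>
    induction y using TensorProduct.induction_on with
    | zero => rw [JJ_zero_right, map_zero, map_zero, JJ_zero_right]
    | add y y' hy hy' => rw [JJ_add_right, map_add, hy, hy', map_add, JJ_add_right]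
    | tmul s' b' => rw [JJ_tmul, bcL_tmul, bcL_tmul, bcL_tmul, JJ_tmul, map_mul]

theorem distrib_one_tmul (z : B₀ ⊗[R] B₀) :
    TensorProduct.AlgebraTensorModule.distribBaseChange R X B₀ B₀ ((1 : X) ⊗ₜ[R] z) =
      Xi (R := R) (R' := X) (bcMap X B₀) z := by
  induction z using TensorProduct.induction_on with
  | zero => simp
  | add x y hx hy => rw [TensorProduct.tmul_add, map_add, map_add, hx, hy]
  | tmul b b' =>
    rw [TensorProduct.AlgebraTensorModule.distribBaseChange_tmul, Xi_tmul]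
    rfl

theorem comul_eq (y : X ⊗[R] B₀) :
    Coalgebra.comul (R := X) y =
      TensorProduct.AlgebraTensorModule.distribBaseChange R X B₀ B₀
        (LinearMap.lTensor X (Coalgebra.comul (R := R) (A := B₀)) y) := by
  induction y using TensorProduct.induction_on with
  | zero => simp
  | add x y hx hy => rw [map_add, map_add, map_add, hx, hy]
  | tmul s b =>
    have h1 : s ⊗ₜ[R] b = s • ((1 : X) ⊗ₜ[R] b) := by
      rw [TensorProduct.smul_tmul', smul_eq_mul, mul_one]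
    have h2 : LinearMap.lTensor X (Coalgebra.comul (R := R) (A := B₀)) (s ⊗ₜ[R] b) =
        s • ((1 : X) ⊗ₜ[R] Coalgebra.comul (R := R) b) := by
      rw [LinearMap.lTensor_tmul, TensorProduct.smul_tmul', smul_eq_mul, mul_one]
    rw [h2, map_smul, distrib_one_tmul, h1, map_smul]
    congr 1
    exact isSemiComul_bcMap (R := R) (R' := X) b

theorem lT_bcL (f : X →ₐ[R] Y) (y : X ⊗[R] B₀) :
    bcL (B₀ ⊗[R] B₀) f (LinearMap.lTensor X (Coalgebra.comul (R := R) (A := B₀)) y) =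
      LinearMap.lTensor Y (Coalgebra.comul (R := R) (A := B₀)) (bcL B₀ f y) := by
  induction y using TensorProduct.induction_on with
  | zero => simp
  | add x y hx hy => rw [map_add, map_add, map_add, map_add, hx, hy]
  | tmul s b => rfl

theorem antipode_tmul (s : X) (b : B₀) :
    HopfAlgebra.antipode X (s ⊗ₜ[R] b) = s ⊗ₜ[R] HopfAlgebra.antipode R b := by
  rw [TensorProduct.antipode_def, TensorProduct.AlgebraTensorModule.map_tmul]
  rfl

theorem antipode_bcL (f : X →ₐ[R] Y) (x : X ⊗[R] B₀) :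
    HopfAlgebra.antipode Y (bcL B₀ f x) = bcL B₀ f (HopfAlgebra.antipode X x) := by
  induction x using TensorProduct.induction_on with
  | zero => simp
  | add x y hx hy => rw [map_add, map_add, map_add, map_add, hx, hy]
  | tmul s b => rw [bcL_tmul, antipode_tmul, antipode_tmul, bcL_tmul]

theorem counit_bcL (f : X →ₐ[R] Y) (x : X ⊗[R] B₀) :
    Coalgebra.counit (R := Y) (bcL B₀ f x) = f (Coalgebra.counit (R := X) x) := by
  induction x using TensorProduct.induction_on with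
  | zero => simp
  | add x y hx hy => rw [map_add, map_add, map_add, map_add, hx, hy]
  | tmul s b =>
    rw [bcL_tmul, TensorProduct.counit_tmul, TensorProduct.counit_tmul, map_smul]
    rfl

end Gen

section Twist

variable {R : Type u} [CommRing R] {S : Type u} [CommRing S] [Algebra R S]
  {B₀ : Type u} [CommRing B₀] [HopfAlgebra R B₀]
  (Φ : ((S ⊗[R] S) ⊗[R] B₀) →ₐc[S ⊗[R] S] ((S ⊗[R] S) ⊗[R] B₀))

/-- the twist attached to an endomorphism of `(S ⊗ S) ⊗ B₀` -/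
noncomputable def twist : B₀ →ₗ[R] (S ⊗[R] S) ⊗[R] B₀ :=
  ((Φ : ((S ⊗[R] S) ⊗[R] B₀) →ₗ[S ⊗[R] S] ((S ⊗[R] S) ⊗[R] B₀)).restrictScalars R) ∘ₗ
    TensorProduct.mk R (S ⊗[R] S) B₀ 1

theorem twist_apply (b : B₀) : twist Φ b = Φ ((1 : S ⊗[R] S) ⊗ₜ[R] b) := rfl

theorem ext_twist (x : (S ⊗[R] S) ⊗[R] B₀) : ext (twist Φ) x = Φ x := by
  induction x using TensorProduct.induction_on with
  | zero => simp
  | add x y hx hy => rw [map_add, map_add, hx, hy]
  | tmul t b =>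
    rw [ext_tmul, twist_apply, ← map_smul, TensorProduct.smul_tmul', smul_eq_mul, mul_one]

theorem aMap_twist (x : S ⊗[R] B₀) : aMap (twist Φ) x = Φ (bcL B₀ (i₁ R S) x) := by
  show ext (twist Φ) (bcL B₀ (i₁ R S) x) = _
  rw [ext_twist]

/-- the twist on `B₀ ⊗ B₀` -/
noncomputable def Phi2 : ((S ⊗[R] S) ⊗[R] (B₀ ⊗[R] B₀)) →ₗ[S ⊗[R] S]
    ((S ⊗[R] S) ⊗[R] (B₀ ⊗[R] B₀)) :=
  (TensorProduct.AlgebraTensorModule.distribBaseChange R (S ⊗[R] S) B₀ B₀).symm.toLinearMap ∘ₗ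
    (TensorProduct.map (Φ : ((S ⊗[R] S) ⊗[R] B₀) →ₗ[S ⊗[R] S] ((S ⊗[R] S) ⊗[R] B₀))
      (Φ : ((S ⊗[R] S) ⊗[R] B₀) →ₗ[S ⊗[R] S] ((S ⊗[R] S) ⊗[R] B₀))) ∘ₗ
    (TensorProduct.AlgebraTensorModule.distribBaseChange R (S ⊗[R] S) B₀ B₀).toLinearMap

theorem Phi2_JJ (y y' : (S ⊗[R] S) ⊗[R] B₀) : Phi2 Φ (JJ y y') = JJ (Φ y) (Φ y') := by
  show (TensorProduct.AlgebraTensorModule.distribBaseChange R (S ⊗[R] S) B₀ B₀).symm
    (TensorProduct.map _ _
      ((TensorProduct.AlgebraTensorModule.distribBaseChange R (S ⊗[R] S) B₀ B₀) (JJ y y'))) = _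
  rw [JJ, LinearEquiv.apply_symm_apply, TensorProduct.map_tmul]
  rfl

theorem Phi2_lT (y : (S ⊗[R] S) ⊗[R] B₀) :
    Phi2 Φ (LinearMap.lTensor (S ⊗[R] S) (Coalgebra.comul (R := R) (A := B₀)) y) =
      LinearMap.lTensor (S ⊗[R] S) (Coalgebra.comul (R := R) (A := B₀)) (Φ y) := by
  show (TensorProduct.AlgebraTensorModule.distribBaseChange R (S ⊗[R] S) B₀ B₀).symm
    (TensorProduct.map _ _
      ((TensorProduct.AlgebraTensorModule.distribBaseChange R (S ⊗[R] S) B₀ B₀) _)) = _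
  rw [← comul_eq, LinearEquiv.symm_apply_eq, ← comul_eq]
  exact CoalgHomClass.map_comp_comul_apply Φ y

end Twist

section Closure

variable {R : Type u} [CommRing R] {S : Type u} [CommRing S] [Algebra R S]
  [Module.FaithfullyFlat R S]
  {B₀ : Type u} [CommRing B₀] [HopfAlgebra R B₀]
  (Φ : ((S ⊗[R] S) ⊗[R] B₀) →ₐc[S ⊗[R] S] ((S ⊗[R] S) ⊗[R] B₀))
  {A : Type u} [AddCommGroup A] [Module R A]

theorem closure_comul (u : A →ₗ[R] S ⊗[R] B₀) (ν : S ⊗[R] A ≃ₗ[S] S ⊗[R] B₀)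
    (hν : ∀ a, ν ((1 : S) ⊗ₜ[R] a) = u a)
    (hP : ∀ a, Φ (bcL B₀ (i₁ R S) (u a)) = bcL B₀ (i₂ R S) (u a)) (a : A) :
    ∃ z : A ⊗[R] A, Coalgebra.comul (R := S) (u a) = XiP (S := S) u u z := by
  have hE₂ : ∀ z, EE ν ν ((1 : S) ⊗ₜ[R] z) = XiP (S := S) u u z := EE_one_tmul u u ν ν hν hν
  let DS := TensorProduct.AlgebraTensorModule.distribBaseChange R S B₀ B₀
  let u₂ : A ⊗[R] A →ₗ[R] S ⊗[R] (B₀ ⊗[R] B₀) :=
    (DS.symm.toLinearMap.restrictScalars R) ∘ₗ XiP (S := S) u u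
  have hu₂ : ∀ x y, u₂ (x ⊗ₜ[R] y) = JJ (u x) (u y) := fun x y => by
    show DS.symm (XiP (S := S) u u (x ⊗ₜ[R] y)) = _
    rw [XiP_tmul]
    rfl
  let L₂ : S ⊗[R] (A ⊗[R] A) ≃ₗ[S] S ⊗[R] (B₀ ⊗[R] B₀) := (EE ν ν) ≪≫ₗ DS.symm
  have hL₂one : ∀ z, L₂ ((1 : S) ⊗ₜ[R] z) = u₂ z := fun z => by
    show DS.symm (EE ν ν ((1 : S) ⊗ₜ[R] z)) = _
    rw [hE₂]
    rfl
  have hL₂ : ∀ (s : S) z, L₂ (s ⊗ₜ[R] z) = s • u₂ z := fun s z => by
    have : s ⊗ₜ[R] z = s • ((1 : S) ⊗ₜ[R] z) := by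
      rw [TensorProduct.smul_tmul', smul_eq_mul, mul_one]
    rw [this, map_smul, hL₂one]
  -- the generators satisfy the twisted equation
  have hgen : ∀ z, Phi2 Φ (bcL (B₀ ⊗[R] B₀) (i₁ R S) (u₂ z)) =
      bcL (B₀ ⊗[R] B₀) (i₂ R S) (u₂ z) := by
    intro z
    induction z using TensorProduct.induction_on with
    | zero => simp
    | add x y hx hy => rw [map_add, map_add, map_add, map_add, hx, hy]
    | tmul x y => rw [hu₂, JJ_bcL, Phi2_JJ, hP, hP, JJ_bcL]
  set x := LinearMap.lTensor S (Coalgebra.comul (R := R) (A := B₀)) (u a) with hx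
  have hxP : Phi2 Φ (bcL (B₀ ⊗[R] B₀) (i₁ R S) x) = bcL (B₀ ⊗[R] B₀) (i₂ R S) x := by
    rw [hx, lT_bcL, Phi2_lT, hP, lT_bcL]
  have hK : ∀ w' : S ⊗[R] (A ⊗[R] A),
      (TensorProduct.assoc R S S (B₀ ⊗[R] B₀)).symm (LinearMap.lTensor S u₂ w') =
        Phi2 Φ (bcL (B₀ ⊗[R] B₀) (i₁ R S) (L₂ w')) := by
    intro w'
    induction w' using TensorProduct.induction_on with
    | zero => simp
    | add x y hx hy => rw [map_add, map_add, map_add, map_add, map_add, hx, hy]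
    | tmul s z =>
      rw [LinearMap.lTensor_tmul, assoc_symm_tmul', hL₂, bcL_smul, map_smul, hgen]
      rfl
  set w := L₂.symm x with hw
  have hLw : L₂ w = x := by rw [hw, LinearEquiv.apply_symm_apply]
  have h1 : LinearMap.lTensor S u₂ w = (1 : S) ⊗ₜ[R] x := by
    apply (TensorProduct.assoc R S S (B₀ ⊗[R] B₀)).symm.injective
    rw [hK, hLw, hxP, assoc_symm_one_tmul']
  have hΛ : ∀ w' : S ⊗[R] (A ⊗[R] A),
      LinearMap.lTensor S (L₂.toLinearMap.restrictScalars R)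
        (LinearMap.lTensor S (TensorProduct.mk R S (A ⊗[R] A) 1) w') =
        LinearMap.lTensor S u₂ w' := by
    intro w'
    induction w' using TensorProduct.induction_on with
    | zero => simp
    | add x y hx hy => rw [map_add, map_add, map_add, hx, hy]
    | tmul s z =>
      rw [LinearMap.lTensor_tmul, LinearMap.lTensor_tmul, LinearMap.lTensor_tmul]
      congr 1
      exact hL₂one z
  have hinjΛ : Function.Injective
      (LinearMap.lTensor S (L₂.toLinearMap.restrictScalars R)) := by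
    have := (LinearEquiv.lTensor S (L₂.restrictScalars R)).injective
    exact this
  have hAm : TensorProduct.mk R S (S ⊗[R] (A ⊗[R] A)) 1 w =
      LinearMap.lTensor S (TensorProduct.mk R S (A ⊗[R] A) 1) w := by
    apply hinjΛ
    rw [hΛ, h1, TensorProduct.mk_apply, LinearMap.lTensor_tmul]
    exact congrArg (fun y => (1 : S) ⊗ₜ[R] y) hLw
  obtain ⟨z, hz⟩ := Groth.Agent.S1156.result R S (A ⊗[R] A) w hAm
  refine ⟨z, ?_⟩
  rw [comul_eq, ← hx, ← hLw, ← hz, TensorProduct.mk_apply, ← hE₂]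
  show DS (DS.symm (EE ν ν ((1 : S) ⊗ₜ[R] z))) = _
  rw [LinearEquiv.apply_symm_apply]

theorem closure_counit (x : S ⊗[R] B₀)
    (hP : Φ (bcL B₀ (i₁ R S) x) = bcL B₀ (i₂ R S) x) :
    ∃ r : R, Coalgebra.counit (R := S) x = algebraMap R S r := by
  set c := Coalgebra.counit (R := S) x with hc
  have h1 : c ⊗ₜ[R] (1 : S) = (1 : S) ⊗ₜ[R] c := by
    have e1 := counit_bcL (B₀ := B₀) (i₁ R S) x
    have e2 := counit_bcL (B₀ := B₀) (i₂ R S) x
    rw [← hP, CoalgHomClass.counit_comp_apply, e1] at e2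
    exact e2
  have hAm : TensorProduct.mk R S (S ⊗[R] R) 1 (c ⊗ₜ[R] (1 : R)) =
      LinearMap.lTensor S (TensorProduct.mk R S R 1) (c ⊗ₜ[R] (1 : R)) := by
    have h2 := congrArg (LinearMap.lTensor S (TensorProduct.rid R S).symm.toLinearMap) h1
    rw [LinearMap.lTensor_tmul, LinearMap.lTensor_tmul] at h2
    rw [TensorProduct.mk_apply, LinearMap.lTensor_tmul, TensorProduct.mk_apply]
    exact h2.symm
  obtain ⟨r, hr⟩ := Groth.Agent.S1156.result R S R _ hAm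
  refine ⟨r, ?_⟩
  have h3 := congrArg (TensorProduct.rid R S) hr
  rw [TensorProduct.mk_apply, TensorProduct.rid_tmul, TensorProduct.rid_tmul, one_smul] at h3
  rw [← h3, Algebra.algebraMap_eq_smul_one]

theorem closure_antipode (x : S ⊗[R] B₀)
    (hP : Φ (bcL B₀ (i₁ R S) x) = bcL B₀ (i₂ R S) x) :
    Φ (bcL B₀ (i₁ R S) (HopfAlgebra.antipode S x)) =
      bcL B₀ (i₂ R S) (HopfAlgebra.antipode S x) := by
  rw [← antipode_bcL, ← antipode_bcL, ← hP]
  exact (Groth.Agent.Lib.Helper27.MultMono.antipode_apply Φ _).symm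

end Closure

end Groth.Agent.Lib.Helper27.HopfDesc
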