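import Mathlib
import Groth.Agent.Lib.Helper27.HopfDescD

/-!
# Descent of a twisted form of `S ⊗ B₀`: the descended Hopf algebra (helper27)
-/

set_option autoImplicit false
universe u
open TensorProduct

namespace Groth.Agent.Lib.Helper27.HopfDesc

section Main

variable {R : Type u} [CommRing R] {S : Type u} [CommRing S] [Algebra R S]
  [Module.FaithfullyFlat R S]
  {B₀ : Type u} [CommRing B₀] [HopfAlgebra R B₀]

theorem exists_descended_hopf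
    (Φ : ((S ⊗[R] S) ⊗[R] B₀) →ₐc[S ⊗[R] S] ((S ⊗[R] S) ⊗[R] B₀))
    (hΦ : IsDescent (twist Φ)) :
    ∃ (A : Type u) (_ : CommRing A) (_ : HopfAlgebra R A) (e : S ⊗[R] A ≃ₐc[S] S ⊗[R] B₀),
      ∀ a : A, Φ (bcL B₀ (i₁ R S) (e ((1 : S) ⊗ₜ[R] a))) =
        bcL B₀ (i₂ R S) (e ((1 : S) ⊗ₜ[R] a)) := by
  let aAlg : S ⊗[R] B₀ →ₐ[R] (S ⊗[R] S) ⊗[R] B₀ :=
    ((Φ : ((S ⊗[R] S) ⊗[R] B₀) →ₐ[S ⊗[R] S] ((S ⊗[R] S) ⊗[R] B₀)).restrictScalars R).comp
      (Algebra.TensorProduct.map (i₁ R S) (AlgHom.id R B₀))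
  let bAlg : S ⊗[R] B₀ →ₐ[R] (S ⊗[R] S) ⊗[R] B₀ :=
    Algebra.TensorProduct.map (i₂ R S) (AlgHom.id R B₀)
  have haAlg : ∀ x, aAlg x = Φ (bcL B₀ (i₁ R S) x) := fun x => rfl
  have hbAlg : ∀ x, bAlg x = bcL B₀ (i₂ R S) x := fun x => rfl
  let 𝔸 : Subalgebra R (S ⊗[R] B₀) := AlgHom.equalizer aAlg bAlg
  have hmem : ∀ x, x ∈ 𝔸 ↔ Φ (bcL B₀ (i₁ R S) x) = bcL B₀ (i₂ R S) x := fun x => by
    rw [← haAlg, ← hbAlg]
    exact AlgHom.mem_equalizer aAlg bAlg x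
  have hsub : ∀ x, x ∈ 𝔸 ↔ x ∈ desc (twist Φ) := fun x => by
    rw [hmem, mem_desc, aMap_twist]
    rfl
  let e0 : ↥𝔸 ≃ₗ[R] ↥(desc (twist Φ)) :=
    { toFun := fun x => ⟨x.1, (hsub x.1).1 x.2⟩
      invFun := fun y => ⟨y.1, (hsub y.1).2 y.2⟩
      map_add' := fun _ _ => rfl
      map_smul' := fun _ _ => rfl
      left_inv := fun _ => rfl
      right_inv := fun _ => rfl }
  have hcomp : ∀ x, LinearMap.liftBaseChange S 𝔸.val.toLinearMap x =
      LinearMap.liftBaseChange S (desc (twist Φ)).subtype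
        (LinearEquiv.lTensor S e0 x) := by
    intro x
    induction x using TensorProduct.induction_on with
    | zero => simp
    | add x y hx hy => rw [map_add, map_add, map_add, hx, hy]
    | tmul s a =>
      rw [LinearEquiv.lTensor_tmul, LinearMap.liftBaseChange_tmul, LinearMap.liftBaseChange_tmul]
      rfl
  have hbij : Function.Bijective (LinearMap.liftBaseChange S 𝔸.val.toLinearMap) := by
    have h1 := (desc_bijective (twist Φ) hΦ).comp (LinearEquiv.lTensor S e0).bijective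
    have h2 : (LinearMap.liftBaseChange S 𝔸.val.toLinearMap : S ⊗[R] ↥𝔸 → S ⊗[R] B₀) =
        (LinearMap.liftBaseChange S (desc (twist Φ)).subtype) ∘ (LinearEquiv.lTensor S e0) :=
      funext hcomp
    rw [h2]
    exact h1
  let ν : S ⊗[R] ↥𝔸 ≃ₗ[S] S ⊗[R] B₀ := LinearEquiv.ofBijective _ hbij
  have hν : ∀ a, ν ((1 : S) ⊗ₜ[R] a) = 𝔸.val a := fun a => by
    show LinearMap.liftBaseChange S 𝔸.val.toLinearMap ((1 : S) ⊗ₜ[R] a) = _
    rw [LinearMap.liftBaseChange_tmul, one_smul]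
    rfl
  have hP : ∀ a : ↥𝔸, Φ (bcL B₀ (i₁ R S) (𝔸.val.toLinearMap a)) =
      bcL B₀ (i₂ R S) (𝔸.val.toLinearMap a) := fun a => (hmem a.1).1 a.2
  obtain ⟨A, _, _, e, j, he⟩ := exists_hopf_of_closure (S := S) 𝔸.val ν hν
    (fun a => closure_comul Φ 𝔸.val.toLinearMap ν hν hP a)
    (fun a => closure_counit Φ _ (hP a))
    (fun a => ⟨⟨HopfAlgebra.antipode S (a : S ⊗[R] B₀),
      (hmem _).2 (closure_antipode Φ _ (hP a))⟩, rfl⟩)
  refine ⟨A, inferInstance, inferInstance, e, fun a => ?_⟩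
  rw [he]
  exact hP (j a)

end Main

end Groth.Agent.Lib.Helper27.HopfDesc
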