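import Mathlib
import Groth.Prelude.Def_SGA3b
import Groth.Agent.S2970
import Groth.Agent.Lib.Helper27.AdicLiftF

/-!
# Homomorphisms into groups of multiplicative type: base change, rigidity, assembling (helper27)
-/

set_option autoImplicit false
universe u
open TensorProduct WithConv SGA3b

namespace Groth.Agent.Lib.Helper27.MTHom

open Groth.Agent.Lib.Helper27.MultRigid Groth.Agent.Lib.Helper17.MultLift
  Groth.Agent.Lib.Helper17.MultBC Groth.Agent.Lib.Helper27.HopfLift
  Groth.Agent.Lib.Helper27.HopfNilLift Groth.Agent.Lib.Helper27.AdicLift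

section BC

variable {R T T' : Type u} [CommRing R] [CommRing T] [CommRing T'] [Algebra R T] [Algebra R T']
  {B : Type u} [CommRing B] [Bialgebra R B] {C : Type u} [CommRing C] [Bialgebra R C]

theorem cancel_one_tmul [Algebra T T'] [IsScalarTower R T T'] (w : T ⊗[R] B) :
    cancelBaseChangeBialg R T T' B ((1 : T') ⊗ₜ[T] w) =
      Algebra.TensorProduct.map (IsScalarTower.toAlgHom R T T') (AlgHom.id R B) w := by
  induction w using TensorProduct.induction_on with
  | zero => simp
  | tmul t b =>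
    rw [cancelBaseChangeBialg_tmul, Algebra.TensorProduct.map_tmul, AlgHom.id_apply,
      Algebra.smul_def, mul_one]
    rfl
  | add x y hx hy => rw [TensorProduct.tmul_add, map_add, map_add, hx, hy]

/-- base change of a homomorphism along a map of base algebras -/
theorem exists_bc (ι : T →ₐ[R] T') (Ψ : (T ⊗[R] C) →ₐc[T] (T ⊗[R] B)) :
    ∃ Ψ' : (T' ⊗[R] C) →ₐc[T'] (T' ⊗[R] B), ∀ x : T ⊗[R] C,
      Ψ' (Algebra.TensorProduct.map ι (AlgHom.id R C) x) =
        Algebra.TensorProduct.map ι (AlgHom.id R B) (Ψ x) := by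
  letI : Algebra T T' := ι.toRingHom.toAlgebra
  haveI : IsScalarTower R T T' := IsScalarTower.of_algebraMap_eq (fun r => (ι.commutes r).symm)
  have hι : IsScalarTower.toAlgHom R T T' = ι := AlgHom.ext (fun _ => rfl)
  let eB := cancelBaseChangeBialg R T T' B
  let eC := cancelBaseChangeBialg R T T' C
  refine ⟨(eB.toBialgHom).comp
    ((Bialgebra.TensorProduct.map (BialgHom.id T' T') Ψ).comp eC.symm.toBialgHom), fun x => ?_⟩
  rw [← hι, ← cancel_one_tmul (T' := T') x]
  show eB (Bialgebra.TensorProduct.map (BialgHom.id T' T') Ψ (eC.symm (eC _))) = _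
  rw [BialgEquiv.symm_apply_apply, Bialgebra.TensorProduct.map_tmul]
  exact cancel_one_tmul (T' := T') (Ψ x)

end BC

section Rigid

variable {k : Type u} [CommRing k] {X Y : Type u} [CommRing X] [HopfAlgebra k X] [CommRing Y]
  [HopfAlgebra k Y]

/-- rigidity: two homomorphisms into a group of multiplicative type from a commutative group
which are congruent modulo a nilpotent ideal on a generating family are equal -/
theorem eq_of_congr_base [Coalgebra.IsCocomm k X] (N₀ : Ideal k) (hN₀ : IsNilpotent N₀)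
    (hY : IsMultType k Y) (Ψ₁ Ψ₂ : X →ₐc[k] Y) {ι : Type*} (g : ι → X)
    (hg : Submodule.span k (Set.range g) = ⊤)
    (h : ∀ i, Ψ₁ (g i) - Ψ₂ (g i) ∈ N₀ • (⊤ : Submodule k Y)) : Ψ₁ = Ψ₂ := by
  let L : X →ₗ[k] Y := (Ψ₁ : X →ₐ[k] Y).toLinearMap - (Ψ₂ : X →ₐ[k] Y).toLinearMap
  have hL : ∀ x, L x = Ψ₁ x - Ψ₂ x := fun x => rfl
  have hle : Submodule.span k (Set.range g) ≤ (N₀ • (⊤ : Submodule k Y)).comap L := by
    rw [Submodule.span_le]
    rintro _ ⟨i, rfl⟩
    rw [SetLike.mem_coe, Submodule.mem_comap, hL]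
    exact h i
  have hall : ∀ x, Ψ₁ x - Ψ₂ x ∈ N₀ • (⊤ : Submodule k Y) := by
    intro x
    have hx : x ∈ Submodule.span k (Set.range g) := by rw [hg]; trivial
    have := hle hx
    rwa [Submodule.mem_comap, hL] at this
  apply BialgHom.ext
  intro x
  exact rigid_multType N₀ hN₀ hY (Ψ₁ : X →ₗc[k] Y) (Ψ₂ : X →ₗc[k] Y)
    (fun x => by
      rw [← sub_eq_zero, ← TensorProduct.tmul_sub, one_tmul_eq_zero_iff]
      exact hall x)
    (fun R' _ _ g _ => Commute.all _ _) x

end Rigid

section Cocomm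

theorem isCocomm_of_isMultType {R : Type u} [CommRing R] {C : Type u} [CommRing C]
    [HopfAlgebra R C] (h : IsMultType R C) : Coalgebra.IsCocomm R C := by
  obtain ⟨s, hs, hsf⟩ := h
  refine ⟨?_⟩
  apply LinearMap.ext
  intro c
  rw [LinearMap.comp_apply, LinearEquiv.coe_coe, ← sub_eq_zero]
  have h0 := Submodule.mem_of_span_eq_top_of_smul_pow_mem (⊥ : Submodule R (C ⊗[R] C)) s hs
    (TensorProduct.comm R C C (Coalgebra.comul (R := R) c) - Coalgebra.comul (R := R) c) ?_
  · exact (Submodule.mem_bot R).1 h0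
  rintro ⟨f, hf⟩
  obtain ⟨P, _, _, _, _, _, N, _, ⟨e⟩⟩ := Groth.Agent.S2970.locDiag_of f (hsf f hf)
  set e' : P ⊗[R] C ≃ₐc[P] MonoidAlgebra P N :=
    (cancelBaseChangeBialg R (Localization.Away f) P C).symm.trans e with he'
  have h1 : ∃ n : ℕ, f ^ n • (TensorProduct.comm R C C (Coalgebra.comul (R := R) c) -
      Coalgebra.comul (R := R) c) = 0 := by
    apply exists_pow_smul_eq_zero_of_flat f (P := P)
    apply (TensorProduct.AlgebraTensorModule.distribBaseChange R P C C).injective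
    apply (TensorProduct.congr (e' : P ⊗[R] C ≃ₐ[P] MonoidAlgebra P N).toLinearEquiv
      (e' : P ⊗[R] C ≃ₐ[P] MonoidAlgebra P N).toLinearEquiv).injective
    rw [← Xi_thetaOf_eq e', map_zero, map_zero, map_sub, sub_eq_zero]
    have hsw : ∀ z : C ⊗[R] C, Xi (R := R) (R' := P) (thetaOf e') (TensorProduct.comm R C C z) =
        TensorProduct.comm P _ _ (Xi (R := R) (R' := P) (thetaOf e') z) := by
      intro z
      induction z using TensorProduct.induction_on with
      | zero => simp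
      | tmul x y => simp
      | add x y hx hy => rw [map_add, map_add, map_add, map_add, hx, hy]
    rw [hsw, ← isSemiComul_thetaOf e' c]
    exact Coalgebra.comm_comul P _
  obtain ⟨n, hn⟩ := h1
  exact ⟨n, by rw [Submodule.mem_bot]; exact hn⟩

end Cocomm

section Assemble

variable {R : Type u} [CommRing R] {B C : Type u} [CommRing B] [HopfAlgebra R B] [CommRing C]
  [HopfAlgebra R C]

/-- the comultiplicativity defect of a linear map which becomes a homomorphism after base change
vanishes after that base change -/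
theorem one_tmul_defect {T : Type u} [CommRing T] [Algebra R T]
    (Ψ : (T ⊗[R] C) →ₐc[T] (T ⊗[R] B)) (φ : C →ₗ[R] B)
    (h : ∀ c, (1 : T) ⊗ₜ[R] φ c = Ψ ((1 : T) ⊗ₜ[R] c)) (c : C) :
    (1 : T) ⊗ₜ[R] (Coalgebra.comul (R := R) (φ c) -
      TensorProduct.map φ φ (Coalgebra.comul (R := R) c)) = 0 := by
  apply (TensorProduct.AlgebraTensorModule.distribBaseChange R T B B).injective
  rw [map_zero, ← Xi_bcMap_eq, map_sub, sub_eq_zero]
  have key : ∀ z : C ⊗[R] C,
      Xi (R := T) (R' := T) (Ψ : (T ⊗[R] C) →ₗc[T] (T ⊗[R] B)).toLinearMap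
        (Xi (R := R) (R' := T) (bcMap T C) z) =
      Xi (R := R) (R' := T) (bcMap T B) (TensorProduct.map φ φ z) := by
    intro z
    induction z using TensorProduct.induction_on with
    | zero => simp
    | tmul x y =>
      rw [Xi_tmul, Xi_tmul, TensorProduct.map_tmul, Xi_tmul, bcMap_apply, bcMap_apply,
        bcMap_apply, bcMap_apply]
      show Ψ _ ⊗ₜ[T] Ψ _ = _
      rw [← h, ← h]
    | add x y hx hy => rw [map_add, map_add, map_add, map_add, hx, hy]
  rw [← key, ← isSemiComul_bcMap (R := R) (R' := T) (A := B) (φ c),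
    ← isSemiComul_bcMap (R := R) (R' := T) (A := C) c, bcMap_apply, bcMap_apply, h]
  exact isSemiComul_coalgHom (Ψ : (T ⊗[R] C) →ₗc[T] (T ⊗[R] B)) _

/-- assembling a homomorphism from its values, given homomorphisms over a jointly injective family
of base changes -/
theorem exists_bialgHom_of_family {ι : Type*} (p : ι → Prop) (T : ι → Type u)
    [∀ i, CommRing (T i)] [∀ i, Algebra R (T i)]
    (injB : ∀ b : B, (∀ i, p i → (1 : T i) ⊗ₜ[R] b = 0) → b = 0)
    (injBB : ∀ z : B ⊗[R] B, (∀ i, p i → (1 : T i) ⊗ₜ[R] z = 0) → z = 0)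
    (Ψ : ∀ i, (T i ⊗[R] C) →ₐc[T i] (T i ⊗[R] B)) (ψ : C → B)
    (h : ∀ i, p i → ∀ c, (1 : T i) ⊗ₜ[R] ψ c = Ψ i ((1 : T i) ⊗ₜ[R] c)) :
    ∃ Φ : C →ₐc[R] B, ∀ c, Φ c = ψ c := by
  have inj : ∀ y z : B, (∀ i, p i → (1 : T i) ⊗ₜ[R] y = (1 : T i) ⊗ₜ[R] z) → y = z := by
    intro y z hyz
    rw [← sub_eq_zero]
    apply injB
    intro i hi
    rw [TensorProduct.tmul_sub, hyz i hi, sub_self]
  let φl : C →ₗ[R] B :=
    { toFun := ψ
      map_add' := fun c c' => inj _ _ (fun i hi => by
        rw [TensorProduct.tmul_add, h i hi, h i hi, h i hi, TensorProduct.tmul_add, map_add])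
      map_smul' := fun r c => inj _ _ (fun i hi => by
        rw [RingHom.id_apply, TensorProduct.tmul_smul, h i hi, h i hi, TensorProduct.tmul_smul,
          ← algebraMap_smul (T i) r ((1 : T i) ⊗ₜ[R] c), map_smul, algebraMap_smul]) }
  have hφl : ∀ c, φl c = ψ c := fun c => rfl
  let φ : C →ₐ[R] B := AlgHom.ofLinearMap φl
    (inj _ _ (fun i hi => by
      rw [hφl, h i hi]
      exact map_one (Ψ i)))
    (fun c c' => inj _ _ (fun i hi => by
      rw [hφl, hφl, hφl, h i hi]
      have h1 : (1 : T i) ⊗ₜ[R] (ψ c * ψ c') =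
          ((1 : T i) ⊗ₜ[R] ψ c) * ((1 : T i) ⊗ₜ[R] ψ c') := by
        rw [Algebra.TensorProduct.tmul_mul_tmul, one_mul]
      have h2 : (1 : T i) ⊗ₜ[R] (c * c') =
          ((1 : T i) ⊗ₜ[R] c) * ((1 : T i) ⊗ₜ[R] c') := by
        rw [Algebra.TensorProduct.tmul_mul_tmul, one_mul]
      rw [h1, h2, map_mul, h i hi, h i hi]))
  have hφ : ∀ c, φ c = ψ c := fun c => rfl
  have hdef : ∀ c, (lin ((Bialgebra.comulAlgHom R B).comp φ) -
      lin ((i1 (R := R) (A := B)).comp φ) * lin ((i2 (R := R) (A := B)).comp φ)) c = 0 := by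
    intro c
    have e1 : (lin ((i1 (R := R) (A := B)).comp φ) * lin ((i2 (R := R) (A := B)).comp φ)) c =
        TensorProduct.map φ.toLinearMap φ.toLinearMap (Coalgebra.comul (R := R) c) :=
      mul_map_i1_i2 φ.toLinearMap φ.toLinearMap _
    show Coalgebra.comul (R := R) (φ c) -
      (lin ((i1 (R := R) (A := B)).comp φ) * lin ((i2 (R := R) (A := B)).comp φ)) c = 0
    rw [e1]
    apply injBB
    intro i hi
    exact one_tmul_defect (Ψ i) φ.toLinearMap (fun c => h i hi c) c
  have hc : postR (Bialgebra.comulAlgHom R B) (lin φ) =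
      postR (i1 (R := R) (A := B)) (lin φ) * postR (i2 (R := R) (A := B)) (lin φ) := by
    have h0 : lin ((Bialgebra.comulAlgHom R B).comp φ) -
        lin ((i1 (R := R) (A := B)).comp φ) * lin ((i2 (R := R) (A := B)).comp φ) = 0 := by
      apply WithConv.ext
      ext c
      exact hdef c
    exact sub_eq_zero.mp h0
  obtain ⟨Φ, hΦ⟩ := exists_bialgHom_of_comul_compat φ hc
  exact ⟨Φ, fun c => by rw [hΦ, hφ]⟩

end Assemble

end Groth.Agent.Lib.Helper27.MTHom
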