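import Mathlib
import Groth.Agent.Lib.Helper27.MTHomA

/-!
# Homomorphisms into groups of multiplicative type: local existence of lifts (helper27)
-/

set_option autoImplicit false
universe u
open TensorProduct WithConv SGA3b

namespace Groth.Agent.Lib.Helper27.MTHom

open Groth.Agent.Lib.Helper27.MultRigid Groth.Agent.Lib.Helper17.MultLift
  Groth.Agent.Lib.Helper17.MultBC Groth.Agent.Lib.Helper27.HopfLift
  Groth.Agent.Lib.Helper27.HopfNilLift Groth.Agent.Lib.Helper27.AdicLift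

section LE

variable {R K : Type u} [CommRing R] [CommRing K] [Algebra R K]
  {B C : Type u} [CommRing B] [HopfAlgebra R B] [CommRing C] [HopfAlgebra R C]

theorem exists_local (hsurj : Function.Surjective (algebraMap R K))
    (hnil : IsNilpotent (RingHom.ker (algebraMap R K)))
    (hB : IsMultType R B)
    (φ₀ : (K ⊗[R] C) →ₐc[K] (K ⊗[R] B)) (β : C → B)
    (hβ : ∀ c, (1 : K) ⊗ₜ[R] β c = φ₀ ((1 : K) ⊗ₜ[R] c))
    {T : Type u} [CommRing T] [Algebra R T] {M : Type u} [CommGroup M]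
    (e : T ⊗[R] C ≃ₐc[T] MonoidAlgebra T M) :
    ∃ Ψ : (T ⊗[R] C) →ₐc[T] (T ⊗[R] B), ∀ c : C,
      Ψ ((1 : T) ⊗ₜ[R] c) - (1 : T) ⊗ₜ[R] β c ∈
        RingHom.ker (algebraMap R K) • (⊤ : Submodule R (T ⊗[R] B)) := by
  classical
  set N := RingHom.ker (algebraMap R K) with hN
  set NT := N.map (algebraMap R T) with hNT
  have hNTnil : ∀ x ∈ NT, IsNilpotent x := nil_map _ _ (nil_of_isNilpotent N hnil)
  have hBT : IsMultType T (T ⊗[R] B) := isMultType_baseChange (R' := T) B hB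
  let j : T →ₐ[R] K ⊗[R] T := Algebra.TensorProduct.includeRight
  let i : K →ₐ[R] K ⊗[R] T := Algebra.TensorProduct.includeLeft
  have hjsurj : Function.Surjective j := fun w => exists_one_tmul hsurj w
  let ρB : T ⊗[R] B →ₐ[R] (K ⊗[R] T) ⊗[R] B := Algebra.TensorProduct.map j (AlgHom.id R B)
  let ρC : T ⊗[R] C →ₐ[R] (K ⊗[R] T) ⊗[R] C := Algebra.TensorProduct.map j (AlgHom.id R C)
  obtain ⟨Φ, hΦ⟩ := exists_bc i φ₀
  have hΦ1 : ∀ c, Φ ((1 : K ⊗[R] T) ⊗ₜ[R] c) = (1 : K ⊗[R] T) ⊗ₜ[R] β c := by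
    intro c
    have h := hΦ ((1 : K) ⊗ₜ[R] c)
    rw [map_one_tmul, ← hβ, map_one_tmul] at h
    exact h
  -- kernel of the reduction
  have hK2 : ∀ y : T ⊗[R] B, ρB y = 0 → y ∈ N • (⊤ : Submodule R (T ⊗[R] B)) := by
    intro y hy
    apply mem_smul_top_of_one_tmul_eq_zero hsurj
    have h1 := congrArg (TensorProduct.assoc R K T B) hy
    rw [assoc_map_includeRight, map_zero] at h1
    exact h1
  have hK1 : ∀ y ∈ NT • (⊤ : Submodule T (T ⊗[R] B)), ρB y = 0 := by
    intro y hy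
    have hy' := conv_mem_smul_top N hy
    refine Submodule.smul_induction_on hy' (fun r hr w _ => ?_) (fun a b ha hb => ?_)
    · rw [map_smul, ← algebraMap_smul K r (ρB w), (RingHom.mem_ker).1 hr, zero_smul]
    · rw [map_add, ha, hb, add_zero]
  have hsemiB : ∀ (t : T) (y : T ⊗[R] B), ρB (t • y) = j t • ρB y := by
    intro t y
    induction y using TensorProduct.induction_on with
    | zero => simp
    | tmul t' b =>
      rw [TensorProduct.smul_tmul', smul_eq_mul]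
      show (j (t * t')) ⊗ₜ[R] b = j t • ((j t') ⊗ₜ[R] b)
      rw [TensorProduct.smul_tmul', smul_eq_mul, map_mul]
    | add a b ha hb => rw [smul_add, map_add, ha, hb, map_add, smul_add]
  have hsemiC : ∀ (t : T) (y : T ⊗[R] C), ρC (t • y) = j t • ρC y := by
    intro t y
    induction y using TensorProduct.induction_on with
    | zero => simp
    | tmul t' b =>
      rw [TensorProduct.smul_tmul', smul_eq_mul]
      show (j (t * t')) ⊗ₜ[R] b = j t • ((j t') ⊗ₜ[R] b)
      rw [TensorProduct.smul_tmul', smul_eq_mul, map_mul]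
    | add a b ha hb => rw [smul_add, map_add, ha, hb, map_add, smul_add]
  have hρsurj : ∀ w : (K ⊗[R] T) ⊗[R] B, ∃ y, ρB y = w := by
    intro w
    induction w using TensorProduct.induction_on with
    | zero => exact ⟨0, map_zero _⟩
    | tmul kt b =>
      obtain ⟨t, ht⟩ := hjsurj kt
      exact ⟨t ⊗ₜ[R] b, by rw [← ht]; rfl⟩
    | add x y hx hy =>
      obtain ⟨a, rfl⟩ := hx
      obtain ⟨b, rfl⟩ := hy
      exact ⟨a + b, map_add _ _ _⟩
  -- the T-algebra structure of K ⊗ T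
  letI : Algebra T (K ⊗[R] T) := j.toRingHom.toAlgebra
  haveI : IsScalarTower R T (K ⊗[R] T) :=
    IsScalarTower.of_algebraMap_eq (fun r => (j.commutes r).symm)
  have hjalg : IsScalarTower.toAlgHom R T (K ⊗[R] T) = j := AlgHom.ext (fun _ => rfl)
  have hjsurj' : Function.Surjective (algebraMap T (K ⊗[R] T)) := hjsurj
  have hker : RingHom.ker (algebraMap T (K ⊗[R] T)) ≤ NT := by
    intro t ht
    have h0' : algebraMap T (K ⊗[R] T) t = 0 := (RingHom.mem_ker).1 ht
    change j t = 0 at h0'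
    have h0 : (1 : K) ⊗ₜ[R] t = 0 := h0'
    exact mem_map_of_one_tmul_eq_zero hsurj h0
  let eB := cancelBaseChangeBialg R T (K ⊗[R] T) B
  have hcan : ∀ w : T ⊗[R] B, eB ((1 : K ⊗[R] T) ⊗ₜ[T] w) = ρB w := fun w => by
    rw [cancel_one_tmul, hjalg]
  -- group-like elements
  let g : M → T ⊗[R] C := fun m => e.symm (MonoidAlgebra.of T M m)
  have hg : ∀ m, IsGroupLikeElem T (g m) := fun m =>
    (MonoidAlgebra.isGroupLikeElem_of (R := T) (A := T) m).map e.symm
  have hΦg : ∀ m, IsGroupLikeElem (K ⊗[R] T) (Φ (ρC (g m))) := fun m =>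
    (isGroupLike_map j (hg m)).map Φ
  have hex : ∀ m : M, ∃ γ : T ⊗[R] B, IsGroupLikeElem T γ ∧ ρB γ = Φ (ρC (g m)) := by
    intro m
    obtain ⟨a, ha⟩ := hρsurj (Φ (ρC (g m)))
    have hgl : IsGroupLikeElem (K ⊗[R] T) ((1 : K ⊗[R] T) ⊗ₜ[T] a) := by
      have h := (hΦg m).map eB.symm
      rwa [← ha, ← hcan, BialgEquiv.symm_apply_apply] at h
    obtain ⟨h1, h2⟩ := tmul_comul_sub_eq_zero hgl
    have h1' := Submodule.smul_mono_left hker
      (mem_smul_top_of_one_tmul_eq_zero (k := T) (K := K ⊗[R] T) hjsurj' h1)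
    have h2' : Coalgebra.counit (R := T) a - 1 ∈ NT := hker ((RingHom.mem_ker).2 h2)
    obtain ⟨γ, hγ, hγa⟩ := Groth.Agent.S2970.exists_groupLike_lift_global NT hNTnil hBT a h1' h2'
    refine ⟨γ, hγ, ?_⟩
    rw [← ha, ← sub_eq_zero, ← map_sub]
    exact hK1 _ hγa
  choose γ hγ1 hγ2 using hex
  have huniq : ∀ x y : T ⊗[R] B, IsGroupLikeElem T x → IsGroupLikeElem T y → ρB x = ρB y →
      x = y := by
    intro x y hx hy hxy
    apply Groth.Agent.S2970.groupLike_eq_of_congr NT hNTnil hBT hx hy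
    apply semi_mem_smul_top N
    apply hK2
    rw [map_sub, hxy, sub_self]
  have hone : γ 1 = 1 := by
    apply huniq _ _ (hγ1 1) IsGroupLikeElem.one
    rw [hγ2 1, map_one ρB]
    show Φ (ρC (e.symm (MonoidAlgebra.of T M 1))) = 1
    rw [map_one (MonoidAlgebra.of T M), map_one, map_one, map_one]
  have hmul : ∀ m m', γ (m * m') = γ m * γ m' := by
    intro m m'
    apply huniq _ _ (hγ1 _) ((hγ1 m).mul (hγ1 m'))
    rw [hγ2, map_mul ρB, hγ2, hγ2, ← map_mul, ← map_mul]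
    show Φ (ρC (e.symm (MonoidAlgebra.of T M (m * m')))) =
      Φ (ρC (e.symm (MonoidAlgebra.of T M m) * e.symm (MonoidAlgebra.of T M m')))
    rw [map_mul (MonoidAlgebra.of T M), map_mul]
  let γ' : M →* GroupLike T (T ⊗[R] B) :=
    { toFun := fun m => ⟨γ m, hγ1 m⟩
      map_one' := GroupLike.ext hone
      map_mul' := fun m m' => GroupLike.ext (hmul m m') }
  let Φ' : MonoidAlgebra T M →ₐc[T] T ⊗[R] B :=
    (MonoidAlgebra.liftGroupLikeBialgHom (R := T) (A := T ⊗[R] B)).comp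
      (MonoidAlgebra.mapDomainBialgHom T γ')
  have hΦ'of : ∀ m, Φ' (MonoidAlgebra.of T M m) = γ m := by
    intro m
    change MonoidAlgebra.liftGroupLikeBialgHom
      (MonoidAlgebra.mapDomainBialgHom T γ' (MonoidAlgebra.of T M m)) = γ m
    rw [MonoidAlgebra.of_apply, MonoidAlgebra.mapDomainBialgHom_single]
    simp [MonoidAlgebra.liftGroupLikeBialgHom, γ']
  have hkey : ∀ z : MonoidAlgebra T M, ρB (Φ' z) = Φ (ρC (e.symm z)) := by
    intro z
    induction z using MonoidAlgebra.induction_on with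
    | of m => rw [hΦ'of, hγ2]
    | add x y hx hy => rw [map_add, map_add, hx, hy, map_add, map_add, map_add]
    | smul t x hx => rw [map_smul, hsemiB, hx, map_smul, hsemiC, map_smul]
  refine ⟨Φ'.comp e.toBialgHom, fun c => ?_⟩
  apply hK2
  rw [map_sub, sub_eq_zero]
  show ρB (Φ' (e ((1 : T) ⊗ₜ[R] c))) = ρB ((1 : T) ⊗ₜ[R] β c)
  rw [hkey, BialgEquiv.symm_apply_apply]
  have h1 : ρC ((1 : T) ⊗ₜ[R] c) = (1 : K ⊗[R] T) ⊗ₜ[R] c := map_one_tmul j c
  have h2 : ρB ((1 : T) ⊗ₜ[R] β c) = (1 : K ⊗[R] T) ⊗ₜ[R] β c := map_one_tmul j (β c)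
  rw [h1, h2, hΦ1]

end LE

end Groth.Agent.Lib.Helper27.MTHom
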