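import Mathlib
import Groth.Agent.Lib.Helper27.MTHomB

/-!
# Homomorphisms into groups of multiplicative type: descent, gluing and lifting (helper27)
-/

set_option autoImplicit false
universe u
open TensorProduct WithConv SGA3b

namespace Groth.Agent.Lib.Helper27.MTHom

open Groth.Agent.Lib.Helper27.MultRigid Groth.Agent.Lib.Helper17.MultLift
  Groth.Agent.Lib.Helper17.MultBC Groth.Agent.Lib.Helper27.HopfLift
  Groth.Agent.Lib.Helper27.HopfNilLift

section Span

theorem span_one_tmul {k T X : Type*} [CommRing k] [CommRing T] [Algebra k T] [AddCommGroup X]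
    [Module k X] {ι : Type*} (g : ι → X) (hg : Submodule.span k (Set.range g) = ⊤) :
    Submodule.span T (Set.range fun i => (1 : T) ⊗ₜ[k] g i) = ⊤ := by
  rw [eq_top_iff]
  intro x hx
  clear hx
  induction x using TensorProduct.induction_on with
  | zero => exact zero_mem _
  | tmul t c =>
    have hc : c ∈ Submodule.span k (Set.range g) := by rw [hg]; trivial
    have h1 : (1 : T) ⊗ₜ[k] c ∈ Submodule.span T (Set.range fun i => (1 : T) ⊗ₜ[k] g i) := by
      induction hc using Submodule.span_induction with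
      | mem x hx =>
        obtain ⟨i, rfl⟩ := hx
        exact Submodule.subset_span ⟨i, rfl⟩
      | zero => rw [TensorProduct.tmul_zero]; exact zero_mem _
      | add x y _ _ hx hy => rw [TensorProduct.tmul_add]; exact add_mem hx hy
      | smul r x _ hx =>
        rw [TensorProduct.tmul_smul, ← algebraMap_smul T r ((1 : T) ⊗ₜ[k] x)]
        exact Submodule.smul_mem _ _ hx
    have h2 : t ⊗ₜ[k] c = t • ((1 : T) ⊗ₜ[k] c) := by
      rw [TensorProduct.smul_tmul', smul_eq_mul, mul_one]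
    rw [h2]
    exact Submodule.smul_mem _ _ h1
  | add x y hx hy => exact add_mem hx hy

end Span

section Descent

variable {k : Type u} [CommRing k] {B' C' : Type u} [CommRing B'] [HopfAlgebra k B']
  [CommRing C'] [HopfAlgebra k C']

/-- congruence of two base changes, on the overlap -/
theorem overlap_eq_hom [Coalgebra.IsCocomm k C'] (N₀ : Ideal k) (hN₀ : IsNilpotent N₀)
    (hB' : IsMultType k B')
    {P₁ P₂ PP : Type u} [CommRing P₁] [Algebra k P₁] [CommRing P₂] [Algebra k P₂]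
    [CommRing PP] [Algebra k PP] (j₁ : P₁ →ₐ[k] PP) (j₂ : P₂ →ₐ[k] PP)
    (Ψ₁ : (P₁ ⊗[k] C') →ₐc[P₁] (P₁ ⊗[k] B')) (Ψ₂ : (P₂ ⊗[k] C') →ₐc[P₂] (P₂ ⊗[k] B'))
    {ι : Type*} (g : ι → C') (hg : Submodule.span k (Set.range g) = ⊤) (β' : ι → B')
    (hΨ₁ : ∀ i, Ψ₁ ((1 : P₁) ⊗ₜ[k] g i) - (1 : P₁) ⊗ₜ[k] β' i ∈
      N₀ • (⊤ : Submodule k (P₁ ⊗[k] B')))
    (hΨ₂ : ∀ i, Ψ₂ ((1 : P₂) ⊗ₜ[k] g i) - (1 : P₂) ⊗ₜ[k] β' i ∈
      N₀ • (⊤ : Submodule k (P₂ ⊗[k] B')))
    (x : C') :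
    Algebra.TensorProduct.map j₁ (AlgHom.id k B') (Ψ₁ ((1 : P₁) ⊗ₜ[k] x)) =
      Algebra.TensorProduct.map j₂ (AlgHom.id k B') (Ψ₂ ((1 : P₂) ⊗ₜ[k] x)) := by
  obtain ⟨Ψ₁', h₁⟩ := exists_bc j₁ Ψ₁
  obtain ⟨Ψ₂', h₂⟩ := exists_bc j₂ Ψ₂
  have hBPP : IsMultType PP (PP ⊗[k] B') := isMultType_baseChange (R' := PP) B' hB'
  have hNPP : IsNilpotent (N₀.map (algebraMap k PP)) := isNilpotent_map _ _ hN₀
  have heq : Ψ₁' = Ψ₂' := by
    apply eq_of_congr_base (N₀.map (algebraMap k PP)) hNPP hBPP Ψ₁' Ψ₂'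
      (fun i => (1 : PP) ⊗ₜ[k] g i) (span_one_tmul g hg)
    intro i
    apply semi_mem_smul_top N₀
    have e1 : Ψ₁' ((1 : PP) ⊗ₜ[k] g i) =
        Algebra.TensorProduct.map j₁ (AlgHom.id k B') (Ψ₁ ((1 : P₁) ⊗ₜ[k] g i)) := by
      rw [← h₁, map_one_tmul]
    have e2 : Ψ₂' ((1 : PP) ⊗ₜ[k] g i) =
        Algebra.TensorProduct.map j₂ (AlgHom.id k B') (Ψ₂ ((1 : P₂) ⊗ₜ[k] g i)) := by
      rw [← h₂, map_one_tmul]
    have c1 := Groth.Agent.Lib.Helper27.AdicLift.map_mem_smul_top N₀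
      (Algebra.TensorProduct.map j₁ (AlgHom.id k B')).toLinearMap (hΨ₁ i)
    have c2 := Groth.Agent.Lib.Helper27.AdicLift.map_mem_smul_top N₀
      (Algebra.TensorProduct.map j₂ (AlgHom.id k B')).toLinearMap (hΨ₂ i)
    rw [AlgHom.toLinearMap_apply, map_sub, map_one_tmul] at c1 c2
    have h3 : Ψ₁' ((1 : PP) ⊗ₜ[k] g i) - Ψ₂' ((1 : PP) ⊗ₜ[k] g i) =
        (Algebra.TensorProduct.map j₁ (AlgHom.id k B') (Ψ₁ ((1 : P₁) ⊗ₜ[k] g i)) -
          (1 : PP) ⊗ₜ[k] β' i) -
        (Algebra.TensorProduct.map j₂ (AlgHom.id k B') (Ψ₂ ((1 : P₂) ⊗ₜ[k] g i)) -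
          (1 : PP) ⊗ₜ[k] β' i) := by
      rw [e1, e2]; abel
    rw [h3]
    exact sub_mem c1 c2
  have e1 := h₁ ((1 : P₁) ⊗ₜ[k] x)
  have e2 := h₂ ((1 : P₂) ⊗ₜ[k] x)
  rw [map_one_tmul] at e1 e2
  rw [← e1, ← e2, heq]

/-- faithfully flat descent of a homomorphism -/
theorem exists_descent [Coalgebra.IsCocomm k C'] (N₀ : Ideal k) (hN₀ : IsNilpotent N₀)
    (hB' : IsMultType k B')
    {P : Type u} [CommRing P] [Algebra k P] [Module.FaithfullyFlat k P]
    (Ψ : (P ⊗[k] C') →ₐc[P] (P ⊗[k] B')) {ι : Type*} (g : ι → C')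
    (hg : Submodule.span k (Set.range g) = ⊤) (β' : ι → B')
    (hΨ : ∀ i, Ψ ((1 : P) ⊗ₜ[k] g i) - (1 : P) ⊗ₜ[k] β' i ∈
      N₀ • (⊤ : Submodule k (P ⊗[k] B'))) :
    ∃ ψ : C' →ₐc[k] B', ∀ i, ψ (g i) - β' i ∈ N₀ • (⊤ : Submodule k B') := by
  have hex : ∀ x : C', ∃ b : B', (1 : P) ⊗ₜ[k] b = Ψ ((1 : P) ⊗ₜ[k] x) := by
    intro x
    have h12 := overlap_eq_hom N₀ hN₀ hB'
      (Algebra.TensorProduct.includeLeft : P →ₐ[k] P ⊗[k] P)
      (Algebra.TensorProduct.includeRight : P →ₐ[k] P ⊗[k] P) Ψ Ψ g hg β' hΨ hΨ x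
    have hA : TensorProduct.mk k P (P ⊗[k] B') 1 (Ψ ((1 : P) ⊗ₜ[k] x)) =
        LinearMap.lTensor P (TensorProduct.mk k P B' 1) (Ψ ((1 : P) ⊗ₜ[k] x)) := by
      rw [TensorProduct.mk_apply, ← assoc_map_includeRight (S₁ := P),
        ← assoc_map_includeLeft (S₂ := P)]
      exact congrArg _ h12.symm
    obtain ⟨b, hb⟩ := Groth.Agent.S1156.result k P B' _ hA
    exact ⟨b, hb⟩
  choose ψf hψf using hex
  obtain ⟨Φ, hΦ⟩ := exists_bialgHom_of_family (R := k) (B := B') (C := C') (ι := Unit)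
    (fun _ => True) (fun _ => P)
    (fun b hb => by
      apply Module.FaithfullyFlat.tensorProduct_mk_injective (A := k) (B := P) B'
      rw [TensorProduct.mk_apply, hb () trivial, map_zero])
    (fun z hz => by
      apply Module.FaithfullyFlat.tensorProduct_mk_injective (A := k) (B := P) (B' ⊗[k] B')
      rw [TensorProduct.mk_apply, hz () trivial, map_zero])
    (fun _ => Ψ) ψf (fun _ _ c => hψf c)
  refine ⟨Φ, fun i => ?_⟩
  have h3 : (1 : P) ⊗ₜ[k] (Φ (g i) - β' i) ∈ N₀ • (⊤ : Submodule k (P ⊗[k] B')) := by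
    rw [TensorProduct.tmul_sub, hΦ, hψf]
    exact hΨ i
  have h4 := tmul_mkQ_eq_zero N₀ h3
  have h5 : (N₀ • (⊤ : Submodule k B')).mkQ (Φ (g i) - β' i) = 0 := by
    apply Module.FaithfullyFlat.tensorProduct_mk_injective (A := k) (B := P)
      (B' ⧸ N₀ • (⊤ : Submodule k B'))
    rw [TensorProduct.mk_apply, h4, map_zero]
  rw [Submodule.mkQ_apply] at h5
  exact (Submodule.Quotient.mk_eq_zero _).1 h5

end Descent

section Glue

variable {R : Type u} [CommRing R] {B C : Type u} [CommRing B] [HopfAlgebra R B] [CommRing C]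
  [HopfAlgebra R C]

/-- Zariski gluing of homomorphisms -/
theorem exists_glue_hom [Coalgebra.IsCocomm R C] (N : Ideal R) (hN : IsNilpotent N)
    (hB : IsMultType R B) (β : C → B) (s₀ : Finset R) (hs₀ : Ideal.span (s₀ : Set R) = ⊤)
    (Ψ : ∀ f : R, (Localization.Away f ⊗[R] C) →ₐc[Localization.Away f]
      (Localization.Away f ⊗[R] B))
    (hΨ : ∀ f ∈ s₀, ∀ c, Ψ f ((1 : Localization.Away f) ⊗ₜ[R] c) -
      (1 : Localization.Away f) ⊗ₜ[R] β c ∈
        N • (⊤ : Submodule R (Localization.Away f ⊗[R] B))) :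
    ∃ ψ : C →ₐc[R] B, ∀ c, ψ c - β c ∈ N • (⊤ : Submodule R B) := by
  classical
  have hspan : Submodule.span R (Set.range (fun c : C => c)) = ⊤ := by
    rw [eq_top_iff]
    intro x _
    exact Submodule.subset_span ⟨x, rfl⟩
  have hex : ∀ c : C, ∃ b : B, ∀ f ∈ s₀, (1 : Localization.Away f) ⊗ₜ[R] b =
      Ψ f ((1 : Localization.Away f) ⊗ₜ[R] c) := by
    intro c
    refine exists_glue s₀ hs₀ (fun f => Ψ f ((1 : Localization.Away f) ⊗ₜ[R] c)) ?_
    intro f hf f' hf'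
    have h3 := overlap_eq_hom N hN hB
      (Algebra.TensorProduct.includeLeft :
        Localization.Away f' →ₐ[R] Localization.Away f' ⊗[R] Localization.Away f)
      (Algebra.TensorProduct.includeRight :
        Localization.Away f →ₐ[R] Localization.Away f' ⊗[R] Localization.Away f)
      (Ψ f') (Ψ f) (fun c : C => c) hspan β (hΨ f' hf') (hΨ f hf) c
    have h4 := congrArg (TensorProduct.assoc R (Localization.Away f') (Localization.Away f) B) h3
    rw [assoc_map_includeLeft, assoc_map_includeRight] at h4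
    exact h4.symm
  choose ψf hψf using hex
  obtain ⟨Φ, hΦ⟩ := exists_bialgHom_of_family (R := R) (B := B) (C := C) (ι := R)
    (fun f => f ∈ s₀) (fun f => Localization.Away f)
    (fun b hb => eq_of_locally_eq (s₀ : Set R) hs₀ b 0 (fun f hf => by
      rw [hb f hf, TensorProduct.tmul_zero]))
    (fun z hz => eq_of_locally_eq (s₀ : Set R) hs₀ z 0 (fun f hf => by
      rw [hz f hf, TensorProduct.tmul_zero]))
    Ψ ψf (fun f hf c => hψf c f hf)
  refine ⟨Φ, fun c => ?_⟩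
  have h5 : (N • (⊤ : Submodule R B)).mkQ (Φ c - β c) = 0 := by
    apply eq_of_locally_eq (s₀ : Set R) hs₀
    intro f hf
    rw [TensorProduct.tmul_zero]
    apply tmul_mkQ_eq_zero N
    rw [TensorProduct.tmul_sub, hΦ, hψf c f hf]
    exact hΨ f hf c
  rw [Submodule.mkQ_apply] at h5
  exact (Submodule.Quotient.mk_eq_zero _).1 h5

end Glue

section Main

variable {R K : Type u} [CommRing R] [CommRing K] [Algebra R K]
  {B C : Type u} [CommRing B] [HopfAlgebra R B] [CommRing C] [HopfAlgebra R C]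

/-- **Lifting homomorphisms between groups of multiplicative type along a nilpotent
thickening.** -/
theorem exists_lift_mt (hsurj : Function.Surjective (algebraMap R K))
    (hnil : IsNilpotent (RingHom.ker (algebraMap R K)))
    (hB : IsMultType R B) (hC : IsMultType R C)
    (φ₀ : (K ⊗[R] C) →ₐc[K] (K ⊗[R] B)) :
    ∃ ψ : C →ₐc[R] B, ∀ c : C, φ₀ ((1 : K) ⊗ₜ[R] c) = (1 : K) ⊗ₜ[R] ψ c := by
  classical
  haveI : Coalgebra.IsCocomm R C := isCocomm_of_isMultType hC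
  set N := RingHom.ker (algebraMap R K) with hNdef
  have hβ0 : ∀ c : C, ∃ b : B, (1 : K) ⊗ₜ[R] b = φ₀ ((1 : K) ⊗ₜ[R] c) := fun c =>
    exists_one_tmul hsurj _
  choose β hβ using hβ0
  obtain ⟨s, hs, hsf⟩ := hC
  obtain ⟨s₀, hs₀s, hs₀⟩ := (Ideal.span_eq_top_iff_finite s).1 hs
  have hloc : ∀ f : R, ∃ Ψ : (Localization.Away f ⊗[R] C) →ₐc[Localization.Away f]
      (Localization.Away f ⊗[R] B), f ∈ s₀ → ∀ c, Ψ ((1 : Localization.Away f) ⊗ₜ[R] c) -
        (1 : Localization.Away f) ⊗ₜ[R] β c ∈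
          N • (⊤ : Submodule R (Localization.Away f ⊗[R] B)) := by
    intro f
    by_cases hf : f ∈ s₀
    swap
    · exact ⟨(Bialgebra.unitBialgHom (Localization.Away f) (Localization.Away f ⊗[R] B)).comp
        (Bialgebra.counitBialgHom (Localization.Away f) (Localization.Away f ⊗[R] C)),
        fun h => absurd h hf⟩
    obtain ⟨P, _, _, _, _, _, M, _, ⟨e⟩⟩ := Groth.Agent.S2970.locDiag_of f (hsf f (hs₀s hf))
    let eC := cancelBaseChangeBialg R (Localization.Away f) P C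
    let eB := cancelBaseChangeBialg R (Localization.Away f) P B
    obtain ⟨ΨP, hΨP⟩ := exists_local hsurj hnil hB φ₀ β hβ (eC.symm.trans e)
    let Ψ' : (P ⊗[Localization.Away f] (Localization.Away f ⊗[R] C)) →ₐc[P]
        (P ⊗[Localization.Away f] (Localization.Away f ⊗[R] B)) :=
      eB.symm.toBialgHom.comp (ΨP.comp eC.toBialgHom)
    set Nf := N.map (algebraMap R (Localization.Away f)) with hNf
    have hNfnil : IsNilpotent Nf := isNilpotent_map _ _ hnil
    have hBf : IsMultType (Localization.Away f) (Localization.Away f ⊗[R] B) :=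
      isMultType_baseChange (R' := Localization.Away f) B hB
    have hgspan : Submodule.span (Localization.Away f)
        (Set.range fun c : C => (1 : Localization.Away f) ⊗ₜ[R] c) = ⊤ :=
      span_one_tmul (fun c : C => c) (by
        rw [eq_top_iff]
        intro x _
        exact Submodule.subset_span ⟨x, rfl⟩)
    have hΨ' : ∀ c : C, Ψ' ((1 : P) ⊗ₜ[Localization.Away f] ((1 : Localization.Away f) ⊗ₜ[R] c)) -
        (1 : P) ⊗ₜ[Localization.Away f] ((1 : Localization.Away f) ⊗ₜ[R] β c) ∈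
        Nf • (⊤ : Submodule (Localization.Away f)
          (P ⊗[Localization.Away f] (Localization.Away f ⊗[R] B))) := by
      intro c
      apply semi_mem_smul_top N
      have h1 : eC ((1 : P) ⊗ₜ[Localization.Away f] ((1 : Localization.Away f) ⊗ₜ[R] c)) =
          (1 : P) ⊗ₜ[R] c := by
        rw [cancelBaseChangeBialg_tmul, one_smul]
      have h2 : (1 : P) ⊗ₜ[Localization.Away f] ((1 : Localization.Away f) ⊗ₜ[R] β c) =
          eB.symm ((1 : P) ⊗ₜ[R] β c) := by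
        have h2' : eB ((1 : P) ⊗ₜ[Localization.Away f] ((1 : Localization.Away f) ⊗ₜ[R] β c)) =
            (1 : P) ⊗ₜ[R] β c := by
          rw [cancelBaseChangeBialg_tmul, one_smul]
        rw [← h2', BialgEquiv.symm_apply_apply]
      have h3 : Ψ' ((1 : P) ⊗ₜ[Localization.Away f] ((1 : Localization.Away f) ⊗ₜ[R] c)) =
          eB.symm (ΨP ((1 : P) ⊗ₜ[R] c)) := by
        show eB.symm (ΨP (eC _)) = _
        rw [h1]
      rw [h2, h3, ← map_sub]
      let L : (P ⊗[R] B) →ₗ[R] (P ⊗[Localization.Away f] (Localization.Away f ⊗[R] B)) :=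
        ((eB.symm : (P ⊗[R] B) ≃ₐ[P]
          (P ⊗[Localization.Away f] (Localization.Away f ⊗[R] B))).toLinearEquiv.toLinearMap).restrictScalars R
      exact Groth.Agent.Lib.Helper27.AdicLift.map_mem_smul_top N L (hΨP c)
    obtain ⟨ψ, hψ⟩ := exists_descent Nf hNfnil hBf Ψ'
      (fun c : C => (1 : Localization.Away f) ⊗ₜ[R] c) hgspan
      (fun c : C => (1 : Localization.Away f) ⊗ₜ[R] β c) hΨ'
    exact ⟨ψ, fun _ c => conv_mem_smul_top N (hψ c)⟩
  choose Ψ hΨ using hloc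
  obtain ⟨ψ, hψ⟩ := exists_glue_hom N hnil hB β s₀ hs₀ Ψ hΨ
  refine ⟨ψ, fun c => ?_⟩
  rw [← hβ, ← sub_eq_zero, ← TensorProduct.tmul_sub]
  apply one_tmul_eq_zero_of_mem (R := R) (K := K)
  have := hψ c
  rw [← neg_sub]
  exact neg_mem this

end Main

end Groth.Agent.Lib.Helper27.MTHom
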