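import Mathlib
import Groth.Agent.Lib.Helper27.MTHomC

/-!
# Flatness of the truncations and deformation of quasi-isotrivial groups (helper27)
-/

set_option autoImplicit false
universe u
open TensorProduct WithConv SGA3b

namespace Groth.Agent.Lib.Helper27.MTHom

open Groth.Agent.Lib.Helper27.MultRigid Groth.Agent.Lib.Helper17.MultLift
  Groth.Agent.Lib.Helper17.MultBC Groth.Agent.Lib.Helper27.HopfLift
  Groth.Agent.Lib.Helper27.HopfNilLift

section Flat

variable {A : Type u} [CommRing A] (J : Ideal A) {C : Type u} [CommRing C] [Algebra A C]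

/-- if `C` is flat over `A` at the primes containing `J C` then `C / J C` is flat over `A / J` -/
theorem flat_quot
    (hfl : ∀ (q : Ideal C) [q.IsPrime], J.map (algebraMap A C) ≤ q →
      Module.Flat A (Localization.AtPrime q)) :
    Module.Flat (A ⧸ J) ((A ⧸ J) ⊗[A] C) := by
  refine Module.flat_of_isLocalized_maximal (R := A ⧸ J) ((A ⧸ J) ⊗[A] C) ((A ⧸ J) ⊗[A] C)
    (fun P _ => Localization.AtPrime P)
    (fun P _ => Algebra.linearMap ((A ⧸ J) ⊗[A] C) (Localization.AtPrime P)) (fun P hP => ?_)
  let inc : C →ₐ[A] (A ⧸ J) ⊗[A] C := Algebra.TensorProduct.includeRight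
  have hincsurj : Function.Surjective inc := fun w =>
    exists_one_tmul (R := A) (K := A ⧸ J) Ideal.Quotient.mk_surjective w
  haveI hPprime : P.IsPrime := hP.isPrime
  let q : Ideal C := P.comap inc
  haveI hqprime : q.IsPrime := Ideal.comap_isPrime inc P
  have hq : J.map (algebraMap A C) ≤ q := by
    rw [Ideal.map_le_iff_le_comap]
    intro a ha
    show inc (algebraMap A C a) ∈ P
    rw [AlgHom.commutes, IsScalarTower.algebraMap_apply A (A ⧸ J) ((A ⧸ J) ⊗[A] C),
      Ideal.Quotient.algebraMap_eq, Ideal.Quotient.eq_zero_iff_mem.2 ha, map_zero]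
    exact zero_mem _
  haveI : Module.Flat A (Localization.AtPrime q) := hfl q hq
  have hmap : q.primeCompl.map inc = P.primeCompl := by
    ext y
    constructor
    · rintro ⟨c, hc, rfl⟩
      exact hc
    · intro hy
      obtain ⟨c, rfl⟩ := hincsurj y
      exact ⟨c, hy, rfl⟩
  haveI : IsLocalization (q.primeCompl.map
      (Algebra.TensorProduct.includeRight (R := A) (A := A ⧸ J) : C →ₐ[A] (A ⧸ J) ⊗[A] C))
      (Localization.AtPrime P) := by
    rw [show q.primeCompl.map (Algebra.TensorProduct.includeRight (R := A) (A := A ⧸ J) :
      C →ₐ[A] (A ⧸ J) ⊗[A] C) = P.primeCompl from hmap]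
    infer_instance
  let e := IsLocalization.tensorProductEquivOfMapIncludeRight A (A ⧸ J) q.primeCompl
    (Localization.AtPrime q) (Localization.AtPrime P)
  exact Module.Flat.of_linearEquiv e.symm.toLinearEquiv

end Flat

section QI

theorem isMultType_of_isQuasiIsotrivial {R : Type u} [CommRing R] {A : Type u} [CommRing A]
    [HopfAlgebra R A] (h : IsQuasiIsotrivial R A) : IsMultType R A := by
  obtain ⟨s, hs, h⟩ := h
  refine ⟨s, hs, fun f hf => ?_⟩
  obtain ⟨R', i1, i2, _, hff, hD⟩ := h f hf
  exact ⟨R', i1, i2, hff, hD⟩

set_option maxSynthPendingDepth 6 in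
/-- deformation of quasi-isotrivial groups along a nilpotent thickening, in the form
`A₀ → R → K` -/
theorem quasiIsotrivial_of_nilpotent {A₀ R K : Type u} [CommRing A₀] [CommRing R] [CommRing K]
    [Algebra A₀ R] [Algebra R K] [Algebra A₀ K] [IsScalarTower A₀ R K]
    (C : Type u) [CommRing C] [HopfAlgebra A₀ C] [Module.Flat R (R ⊗[A₀] C)]
    (hsurj : Function.Surjective (algebraMap R K))
    (hnil : IsNilpotent (RingHom.ker (algebraMap R K)))
    (h0 : IsQuasiIsotrivial K (K ⊗[A₀] C)) : IsQuasiIsotrivial R (R ⊗[A₀] C) := by
  set I := RingHom.ker (algebraMap R K) with hIdef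
  have hI : ∀ x ∈ I, IsNilpotent x := nil_of_isNilpotent I hnil
  obtain ⟨sb, hsb, hloc⟩ := h0
  refine ⟨{f : R | algebraMap R K f ∈ sb}, ?_, ?_⟩
  · set s := {f : R | algebraMap R K f ∈ sb} with hs
    have himg : algebraMap R K '' s = sb := by
      ext y
      constructor
      · rintro ⟨f, hf, rfl⟩
        exact hf
      · intro hy
        obtain ⟨f, rfl⟩ := hsurj y
        exact ⟨f, hy, rfl⟩
    have h1 : (Ideal.span s).map (algebraMap R K) = ⊤ := by
      rw [Ideal.map_span, himg, hsb]
    have h2 := Ideal.comap_map_of_surjective (algebraMap R K) hsurj (Ideal.span s)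
    rw [h1, Ideal.comap_top, ← RingHom.ker_eq_comap_bot] at h2
    have h3 : (1 : R) ∈ Ideal.span s ⊔ I := by rw [← h2]; exact Submodule.mem_top
    obtain ⟨a, ha, i, hi, hai⟩ := Submodule.mem_sup.1 h3
    have hu : IsUnit a := by
      have : a = 1 - i := by rw [← hai]; ring
      rw [this]
      exact (hI i hi).isUnit_one_sub
    exact Ideal.eq_top_of_isUnit_mem _ ha hu
  · intro f hf
    obtain ⟨R₀, _, _, hEt, hFF, hD⟩ := hloc (algebraMap R K f) hf
    haveI := hEt
    haveI := hFF
    letI : Algebra (Localization.Away f) (Localization.Away (algebraMap R K f)) :=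
      (Localization.awayMap (algebraMap R K) f).toAlgebra
    have hcomp : ∀ x : R, algebraMap (Localization.Away f)
        (Localization.Away (algebraMap R K f)) (algebraMap R (Localization.Away f) x) =
        algebraMap K (Localization.Away (algebraMap R K f)) (algebraMap R K x) :=
      fun x => by
        rw [RingHom.algebraMap_toAlgebra]
        exact IsLocalization.map_eq (M := Submonoid.powers f) (S := Localization.Away f)
          (T := Submonoid.powers (algebraMap R K f))
          (Q := Localization.Away (algebraMap R K f)) _ x
    have hsurj' : Function.Surjective (algebraMap (Localization.Away f)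
        (Localization.Away (algebraMap R K f))) := by
      show Function.Surjective (Localization.awayMap (algebraMap R K) f)
      rw [Localization.awayMap_surjective_iff]
      intro a
      obtain ⟨a₀, rfl⟩ := hsurj a
      exact ⟨a₀, 0, by rw [pow_zero, one_mul]⟩
    have hkerle : RingHom.ker (algebraMap (Localization.Away f)
        (Localization.Away (algebraMap R K f))) ≤
        I.map (algebraMap R (Localization.Away f)) := by
      intro x hx
      rw [RingHom.mem_ker] at hx
      obtain ⟨n, a, hna⟩ := IsLocalization.Away.surj f x
      have hu : IsUnit (algebraMap R (Localization.Away f) f) :=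
        IsLocalization.Away.algebraMap_isUnit f
      have h1 : algebraMap K (Localization.Away (algebraMap R K f))
          (algebraMap R K a) = 0 := by
        rw [← hcomp, ← hna, map_mul, hx, zero_mul]
      obtain ⟨⟨_, m, rfl⟩, hm⟩ := (IsLocalization.map_eq_zero_iff
        (Submonoid.powers (algebraMap R K f)) _ _).1 h1
      have h2 : f ^ m * a ∈ I := by
        rw [hIdef, RingHom.mem_ker, map_mul, map_pow]
        exact hm
      have h4 : algebraMap R (Localization.Away f) f ^ (m + n) * x =
          algebraMap R (Localization.Away f) (f ^ m * a) := by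
        rw [map_mul, map_pow, ← hna, pow_add]
        ring
      obtain ⟨v, hv⟩ := hu.pow (m + n)
      have h5 : x = (v⁻¹ : (Localization.Away f)ˣ) *
          algebraMap R (Localization.Away f) (f ^ m * a) := by
        rw [← h4, ← hv, ← mul_assoc, Units.inv_mul, one_mul]
      rw [h5]
      exact Ideal.mul_mem_left _ _ (Ideal.mem_map_of_mem _ h2)
    have hnilK : IsNilpotent (RingHom.ker (algebraMap (Localization.Away f)
        (Localization.Away (algebraMap R K f)))) := by
      obtain ⟨N, hN⟩ := isNilpotent_map (algebraMap R (Localization.Away f)) I hnil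
      exact ⟨N, le_bot_iff.1 (le_trans (Ideal.pow_right_mono hkerle N) (le_of_eq hN))⟩
    have hD' : IsDiag R₀ (R₀ ⊗[Localization.Away (algebraMap R K f)]
        (Localization.Away (algebraMap R K f) ⊗[Localization.Away f]
          (Localization.Away f ⊗[R] (R ⊗[A₀] C)))) := by
      letI : Algebra K R₀ :=
        ((algebraMap (Localization.Away (algebraMap R K f)) R₀).comp
          (algebraMap K (Localization.Away (algebraMap R K f)))).toAlgebra
      haveI : IsScalarTower K (Localization.Away (algebraMap R K f)) R₀ :=
        IsScalarTower.of_algebraMap_eq (fun _ => rfl)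
      letI : Algebra (Localization.Away f) R₀ :=
        ((algebraMap (Localization.Away (algebraMap R K f)) R₀).comp
          (algebraMap (Localization.Away f) (Localization.Away (algebraMap R K f)))).toAlgebra
      haveI : IsScalarTower (Localization.Away f) (Localization.Away (algebraMap R K f)) R₀ :=
        IsScalarTower.of_algebraMap_eq (fun _ => rfl)
      letI : Algebra R R₀ := ((algebraMap K R₀).comp (algebraMap R K)).toAlgebra
      haveI : IsScalarTower R K R₀ := IsScalarTower.of_algebraMap_eq (fun _ => rfl)
      haveI : IsScalarTower R (Localization.Away f) R₀ :=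
        IsScalarTower.of_algebraMap_eq (fun x => by
          show algebraMap (Localization.Away (algebraMap R K f)) R₀
              (algebraMap K (Localization.Away (algebraMap R K f))
                (algebraMap R K x)) =
            algebraMap (Localization.Away (algebraMap R K f)) R₀
              (algebraMap (Localization.Away f) (Localization.Away (algebraMap R K f))
                (algebraMap R (Localization.Away f) x))
          rw [hcomp])
      letI : Algebra A₀ R₀ := ((algebraMap R R₀).comp (algebraMap A₀ R)).toAlgebra
      haveI : IsScalarTower A₀ R R₀ := IsScalarTower.of_algebraMap_eq (fun _ => rfl)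
      haveI : IsScalarTower A₀ K R₀ :=
        IsScalarTower.of_algebraMap_eq (fun x => by
          show algebraMap K R₀ (algebraMap R K (algebraMap A₀ R x)) =
            algebraMap K R₀ (algebraMap A₀ K x)
          rw [← IsScalarTower.algebraMap_apply A₀ R K])
      exact isDiag_of_bialgEquiv
        ((cancelBaseChangeBialg (Localization.Away f) (Localization.Away (algebraMap R K f))
            R₀ (Localization.Away f ⊗[R] (R ⊗[A₀] C))).trans
          ((cancelBaseChangeBialg R (Localization.Away f) R₀ (R ⊗[A₀] C)).trans
            ((cancelBaseChangeBialg A₀ R R₀ C).trans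
              ((cancelBaseChangeBialg A₀ K R₀ C).symm.trans
                (cancelBaseChangeBialg K (Localization.Away (algebraMap R K f)) R₀
                  (K ⊗[A₀] C)).symm)))) hD
    obtain ⟨R', _, _, h1, h2, -, h4⟩ := exists_etale_diag hsurj' hnilK hD'
    exact ⟨R', inferInstance, inferInstance, h1, h2, h4⟩

end QI

end Groth.Agent.Lib.Helper27.MTHom
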