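import Mathlib
import Groth.Agent.Lib.Helper27.MTHomD
import Groth.Agent.Lib.Helper27.AdicLiftG

/-!
# Reduction of homomorphisms modulo an ideal of definition, multiplicative type target (helper27)
-/

set_option autoImplicit false
universe u
open TensorProduct WithConv SGA3b

namespace Groth.Agent.Lib.Helper27.MTHom

open Groth.Agent.Lib.Helper27.MultRigid Groth.Agent.Lib.Helper17.MultLift
  Groth.Agent.Lib.Helper17.MultBC Groth.Agent.Lib.Helper27.HopfLift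
  Groth.Agent.Lib.Helper27.HopfNilLift Groth.Agent.Lib.Helper27.AdicLift

section Core

variable {A : Type u} [CommRing A] (I : Ideal A)
  {A' : Type u} [CommRing A'] [Algebra A A']
  {B : Type u} [CommRing B] [HopfAlgebra A B] {M : Type u} [CommGroup M]
  (e : A' ⊗[A] B ≃ₐc[A'] MonoidAlgebra A' M)
  {C : Type u} [CommRing C] [HopfAlgebra A C]
  (ψ : ∀ n : ℕ, ((A ⧸ Jn I n) ⊗[A] C) →ₐc[A ⧸ Jn I n] ((A ⧸ Jn I n) ⊗[A] B))

theorem coeff_rel' [DecidableEq M] [IsHausdorff I A'] (b : ℕ → C → B)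
    (hb : ∀ n c, (1 : A ⧸ Jn I n) ⊗ₜ[A] b n c = ψ n ((1 : A ⧸ Jn I n) ⊗ₜ[A] c))
    (a : M → C → A')
    (ha : ∀ m c n, chi (thetaOf e) m (b n c) - a m c ∈ Jn I n • (⊤ : Submodule A A'))
    (m m' : M) (c : C) (S : Finset C) (g : C → C)
    (h : Coalgebra.comul (R := A) c = ∑ w ∈ S, w ⊗ₜ[A] g w) :
    (if m = m' then a m c else 0) = ∑ w ∈ S, a m w * a m' (g w) := by
  rw [← sub_eq_zero]
  apply haus_Jn I
  intro n
  set G : B ⊗[A] B →ₗ[A] A' :=
    ((evalL m m').restrictScalars A) ∘ₗ Xi (R := A) (R' := A') (thetaOf e) with hGdef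
  have hG1 : ∀ b' : B, G (Coalgebra.comul (R := A) b') =
      if m = m' then chi (thetaOf e) m b' else 0 := by
    intro b'
    show evalL m m' (Xi (R := A) (R' := A') (thetaOf e) (Coalgebra.comul (R := A) b')) = _
    rw [← isSemiComul_thetaOf e b', evalL_comul]
    rfl
  have hG2 : ∀ x y : B, G (x ⊗ₜ[A] y) = chi (thetaOf e) m x * chi (thetaOf e) m' y := by
    intro x y
    show evalL m m' (Xi (R := A) (R' := A') (thetaOf e) (x ⊗ₜ[A] y)) = _
    rw [Xi_tmul, evalL_tmul]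
    rfl
  have h1 := Groth.Agent.Lib.Helper27.AdicLift.map_mem_smul_top (Jn I n) G
    (comul_cong I ψ b hb n c S g h)
  rw [map_sub, hG1, map_sum] at h1
  simp only [hG2] at h1
  have hid : ∀ x : A', x ∈ Jn I n • (⊤ : Submodule A A') ↔
      x ∈ (Jn I n).map (algebraMap A A') := by
    intro x
    rw [Ideal.smul_top_eq_map]
    rfl
  rw [hid] at h1 ⊢
  have ha' : ∀ m c', chi (thetaOf e) m (b n c') - a m c' ∈ (Jn I n).map (algebraMap A A') :=
    fun m c' => (hid _).mp (ha m c' n)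
  have h2 : (if m = m' then a m c else 0) - ∑ w ∈ S, a m w * a m' (g w) =
      ((if m = m' then chi (thetaOf e) m (b n c) else 0) -
        ∑ w ∈ S, chi (thetaOf e) m (b n w) * chi (thetaOf e) m' (b n (g w))) -
      ((if m = m' then chi (thetaOf e) m (b n c) else 0) - (if m = m' then a m c else 0)) +
      ∑ w ∈ S, (chi (thetaOf e) m (b n w) * chi (thetaOf e) m' (b n (g w)) -
        a m w * a m' (g w)) := by
    rw [Finset.sum_sub_distrib]
    ring
  rw [h2]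
  refine Ideal.add_mem _ (Ideal.sub_mem _ h1 ?_) (Ideal.sum_mem _ (fun w _ => ?_))
  · split_ifs
    · exact ha' m c
    · rw [sub_zero]
      exact zero_mem _
  · have h3 : chi (thetaOf e) m (b n w) * chi (thetaOf e) m' (b n (g w)) - a m w * a m' (g w) =
        (chi (thetaOf e) m (b n w) - a m w) * chi (thetaOf e) m' (b n (g w)) +
          a m w * (chi (thetaOf e) m' (b n (g w)) - a m' (g w)) := by ring
    rw [h3]
    exact Ideal.add_mem _ (Ideal.mul_mem_right _ _ (ha' m w))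
      (Ideal.mul_mem_left _ _ (ha' m' (g w)))

/-- finiteness of the support of the limit coefficients, without flatness -/
theorem finite_support' [DecidableEq M] [IsNoetherianRing A'] [IsHausdorff I A']
    (b : ℕ → C → B)
    (hb : ∀ n c, (1 : A ⧸ Jn I n) ⊗ₜ[A] b n c = ψ n ((1 : A ⧸ Jn I n) ⊗ₜ[A] c))
    (a : M → C → A')
    (ha : ∀ m c n, chi (thetaOf e) m (b n c) - a m c ∈ Jn I n • (⊤ : Submodule A A'))
    (c : C) : ∃ F : Finset M, ∀ m, m ∉ F → a m c = 0 := by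
  obtain ⟨Sf, hSf⟩ := TensorProduct.exists_finsupp_left (Coalgebra.comul (R := A) c)
  set S : Finset C := Sf.support with hS
  let g : C → C := fun w => Sf w
  have hSg : Coalgebra.comul (R := A) c = ∑ w ∈ S, w ⊗ₜ[A] g w := hSf
  let v : M → (S → A') := fun m w => a m w.1
  let u : M → (S → A') := fun m w => a m (g w.1)
  have hpair : ∀ m m', ∑ w : S, v m w * u m' w = if m = m' then a m c else 0 := by
    intro m m'
    rw [coeff_rel' I e ψ b hb a ha m m' c S g hSg]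
    exact Finset.sum_coe_sort S (fun w => a m w * a m' (g w))
  have hfg : (Submodule.span A' (Set.range v)).FG := IsNoetherian.noetherian _
  obtain ⟨t, htsub, ht⟩ := (Submodule.fg_span_iff_fg_span_finset_subset (Set.range v)).1 hfg
  have hidx0 : ∀ x : S → A', ∃ m : M, x ∈ t → v m = x := by
    intro x
    by_cases hx : x ∈ t
    · obtain ⟨m, hm⟩ := htsub hx
      exact ⟨m, fun _ => hm⟩
    · exact ⟨1, fun h => absurd h hx⟩
  choose idx hidx using hidx0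
  refine ⟨t.image idx, fun m₀ hm₀ => ?_⟩
  let L : (S → A') →ₗ[A'] A' := ∑ w : S, (u m₀ w) • LinearMap.proj w
  have hL : ∀ x, L x = ∑ w : S, x w * u m₀ w := by
    intro x
    simp [L, mul_comm]
  have hLt : ∀ x ∈ t, L x = 0 := by
    intro x hx
    have h1 : v (idx x) = x := hidx x hx
    rw [hL, ← h1, hpair, if_neg]
    intro heq
    exact hm₀ (Finset.mem_image.2 ⟨x, hx, heq⟩)
  have hLspan : ∀ x ∈ Submodule.span A' (t : Set (S → A')), L x = 0 := by
    intro x hx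
    induction hx using Submodule.span_induction with
    | mem x hx => exact hLt x hx
    | zero => exact map_zero _
    | add x y _ _ hx hy => rw [map_add, hx, hy, add_zero]
    | smul r x _ hx => rw [map_smul, hx, smul_zero]
  have hv : v m₀ ∈ Submodule.span A' (t : Set (S → A')) := by
    rw [← ht]
    exact Submodule.subset_span ⟨m₀, rfl⟩
  have h3 := hLspan _ hv
  rw [hL, hpair, if_pos rfl] at h3
  exact h3

end Core

section Alg

variable {A : Type u} [CommRing A] [IsNoetherianRing A] (I : Ideal A) [IsAdicComplete I A]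
  {A' : Type u} [CommRing A'] [Algebra A A'] [Module.Finite A A']
  {B : Type u} [CommRing B] [HopfAlgebra A B] {M : Type u} [CommGroup M]
  (e : A' ⊗[A] B ≃ₐc[A'] MonoidAlgebra A' M)
  {C : Type u} [CommRing C] [HopfAlgebra A C]
  (ψ : ∀ n : ℕ, ((A ⧸ Jn I n) ⊗[A] C) →ₐc[A ⧸ Jn I n] ((A ⧸ Jn I n) ⊗[A] B))

include e in
theorem exists_algebraization' [Module.FaithfullyFlat A A'] [Module.Projective A A']
    [IsAdicComplete I A']
    (hψ : ∀ (n : ℕ) (c : C),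
      Algebra.TensorProduct.map (Ideal.Quotient.factorₐ A (Jn_succ_le I n)) (AlgHom.id A B)
        (ψ (n + 1) ((1 : A ⧸ Jn I (n + 1)) ⊗ₜ[A] c)) = ψ n ((1 : A ⧸ Jn I n) ⊗ₜ[A] c)) :
    ∃ Φ : C →ₐc[A] B, ∀ (n : ℕ) (c : C),
      ψ n ((1 : A ⧸ Jn I n) ⊗ₜ[A] c) = (1 : A ⧸ Jn I n) ⊗ₜ[A] Φ c := by
  classical
  haveI : IsNoetherianRing A' := Algebra.FiniteType.isNoetherianRing A A'
  have hb0 : ∀ (n : ℕ) (c : C), ∃ b : B,
      (1 : A ⧸ Jn I n) ⊗ₜ[A] b = ψ n ((1 : A ⧸ Jn I n) ⊗ₜ[A] c) := fun n c =>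
    exists_one_tmul (R := A) (K := A ⧸ Jn I n) Ideal.Quotient.mk_surjective _
  choose b hb using hb0
  have hb1 := b_cauchy I ψ hψ b hb
  have ha0 : ∀ (m : M) (c : C), ∃ L : A', ∀ n,
      chi (thetaOf e) m (b n c) - L ∈ Jn I n • (⊤ : Submodule A A') := fun m c =>
    limit_Jn I (fun n => chi (thetaOf e) m (b n c)) (fun n => by
      show chi (thetaOf e) m (b (n + 1) c) - chi (thetaOf e) m (b n c) ∈ _
      rw [← map_sub]
      exact Groth.Agent.Lib.Helper27.AdicLift.map_mem_smul_top _ _ (hb1 n c))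
  choose a ha using ha0
  have hfin := finite_support' I e ψ b hb a ha
  choose F hF using hfin
  let x : C → MonoidAlgebra A' M := fun c =>
    MonoidAlgebra.ofCoeff (Finsupp.onFinset (F c) (fun m => a m c) (fun m hm => by
      by_contra h
      exact hm (hF c m h)))
  have hx : ∀ c m, (x c).coeff m = a m c := fun c m => rfl
  obtain ⟨ρ, hρ⟩ := exists_retraction (A := A) (A' := A')
  let ℓ : MonoidAlgebra A' M →ₗ[A] B :=
    (TensorProduct.lid A B).toLinearMap ∘ₗ (LinearMap.rTensor B ρ) ∘ₗ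
      (((e.symm : MonoidAlgebra A' M ≃ₐ[A'] A' ⊗[A] B).toLinearEquiv.toLinearMap).restrictScalars A)
  have hℓ : ∀ b' : B, ℓ (thetaOf e b') = b' := by
    intro b'
    show TensorProduct.lid A B (LinearMap.rTensor B ρ (e.symm (e ((1 : A') ⊗ₜ[A] b')))) = b'
    rw [BialgEquiv.symm_apply_apply, LinearMap.rTensor_tmul, hρ, TensorProduct.lid_tmul, one_smul]
  let φf : C → B := fun c => ℓ (x c)
  have hφ1 : ∀ n c, φf c - b n c ∈ Jn I n • (⊤ : Submodule A B) := by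
    intro n c
    have h1 : thetaOf e (b n c) - x c ∈ Jn I n • (⊤ : Submodule A (MonoidAlgebra A' M)) :=
      mem_smul_top_of_coeff _ _ (fun m => by
        have h2 : (thetaOf e (b n c) - x c).coeff m = chi (thetaOf e) m (b n c) - a m c := rfl
        rw [h2]
        exact ha m c n)
    have h2 := Groth.Agent.Lib.Helper27.AdicLift.map_mem_smul_top _ ℓ h1
    rw [map_sub, hℓ] at h2
    have h3 : φf c - b n c = -(b n c - ℓ (x c)) := by
      show ℓ (x c) - b n c = _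
      abel
    rw [h3]
    exact neg_mem h2
  have hφ2 : ∀ n c, (1 : A ⧸ Jn I n) ⊗ₜ[A] φf c = ψ n ((1 : A ⧸ Jn I n) ⊗ₜ[A] c) := by
    intro n c
    rw [← hb n c, ← sub_eq_zero, ← TensorProduct.tmul_sub, one_tmul_eq_zero_iff]
    exact hφ1 n c
  have hinjB : ∀ y : B, (∀ n, True → (1 : A ⧸ Jn I n) ⊗ₜ[A] y = 0) → y = 0 := by
    intro y h
    apply sepB I e
    intro n
    rw [← one_tmul_eq_zero_iff]
    exact h n trivial
  have hinjBB : ∀ z : B ⊗[A] B, (∀ n, True → (1 : A ⧸ Jn I n) ⊗ₜ[A] z = 0) → z = 0 := by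
    intro z h
    apply sepBB I e
    intro n
    rw [← one_tmul_eq_zero_iff]
    exact h n trivial
  obtain ⟨Φ, hΦ⟩ := exists_bialgHom_of_family (R := A) (B := B) (C := C) (ι := ℕ)
    (fun _ => True) (fun n => A ⧸ Jn I n) hinjB hinjBB ψ φf (fun n _ c => hφ2 n c)
  exact ⟨Φ, fun n c => by rw [hΦ]; exact (hφ2 n c).symm⟩

end Alg

section Step

variable {A : Type u} [CommRing A]

theorem lift_step' (J' J : Ideal A) (hle : J' ≤ J) (hsq : J * J ≤ J')
    (B : Type u) [CommRing B] [HopfAlgebra A B] (hB : IsMultType A B)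
    (C : Type u) [CommRing C] [HopfAlgebra A C]
    (hC : IsMultType (A ⧸ J') ((A ⧸ J') ⊗[A] C))
    (ψ : ((A ⧸ J) ⊗[A] C) →ₐc[A ⧸ J] ((A ⧸ J) ⊗[A] B)) :
    ∃ ψ' : ((A ⧸ J') ⊗[A] C) →ₐc[A ⧸ J'] ((A ⧸ J') ⊗[A] B),
      ∀ c : C, Algebra.TensorProduct.map (Ideal.Quotient.factorₐ A hle) (AlgHom.id A B)
        (ψ' ((1 : A ⧸ J') ⊗ₜ[A] c)) = ψ ((1 : A ⧸ J) ⊗ₜ[A] c) := by
  letI : Algebra (A ⧸ J') (A ⧸ J) := (Ideal.Quotient.factor hle).toAlgebra
  haveI : IsScalarTower A (A ⧸ J') (A ⧸ J) := IsScalarTower.of_algebraMap_eq (fun x => by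
    rw [RingHom.algebraMap_toAlgebra, Ideal.Quotient.algebraMap_eq, Ideal.Quotient.algebraMap_eq,
      Ideal.Quotient.factor_mk])
  have hsurj : Function.Surjective (algebraMap (A ⧸ J') (A ⧸ J)) :=
    Ideal.Quotient.factor_surjective hle
  have hker : RingHom.ker (algebraMap (A ⧸ J') (A ⧸ J)) ≤ J.map (Ideal.Quotient.mk J') := by
    intro y hy
    obtain ⟨x, rfl⟩ := Ideal.Quotient.mk_surjective y
    rw [RingHom.mem_ker, RingHom.algebraMap_toAlgebra, Ideal.Quotient.factor_mk,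
      Ideal.Quotient.eq_zero_iff_mem] at hy
    exact Ideal.mem_map_of_mem _ hy
  have hsq' : RingHom.ker (algebraMap (A ⧸ J') (A ⧸ J)) *
      RingHom.ker (algebraMap (A ⧸ J') (A ⧸ J)) = ⊥ := by
    refine le_bot_iff.1 (le_trans (Ideal.mul_mono hker hker) ?_)
    rw [← Ideal.map_mul]
    refine le_trans (Ideal.map_mono hsq) ?_
    rw [Ideal.map_quotient_self]
  have hnil : IsNilpotent (RingHom.ker (algebraMap (A ⧸ J') (A ⧸ J))) :=
    ⟨2, by rw [pow_two]; exact hsq'⟩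
  let eB := cancelBaseChangeBialg A (A ⧸ J') (A ⧸ J) B
  let eC := cancelBaseChangeBialg A (A ⧸ J') (A ⧸ J) C
  let φ₀ : ((A ⧸ J) ⊗[A ⧸ J'] ((A ⧸ J') ⊗[A] C)) →ₐc[A ⧸ J]
      ((A ⧸ J) ⊗[A ⧸ J'] ((A ⧸ J') ⊗[A] B)) :=
    (eB.symm.toBialgHom).comp (ψ.comp eC.toBialgHom)
  obtain ⟨ψ', hψ'⟩ := exists_lift_mt (R := A ⧸ J') (K := A ⧸ J) hsurj hnil
    (isMultType_baseChange (R' := A ⧸ J') B hB) hC φ₀
  refine ⟨ψ', fun c => ?_⟩
  have h1 := hψ' ((1 : A ⧸ J') ⊗ₜ[A] c)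
  have h2 : φ₀ ((1 : A ⧸ J) ⊗ₜ[A ⧸ J'] ((1 : A ⧸ J') ⊗ₜ[A] c)) =
      eB.symm (ψ ((1 : A ⧸ J) ⊗ₜ[A] c)) := by
    show eB.symm (ψ (eC _)) = _
    rw [cancelBaseChangeBialg_tmul, one_smul]
  rw [h2] at h1
  have h3 := congrArg eB h1
  rw [BialgEquiv.apply_symm_apply] at h3
  rw [h3]
  have key : ∀ w : (A ⧸ J') ⊗[A] B, eB ((1 : A ⧸ J) ⊗ₜ[A ⧸ J'] w) =
      Algebra.TensorProduct.map (Ideal.Quotient.factorₐ A hle) (AlgHom.id A B) w := by
    intro w
    induction w using TensorProduct.induction_on with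
    | zero => simp
    | tmul r b =>
      rw [cancelBaseChangeBialg_tmul, Algebra.TensorProduct.map_tmul, AlgHom.id_apply,
        Algebra.smul_def, mul_one]
      rfl
    | add x y hx hy => rw [TensorProduct.tmul_add, map_add, map_add, hx, hy]
  exact (key _).symm

end Step

section System

variable {A : Type u} [CommRing A] (I : Ideal A)
  (B : Type u) [CommRing B] [HopfAlgebra A B]
  (C : Type u) [CommRing C] [HopfAlgebra A C]

theorem exists_system' (hB : IsMultType A B)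
    (hC : ∀ n, IsMultType (A ⧸ Jn I n) ((A ⧸ Jn I n) ⊗[A] C))
    (φ₀ : ((A ⧸ I) ⊗[A] C) →ₐc[A ⧸ I] ((A ⧸ I) ⊗[A] B)) :
    ∃ ψ : ∀ n : ℕ, ((A ⧸ Jn I n) ⊗[A] C) →ₐc[A ⧸ Jn I n] ((A ⧸ Jn I n) ⊗[A] B),
      ψ 0 = φ₀ ∧ ∀ (n : ℕ) (c : C),
        Algebra.TensorProduct.map (Ideal.Quotient.factorₐ A (Jn_succ_le I n)) (AlgHom.id A B)
          (ψ (n + 1) ((1 : A ⧸ Jn I (n + 1)) ⊗ₜ[A] c)) = ψ n ((1 : A ⧸ Jn I n) ⊗ₜ[A] c) := by
  let ψ : ∀ n : ℕ, ((A ⧸ Jn I n) ⊗[A] C) →ₐc[A ⧸ Jn I n] ((A ⧸ Jn I n) ⊗[A] B) :=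
    fun n => Nat.rec (motive := fun n =>
      ((A ⧸ Jn I n) ⊗[A] C) →ₐc[A ⧸ Jn I n] ((A ⧸ Jn I n) ⊗[A] B)) φ₀
      (fun n ψn => Classical.choose
        (lift_step' (Jn I (n + 1)) (Jn I n) (Jn_succ_le I n) (Jn_mul_le I n) B hB C
          (hC (n + 1)) ψn)) n
  refine ⟨ψ, rfl, fun n c => ?_⟩
  exact Classical.choose_spec
    (lift_step' (Jn I (n + 1)) (Jn I n) (Jn_succ_le I n) (Jn_mul_le I n) B hB C
      (hC (n + 1)) (ψ n)) c

end System

section Final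

theorem Jn_le {A : Type*} [CommRing A] (I : Ideal A) (n : ℕ) : Jn I n ≤ I := by
  rw [Jn_eq]
  exact Ideal.pow_le_self (by omega)

/-- the truncations of `C` are of multiplicative type -/
theorem isMultType_trunc {A : Type u} [CommRing A] (I : Ideal A)
    (C : Type u) [CommRing C] [HopfAlgebra A C]
    (hfl : ∀ (q : Ideal C) [q.IsPrime], Ideal.map (algebraMap A C) I ≤ q →
      Module.Flat A (Localization.AtPrime q))
    (h0 : IsQuasiIsotrivial (A ⧸ I) ((A ⧸ I) ⊗[A] C)) (n : ℕ) :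
    IsMultType (A ⧸ Jn I n) ((A ⧸ Jn I n) ⊗[A] C) := by
  haveI : Module.Flat (A ⧸ Jn I n) ((A ⧸ Jn I n) ⊗[A] C) :=
    flat_quot (Jn I n) (fun q _ hq => hfl q (by
      apply Ideal.IsPrime.le_of_pow_le (n := n + 1)
      rw [← Ideal.map_pow, ← Jn_eq]
      exact hq))
  letI : Algebra (A ⧸ Jn I n) (A ⧸ I) := (Ideal.Quotient.factor (Jn_le I n)).toAlgebra
  haveI : IsScalarTower A (A ⧸ Jn I n) (A ⧸ I) := IsScalarTower.of_algebraMap_eq (fun x => by
    rw [RingHom.algebraMap_toAlgebra, Ideal.Quotient.algebraMap_eq, Ideal.Quotient.algebraMap_eq,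
      Ideal.Quotient.factor_mk])
  have hsurj : Function.Surjective (algebraMap (A ⧸ Jn I n) (A ⧸ I)) :=
    Ideal.Quotient.factor_surjective (Jn_le I n)
  have hker : RingHom.ker (algebraMap (A ⧸ Jn I n) (A ⧸ I)) ≤
      I.map (Ideal.Quotient.mk (Jn I n)) := by
    intro y hy
    obtain ⟨x, rfl⟩ := Ideal.Quotient.mk_surjective y
    rw [RingHom.mem_ker, RingHom.algebraMap_toAlgebra, Ideal.Quotient.factor_mk,
      Ideal.Quotient.eq_zero_iff_mem] at hy
    exact Ideal.mem_map_of_mem _ hy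
  have hnil : IsNilpotent (RingHom.ker (algebraMap (A ⧸ Jn I n) (A ⧸ I))) := by
    refine ⟨n + 1, le_bot_iff.1 (le_trans (Ideal.pow_right_mono hker (n + 1)) ?_)⟩
    rw [← Ideal.map_pow, ← Jn_eq, Ideal.map_quotient_self]
  exact isMultType_of_isQuasiIsotrivial
    (quasiIsotrivial_of_nilpotent (A₀ := A) (R := A ⧸ Jn I n) (K := A ⧸ I) C hsurj hnil h0)

theorem reduction_bijective_adic (A : Type u) [CommRing A] [IsNoetherianRing A] (I : Ideal A)
    [IsAdicComplete I A]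
    (B : Type u) [CommRing B] [HopfAlgebra A B] (hG : IsIsotrivial A B)
    (C : Type u) [CommRing C] [HopfAlgebra A C]
    (hfl : ∀ (q : Ideal C) [q.IsPrime], Ideal.map (algebraMap A C) I ≤ q →
      Module.Flat A (Localization.AtPrime q))
    (h0 : IsQuasiIsotrivial (A ⧸ I) ((A ⧸ I) ⊗[A] C)) :
    (∀ φ ψ : C →ₐc[A] B, (∀ c : C, (1 : A ⧸ I) ⊗ₜ[A] (φ c) = (1 : A ⧸ I) ⊗ₜ[A] (ψ c)) → φ = ψ) ∧
    (∀ φ₀ : ((A ⧸ I) ⊗[A] C) →ₐc[A ⧸ I] ((A ⧸ I) ⊗[A] B),
      ∃ φ : C →ₐc[A] B, ∀ c : C, φ₀ ((1 : A ⧸ I) ⊗ₜ[A] c) = (1 : A ⧸ I) ⊗ₜ[A] (φ c)) := by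
  have hB : IsMultType A B := isMultType_of_isIsotrivial B hG
  have hC := isMultType_trunc I C hfl h0
  obtain ⟨A', _, _, hEt, hfin, hff, M, _, ⟨e⟩⟩ := hG
  haveI := hfin
  haveI := hff
  haveI : Module.FinitePresentation A A' := Module.finitePresentation_of_finite A A'
  haveI : Module.Projective A A' := Module.Flat.projective_of_finitePresentation
  haveI : IsAdicComplete I A' :=
    Groth.Agent.Lib.Helper60.AdicProj.isAdicComplete_of_finite_projective I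
  constructor
  · intro φ ψ h
    apply BialgHom.ext
    intro c
    rw [← sub_eq_zero]
    apply sepB I e
    intro n
    rw [← one_tmul_eq_zero_iff, TensorProduct.tmul_sub, sub_eq_zero]
    haveI : Coalgebra.IsCocomm (A ⧸ Jn I n) ((A ⧸ Jn I n) ⊗[A] C) :=
      isCocomm_of_isMultType (hC n)
    set N₀ : Ideal (A ⧸ Jn I n) := I.map (algebraMap A (A ⧸ Jn I n)) with hN₀
    have hN₀nil : IsNilpotent N₀ := by
      refine ⟨n + 1, ?_⟩
      rw [hN₀, ← Ideal.map_pow, ← Jn_eq, Ideal.Quotient.algebraMap_eq, Ideal.map_quotient_self]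
      rfl
    let φn : ((A ⧸ Jn I n) ⊗[A] C) →ₐc[A ⧸ Jn I n] ((A ⧸ Jn I n) ⊗[A] B) :=
      Bialgebra.TensorProduct.map (BialgHom.id (A ⧸ Jn I n) (A ⧸ Jn I n)) φ
    let ψn : ((A ⧸ Jn I n) ⊗[A] C) →ₐc[A ⧸ Jn I n] ((A ⧸ Jn I n) ⊗[A] B) :=
      Bialgebra.TensorProduct.map (BialgHom.id (A ⧸ Jn I n) (A ⧸ Jn I n)) ψ
    have hφn : ∀ c, φn ((1 : A ⧸ Jn I n) ⊗ₜ[A] c) = (1 : A ⧸ Jn I n) ⊗ₜ[A] φ c := fun c => rfl
    have hψn : ∀ c, ψn ((1 : A ⧸ Jn I n) ⊗ₜ[A] c) = (1 : A ⧸ Jn I n) ⊗ₜ[A] ψ c := fun c => rfl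
    have heq : φn = ψn := by
      apply eq_of_congr_base N₀ hN₀nil (isMultType_baseChange (R' := A ⧸ Jn I n) B hB) φn ψn
        (fun c : C => (1 : A ⧸ Jn I n) ⊗ₜ[A] c)
        (span_one_tmul (fun c : C => c) (by
          rw [eq_top_iff]
          intro x _
          exact Submodule.subset_span ⟨x, rfl⟩))
      intro c'
      rw [hφn, hψn, ← TensorProduct.tmul_sub]
      apply semi_mem_smul_top I
      have h1 : φ c' - ψ c' ∈ I • (⊤ : Submodule A B) := by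
        rw [← one_tmul_eq_zero_iff, TensorProduct.tmul_sub, h c', sub_self]
      exact Groth.Agent.Lib.Helper27.AdicLift.map_mem_smul_top I
        (TensorProduct.mk A (A ⧸ Jn I n) B 1) h1
    rw [← hφn, ← hψn, heq]
  · intro φ₀
    obtain ⟨ψ, hψ0, hψ⟩ := exists_system' I B C hB hC φ₀
    obtain ⟨Φ, hΦ⟩ := exists_algebraization' I e ψ hψ
    refine ⟨Φ, fun c => ?_⟩
    have h := hΦ 0 c
    rw [hψ0] at h
    exact h

end Final

end Groth.Agent.Lib.Helper27.MTHom
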