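import Mathlib
import Groth.Prelude.Def_SGA3b
import Groth.Agent.Lib.Helper27.MTHomE

/-!
# Homomorphisms to a diagonalisable group which are isomorphisms modulo an ideal of the Jacobson
radical: surjectivity (helper27)
-/

set_option autoImplicit false
universe u
open TensorProduct SGA3b

namespace Groth.Agent.Lib.Helper27.IsoLift

open Groth.Agent.Lib.Helper27.MultRigid Groth.Agent.Lib.Helper17.MultLift
  Groth.Agent.Lib.Helper17.MultBC

section Surj

variable {S : Type u} [CommRing S] {C : Type u} [CommRing C] [HopfAlgebra S C]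
  {M : Type u} [CommGroup M]

/-- `y ↦ (coefficient of y at n) • n` is `rid ∘ (id ⊗ coeff_n) ∘ Δ` -/
theorem rid_lTensor_coeff_comul (n : M) (y : MonoidAlgebra S M) :
    TensorProduct.rid S (MonoidAlgebra S M)
      (LinearMap.lTensor (MonoidAlgebra S M) (coeffL n) (Coalgebra.comul (R := S) y)) =
      y.coeff n • MonoidAlgebra.single n (1 : S) := by
  classical
  have key : ∀ (m : M) (t : MonoidAlgebra S M ⊗[S] MonoidAlgebra S M),
      (TensorProduct.rid S (MonoidAlgebra S M)
        (LinearMap.lTensor (MonoidAlgebra S M) (coeffL n) t)).coeff m = evalL m n t := by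
    intro m t
    induction t using TensorProduct.induction_on with
    | zero => simp
    | tmul x y =>
      rw [LinearMap.lTensor_tmul, TensorProduct.rid_tmul, evalL_tmul, coeffL_apply,
        MonoidAlgebra.coeff_smul, Finsupp.smul_apply, smul_eq_mul, mul_comm]
    | add x y hx hy =>
      rw [map_add, map_add, MonoidAlgebra.coeff_add, Finsupp.add_apply, hx, hy, map_add]
  apply MonoidAlgebra.ext
  apply Finsupp.ext
  intro m
  rw [key, evalL_comul, MonoidAlgebra.coeff_smul, Finsupp.smul_apply, MonoidAlgebra.coeff_single,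
    Finsupp.single_apply, smul_eq_mul]
  by_cases h : m = n
  · subst h
    simp
  · rw [if_neg h, if_neg (fun h' => h h'.symm), mul_zero]

/-- the graded pieces of an element of the image lie in the image -/
theorem proj_mem_range (ψ : C →ₐc[S] MonoidAlgebra S M) (n : M) (c : C) :
    ∃ c' : C, ψ c' = (ψ c).coeff n • MonoidAlgebra.single n (1 : S) := by
  refine ⟨TensorProduct.rid S C (LinearMap.lTensor C
    (coeffL n ∘ₗ (ψ : C →ₗc[S] MonoidAlgebra S M).toLinearMap) (Coalgebra.comul (R := S) c)), ?_⟩
  have key : ∀ z : C ⊗[S] C,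
      ψ (TensorProduct.rid S C (LinearMap.lTensor C
        (coeffL n ∘ₗ (ψ : C →ₗc[S] MonoidAlgebra S M).toLinearMap) z)) =
      TensorProduct.rid S (MonoidAlgebra S M)
        (LinearMap.lTensor (MonoidAlgebra S M) (coeffL n)
          (TensorProduct.map (ψ : C →ₗc[S] MonoidAlgebra S M).toLinearMap
            (ψ : C →ₗc[S] MonoidAlgebra S M).toLinearMap z)) := by
    intro z
    induction z using TensorProduct.induction_on with
    | zero => simp
    | tmul a b =>
      rw [LinearMap.lTensor_tmul, TensorProduct.rid_tmul, TensorProduct.map_tmul,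
        LinearMap.lTensor_tmul, TensorProduct.rid_tmul, map_smul]
      rfl
    | add x y hx hy => rw [map_add, map_add, map_add, hx, hy, map_add, map_add, map_add]
  rw [key]
  have h := LinearMap.congr_fun (CoalgHomClass.map_comp_comul (ψ : C →ₗc[S] MonoidAlgebra S M)) c
  simp only [LinearMap.coe_comp, Function.comp_apply] at h
  have h' : TensorProduct.map (ψ : C →ₗc[S] MonoidAlgebra S M).toLinearMap
      (ψ : C →ₗc[S] MonoidAlgebra S M).toLinearMap (Coalgebra.comul (R := S) c) =
      Coalgebra.comul (R := S) (ψ c) := h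
  rw [h']
  exact rid_lTensor_coeff_comul n (ψ c)

/-- coefficients of elements of `J • ⊤` lie in `J` -/
theorem coeff_mem_of_mem_smul_top (J : Ideal S) {y : MonoidAlgebra S M}
    (hy : y ∈ J • (⊤ : Submodule S (MonoidAlgebra S M))) (m : M) : y.coeff m ∈ J := by
  refine Submodule.smul_induction_on hy (fun a ha r _ => ?_) (fun x y hx hy => ?_)
  · rw [MonoidAlgebra.coeff_smul, Finsupp.smul_apply, smul_eq_mul]
    exact J.mul_mem_right _ ha
  · rw [MonoidAlgebra.coeff_add, Finsupp.add_apply]
    exact J.add_mem hx hy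

/-- surjectivity modulo an ideal of the Jacobson radical implies surjectivity -/
theorem surjective_of_mod (J : Ideal S) (hJ : J ≤ Ideal.jacobson ⊥)
    (ψ : C →ₐc[S] MonoidAlgebra S M)
    (hs : ∀ b : MonoidAlgebra S M, ∃ c : C,
      ψ c - b ∈ J • (⊤ : Submodule S (MonoidAlgebra S M))) :
    Function.Surjective ψ := by
  have hsingle : ∀ n : M, ∃ c : C, ψ c = MonoidAlgebra.single n (1 : S) := by
    intro n
    obtain ⟨c, hc⟩ := hs (MonoidAlgebra.single n (1 : S))
    have h1 := coeff_mem_of_mem_smul_top J hc n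
    have h2 : (ψ c).coeff n - 1 ∈ J := by
      have : (ψ c - MonoidAlgebra.single n (1 : S)).coeff n = (ψ c).coeff n - 1 := by
        rw [sub_eq_add_neg, MonoidAlgebra.coeff_add, Finsupp.add_apply]
        simp [MonoidAlgebra.coeff_single, sub_eq_add_neg]
      rw [← this]
      exact h1
    have h3 : IsUnit ((ψ c).coeff n) := by
      have h4 := (Ideal.mem_jacobson_bot.1 (hJ h2)) 1
      rw [mul_one, sub_add_cancel] at h4
      exact h4
    obtain ⟨u, hu⟩ := h3
    obtain ⟨c', hc'⟩ := proj_mem_range ψ n c
    refine ⟨(↑u⁻¹ : S) • c', ?_⟩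
    rw [map_smul, hc', ← hu, smul_smul, Units.inv_mul, one_smul]
  intro b
  induction b using MonoidAlgebra.induction_linear with
  | zero => exact ⟨0, map_zero _⟩
  | add x y hx hy =>
    obtain ⟨a, rfl⟩ := hx
    obtain ⟨b, rfl⟩ := hy
    exact ⟨a + b, map_add _ _ _⟩
  | single m r =>
    obtain ⟨c, hc⟩ := hsingle m
    refine ⟨r • c, ?_⟩
    rw [map_smul, hc, MonoidAlgebra.smul_single, smul_eq_mul, mul_one]

end Surj

end Groth.Agent.Lib.Helper27.IsoLift
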