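import Mathlib
import Groth.Prelude.Def_SGA3b
import Groth.Agent.Lib.Helper27.IsoLiftA

/-!
# Homomorphisms to a diagonalisable group which are isomorphisms modulo an ideal of the Jacobson
radical: local structure (helper27)
-/

set_option autoImplicit false
universe u
open TensorProduct SGA3b

namespace Groth.Agent.Lib.Helper27.IsoLift

open Groth.Agent.Lib.Helper27.MultRigid Groth.Agent.Lib.Helper17.MultLift
  Groth.Agent.Lib.Helper17.MultBC

section LocalGL

variable {P : Type u} [CommRing P] [IsLocalRing P] {N M : Type u} [CommGroup N] [CommGroup M]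

theorem eq_zero_or_one_of_idem {e : P} (he : e * e = e) : e = 0 ∨ e = 1 := by
  have h0 : e * (1 - e) = 0 := by rw [mul_sub, mul_one, he, sub_self]
  rcases IsLocalRing.isUnit_or_isUnit_one_sub_self e with h | h
  · right
    have := h.mul_right_eq_zero.1 h0
    exact (sub_eq_zero.1 this).symm
  · left
    exact h.mul_left_eq_zero.1 h0

/-- group-like elements of a group algebra over a local ring are the group elements -/
theorem groupLike_eq_single {g : MonoidAlgebra P M} (hg : IsGroupLikeElem P g) :
    ∃ m : M, g = MonoidAlgebra.single m (1 : P) := by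
  classical
  have horth : ∀ m m' : M, g.coeff m * g.coeff m' = if m = m' then g.coeff m else 0 := by
    intro m m'
    rw [← evalL_tmul, ← hg.comul_eq_tmul_self, evalL_comul]
  have hne : ∃ m₀, g.coeff m₀ ≠ 0 := by
    by_contra hall
    push_neg at hall
    have hg0 : g = 0 := by
      apply MonoidAlgebra.ext
      apply Finsupp.ext
      intro m
      rw [hall m]
      rfl
    have h1 := hg.counit_eq_one
    rw [hg0, map_zero] at h1
    exact zero_ne_one h1
  obtain ⟨m₀, hm₀⟩ := hne
  have h1 : g.coeff m₀ = 1 := by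
    rcases eq_zero_or_one_of_idem (by rw [horth, if_pos rfl] : g.coeff m₀ * g.coeff m₀ = g.coeff m₀)
      with h | h
    · exact absurd h hm₀
    · exact h
  refine ⟨m₀, ?_⟩
  apply MonoidAlgebra.ext
  apply Finsupp.ext
  intro m
  rw [MonoidAlgebra.coeff_single, Finsupp.single_apply]
  by_cases h : m₀ = m
  · subst h
    rw [if_pos rfl, h1]
  · rw [if_neg h]
    have := horth m m₀
    rw [h1, mul_one, if_neg (fun h' => h h'.symm)] at this
    exact this

/-- a homomorphism between group algebras over a local ring is induced by a map of groups -/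
theorem exists_mapDomain (Θ : MonoidAlgebra P N →ₐc[P] MonoidAlgebra P M) :
    ∃ h : N → M, ∀ x, Θ x = MonoidAlgebra.mapDomain h x := by
  have hex : ∀ n : N, ∃ m : M, Θ (MonoidAlgebra.single n (1 : P)) =
      MonoidAlgebra.single m (1 : P) := fun n =>
    groupLike_eq_single ((MonoidAlgebra.isGroupLikeElem_single_one (R := P) n).map Θ)
  choose h hh using hex
  refine ⟨h, fun x => ?_⟩
  induction x using MonoidAlgebra.induction_linear with
  | zero => simp
  | add x y hx hy => rw [map_add, hx, hy, MonoidAlgebra.mapDomain_add]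
  | single n r =>
    have e1 : MonoidAlgebra.single n r = r • MonoidAlgebra.single n (1 : P) := by
      rw [MonoidAlgebra.smul_single, smul_eq_mul, mul_one]
    rw [e1, map_smul, hh, MonoidAlgebra.smul_single, smul_eq_mul, mul_one,
      MonoidAlgebra.smul_single, smul_eq_mul, mul_one, MonoidAlgebra.mapDomain_single]

end LocalGL

section Exists

variable {S : Type u} [CommRing S] {C : Type u} [CommRing C] [HopfAlgebra S C]

/-- a flat local algebra over a given maximal ideal over which a group of multiplicative type is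
diagonalisable -/
theorem exists_local_flat (hC : IsMultType S C) (𝔪 : Ideal S) [h𝔪 : 𝔪.IsMaximal] :
    ∃ (P : Type u) (_ : CommRing P) (_ : IsLocalRing P) (_ : Algebra S P), Module.Flat S P ∧
      Ideal.map (algebraMap S P) 𝔪 ≤ IsLocalRing.maximalIdeal P ∧ IsDiag P (P ⊗[S] C) := by
  obtain ⟨s, hs, hloc⟩ := hC
  have hex : ∃ f ∈ s, f ∉ 𝔪 := by
    by_contra hall
    push_neg at hall
    have : Ideal.span s ≤ 𝔪 := Ideal.span_le.2 (fun x hx => hall x hx)
    rw [hs] at this
    exact h𝔪.ne_top (top_le_iff.1 this)
  obtain ⟨f, hf, hf𝔪⟩ := hex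
  obtain ⟨P₁, _, _, hff, N, _, ⟨e⟩⟩ := hloc f hf
  haveI := hff
  -- the extension of `𝔪` to the localization is proper
  have hprime : (Ideal.map (algebraMap S (Localization.Away f)) 𝔪).IsPrime :=
    IsLocalization.isPrime_of_isPrime_disjoint (Submonoid.powers f) (Localization.Away f) 𝔪
      h𝔪.isPrime ((Ideal.disjoint_powers_iff_notMem_of_isPrime f).2 hf𝔪)
  obtain ⟨𝔫, h𝔫max, h𝔫le⟩ := Ideal.exists_le_maximal _ hprime.ne_top
  have h𝔫top : Ideal.map (algebraMap (Localization.Away f) P₁) 𝔫 ≠ ⊤ := by
    intro htop
    apply Module.FaithfullyFlat.submodule_ne_top (R := Localization.Away f) (M := P₁) h𝔫max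
    rw [Ideal.smul_top_eq_map, htop]
    rfl
  obtain ⟨𝔮, h𝔮max, h𝔮le⟩ := Ideal.exists_le_maximal _ h𝔫top
  haveI : 𝔮.IsPrime := h𝔮max.isPrime
  letI aSP₁ : Algebra S P₁ :=
    ((algebraMap (Localization.Away f) P₁).comp (algebraMap S (Localization.Away f))).toAlgebra
  haveI : IsScalarTower S (Localization.Away f) P₁ := IsScalarTower.of_algebraMap_eq (fun _ => rfl)
  haveI : IsScalarTower S (Localization.Away f) (Localization.AtPrime 𝔮) :=
    IsScalarTower.of_algebraMap_eq (fun x => by
      rw [IsScalarTower.algebraMap_apply S P₁ (Localization.AtPrime 𝔮),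
        IsScalarTower.algebraMap_apply (Localization.Away f) P₁ (Localization.AtPrime 𝔮),
        IsScalarTower.algebraMap_apply S (Localization.Away f) P₁])
  haveI : Module.Flat S (Localization.Away f) :=
    IsLocalization.flat (Localization.Away f) (Submonoid.powers f)
  haveI : Module.Flat S (Localization.AtPrime 𝔮) :=
    Module.Flat.trans S (Localization.Away f) (Localization.AtPrime 𝔮)
  refine ⟨Localization.AtPrime 𝔮, inferInstance, inferInstance, inferInstance, inferInstance, ?_, ?_⟩
  · rw [Ideal.map_le_iff_le_comap]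
    intro x hx
    rw [Ideal.mem_comap, IsScalarTower.algebraMap_apply S P₁ (Localization.AtPrime 𝔮),
      IsLocalization.AtPrime.to_map_mem_maximal_iff (Localization.AtPrime 𝔮) 𝔮]
    apply h𝔮le
    rw [IsScalarTower.algebraMap_apply S (Localization.Away f) P₁]
    exact Ideal.mem_map_of_mem _ (h𝔫le (Ideal.mem_map_of_mem _ hx))
  · obtain ⟨c⟩ := nonempty_bialgEquiv_of_tower (k := Localization.Away f) (P := P₁)
      (S' := Localization.AtPrime 𝔮) (C := Localization.Away f ⊗[S] C) e
    exact ⟨N, inferInstance,
      ⟨(cancelBaseChangeBialg S (Localization.Away f) (Localization.AtPrime 𝔮) C).symm.trans c⟩⟩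

end Exists

end Groth.Agent.Lib.Helper27.IsoLift
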