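import Mathlib
import Groth.Prelude.Def_SGA3b
import Groth.Agent.Lib.Helper27.IsoLiftB

/-!
# Homomorphisms to a diagonalisable group which are isomorphisms modulo an ideal of the Jacobson
radical: injectivity and bijectivity (helper27)
-/

set_option autoImplicit false
universe u
open TensorProduct SGA3b

namespace Groth.Agent.Lib.Helper27.IsoLift

open Groth.Agent.Lib.Helper27.MultRigid Groth.Agent.Lib.Helper17.MultLift
  Groth.Agent.Lib.Helper17.MultBC

section Inj

variable {S : Type u} [CommRing S] {C : Type u} [CommRing C] [HopfAlgebra S C]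
  {M : Type u} [CommGroup M]

theorem tmul_mem_smul_top (J : Ideal S) {P : Type u} [CommRing P] [Algebra S P] (p : P) {x : C}
    (hx : x ∈ J • (⊤ : Submodule S C)) :
    p ⊗ₜ[S] x ∈ Ideal.map (algebraMap S P) J • (⊤ : Submodule P (P ⊗[S] C)) := by
  refine Submodule.smul_induction_on hx (fun a ha c _ => ?_) (fun x y hx hy => ?_)
  · rw [TensorProduct.tmul_smul, ← algebraMap_smul P a (p ⊗ₜ[S] c)]
    exact Submodule.smul_mem_smul (Ideal.mem_map_of_mem _ ha) Submodule.mem_top
  · rw [TensorProduct.tmul_add]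
    exact Submodule.add_mem _ hx hy

theorem map_mem_smul_top' {P : Type*} [CommRing P] (I : Ideal P) {X Y : Type*} [AddCommGroup X]
    [Module P X] [AddCommGroup Y] [Module P Y] (f : X →ₗ[P] Y) {d : X}
    (hd : d ∈ I • (⊤ : Submodule P X)) : f d ∈ I • (⊤ : Submodule P Y) := by
  refine Submodule.smul_induction_on hd (fun a ha c _ => ?_) (fun x y hx hy => ?_)
  · rw [map_smul]
    exact Submodule.smul_mem_smul ha Submodule.mem_top
  · rw [map_add]
    exact Submodule.add_mem _ hx hy

/-- the kernel of a flat base change of `ψ` lies in `J • ⊤` if that of `ψ` does -/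
theorem mem_of_map_eq_zero (J : Ideal S) (ψ : C →ₐc[S] MonoidAlgebra S M)
    (hi : ∀ x, ψ x = 0 → x ∈ J • (⊤ : Submodule S C))
    (P : Type u) [CommRing P] [Algebra S P] [Module.Flat S P]
    (d : P ⊗[S] C) (hd : Bialgebra.TensorProduct.map (BialgHom.id P P) ψ d = 0) :
    d ∈ Ideal.map (algebraMap S P) J • (⊤ : Submodule P (P ⊗[S] C)) := by
  set ψl : C →ₗ[S] MonoidAlgebra S M := (ψ : C →ₐ[S] MonoidAlgebra S M).toLinearMap with hψl
  have hlt : ∀ d : P ⊗[S] C, Bialgebra.TensorProduct.map (BialgHom.id P P) ψ d =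
      LinearMap.lTensor P ψl d := by
    intro d
    induction d using TensorProduct.induction_on with
    | zero => simp
    | tmul p c =>
      rw [Bialgebra.TensorProduct.map_tmul, LinearMap.lTensor_tmul]
      rfl
    | add x y hx hy => rw [map_add, map_add, hx, hy]
  have hex := Module.Flat.lTensor_exact P (LinearMap.exact_subtype_ker_map ψl)
  have hall : ∀ w : P ⊗[S] (LinearMap.ker ψl),
      LinearMap.lTensor P (LinearMap.ker ψl).subtype w ∈
        Ideal.map (algebraMap S P) J • (⊤ : Submodule P (P ⊗[S] C)) := by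
    intro w
    induction w using TensorProduct.induction_on with
    | zero => simp
    | tmul p x =>
      rw [LinearMap.lTensor_tmul]
      exact tmul_mem_smul_top J p (hi x.1 x.2)
    | add x y hx hy =>
      rw [map_add]
      exact Submodule.add_mem _ hx hy
  obtain ⟨w, hw⟩ := (hex d).1 (by rw [← hlt]; exact hd)
  rw [← hw]
  exact hall w

/-- injectivity after a flat local base change over which `C` is diagonalised -/
theorem injective_bc_local (J : Ideal S) (ψ : C →ₐc[S] MonoidAlgebra S M)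
    (hi : ∀ x, ψ x = 0 → x ∈ J • (⊤ : Submodule S C))
    (P : Type u) [CommRing P] [IsLocalRing P] [Algebra S P] [Module.Flat S P]
    (hJP : Ideal.map (algebraMap S P) J ≤ IsLocalRing.maximalIdeal P)
    (hD : IsDiag P (P ⊗[S] C)) :
    Function.Injective (Bialgebra.TensorProduct.map (BialgHom.id P P) ψ) := by
  obtain ⟨N, _, ⟨ε⟩⟩ := hD
  obtain ⟨β⟩ := nonempty_bialgEquiv_of_tower (k := S) (P := S) (S' := P)
    (C := MonoidAlgebra S M) (N := M) (Bialgebra.TensorProduct.lid S (MonoidAlgebra S M))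
  set Ψ := Bialgebra.TensorProduct.map (BialgHom.id P P) ψ with hΨ
  let Θ : MonoidAlgebra P N →ₐc[P] MonoidAlgebra P M :=
    (β.toBialgHom.comp Ψ).comp ε.symm.toBialgHom
  have hΘ : ∀ x, Θ x = β (Ψ (ε.symm x)) := fun x => rfl
  obtain ⟨h, hh⟩ := exists_mapDomain Θ
  have hinj : Function.Injective h := by
    intro n n' hnn'
    by_contra hne
    have h0 : Θ (MonoidAlgebra.single n (1 : P) - MonoidAlgebra.single n' (1 : P)) = 0 := by
      rw [map_sub, hh, hh, MonoidAlgebra.mapDomain_single, MonoidAlgebra.mapDomain_single, hnn',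
        sub_self]
    have h1 : Ψ (ε.symm (MonoidAlgebra.single n (1 : P) - MonoidAlgebra.single n' (1 : P))) = 0 := by
      have h0' := h0
      rw [hΘ] at h0'
      exact (EmbeddingLike.map_eq_zero_iff (f := β)).1 h0'
    have h2 := mem_of_map_eq_zero J ψ hi P _ h1
    have h3 := map_mem_smul_top' _ (ε : (P ⊗[S] C) ≃ₗc[P] MonoidAlgebra P N).toLinearEquiv.toLinearMap h2
    have h4 : (ε : (P ⊗[S] C) ≃ₗc[P] MonoidAlgebra P N).toLinearEquiv.toLinearMap
        (ε.symm (MonoidAlgebra.single n (1 : P) - MonoidAlgebra.single n' (1 : P))) =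
        MonoidAlgebra.single n (1 : P) - MonoidAlgebra.single n' (1 : P) :=
      ε.apply_symm_apply _
    rw [h4] at h3
    have h5 := coeff_mem_of_mem_smul_top _ h3 n
    have h6 : (MonoidAlgebra.single n (1 : P) - MonoidAlgebra.single n' (1 : P)).coeff n = 1 := by
      rw [sub_eq_add_neg, MonoidAlgebra.coeff_add, Finsupp.add_apply]
      simp [MonoidAlgebra.coeff_single, Finsupp.single_apply, Ne.symm hne]
    rw [h6] at h5
    exact (Ideal.ne_top_iff_one _).1 (IsLocalRing.maximalIdeal.isMaximal P).ne_top (hJP h5)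
  have hΘinj : Function.Injective Θ := fun x y hxy =>
    MonoidAlgebra.mapDomain_injective hinj (by rw [← hh, ← hh, hxy])
  intro a b hab
  have h7 : Θ (ε a) = Θ (ε b) := by
    rw [hΘ, hΘ, BialgEquiv.symm_apply_apply, BialgEquiv.symm_apply_apply, hab]
  exact EquivLike.injective ε (hΘinj h7)

/-- injectivity modulo an ideal of the Jacobson radical implies injectivity, for a group of
multiplicative type -/
theorem injective_of_mod (J : Ideal S) (hJ : J ≤ Ideal.jacobson ⊥) (hC : IsMultType S C)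
    (ψ : C →ₐc[S] MonoidAlgebra S M)
    (hi : ∀ x, ψ x = 0 → x ∈ J • (⊤ : Submodule S C)) :
    Function.Injective ψ := by
  rw [injective_iff_map_eq_zero]
  intro x hx
  by_contra hx0
  set 𝔟 : Ideal S := LinearMap.ker (LinearMap.toSpanSingleton S C x) with h𝔟
  have h𝔟top : 𝔟 ≠ ⊤ := by
    intro htop
    have h1 : (1 : S) ∈ 𝔟 := by rw [htop]; exact Submodule.mem_top
    rw [h𝔟, LinearMap.mem_ker, LinearMap.toSpanSingleton_apply, one_smul] at h1
    exact hx0 h1
  obtain ⟨𝔪, h𝔪, hle⟩ := Ideal.exists_le_maximal 𝔟 h𝔟top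
  have hJ𝔪 : J ≤ 𝔪 := hJ.trans (sInf_le ⟨bot_le, h𝔪⟩)
  obtain ⟨P, _, _, _, hfl, hmP, hD⟩ := exists_local_flat hC 𝔪
  haveI := hfl
  have hJP : Ideal.map (algebraMap S P) J ≤ IsLocalRing.maximalIdeal P :=
    (Ideal.map_mono hJ𝔪).trans hmP
  have hΨinj := injective_bc_local J ψ hi P hJP hD
  have h1 : (1 : P) ⊗ₜ[S] x = 0 := by
    apply hΨinj
    rw [Bialgebra.TensorProduct.map_tmul, hx, TensorProduct.tmul_zero, map_zero]
  -- the injection `S ⧸ 𝔟 → C`
  let g : (S ⧸ 𝔟) →ₗ[S] C := 𝔟.liftQ (LinearMap.toSpanSingleton S C x) le_rfl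
  have hg : Function.Injective g := by
    rw [← LinearMap.ker_eq_bot]
    exact Submodule.ker_liftQ_eq_bot _ _ _ le_rfl
  have hg' := Module.Flat.lTensor_preserves_injective_linearMap (M := P) g hg
  have h2 : (1 : P) ⊗ₜ[S] (Ideal.Quotient.mk 𝔟 (1 : S)) = 0 := by
    apply hg'
    rw [LinearMap.lTensor_tmul, map_zero]
    have : g (Ideal.Quotient.mk 𝔟 (1 : S)) = x := by
      show 𝔟.liftQ _ _ (Submodule.Quotient.mk (1 : S)) = x
      rw [Submodule.liftQ_apply, LinearMap.toSpanSingleton_apply, one_smul]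
    rw [this, h1]
  have h3 := congrArg (TensorProduct.tensorQuotEquivQuotSMul P 𝔟) h2
  rw [TensorProduct.tensorQuotEquivQuotSMul_tmul_mk, map_zero, one_smul,
    Submodule.Quotient.mk_eq_zero, Ideal.smul_top_eq_map] at h3
  have h4 : (1 : P) ∈ Ideal.map (algebraMap S P) 𝔟 := h3
  exact (Ideal.ne_top_iff_one _).1 (IsLocalRing.maximalIdeal.isMaximal P).ne_top
    (hmP (Ideal.map_mono hle h4))

/-- a homomorphism from a group of multiplicative type to a diagonalisable group which is bijective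
modulo an ideal of the Jacobson radical is bijective -/
theorem bijective_of_mod (J : Ideal S) (hJ : J ≤ Ideal.jacobson ⊥) (hC : IsMultType S C)
    (ψ : C →ₐc[S] MonoidAlgebra S M)
    (hs : ∀ b : MonoidAlgebra S M, ∃ c : C,
      ψ c - b ∈ J • (⊤ : Submodule S (MonoidAlgebra S M)))
    (hi : ∀ x, ψ x = 0 → x ∈ J • (⊤ : Submodule S C)) :
    Function.Bijective ψ :=
  ⟨injective_of_mod J hJ hC ψ hi, surjective_of_mod J hJ ψ hs⟩

end Inj

end Groth.Agent.Lib.Helper27.IsoLift
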