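import Mathlib
import Groth.Prelude.Def_SGA3b
import Groth.Agent.S0532
import Groth.Agent.Lib.Helper27.IsoLiftC
import Groth.Agent.Lib.Helper27.HensMTA

/-!
# Isotriviality over a complete base from isotriviality of the reduction (helper27)
-/

set_option autoImplicit false
universe u
open TensorProduct SGA3b

namespace Groth.Agent.Lib.Helper27.IsoLift

open Groth.Agent.Lib.Helper27.MultRigid Groth.Agent.Lib.Helper17.MultLift
  Groth.Agent.Lib.Helper17.MultBC Groth.Agent.Lib.Helper27.MTHom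

section FF

variable {R : Type u} [CommRing R] (I : Ideal R) {S : Type u} [CommRing S] [Algebra R S]
  {S₀ : Type u} [CommRing S₀] [Algebra (R ⧸ I) S₀]

/-- a flat algebra whose reduction modulo an ideal of the Jacobson radical is faithfully flat is
faithfully flat -/
theorem faithfullyFlat_of_reduction (hI : I ≤ Ideal.jacobson ⊥) [Module.Flat R S]
    [Module.FaithfullyFlat (R ⧸ I) S₀] (ρ : S →+* S₀)
    (hρ : ∀ r : R, ρ (algebraMap R S r) = algebraMap (R ⧸ I) S₀ (Ideal.Quotient.mk I r)) :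
    Module.FaithfullyFlat R S where
  submodule_ne_top := by
    intro 𝔪 h𝔪 htop
    haveI := h𝔪
    have hI𝔪 : I ≤ 𝔪 := hI.trans (sInf_le ⟨bot_le, h𝔪⟩)
    have hmax : (𝔪.map (Ideal.Quotient.mk I)).IsMaximal :=
      Ideal.IsMaximal.map_of_surjective_of_ker_le Ideal.Quotient.mk_surjective
        (by rw [Ideal.mk_ker]; exact hI𝔪)
    have hmem : ∀ y ∈ 𝔪 • (⊤ : Submodule R S),
        ρ y ∈ (𝔪.map (Ideal.Quotient.mk I)) • (⊤ : Submodule (R ⧸ I) S₀) := by
      intro y hy
      refine Submodule.smul_induction_on hy (fun a ha s _ => ?_) (fun x y hx hy => ?_)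
      · rw [Algebra.smul_def, map_mul, hρ, ← Algebra.smul_def]
        exact Submodule.smul_mem_smul (Ideal.mem_map_of_mem _ ha) Submodule.mem_top
      · rw [map_add]
        exact Submodule.add_mem _ hx hy
    have h1 : (1 : S₀) ∈ (𝔪.map (Ideal.Quotient.mk I)) • (⊤ : Submodule (R ⧸ I) S₀) := by
      have := hmem 1 (by rw [htop]; exact Submodule.mem_top)
      rwa [map_one] at this
    apply Module.FaithfullyFlat.submodule_ne_top (R := R ⧸ I) (M := S₀) hmax
    rw [Ideal.smul_top_eq_map] at h1 ⊢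
    have h2 : Ideal.map (algebraMap (R ⧸ I) S₀) (𝔪.map (Ideal.Quotient.mk I)) = ⊤ :=
      (Ideal.eq_top_iff_one _).2 h1
    rw [h2]
    rfl

end FF

section Complete

theorem isAdicComplete_map {R : Type u} [CommRing R] [IsNoetherianRing R] (I : Ideal R)
    [IsAdicComplete I R] (S : Type u) [CommRing S] [Algebra R S] [Module.Finite R S]
    [Module.Flat R S] : IsAdicComplete (I.map (algebraMap R S)) S := by
  haveI : Module.FinitePresentation R S := Module.finitePresentation_of_finite R S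
  haveI : Module.Projective R S := Module.Flat.projective_of_finitePresentation
  haveI : IsAdicComplete I S :=
    Groth.Agent.Lib.Helper60.AdicProj.isAdicComplete_of_finite_projective I
  exact { toIsHausdorff := IsHausdorff.map_algebraMap_iff.2 inferInstance
          toIsPrecomplete := IsPrecomplete.map_algebraMap_iff.2 inferInstance }

end Complete

section Flat

theorem flat_of_isMultType {R : Type u} [CommRing R] {A : Type u} [CommRing A] [HopfAlgebra R A]
    (h : IsMultType R A) : Module.Flat R A := by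
  obtain ⟨s, hs, hloc⟩ := h
  refine Module.flat_of_isLocalized_span R A s hs (fun r => Localization.Away r.1 ⊗[R] A)
    (fun r => TensorProduct.mk R (Localization.Away r.1) A 1) (fun r => ?_)
  obtain ⟨P₁, _, _, hff, N, _, ⟨e⟩⟩ := hloc r.1 r.2
  haveI := hff
  haveI : Module.Flat (Localization.Away r.1) (Localization.Away r.1 ⊗[R] A) :=
    Groth.Agent.Lib.Helper27.HensMT.flat_of_split e
  haveI : Module.Flat R (Localization.Away r.1) :=
    IsLocalization.flat (Localization.Away r.1) (Submonoid.powers r.1)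
  exact Module.Flat.trans R (Localization.Away r.1) (Localization.Away r.1 ⊗[R] A)

theorem isQuasiIsotrivial_of_isDiag {k : Type u} [CommRing k] {X : Type u} [CommRing X]
    [HopfAlgebra k X] (h : IsDiag k X) : IsQuasiIsotrivial k X := by
  obtain ⟨M, _, ⟨e⟩⟩ := h
  refine ⟨{1}, Ideal.span_singleton_one, ?_⟩
  intro f hf
  obtain rfl : f = 1 := hf
  obtain ⟨c⟩ := nonempty_bialgEquiv_of_tower (k := k) (P := k) (S' := Localization.Away (1 : k))
    (C := X) ((Bialgebra.TensorProduct.lid k X).trans e)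
  exact ⟨Localization.Away (1 : k), inferInstance, inferInstance, inferInstance, inferInstance,
    M, inferInstance, ⟨(Bialgebra.TensorProduct.lid _ _).trans c⟩⟩

end Flat

section Red

variable {R : Type u} [CommRing R] (I : Ideal R) (A : Type u) [CommRing A] [HopfAlgebra R A]
  (S : Type u) [CommRing S] [Algebra R S] (S₀ : Type u) [CommRing S₀] [Algebra (R ⧸ I) S₀]

/-- the reduction of `S ⊗ A` is diagonalisable when `S` lifts a splitting algebra of the reduction
of `A` -/
theorem isDiag_reduction (σ : ((R ⧸ I) ⊗[R] S) ≃ₐ[R ⧸ I] S₀) {M : Type u} [CommGroup M]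
    (e₀ : (S₀ ⊗[R ⧸ I] ((R ⧸ I) ⊗[R] A)) ≃ₐc[S₀] MonoidAlgebra S₀ M) :
    IsDiag (S ⧸ I.map (algebraMap R S)) ((S ⧸ I.map (algebraMap R S)) ⊗[S] (S ⊗[R] A)) := by
  let pm : ((R ⧸ I) ⊗[R] S) →ₐ[R] (S ⧸ I.map (algebraMap R S)) :=
    Algebra.TensorProduct.productMap
      (IsScalarTower.toAlgHom R (R ⧸ I) (S ⧸ I.map (algebraMap R S)))
      (IsScalarTower.toAlgHom R S (S ⧸ I.map (algebraMap R S)))
  let τ : S₀ →+* (S ⧸ I.map (algebraMap R S)) :=
    (pm : ((R ⧸ I) ⊗[R] S) →+* (S ⧸ I.map (algebraMap R S))).comp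
      ((σ.symm : S₀ ≃ₐ[R ⧸ I] ((R ⧸ I) ⊗[R] S)) : S₀ →+* ((R ⧸ I) ⊗[R] S))
  letI : Algebra S₀ (S ⧸ I.map (algebraMap R S)) := τ.toAlgebra
  haveI : IsScalarTower (R ⧸ I) S₀ (S ⧸ I.map (algebraMap R S)) :=
    IsScalarTower.of_algebraMap_eq (fun x => by
      show algebraMap (R ⧸ I) (S ⧸ I.map (algebraMap R S)) x =
        pm (σ.symm (algebraMap (R ⧸ I) S₀ x))
      rw [AlgEquiv.commutes, Algebra.TensorProduct.algebraMap_apply,
        Algebra.TensorProduct.productMap_apply_tmul, map_one, mul_one]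
      rfl)
  have h := isDiag_tower (R := R) (R' := S) (K := R ⧸ I) (S := S ⧸ I.map (algebraMap R S))
    (P := S₀) (P' := S ⧸ I.map (algebraMap R S)) A e₀
  exact isDiag_of_bialgEquiv (Bialgebra.TensorProduct.lid _ _).symm h

end Red

section Main

/-- if the reduction of a group of multiplicative type over a complete noetherian ring is isotrivial,
the group is isotrivial -/
theorem isIsotrivial_of_adicComplete (R : Type u) [CommRing R] (A : Type u) [CommRing A]
    [HopfAlgebra R A] [IsNoetherianRing R] (I : Ideal R) [IsAdicComplete I R]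
    (h : IsMultType R A) (h0 : IsIsotrivial (R ⧸ I) ((R ⧸ I) ⊗[R] A)) :
    IsIsotrivial R A := by
  obtain ⟨S₀, _, _, hEt, hFin, hFF, M, _, ⟨e₀⟩⟩ := h0
  haveI := hEt
  haveI := hFin
  haveI := hFF
  obtain ⟨S, _, _, hSfin, hSet, ⟨σ⟩⟩ := Groth.Agent.S0532.result R I S₀
  haveI := hSfin
  haveI := hSet
  haveI : Module.Flat R S := inferInstance
  have hIjac : I ≤ Ideal.jacobson ⊥ := IsAdicComplete.le_jacobson_bot I
  haveI hSff : Module.FaithfullyFlat R S :=
    faithfullyFlat_of_reduction I hIjac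
      ((σ : ((R ⧸ I) ⊗[R] S) →+* S₀).comp
        (Algebra.TensorProduct.includeRight : S →ₐ[R] (R ⧸ I) ⊗[R] S).toRingHom)
      (fun r => by
        show σ ((1 : R ⧸ I) ⊗ₜ[R] algebraMap R S r) = _
        rw [Algebra.algebraMap_eq_smul_one, TensorProduct.tmul_smul,
          ← algebraMap_smul (R ⧸ I) r ((1 : R ⧸ I) ⊗ₜ[R] (1 : S)), map_smul,
          ← Algebra.TensorProduct.one_def, map_one, Algebra.smul_def, mul_one]
        rfl)
  haveI : IsNoetherianRing S := Algebra.FiniteType.isNoetherianRing R S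
  haveI : IsAdicComplete (I.map (algebraMap R S)) S := isAdicComplete_map I S
  have hC : IsMultType S (S ⊗[R] A) := isMultType_baseChange A h
  haveI : Module.Flat S (S ⊗[R] A) := flat_of_isMultType hC
  obtain ⟨M', _, ⟨ε₀⟩⟩ := isDiag_reduction I A S S₀ σ e₀
  have hBiso : IsIsotrivial S (MonoidAlgebra S M') :=
    ⟨S, inferInstance, inferInstance, inferInstance, inferInstance, inferInstance, M',
      inferInstance, ⟨Bialgebra.TensorProduct.lid S _⟩⟩
  obtain ⟨β₀⟩ := nonempty_bialgEquiv_of_tower (k := S) (P := S)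
    (S' := S ⧸ I.map (algebraMap R S)) (C := MonoidAlgebra S M') (N := M')
    (Bialgebra.TensorProduct.lid S (MonoidAlgebra S M'))
  have hq0 : IsQuasiIsotrivial (S ⧸ I.map (algebraMap R S))
      ((S ⧸ I.map (algebraMap R S)) ⊗[S] (S ⊗[R] A)) :=
    isQuasiIsotrivial_of_isDiag ⟨M', inferInstance, ⟨ε₀⟩⟩
  obtain ⟨-, hlift⟩ := reduction_bijective_adic S (I.map (algebraMap R S))
    (MonoidAlgebra S M') hBiso (S ⊗[R] A) (fun q _ _ => inferInstance) hq0
  obtain ⟨ψ, hψ⟩ := hlift (β₀.symm.toBialgHom.comp ε₀.toBialgHom)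
  have hψ' : ∀ c : S ⊗[R] A, β₀.symm (ε₀ ((1 : S ⧸ I.map (algebraMap R S)) ⊗ₜ[S] c)) =
      (1 : S ⧸ I.map (algebraMap R S)) ⊗ₜ[S] ψ c := hψ
  have hker : RingHom.ker (algebraMap S (S ⧸ I.map (algebraMap R S))) = I.map (algebraMap R S) := by
    rw [Ideal.Quotient.algebraMap_eq, Ideal.mk_ker]
  have hsurjq : Function.Surjective (algebraMap S (S ⧸ I.map (algebraMap R S))) :=
    Ideal.Quotient.mk_surjective
  have hbij : Function.Bijective ψ := by
    apply bijective_of_mod (I.map (algebraMap R S)) (IsAdicComplete.le_jacobson_bot _) hC ψ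
    · intro b
      obtain ⟨c, hc⟩ := Groth.Agent.S2970.exists_tmul_eq (I.map (algebraMap R S))
        (ε₀.symm (β₀ ((1 : S ⧸ I.map (algebraMap R S)) ⊗ₜ[S] b)))
      refine ⟨c, ?_⟩
      have h1 : (1 : S ⧸ I.map (algebraMap R S)) ⊗ₜ[S] (ψ c - b) = 0 := by
        rw [TensorProduct.tmul_sub, ← hψ', hc, BialgEquiv.apply_symm_apply,
          BialgEquiv.symm_apply_apply, sub_self]
      have h2 := mem_smul_top_of_one_tmul_eq_zero hsurjq h1
      rwa [hker] at h2
    · intro x hx
      have h1 : (1 : S ⧸ I.map (algebraMap R S)) ⊗ₜ[S] x = 0 := by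
        have h3 := hψ' x
        rw [hx, TensorProduct.tmul_zero] at h3
        have h4 := (EmbeddingLike.map_eq_zero_iff (f := β₀.symm)).1 h3
        exact (EmbeddingLike.map_eq_zero_iff (f := ε₀)).1 h4
      have h2 := mem_smul_top_of_one_tmul_eq_zero hsurjq h1
      rwa [hker] at h2
  exact ⟨S, inferInstance, inferInstance, hSet, hSfin, hSff, M', inferInstance,
    ⟨BialgEquiv.ofBijective ψ hbij⟩⟩

end Main

end Groth.Agent.Lib.Helper27.IsoLift
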