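import Mathlib
import Groth.Agent.Lib.Helper27.HopfDescE
import Groth.Agent.Lib.Helper27.MTHomE
import Groth.Agent.Lib.Helper27.IsoLiftD

/-!
# Reduction modulo an ideal and lifting of homomorphisms of split tori (helper27)
-/

set_option autoImplicit false
universe u
open TensorProduct SGA3b

namespace Groth.Agent.Lib.Helper27.HopfDesc

open Groth.Agent.Lib.Helper17.MultLift Groth.Agent.Lib.Helper17.MultBC
  Groth.Agent.Lib.Helper27.MTHom Groth.Agent.Lib.Helper27.IsoLift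

section BC2

variable {k₁ k₂ X Y : Type u} [CommRing k₁] [CommRing k₂] [CommRing X] [CommRing Y]
  [Algebra k₁ X] [Algebra k₂ X] [Algebra k₁ Y] [Algebra k₂ Y]
  {C : Type u} [CommRing C] [Bialgebra k₁ C] {B : Type u} [CommRing B] [Bialgebra k₂ B]

/-- base change of a homomorphism along a map of base algebras, with two ground rings -/
theorem exists_bc₂ (ι₁ : X →ₐ[k₁] Y) (ι₂ : X →ₐ[k₂] Y) (hι : ∀ x, ι₁ x = ι₂ x)
    (Ψ : (X ⊗[k₁] C) →ₐc[X] (X ⊗[k₂] B)) :
    ∃ Ψ' : (Y ⊗[k₁] C) →ₐc[Y] (Y ⊗[k₂] B),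
      (∀ x : X ⊗[k₁] C, Ψ' (Algebra.TensorProduct.map ι₁ (AlgHom.id k₁ C) x) =
        Algebra.TensorProduct.map ι₂ (AlgHom.id k₂ B) (Ψ x)) ∧
      (Function.Bijective Ψ → Function.Bijective Ψ') := by
  letI : Algebra X Y := ι₁.toRingHom.toAlgebra
  haveI : IsScalarTower k₁ X Y := IsScalarTower.of_algebraMap_eq (fun r => (ι₁.commutes r).symm)
  haveI : IsScalarTower k₂ X Y := IsScalarTower.of_algebraMap_eq (fun r => by
    show algebraMap k₂ Y r = ι₁ (algebraMap k₂ X r)
    rw [hι, ι₂.commutes])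
  have hι₁ : IsScalarTower.toAlgHom k₁ X Y = ι₁ := AlgHom.ext (fun _ => rfl)
  have hι₂ : IsScalarTower.toAlgHom k₂ X Y = ι₂ := AlgHom.ext (fun x => hι x)
  let eB := cancelBaseChangeBialg k₂ X Y B
  let eC := cancelBaseChangeBialg k₁ X Y C
  refine ⟨(eB.toBialgHom).comp
    ((Bialgebra.TensorProduct.map (BialgHom.id Y Y) Ψ).comp eC.symm.toBialgHom),
    fun x => ?_, fun hb => ?_⟩
  · rw [← hι₁, ← hι₂, ← cancel_one_tmul (T' := Y) x]
    show eB (Bialgebra.TensorProduct.map (BialgHom.id Y Y) Ψ (eC.symm (eC _))) = _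
    rw [BialgEquiv.symm_apply_apply, Bialgebra.TensorProduct.map_tmul]
    exact cancel_one_tmul (T' := Y) (Ψ x)
  · let Ψe : (X ⊗[k₁] C) ≃ₗ[X] (X ⊗[k₂] B) :=
      LinearEquiv.ofBijective (Ψ : (X ⊗[k₁] C) →ₗ[X] (X ⊗[k₂] B)) hb
    have hmid : ∀ z, Bialgebra.TensorProduct.map (BialgHom.id Y Y) Ψ z =
        LinearEquiv.lTensor Y Ψe z := by
      intro z
      induction z using TensorProduct.induction_on with
      | zero => simp
      | add x y hx hy => rw [map_add, map_add, hx, hy]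
      | tmul y w =>
        rw [Bialgebra.TensorProduct.map_tmul, LinearEquiv.lTensor_tmul]
        rfl
    have hmidb : Function.Bijective (Bialgebra.TensorProduct.map (BialgHom.id Y Y) Ψ) := by
      have h2 : (Bialgebra.TensorProduct.map (BialgHom.id Y Y) Ψ :
          Y ⊗[X] (X ⊗[k₁] C) → Y ⊗[X] (X ⊗[k₂] B)) = LinearEquiv.lTensor Y Ψe := funext hmid
      rw [h2]
      exact (LinearEquiv.lTensor Y Ψe).bijective
    exact ((EquivLike.bijective eB).comp hmidb).comp (EquivLike.bijective eC.symm)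

end BC2

section Red

variable {R : Type u} [CommRing R] (I : Ideal R)

/-- the reduction of an `R`-algebra modulo `I` -/
abbrev Bar (X : Type u) [CommRing X] [Algebra R X] : Type u := X ⧸ I.map (algebraMap R X)

variable {X Y : Type u} [CommRing X] [Algebra R X] [CommRing Y] [Algebra R Y]

/-- the reduction map, as an `R`-algebra homomorphism -/
noncomputable def rho (X : Type u) [CommRing X] [Algebra R X] : X →ₐ[R] Bar I X :=
  IsScalarTower.toAlgHom R X (Bar I X)

theorem rho_surjective : Function.Surjective (rho I X) := Ideal.Quotient.mk_surjective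

theorem map_le_comap (f : X →ₐ[R] Y) :
    I.map (algebraMap R X) ≤ (I.map (algebraMap R Y)).comap f := by
  rw [Ideal.map_le_iff_le_comap]
  intro r hr
  show f (algebraMap R X r) ∈ I.map (algebraMap R Y)
  rw [f.commutes]
  exact Ideal.mem_map_of_mem _ hr

/-- the map induced on reductions -/
noncomputable def barMap (f : X →ₐ[R] Y) : Bar I X →ₐ[R] Bar I Y :=
  Ideal.quotientMapₐ (I.map (algebraMap R Y)) f (map_le_comap I f)

theorem barMap_rho (f : X →ₐ[R] Y) (x : X) : barMap I f (rho I X x) = rho I Y (f x) := rfl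

theorem barMap_comp_rho (f : X →ₐ[R] Y) : (barMap I f).comp (rho I X) = (rho I Y).comp f :=
  AlgHom.ext (fun _ => rfl)

/-- an `R`-algebra homomorphism between `R ⧸ I`-algebras is `R ⧸ I`-linear -/
noncomputable def toQuotAlgHom {P Q : Type u} [CommRing P] [CommRing Q] [Algebra R P]
    [Algebra (R ⧸ I) P] [IsScalarTower R (R ⧸ I) P] [Algebra R Q] [Algebra (R ⧸ I) Q]
    [IsScalarTower R (R ⧸ I) Q] (f : P →ₐ[R] Q) : P →ₐ[R ⧸ I] Q :=
  { (f : P →+* Q) with
    commutes' := fun r => by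
      obtain ⟨r, rfl⟩ := Ideal.Quotient.mk_surjective r
      show f (algebraMap (R ⧸ I) P (algebraMap R (R ⧸ I) r)) =
        algebraMap (R ⧸ I) Q (algebraMap R (R ⧸ I) r)
      rw [← IsScalarTower.algebraMap_apply, ← IsScalarTower.algebraMap_apply, f.commutes] }

theorem toQuotAlgHom_apply {P Q : Type u} [CommRing P] [CommRing Q] [Algebra R P]
    [Algebra (R ⧸ I) P] [IsScalarTower R (R ⧸ I) P] [Algebra R Q] [Algebra (R ⧸ I) Q]
    [IsScalarTower R (R ⧸ I) Q] (f : P →ₐ[R] Q) (p : P) : toQuotAlgHom I f p = f p := rfl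

variable {B₀ : Type u} [CommRing B₀] [HopfAlgebra R B₀]

/-- reduction of elements of `X ⊗ B₀` -/
noncomputable def red (X : Type u) [CommRing X] [Algebra R X] (B₀ : Type u) [CommRing B₀]
    [HopfAlgebra R B₀] : X ⊗[R] B₀ →ₗ[R] Bar I X ⊗[R] B₀ :=
  bcL B₀ (rho I X)

theorem red_surjective : Function.Surjective (red I X B₀) :=
  LinearMap.rTensor_surjective B₀ (rho_surjective I)

theorem red_smul (x : X) (w : X ⊗[R] B₀) : red I X B₀ (x • w) = rho I X x • red I X B₀ w :=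
  bcL_smul _ _ _

theorem red_bcL (f : X →ₐ[R] Y) (w : X ⊗[R] B₀) :
    red I Y B₀ (bcL B₀ f w) = bcL B₀ (barMap I f) (red I X B₀ w) := by
  rw [red, red, bcL_comp, bcL_comp, barMap_comp_rho]

theorem red_bcL_congr (f : X →ₐ[R] Y) {w w' : X ⊗[R] B₀} (h : red I X B₀ w = red I X B₀ w') :
    red I Y B₀ (bcL B₀ f w) = red I Y B₀ (bcL B₀ f w') := by
  rw [red_bcL, red_bcL, h]

theorem red_hom_congr (Θ : (X ⊗[R] B₀) →ₐc[X] (X ⊗[R] B₀)) {w w' : X ⊗[R] B₀}
    (h : red I X B₀ w = red I X B₀ w') : red I X B₀ (Θ w) = red I X B₀ (Θ w') := by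
  obtain ⟨Θ', hΘ'⟩ := exists_bc (rho I X) Θ
  have key : ∀ w, red I X B₀ (Θ w) = Θ' (red I X B₀ w) := fun w => (hΘ' w).symm
  rw [key, key, h]

theorem span_bcL (f : X →ₐ[R] Y) (G : Set (X ⊗[R] B₀)) (hG : Submodule.span X G = ⊤) :
    Submodule.span Y ((bcL B₀ f) '' G) = ⊤ := by
  rw [eq_top_iff]
  intro w hw
  clear hw
  have h1 : ∀ c : X ⊗[R] B₀, bcL B₀ f c ∈ Submodule.span Y ((bcL B₀ f) '' G) := by
    intro c
    have hc : c ∈ Submodule.span X G := by rw [hG]; trivial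
    induction hc using Submodule.span_induction with
    | mem x hx => exact Submodule.subset_span ⟨x, hx, rfl⟩
    | zero => rw [map_zero]; exact zero_mem _
    | add x y _ _ hx hy => rw [map_add]; exact add_mem hx hy
    | smul a x _ hx => rw [bcL_smul]; exact Submodule.smul_mem _ _ hx
  induction w using TensorProduct.induction_on with
  | zero => exact zero_mem _
  | add x y hx hy => exact add_mem hx hy
  | tmul y b =>
    have : y ⊗ₜ[R] b = y • bcL B₀ f ((1 : X) ⊗ₜ[R] b) := by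
      rw [bcL_tmul, map_one, TensorProduct.smul_tmul', smul_eq_mul, mul_one]
    rw [this]
    exact Submodule.smul_mem _ _ (h1 _)

end Red

section Lift

variable {R : Type u} [CommRing R] (I : Ideal R) (M : Type u) [CommGroup M]
  (X : Type u) [CommRing X] [Algebra R X]

theorem isIsotrivial_split :
    IsIsotrivial X (X ⊗[R] MonoidAlgebra R M) := by
  obtain ⟨c⟩ := nonempty_bialgEquiv_of_tower (k := R) (P := R) (S' := X)
    (C := MonoidAlgebra R M) (N := M) (Bialgebra.TensorProduct.lid R (MonoidAlgebra R M))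
  exact ⟨X, inferInstance, inferInstance, inferInstance, inferInstance, inferInstance, M,
    inferInstance, ⟨(Bialgebra.TensorProduct.lid X _).trans c⟩⟩

theorem isQuasiIsotrivial_split_bar :
    IsQuasiIsotrivial (Bar I X) ((Bar I X) ⊗[X] (X ⊗[R] MonoidAlgebra R M)) := by
  obtain ⟨c⟩ := nonempty_bialgEquiv_of_tower (k := R) (P := R) (S' := X)
    (C := MonoidAlgebra R M) (N := M) (Bialgebra.TensorProduct.lid R (MonoidAlgebra R M))
  obtain ⟨d⟩ := nonempty_bialgEquiv_of_tower (k := X) (P := X) (S' := Bar I X)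
    (C := X ⊗[R] MonoidAlgebra R M) (N := M) ((Bialgebra.TensorProduct.lid X _).trans c)
  exact isQuasiIsotrivial_of_isDiag ⟨M, inferInstance, ⟨d⟩⟩

variable [IsNoetherianRing X] [IsAdicComplete (I.map (algebraMap R X)) X]

theorem one_tmul_eq_iff (w w' : X ⊗[R] MonoidAlgebra R M) :
    (1 : Bar I X) ⊗ₜ[X] w = (1 : Bar I X) ⊗ₜ[X] w' ↔
      red I X (MonoidAlgebra R M) w = red I X (MonoidAlgebra R M) w' := by
  constructor
  · intro h
    have := congrArg (cancelBaseChangeBialg R X (Bar I X) (MonoidAlgebra R M)) h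
    rw [cancel_one_tmul, cancel_one_tmul] at this
    exact this
  · intro h
    apply (EquivLike.injective (cancelBaseChangeBialg R X (Bar I X) (MonoidAlgebra R M)))
    rw [cancel_one_tmul, cancel_one_tmul]
    exact h

theorem eq_of_red_eq
    (Θ₁ Θ₂ : (X ⊗[R] MonoidAlgebra R M) →ₐc[X] (X ⊗[R] MonoidAlgebra R M))
    (h : ∀ c, red I X (MonoidAlgebra R M) (Θ₁ c) = red I X (MonoidAlgebra R M) (Θ₂ c)) :
    Θ₁ = Θ₂ := by
  haveI : Module.Flat X (X ⊗[R] MonoidAlgebra R M) := inferInstance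
  obtain ⟨huniq, -⟩ := reduction_bijective_adic X (I.map (algebraMap R X))
    (X ⊗[R] MonoidAlgebra R M) (isIsotrivial_split M X) (X ⊗[R] MonoidAlgebra R M)
    (fun q _ _ => inferInstance) (isQuasiIsotrivial_split_bar I M X)
  exact huniq Θ₁ Θ₂ (fun c => (one_tmul_eq_iff I M X _ _).2 (h c))

theorem exists_lift_red
    (Φ₀ : (Bar I X ⊗[R] MonoidAlgebra R M) →ₐc[Bar I X] (Bar I X ⊗[R] MonoidAlgebra R M)) :
    ∃ Φ : (X ⊗[R] MonoidAlgebra R M) →ₐc[X] (X ⊗[R] MonoidAlgebra R M),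
      ∀ c, red I X (MonoidAlgebra R M) (Φ c) = Φ₀ (red I X (MonoidAlgebra R M) c) := by
  haveI : Module.Flat X (X ⊗[R] MonoidAlgebra R M) := inferInstance
  obtain ⟨-, hex⟩ := reduction_bijective_adic X (I.map (algebraMap R X))
    (X ⊗[R] MonoidAlgebra R M) (isIsotrivial_split M X) (X ⊗[R] MonoidAlgebra R M)
    (fun q _ _ => inferInstance) (isQuasiIsotrivial_split_bar I M X)
  let cc := cancelBaseChangeBialg R X (Bar I X) (MonoidAlgebra R M)
  obtain ⟨Φ, hΦ⟩ := hex (cc.symm.toBialgHom.comp (Φ₀.comp cc.toBialgHom))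
  refine ⟨Φ, fun c => ?_⟩
  have h1 := congrArg cc (hΦ c)
  have h2 : cc (cc.symm (Φ₀ (cc ((1 : Bar I X) ⊗ₜ[X] c)))) = cc ((1 : Bar I X) ⊗ₜ[X] Φ c) := h1
  rw [BialgEquiv.apply_symm_apply] at h2
  have h3 : ∀ w, cc ((1 : Bar I X) ⊗ₜ[X] w) = red I X (MonoidAlgebra R M) w :=
    fun w => cancel_one_tmul (T' := Bar I X) w
  rw [h3, h3] at h2
  exact h2.symm

end Lift

end Groth.Agent.Lib.Helper27.HopfDesc
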