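import Mathlib
import Groth.Agent.Lib.Helper27.HopfDescF

/-!
# Lifting a descent datum from the reduction modulo `I` (helper27)
-/

set_option autoImplicit false
universe u
open TensorProduct SGA3b

namespace Groth.Agent.Lib.Helper27.HopfDesc

open Groth.Agent.Lib.Helper17.MultLift Groth.Agent.Lib.Helper17.MultBC
  Groth.Agent.Lib.Helper27.MTHom Groth.Agent.Lib.Helper27.IsoLift

section Rel

variable (R : Type u) [CommRing R] (S : Type u) [CommRing S] [Algebra R S]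

theorem μ_comp_i₁ : (μ R S).comp (i₁ R S) = AlgHom.id R S :=
  AlgHom.ext (fun s => by rw [AlgHom.comp_apply, i₁_apply, μ_tmul, mul_one]; rfl)

theorem μ_comp_i₂ : (μ R S).comp (i₂ R S) = AlgHom.id R S :=
  AlgHom.ext (fun s => by rw [AlgHom.comp_apply, i₂_apply, μ_tmul, one_mul]; rfl)

theorem p₁₂_comp_i₂ : (p₁₂ R S).comp (i₂ R S) = (p₂₃ R S).comp (i₁ R S) :=
  AlgHom.ext (fun _ => rfl)

theorem p₁₂_comp_i₁ : (p₁₂ R S).comp (i₁ R S) = (p₁₃ R S).comp (i₁ R S) :=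
  AlgHom.ext (fun _ => rfl)

theorem p₂₃_comp_i₂ : (p₂₃ R S).comp (i₂ R S) = (p₁₃ R S).comp (i₂ R S) :=
  AlgHom.ext (fun _ => rfl)

end Rel

section MapBcL

variable {R : Type u} [CommRing R] {N₀ : Type u} [CommRing N₀] [Algebra R N₀]
  {X Y : Type u} [CommRing X] [Algebra R X] [CommRing Y] [Algebra R Y]

theorem map_eq_bcL (f : X →ₐ[R] Y) (z : X ⊗[R] N₀) :
    Algebra.TensorProduct.map f (AlgHom.id R N₀) z = bcL N₀ f z := by
  induction z using TensorProduct.induction_on with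
  | zero => simp
  | add x y hx hy => rw [map_add, map_add, hx, hy]
  | tmul x n => rfl

end MapBcL

section Twist

variable {R : Type u} [CommRing R] [IsNoetherianRing R] (I : Ideal R) [IsAdicComplete I R]
  {S : Type u} [CommRing S] [Algebra R S] [Module.Finite R S] [Module.Flat R S]
  (M : Type u) [CommGroup M]
  {A₀ : Type u} [CommRing A₀] [HopfAlgebra (R ⧸ I) A₀]

/-- the two maps `S̄ → T̄` -/
noncomputable def ib₁ (S : Type u) [CommRing S] [Algebra R S] :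
    Bar I S →ₐ[R ⧸ I] Bar I (S ⊗[R] S) := toQuotAlgHom I (barMap I (i₁ R S))

noncomputable def ib₂ (S : Type u) [CommRing S] [Algebra R S] :
    Bar I S →ₐ[R ⧸ I] Bar I (S ⊗[R] S) := toQuotAlgHom I (barMap I (i₂ R S))

theorem exists_twist
    (ε : (Bar I S ⊗[R ⧸ I] A₀) ≃ₐc[Bar I S] (Bar I S ⊗[R] MonoidAlgebra R M)) :
    ∃ Φ : ((S ⊗[R] S) ⊗[R] MonoidAlgebra R M) →ₐc[S ⊗[R] S]
        ((S ⊗[R] S) ⊗[R] MonoidAlgebra R M),
      IsDescent (twist Φ) ∧
      ∀ x : S ⊗[R] MonoidAlgebra R M,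
        Φ (bcL (MonoidAlgebra R M) (i₁ R S) x) = bcL (MonoidAlgebra R M) (i₂ R S) x →
        Algebra.TensorProduct.map (ib₁ I S) (AlgHom.id (R ⧸ I) A₀)
            (ε.symm (red I S (MonoidAlgebra R M) x)) =
          Algebra.TensorProduct.map (ib₂ I S) (AlgHom.id (R ⧸ I) A₀)
            (ε.symm (red I S (MonoidAlgebra R M) x)) := by
  classical
  haveI : IsNoetherianRing S := Algebra.FiniteType.isNoetherianRing R S
  haveI : IsAdicComplete (I.map (algebraMap R S)) S := isAdicComplete_map I S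
  haveI : Module.Finite R (S ⊗[R] S) := inferInstance
  haveI : Module.Flat R (S ⊗[R] S) := inferInstance
  haveI : IsNoetherianRing (S ⊗[R] S) := Algebra.FiniteType.isNoetherianRing R (S ⊗[R] S)
  haveI : IsAdicComplete (I.map (algebraMap R (S ⊗[R] S))) (S ⊗[R] S) := isAdicComplete_map I _
  haveI : Module.Finite R (S ⊗[R] (S ⊗[R] S)) := inferInstance
  haveI : Module.Flat R (S ⊗[R] (S ⊗[R] S)) := inferInstance
  haveI : IsNoetherianRing (S ⊗[R] (S ⊗[R] S)) :=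
    Algebra.FiniteType.isNoetherianRing R (S ⊗[R] (S ⊗[R] S))
  haveI : IsAdicComplete (I.map (algebraMap R (S ⊗[R] (S ⊗[R] S)))) (S ⊗[R] (S ⊗[R] S)) :=
    isAdicComplete_map I _
  obtain ⟨ε₁, hε₁, hε₁b⟩ := exists_bc₂ (k₁ := R ⧸ I) (k₂ := R) (ib₁ I S) (barMap I (i₁ R S))
    (fun _ => rfl) ε.toBialgHom
  obtain ⟨ε₂, hε₂, hε₂b⟩ := exists_bc₂ (k₁ := R ⧸ I) (k₂ := R) (ib₂ I S) (barMap I (i₂ R S))
    (fun _ => rfl) ε.toBialgHom
  have hb₁ : Function.Bijective ε₁ := hε₁b (EquivLike.bijective ε)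
  have hb₂ : Function.Bijective ε₂ := hε₂b (EquivLike.bijective ε)
  have hε₁' : ∀ w, ε₁ (Algebra.TensorProduct.map (ib₁ I S) (AlgHom.id (R ⧸ I) A₀) w) =
      bcL (MonoidAlgebra R M) (barMap I (i₁ R S)) (ε w) := fun w => by
    rw [hε₁ w, map_eq_bcL]; rfl
  have hε₂' : ∀ w, ε₂ (Algebra.TensorProduct.map (ib₂ I S) (AlgHom.id (R ⧸ I) A₀) w) =
      bcL (MonoidAlgebra R M) (barMap I (i₂ R S)) (ε w) := fun w => by
    rw [hε₂ w, map_eq_bcL]; rfl
  let E₁ := BialgEquiv.ofBijective ε₁ hb₁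
  have hE₁ : ∀ w, E₁ w = ε₁ w := fun w => rfl
  let Φb : (Bar I (S ⊗[R] S) ⊗[R] MonoidAlgebra R M) →ₐc[Bar I (S ⊗[R] S)]
      (Bar I (S ⊗[R] S) ⊗[R] MonoidAlgebra R M) := ε₂.comp E₁.symm.toBialgHom
  have hΦb : ∀ w, Φb (ε₁ w) = ε₂ w := fun w => by
    show ε₂ (E₁.symm (ε₁ w)) = _
    rw [← hE₁, BialgEquiv.symm_apply_apply]
  obtain ⟨Φ, hΦ⟩ := exists_lift_red I M (S ⊗[R] S) Φb
  -- generators
  let G : Set (S ⊗[R] MonoidAlgebra R M) :=
    {g | ∃ a₀ : A₀, red I S (MonoidAlgebra R M) g = ε ((1 : Bar I S) ⊗ₜ[R ⧸ I] a₀)}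
  have hone₁ : ∀ a₀ : A₀, Algebra.TensorProduct.map (ib₁ I S) (AlgHom.id (R ⧸ I) A₀)
      ((1 : Bar I S) ⊗ₜ[R ⧸ I] a₀) = (1 : Bar I (S ⊗[R] S)) ⊗ₜ[R ⧸ I] a₀ := fun a₀ => by
    rw [Algebra.TensorProduct.map_tmul, map_one]; rfl
  have hone₂ : ∀ a₀ : A₀, Algebra.TensorProduct.map (ib₂ I S) (AlgHom.id (R ⧸ I) A₀)
      ((1 : Bar I S) ⊗ₜ[R ⧸ I] a₀) = (1 : Bar I (S ⊗[R] S)) ⊗ₜ[R ⧸ I] a₀ := fun a₀ => by
    rw [Algebra.TensorProduct.map_tmul, map_one]; rfl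
  have hG1 : ∀ g ∈ G, red I (S ⊗[R] S) (MonoidAlgebra R M)
      (Φ (bcL (MonoidAlgebra R M) (i₁ R S) g)) =
      red I (S ⊗[R] S) (MonoidAlgebra R M) (bcL (MonoidAlgebra R M) (i₂ R S) g) := by
    rintro g ⟨a₀, ha₀⟩
    rw [hΦ, red_bcL, red_bcL, ha₀, ← hε₁', hΦb, hone₁, ← hone₂, hε₂']
  have hG2 : Submodule.span S G = ⊤ := by
    have key : ∀ v : Bar I S ⊗[R ⧸ I] A₀, ∀ c : S ⊗[R] MonoidAlgebra R M,
        red I S (MonoidAlgebra R M) c = ε v → c ∈ Submodule.span S G := by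
      intro v
      induction v using TensorProduct.induction_on with
      | zero =>
        intro c hc
        apply Submodule.subset_span
        refine ⟨0, ?_⟩
        rw [hc, TensorProduct.tmul_zero]
      | add v v' hv hv' =>
        intro c hc
        obtain ⟨c₁, hc₁⟩ := red_surjective I (X := S) (B₀ := MonoidAlgebra R M) (ε v)
        have h2 : red I S (MonoidAlgebra R M) (c - c₁) = ε v' := by
          rw [map_sub, hc, hc₁, map_add, add_sub_cancel_left]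
        have := add_mem (hv c₁ hc₁) (hv' _ h2)
        rwa [add_sub_cancel] at this
      | tmul s a₀ =>
        intro c hc
        obtain ⟨s', hs'⟩ := rho_surjective I (X := S) s
        obtain ⟨g, hg⟩ := red_surjective I (X := S) (B₀ := MonoidAlgebra R M)
          (ε ((1 : Bar I S) ⊗ₜ[R ⧸ I] a₀))
        have hgG : g ∈ G := ⟨a₀, hg⟩
        have h1 : red I S (MonoidAlgebra R M) (s' • g) = ε (s ⊗ₜ[R ⧸ I] a₀) := by
          rw [red_smul, hg, hs', ← map_smul, TensorProduct.smul_tmul', smul_eq_mul, mul_one]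
        have h2 : c - s' • g ∈ G := by
          refine ⟨0, ?_⟩
          rw [map_sub, hc, h1, sub_self, TensorProduct.tmul_zero, map_zero]
        have := add_mem (Submodule.smul_mem _ s' (Submodule.subset_span hgG))
          (Submodule.subset_span h2)
        rwa [add_sub_cancel] at this
    rw [eq_top_iff]
    intro c _
    exact key (ε.symm (red I S (MonoidAlgebra R M) c)) c (by rw [BialgEquiv.apply_symm_apply])
  -- normalisation
  obtain ⟨Θ, hΘ⟩ := exists_bc (μ R S) Φ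
  have hΘ' : ∀ w, Θ (bcL (MonoidAlgebra R M) (μ R S) w) =
      bcL (MonoidAlgebra R M) (μ R S) (Φ w) := fun w => by
    rw [← map_eq_bcL, hΘ, map_eq_bcL]
  have hΘid : Θ = BialgHom.id S _ := by
    apply eq_of_red_eq I M S
    let K : Submodule S (S ⊗[R] MonoidAlgebra R M) :=
      { carrier := {c | red I S (MonoidAlgebra R M) (Θ c) = red I S (MonoidAlgebra R M) c}
        add_mem' := fun {a b} ha hb => by
          show red I S _ (Θ (a + b)) = red I S _ (a + b)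
          rw [map_add, map_add, map_add, ha, hb]
        zero_mem' := by
          show red I S _ (Θ 0) = red I S _ 0
          rw [map_zero]
        smul_mem' := fun t c hc => by
          show red I S _ (Θ (t • c)) = red I S _ (t • c)
          rw [map_smul, red_smul, red_smul, hc] }
    have hGK : G ⊆ K := by
      intro g hg
      have hid1 : bcL (MonoidAlgebra R M) (μ R S) (bcL (MonoidAlgebra R M) (i₁ R S) g) = g := by
        rw [bcL_comp, μ_comp_i₁, bcL_id]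
      have hid2 : bcL (MonoidAlgebra R M) (μ R S) (bcL (MonoidAlgebra R M) (i₂ R S) g) = g := by
        rw [bcL_comp, μ_comp_i₂, bcL_id]
      show red I S _ (Θ g) = red I S _ g
      rw [← hid1, hΘ', red_bcL_congr I (μ R S) (hG1 g hg), hid2, hid1]
    have hK : K = ⊤ := by
      rw [eq_top_iff, ← hG2]
      exact Submodule.span_le.2 hGK
    intro c
    have hc : c ∈ K := by rw [hK]; trivial
    exact hc
  -- cocycle
  obtain ⟨Θ₁₂, h₁₂⟩ := exists_bc (p₁₂ R S) Φ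
  obtain ⟨Θ₂₃, h₂₃⟩ := exists_bc (p₂₃ R S) Φ
  obtain ⟨Θ₁₃, h₁₃⟩ := exists_bc (p₁₃ R S) Φ
  have h₁₂' : ∀ w, Θ₁₂ (bcL (MonoidAlgebra R M) (p₁₂ R S) w) =
      bcL (MonoidAlgebra R M) (p₁₂ R S) (Φ w) := fun w => by
    rw [← map_eq_bcL, h₁₂, map_eq_bcL]
  have h₂₃' : ∀ w, Θ₂₃ (bcL (MonoidAlgebra R M) (p₂₃ R S) w) =
      bcL (MonoidAlgebra R M) (p₂₃ R S) (Φ w) := fun w => by
    rw [← map_eq_bcL, h₂₃, map_eq_bcL]
  have h₁₃' : ∀ w, Θ₁₃ (bcL (MonoidAlgebra R M) (p₁₃ R S) w) =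
      bcL (MonoidAlgebra R M) (p₁₃ R S) (Φ w) := fun w => by
    rw [← map_eq_bcL, h₁₃, map_eq_bcL]
  have hcoc : Θ₂₃.comp Θ₁₂ = Θ₁₃ := by
    apply eq_of_red_eq I M (S ⊗[R] (S ⊗[R] S))
    let K : Submodule (S ⊗[R] (S ⊗[R] S)) ((S ⊗[R] (S ⊗[R] S)) ⊗[R] MonoidAlgebra R M) :=
      { carrier := {c | red I _ (MonoidAlgebra R M) (Θ₂₃ (Θ₁₂ c)) =
          red I _ (MonoidAlgebra R M) (Θ₁₃ c)}
        add_mem' := fun {a b} ha hb => by
          show red I _ _ (Θ₂₃ (Θ₁₂ (a + b))) = red I _ _ (Θ₁₃ (a + b))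
          rw [map_add, map_add, map_add, map_add, map_add, ha, hb]
        zero_mem' := by
          show red I _ _ (Θ₂₃ (Θ₁₂ 0)) = red I _ _ (Θ₁₃ 0)
          simp only [map_zero]
        smul_mem' := fun t c hc => by
          show red I _ _ (Θ₂₃ (Θ₁₂ (t • c))) = red I _ _ (Θ₁₃ (t • c))
          rw [map_smul Θ₁₂, map_smul Θ₂₃, map_smul Θ₁₃, red_smul, red_smul, hc] }
    have hGK : (bcL (MonoidAlgebra R M) ((p₁₂ R S).comp (i₁ R S))) '' G ⊆ K := by
      rintro _ ⟨g, hg, rfl⟩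
      show red I _ _ (Θ₂₃ (Θ₁₂ (bcL _ ((p₁₂ R S).comp (i₁ R S)) g))) =
        red I _ _ (Θ₁₃ (bcL _ ((p₁₂ R S).comp (i₁ R S)) g))
      have e1 : bcL (MonoidAlgebra R M) ((p₁₂ R S).comp (i₁ R S)) g =
          bcL _ (p₁₂ R S) (bcL _ (i₁ R S) g) := (bcL_comp _ _ _).symm
      have e2 : bcL (MonoidAlgebra R M) ((p₁₂ R S).comp (i₁ R S)) g =
          bcL _ (p₁₃ R S) (bcL _ (i₁ R S) g) := by
        rw [p₁₂_comp_i₁, bcL_comp]
      have e3 : bcL (MonoidAlgebra R M) (p₁₂ R S) (bcL _ (i₂ R S) g) =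
          bcL _ (p₂₃ R S) (bcL _ (i₁ R S) g) := by
        rw [bcL_comp, bcL_comp, p₁₂_comp_i₂]
      have e4 : bcL (MonoidAlgebra R M) (p₂₃ R S) (bcL _ (i₂ R S) g) =
          bcL _ (p₁₃ R S) (bcL _ (i₂ R S) g) := by
        rw [bcL_comp, bcL_comp, p₂₃_comp_i₂]
      have s1 : red I _ (MonoidAlgebra R M) (Θ₂₃ (Θ₁₂ (bcL _ (p₁₂ R S) (bcL _ (i₁ R S) g)))) =
          red I _ (MonoidAlgebra R M) (bcL _ (p₂₃ R S) (bcL _ (i₂ R S) g)) := by
        rw [h₁₂', red_hom_congr I Θ₂₃ (red_bcL_congr I (p₁₂ R S) (hG1 g hg)), e3, h₂₃']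
        exact red_bcL_congr I (p₂₃ R S) (hG1 g hg)
      have s2 : red I _ (MonoidAlgebra R M) (Θ₁₃ (bcL _ (p₁₃ R S) (bcL _ (i₁ R S) g))) =
          red I _ (MonoidAlgebra R M) (bcL _ (p₁₃ R S) (bcL _ (i₂ R S) g)) := by
        rw [h₁₃']
        exact red_bcL_congr I (p₁₃ R S) (hG1 g hg)
      rw [e1, s1, ← e1, e2, s2, e4]
    have hK : K = ⊤ := by
      rw [eq_top_iff, ← span_bcL ((p₁₂ R S).comp (i₁ R S)) G hG2]
      exact Submodule.span_le.2 hGK
    intro c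
    have hc : c ∈ K := by rw [hK]; trivial
    exact hc
  have hext : ∀ w : (S ⊗[R] (S ⊗[R] S)) ⊗[R] MonoidAlgebra R M,
      ext (bcL (MonoidAlgebra R M) (p₂₃ R S) ∘ₗ twist Φ) w = Θ₂₃ w := by
    intro w
    induction w using TensorProduct.induction_on with
    | zero => simp
    | add x y hx hy => rw [map_add, map_add, hx, hy]
    | tmul t b =>
      rw [ext_tmul, LinearMap.comp_apply, twist_apply, ← h₂₃', bcL_tmul, map_one, ← map_smul,
        TensorProduct.smul_tmul', smul_eq_mul, mul_one]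
  refine ⟨Φ, ⟨fun b => ?_, fun b => ?_⟩, fun x hx => ?_⟩
  · rw [twist_apply, ← hΘ', bcL_tmul, map_one, hΘid]
    rfl
  · rw [hext, twist_apply, ← h₁₂', bcL_tmul, map_one, ← h₁₃', bcL_tmul, map_one, ← hcoc]
    rfl
  · have h1 := congrArg (red I (S ⊗[R] S) (MonoidAlgebra R M)) hx
    rw [hΦ, red_bcL, red_bcL] at h1
    have h2 : red I S (MonoidAlgebra R M) x = ε (ε.symm (red I S (MonoidAlgebra R M) x)) := by
      rw [BialgEquiv.apply_symm_apply]
    rw [h2, ← hε₁', ← hε₂', hΦb] at h1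
    exact hb₂.1 h1

end Twist

end Groth.Agent.Lib.Helper27.HopfDesc
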