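import Mathlib
import Groth.Agent.Lib.Helper27.HopfDescG
import Groth.Agent.S0532

/-!
# Isotrivial groups of multiplicative type lift along a complete Noetherian base (helper27)
-/

set_option autoImplicit false
universe u
open TensorProduct SGA3b

namespace Groth.Agent.Lib.Helper27.HopfDesc

open Groth.Agent.Lib.Helper17.MultLift Groth.Agent.Lib.Helper17.MultBC
  Groth.Agent.Lib.Helper27.MTHom Groth.Agent.Lib.Helper27.IsoLift

section Lam

variable {R : Type u} [CommRing R] (I : Ideal R) (S : Type u) [CommRing S] [Algebra R S]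

/-- the map `S ⊗ S → S̄ ⊗ S̄` -/
noncomputable def lam₀ : S ⊗[R] S →ₐ[R] Bar I S ⊗[R ⧸ I] Bar I S :=
  Algebra.TensorProduct.productMap
    (((Algebra.TensorProduct.includeLeft :
      Bar I S →ₐ[R ⧸ I] Bar I S ⊗[R ⧸ I] Bar I S).restrictScalars R).comp (rho I S))
    (((Algebra.TensorProduct.includeRight :
      Bar I S →ₐ[R ⧸ I] Bar I S ⊗[R ⧸ I] Bar I S).restrictScalars R).comp (rho I S))

theorem lam₀_tmul (s s' : S) :
    lam₀ I S (s ⊗ₜ[R] s') = (rho I S s) ⊗ₜ[R ⧸ I] (rho I S s') := by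
  rw [lam₀, Algebra.TensorProduct.productMap_apply_tmul]
  show ((rho I S s) ⊗ₜ[R ⧸ I] (1 : Bar I S)) * ((1 : Bar I S) ⊗ₜ[R ⧸ I] (rho I S s')) = _
  rw [Algebra.TensorProduct.tmul_mul_tmul, mul_one, one_mul]

theorem lam₀_kills (a : S ⊗[R] S) (ha : a ∈ I.map (algebraMap R (S ⊗[R] S))) :
    lam₀ I S a = 0 := by
  have hle : I.map (algebraMap R (S ⊗[R] S)) ≤ RingHom.ker (lam₀ I S) := by
    rw [Ideal.map_le_iff_le_comap]
    intro r hr
    rw [Ideal.mem_comap, RingHom.mem_ker, AlgHom.commutes,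
      IsScalarTower.algebraMap_apply R (R ⧸ I)]
    have : algebraMap R (R ⧸ I) r = 0 := Ideal.Quotient.eq_zero_iff_mem.2 hr
    rw [this, map_zero]
  exact (RingHom.mem_ker).1 (hle ha)

/-- the map `T̄ → S̄ ⊗ S̄` -/
noncomputable def lam : Bar I (S ⊗[R] S) →ₐ[R ⧸ I] Bar I S ⊗[R ⧸ I] Bar I S :=
  toQuotAlgHom I (Ideal.Quotient.liftₐ (I.map (algebraMap R (S ⊗[R] S))) (lam₀ I S) (lam₀_kills I S))

theorem lam_comp_ib₁ : (lam I S).comp (ib₁ I S) = Algebra.TensorProduct.includeLeft := by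
  apply AlgHom.ext
  intro s
  obtain ⟨s, rfl⟩ := rho_surjective I (X := S) s
  show lam₀ I S (s ⊗ₜ[R] (1 : S)) = _
  rw [lam₀_tmul, map_one]
  rfl

theorem lam_comp_ib₂ : (lam I S).comp (ib₂ I S) = Algebra.TensorProduct.includeRight := by
  apply AlgHom.ext
  intro s
  obtain ⟨s, rfl⟩ := rho_surjective I (X := S) s
  show lam₀ I S ((1 : S) ⊗ₜ[R] s) = _
  rw [lam₀_tmul, map_one]
  rfl

end Lam

section Final

theorem isotrivial_lifts (R : Type u) [CommRing R] [IsNoetherianRing R] (I : Ideal R)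
    [IsAdicComplete I R]
    (A₀ : Type u) [CommRing A₀] [HopfAlgebra (R ⧸ I) A₀] (h0 : IsIsotrivial (R ⧸ I) A₀) :
    ∃ (A : Type u) (_ : CommRing A) (_ : HopfAlgebra R A),
      IsIsotrivial R A ∧ Nonempty (((R ⧸ I) ⊗[R] A) ≃ₐc[R ⧸ I] A₀) := by
  classical
  obtain ⟨S₀, _, _, hEt, hFin, hFF, M, _, ⟨e₀⟩⟩ := h0
  haveI := hEt
  haveI := hFin
  haveI := hFF
  obtain ⟨S, _, _, hSfin, hSet, ⟨σ⟩⟩ := Groth.Agent.S0532.result R I S₀
  haveI := hSfin
  haveI := hSet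
  haveI : Module.Flat R S := inferInstance
  have hIjac : I ≤ Ideal.jacobson ⊥ := IsAdicComplete.le_jacobson_bot I
  haveI hSff : Module.FaithfullyFlat R S :=
    faithfullyFlat_of_reduction I hIjac
      ((σ : ((R ⧸ I) ⊗[R] S) →+* S₀).comp
        (Algebra.TensorProduct.includeRight : S →ₐ[R] (R ⧸ I) ⊗[R] S).toRingHom)
      (fun r => by
        show σ ((1 : R ⧸ I) ⊗ₜ[R] algebraMap R S r) = _
        rw [Algebra.algebraMap_eq_smul_one, TensorProduct.tmul_smul,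
          ← algebraMap_smul (R ⧸ I) r ((1 : R ⧸ I) ⊗ₜ[R] (1 : S)), map_smul,
          ← Algebra.TensorProduct.one_def, map_one, Algebra.smul_def, mul_one]
        rfl)
  let τ : Bar I S ≃ₐ[R ⧸ I] S₀ :=
    (Algebra.TensorProduct.quotIdealMapEquivQuotTensor S I).trans σ
  haveI : Module.FaithfullyFlat (R ⧸ I) (Bar I S) :=
    Module.FaithfullyFlat.of_linearEquiv (R := R ⧸ I) (M := S₀) τ.toLinearEquiv
  letI : Algebra S₀ (Bar I S) := (τ.symm : S₀ →+* Bar I S).toAlgebra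
  haveI : IsScalarTower (R ⧸ I) S₀ (Bar I S) :=
    IsScalarTower.of_algebraMap_eq (fun x => (τ.symm.commutes x).symm)
  obtain ⟨εa⟩ := nonempty_bialgEquiv_of_tower (k := R ⧸ I) (P := S₀) (S' := Bar I S)
    (C := A₀) (N := M) e₀
  obtain ⟨εb⟩ := nonempty_bialgEquiv_of_tower (k := R) (P := R) (S' := Bar I S)
    (C := MonoidAlgebra R M) (N := M) (Bialgebra.TensorProduct.lid R (MonoidAlgebra R M))
  let ε : (Bar I S ⊗[R ⧸ I] A₀) ≃ₐc[Bar I S] (Bar I S ⊗[R] MonoidAlgebra R M) :=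
    εa.trans εb.symm
  obtain ⟨Φ, hΦ, hstar⟩ := exists_twist I M ε
  obtain ⟨A, _, _, e, hA⟩ := exists_descended_hopf Φ hΦ
  refine ⟨A, inferInstance, inferInstance, ?_, ?_⟩
  · obtain ⟨c⟩ := nonempty_bialgEquiv_of_tower (k := R) (P := R) (S' := S)
      (C := MonoidAlgebra R M) (N := M) (Bialgebra.TensorProduct.lid R (MonoidAlgebra R M))
    exact ⟨S, inferInstance, inferInstance, hSet, hSfin, hSff, M, inferInstance, ⟨e.trans c⟩⟩
  · -- the reduction of `A` is `A₀`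
    obtain ⟨eb, heb, hebb⟩ := exists_bc₂ (k₁ := R) (k₂ := R) (rho I S) (rho I S) (fun _ => rfl)
      e.toBialgHom
    have hebij : Function.Bijective eb := hebb (EquivLike.bijective e)
    let cc := cancelBaseChangeBialg R (R ⧸ I) (Bar I S) A
    let Ψ : (Bar I S ⊗[R ⧸ I] ((R ⧸ I) ⊗[R] A)) →ₐc[Bar I S] (Bar I S ⊗[R ⧸ I] A₀) :=
      ε.symm.toBialgHom.comp (eb.comp cc.toBialgHom)
    have hΨ : ∀ z, Ψ z = ε.symm (eb (cc z)) := fun z => rfl
    have hΨbij : Function.Bijective Ψ :=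
      ((EquivLike.bijective ε.symm).comp hebij).comp (EquivLike.bijective cc)
    have key : ∀ a : A, ∃ a₀ : A₀, (1 : Bar I S) ⊗ₜ[R ⧸ I] a₀ =
        Ψ ((1 : Bar I S) ⊗ₜ[R ⧸ I] ((1 : R ⧸ I) ⊗ₜ[R] a)) := by
      intro a
      have h1 : cc ((1 : Bar I S) ⊗ₜ[R ⧸ I] ((1 : R ⧸ I) ⊗ₜ[R] a)) =
          (1 : Bar I S) ⊗ₜ[R] a := by
        show cancelBaseChangeBialg R (R ⧸ I) (Bar I S) A _ = _
        rw [cancelBaseChangeBialg_tmul, one_smul]
      have h2 : (1 : Bar I S) ⊗ₜ[R] a =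
          Algebra.TensorProduct.map (rho I S) (AlgHom.id R A) ((1 : S) ⊗ₜ[R] a) := by
        rw [Algebra.TensorProduct.map_tmul, map_one]
        rfl
      have h3 : eb ((1 : Bar I S) ⊗ₜ[R] a) =
          red I S (MonoidAlgebra R M) (e ((1 : S) ⊗ₜ[R] a)) := by
        rw [h2, heb, map_eq_bcL]
        rfl
      set y := ε.symm (red I S (MonoidAlgebra R M) (e ((1 : S) ⊗ₜ[R] a))) with hy
      have h4 := hstar _ (hA a)
      rw [← hy] at h4
      have h5 := congrArg (Algebra.TensorProduct.map (lam I S) (AlgHom.id (R ⧸ I) A₀)) h4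
      rw [map_map_id, map_map_id, lam_comp_ib₁, lam_comp_ib₂] at h5
      have hAm : TensorProduct.mk (R ⧸ I) (Bar I S) (Bar I S ⊗[R ⧸ I] A₀) 1 y =
          LinearMap.lTensor (Bar I S) (TensorProduct.mk (R ⧸ I) (Bar I S) A₀ 1) y := by
        rw [TensorProduct.mk_apply, ← assoc_map_includeRight (S₁ := Bar I S),
          ← assoc_map_includeLeft (S₂ := Bar I S)]
        exact congrArg _ h5.symm
      obtain ⟨a₀, ha₀⟩ := Groth.Agent.S1156.result (R ⧸ I) (Bar I S) A₀ y hAm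
      refine ⟨a₀, ?_⟩
      rw [hΨ, h1, h3]
      exact ha₀
    have hex : ∀ c : (R ⧸ I) ⊗[R] A, ∃ a₀ : A₀, (1 : Bar I S) ⊗ₜ[R ⧸ I] a₀ =
        Ψ ((1 : Bar I S) ⊗ₜ[R ⧸ I] c) := by
      intro c
      induction c using TensorProduct.induction_on with
      | zero => exact ⟨0, by rw [TensorProduct.tmul_zero, TensorProduct.tmul_zero, map_zero]⟩
      | add x y hx hy =>
        obtain ⟨a, ha⟩ := hx
        obtain ⟨b, hb⟩ := hy
        exact ⟨a + b, by rw [TensorProduct.tmul_add, TensorProduct.tmul_add, map_add, ha, hb]⟩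
      | tmul r a =>
        obtain ⟨a₀, ha₀⟩ := key a
        refine ⟨r • a₀, ?_⟩
        have h1 : r ⊗ₜ[R] a = r • ((1 : R ⧸ I) ⊗ₜ[R] a) := by
          rw [TensorProduct.smul_tmul', smul_eq_mul, mul_one]
        rw [h1, TensorProduct.tmul_smul, TensorProduct.tmul_smul, ha₀,
          ← algebraMap_smul (Bar I S) r
            ((1 : Bar I S) ⊗ₜ[R ⧸ I] ((1 : R ⧸ I) ⊗ₜ[R] a)), map_smul, algebraMap_smul]
    choose ψ hψ using hex
    obtain ⟨Φf, hΦf⟩ := exists_bialgHom_of_family (R := R ⧸ I) (B := A₀)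
      (C := (R ⧸ I) ⊗[R] A) (ι := Unit)
      (fun _ => True) (fun _ => Bar I S)
      (fun b hb => by
        apply Module.FaithfullyFlat.tensorProduct_mk_injective (A := R ⧸ I) (B := Bar I S) A₀
        rw [TensorProduct.mk_apply, hb () trivial, map_zero])
      (fun z hz => by
        apply Module.FaithfullyFlat.tensorProduct_mk_injective (A := R ⧸ I) (B := Bar I S)
          (A₀ ⊗[R ⧸ I] A₀)
        rw [TensorProduct.mk_apply, hz () trivial, map_zero])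
      (fun _ => Ψ) ψ (fun _ _ c => hψ c)
    have hlt : ∀ z, LinearMap.lTensor (Bar I S)
        (Φf : ((R ⧸ I) ⊗[R] A) →ₗ[R ⧸ I] A₀) z = Ψ z := by
      intro z
      induction z using TensorProduct.induction_on with
      | zero => simp
      | add x y hx hy => rw [map_add, map_add, hx, hy]
      | tmul s c =>
        have h1 : s ⊗ₜ[R ⧸ I] c = s • ((1 : Bar I S) ⊗ₜ[R ⧸ I] c) := by
          rw [TensorProduct.smul_tmul', smul_eq_mul, mul_one]
        rw [LinearMap.lTensor_tmul, h1, map_smul, ← hψ]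
        show s ⊗ₜ[R ⧸ I] Φf c = _
        rw [hΦf, TensorProduct.smul_tmul', smul_eq_mul, mul_one]
    have hbij : Function.Bijective (LinearMap.lTensor (Bar I S)
        (Φf : ((R ⧸ I) ⊗[R] A) →ₗ[R ⧸ I] A₀)) := by
      have h2 : (LinearMap.lTensor (Bar I S) (Φf : ((R ⧸ I) ⊗[R] A) →ₗ[R ⧸ I] A₀) :
          Bar I S ⊗[R ⧸ I] ((R ⧸ I) ⊗[R] A) → Bar I S ⊗[R ⧸ I] A₀) = Ψ := funext hlt
      rw [h2]
      exact hΨbij
    have hΦfbij : Function.Bijective Φf :=
      (Module.FaithfullyFlat.lTensor_bijective_iff_bijective (R ⧸ I) (Bar I S)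
        (Φf : ((R ⧸ I) ⊗[R] A) →ₗ[R ⧸ I] A₀)).1 hbij
    exact ⟨BialgEquiv.ofBijective Φf hΦfbij⟩

end Final

end Groth.Agent.Lib.Helper27.HopfDesc
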