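import Mathlib
import Groth.Agent.Lib.Helper27.HopfLiftG
import Groth.Agent.Lib.Helper27.HopfLiftI

/-!
# Relative lifting of homomorphisms (formal smoothness of `w ↦ w ∘ u`) (helper27)
-/

set_option autoImplicit false
universe u
open TensorProduct WithConv SGA3b

namespace Groth.Agent.Lib.Helper27.HopfLift

open Groth.Agent.Lib.Helper27.MultRigid Groth.Agent.Lib.Helper17.MultLift
  Groth.Agent.Lib.Helper17.MultBC Groth.Agent.Lib.Helper27.HopfNilLift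

section RelSqZero

variable {R K : Type u} [CommRing R] [CommRing K] [Algebra R K]
variable {A₁ A₂ C : Type u} [CommRing A₁] [HopfAlgebra R A₁] [CommRing A₂] [HopfAlgebra R A₂]
  [CommRing C] [HopfAlgebra R C]

theorem exists_rel_lift_sqZero (hsurj : Function.Surjective (algebraMap R K))
    (hsq : RingHom.ker (algebraMap R K) * RingHom.ker (algebraMap R K) = ⊥)
    [Algebra.FormallySmooth R C]
    (π₁ : A₁ →ₗ[R] R) (h₁ : IsInt π₁) (π₂ : A₂ →ₗ[R] R) (h₂ : IsInt π₂)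
    (α : A₂ →ₐc[R] A₁) (β : C →ₐc[R] A₁) (γ₀ : (K ⊗[R] C) →ₐc[K] (K ⊗[R] A₂))
    (h0 : ∀ c : C, Algebra.TensorProduct.map (AlgHom.id K K) (α : A₂ →ₐ[R] A₁)
      (γ₀ ((1 : K) ⊗ₜ[R] c)) = (1 : K) ⊗ₜ[R] (β c)) :
    ∃ γ : C →ₐc[R] A₂, (∀ c : C, γ₀ ((1 : K) ⊗ₜ[R] c) = (1 : K) ⊗ₜ[R] γ c) ∧
      ∀ c : C, α (γ c) = β c := by
  obtain ⟨γ', hγ'⟩ := exists_lift_sqZero hsurj hsq π₂ h₂.1 h₂.2 γ₀
  set β' : C →ₐc[R] A₁ := α.comp γ' with hβ'
  have hmod : InN (RingHom.ker (algebraMap R K))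
      (lin (β : C →ₐ[R] A₁) - lin (β' : C →ₐ[R] A₁)) := by
    intro c
    show β c - α (γ' c) ∈ _
    apply mem_map_of_one_tmul_eq_zero hsurj
    rw [TensorProduct.tmul_sub, ← h0 c, hγ' c, Algebra.TensorProduct.map_tmul]
    simp
  obtain ⟨g, hg, hconj⟩ := exists_conj_sqZero hsq π₁ h₁.1 h₁.2 β β' hmod
  obtain ⟨γ, hγ⟩ := exists_conj_hom g γ'
  refine ⟨γ, fun c => ?_, fun c => ?_⟩
  · have h1 : InN (RingHom.ker (algebraMap R K))
        (lin (γ : C →ₐ[R] A₂) - lin (γ' : C →ₐ[R] A₂)) := by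
      rw [hγ]
      exact inN_conj_sub g hg _
    have h2 : (1 : K) ⊗ₜ[R] (γ c - γ' c) = 0 := one_tmul_eq_zero_of_mem_map (K := K) (h1 c)
    rw [TensorProduct.tmul_sub, sub_eq_zero] at h2
    rw [h2, hγ']
  · have h1 := congrArg (postR (α : A₂ →ₐ[R] A₁)) hγ
    rw [map_mul, map_mul, postR_lin, postR_lin, postR_linInv, comp_cst] at h1
    have h2 : lin ((α : A₂ →ₐ[R] A₁).comp (γ : C →ₐ[R] A₂)) = lin (β : C →ₐ[R] A₁) := by
      rw [h1, hconj]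
      rfl
    exact congrArg (fun f : WithConv (C →ₗ[R] A₁) => f c) h2

end RelSqZero

section Nat

variable {R R' K : Type u} [CommRing R] [CommRing R'] [CommRing K] [Algebra R R'] [Algebra R' K]
  [Algebra R K] [IsScalarTower R R' K]
variable {A₁ A₂ : Type u} [CommRing A₁] [HopfAlgebra R A₁] [CommRing A₂] [HopfAlgebra R A₂]

/-- naturality of `cancelBaseChangeBialg` -/
theorem cancel_nat (α : A₂ →ₐc[R] A₁) (v : K ⊗[R'] (R' ⊗[R] A₂)) :
    cancelBaseChangeBialg R R' K A₁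
      (Algebra.TensorProduct.map (AlgHom.id K K)
        ((Bialgebra.TensorProduct.map (BialgHom.id R' R') α :
          (R' ⊗[R] A₂) →ₐc[R'] (R' ⊗[R] A₁)) : (R' ⊗[R] A₂) →ₐ[R'] (R' ⊗[R] A₁)) v) =
      Algebra.TensorProduct.map (AlgHom.id K K) (α : A₂ →ₐ[R] A₁)
        (cancelBaseChangeBialg R R' K A₂ v) := by
  induction v using TensorProduct.induction_on with
  | zero => simp
  | tmul k w =>
    induction w using TensorProduct.induction_on with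
    | zero => simp
    | tmul r a =>
      rw [Algebra.TensorProduct.map_tmul, cancelBaseChangeBialg_tmul]
      show cancelBaseChangeBialg R R' K A₁ (k ⊗ₜ[R'] (r ⊗ₜ[R] α a)) = _
      rw [cancelBaseChangeBialg_tmul, Algebra.TensorProduct.map_tmul]
      rfl
    | add x y hx hy => rw [TensorProduct.tmul_add, map_add, map_add, map_add, map_add, hx, hy]
  | add x y hx hy => rw [map_add, map_add, map_add, map_add, hx, hy]

end Nat

theorem exists_rel_lift_aux (K : Type u) [CommRing K] (n : ℕ) :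
    ∀ (R : Type u) [CommRing R] [Algebra R K] (A₁ : Type u) [CommRing A₁] [HopfAlgebra R A₁]
      (A₂ : Type u) [CommRing A₂] [HopfAlgebra R A₂]
      (C : Type u) [CommRing C] [HopfAlgebra R C] [Algebra.Smooth R C],
      IsMultType R A₁ → IsMultType R A₂ → ∀ (α : A₂ →ₐc[R] A₁) (β : C →ₐc[R] A₁),
      Function.Surjective (algebraMap R K) →
      RingHom.ker (algebraMap R K) ^ n = ⊥ →
      ∀ γ₀ : (K ⊗[R] C) →ₐc[K] (K ⊗[R] A₂),
      (∀ c : C, Algebra.TensorProduct.map (AlgHom.id K K) (α : A₂ →ₐ[R] A₁)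
        (γ₀ ((1 : K) ⊗ₜ[R] c)) = (1 : K) ⊗ₜ[R] (β c)) →
        ∃ γ : C →ₐc[R] A₂, (∀ c : C, γ₀ ((1 : K) ⊗ₜ[R] c) = (1 : K) ⊗ₜ[R] γ c) ∧
          ∀ c : C, α (γ c) = β c := by
  induction n with
  | zero =>
    intro R _ _ A₁ _ _ A₂ _ _ C _ _ _ hH₁ hH₂ α β hsurj hn γ₀ h0
    obtain ⟨π₁, hπ₁⟩ := exists_isInt hH₁
    obtain ⟨π₂, hπ₂⟩ := exists_isInt hH₂
    refine exists_rel_lift_sqZero hsurj ?_ π₁ hπ₁ π₂ hπ₂ α β γ₀ h0
    rw [pow_zero, Ideal.one_eq_top] at hn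
    exact le_bot_iff.1 (le_trans le_top (le_of_eq hn))
  | succ n ih =>
    intro R _ _ A₁ _ _ A₂ _ _ C _ _ _ hH₁ hH₂ α β hsurj hn γ₀ h0
    obtain ⟨π₁, hπ₁⟩ := exists_isInt hH₁
    obtain ⟨π₂, hπ₂⟩ := exists_isInt hH₂
    set J := RingHom.ker (algebraMap R K) with hJ
    by_cases hn1 : n ≤ 1
    · refine exists_rel_lift_sqZero hsurj ?_ π₁ hπ₁ π₂ hπ₂ α β γ₀ h0
      rw [← hJ, ← pow_two]
      exact le_bot_iff.1 (le_trans (Ideal.pow_le_pow_right (by omega)) (le_of_eq hn))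
    · push Not at hn1
      set J' := J ^ n with hJ'
      have hJ'J : J' ≤ J := by
        rw [hJ']
        exact Ideal.pow_le_self (by omega)
      have hsq : J' * J' = ⊥ := by
        rw [hJ', ← pow_add]
        refine le_bot_iff.1 (le_trans (Ideal.pow_le_pow_right (by omega)) (le_of_eq hn))
      have hlift : ∀ x ∈ J', algebraMap R K x = 0 := fun x hx => (RingHom.mem_ker).1 (hJ'J hx)
      letI : Algebra (R ⧸ J') K := (Ideal.Quotient.lift J' (algebraMap R K) hlift).toAlgebra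
      haveI : IsScalarTower R (R ⧸ J') K := IsScalarTower.of_algebraMap_eq (fun x => by
        rw [RingHom.algebraMap_toAlgebra, Ideal.Quotient.algebraMap_eq, Ideal.Quotient.lift_mk])
      have hsurj' : Function.Surjective (algebraMap (R ⧸ J') K) := by
        intro y
        obtain ⟨x, rfl⟩ := hsurj y
        exact ⟨Ideal.Quotient.mk J' x, by
          rw [RingHom.algebraMap_toAlgebra, Ideal.Quotient.lift_mk]⟩
      have hker : RingHom.ker (algebraMap (R ⧸ J') K) ≤ J.map (Ideal.Quotient.mk J') := by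
        intro y hy
        obtain ⟨x, rfl⟩ := Ideal.Quotient.mk_surjective y
        rw [RingHom.mem_ker, RingHom.algebraMap_toAlgebra, Ideal.Quotient.lift_mk] at hy
        exact Ideal.mem_map_of_mem _ ((RingHom.mem_ker).2 hy)
      have hn' : RingHom.ker (algebraMap (R ⧸ J') K) ^ n = ⊥ := by
        refine le_bot_iff.1 (le_trans (Ideal.pow_right_mono hker n) ?_)
        rw [← Ideal.map_pow, ← hJ', Ideal.map_quotient_self]
      let eA₁ := cancelBaseChangeBialg R (R ⧸ J') K A₁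
      let eA₂ := cancelBaseChangeBialg R (R ⧸ J') K A₂
      let eC := cancelBaseChangeBialg R (R ⧸ J') K C
      let γ₀' : (K ⊗[R ⧸ J'] ((R ⧸ J') ⊗[R] C)) →ₐc[K] (K ⊗[R ⧸ J'] ((R ⧸ J') ⊗[R] A₂)) :=
        (eA₂.symm.toBialgHom).comp (γ₀.comp eC.toBialgHom)
      let α' : ((R ⧸ J') ⊗[R] A₂) →ₐc[R ⧸ J'] ((R ⧸ J') ⊗[R] A₁) :=
        Bialgebra.TensorProduct.map (BialgHom.id (R ⧸ J') (R ⧸ J')) α
      let β' : ((R ⧸ J') ⊗[R] C) →ₐc[R ⧸ J'] ((R ⧸ J') ⊗[R] A₁) :=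
        Bialgebra.TensorProduct.map (BialgHom.id (R ⧸ J') (R ⧸ J')) β
      have hγ₀' : ∀ c : C, γ₀' ((1 : K) ⊗ₜ[R ⧸ J'] ((1 : R ⧸ J') ⊗ₜ[R] c)) =
          eA₂.symm (γ₀ ((1 : K) ⊗ₜ[R] c)) := by
        intro c
        show eA₂.symm (γ₀ (eC _)) = _
        rw [cancelBaseChangeBialg_tmul, one_smul]
      have h0' : ∀ c' : (R ⧸ J') ⊗[R] C,
          Algebra.TensorProduct.map (AlgHom.id K K)
            (α' : ((R ⧸ J') ⊗[R] A₂) →ₐ[R ⧸ J'] ((R ⧸ J') ⊗[R] A₁))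
            (γ₀' ((1 : K) ⊗ₜ[R ⧸ J'] c')) = (1 : K) ⊗ₜ[R ⧸ J'] (β' c') := by
        intro c'
        obtain ⟨c, rfl⟩ := exists_one_tmul (K := R ⧸ J') Ideal.Quotient.mk_surjective c'
        rw [hγ₀']
        have hnat := cancel_nat (R' := R ⧸ J') (K := K) α (eA₂.symm (γ₀ ((1 : K) ⊗ₜ[R] c)))
        rw [BialgEquiv.apply_symm_apply, h0 c] at hnat
        have h5 : eA₁ ((1 : K) ⊗ₜ[R ⧸ J'] ((1 : R ⧸ J') ⊗ₜ[R] β c)) = (1 : K) ⊗ₜ[R] β c := by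
          rw [cancelBaseChangeBialg_tmul, one_smul]
        exact eA₁.injective (hnat.trans h5.symm)
      obtain ⟨γ', hγ'1, hγ'2⟩ := ih (R ⧸ J') ((R ⧸ J') ⊗[R] A₁) ((R ⧸ J') ⊗[R] A₂)
        ((R ⧸ J') ⊗[R] C) (isMultType_baseChange A₁ hH₁) (isMultType_baseChange A₂ hH₂) α' β'
        hsurj' hn' γ₀' h0'
      obtain ⟨γ, hγ1, hγ2⟩ := exists_rel_lift_sqZero (K := R ⧸ J') Ideal.Quotient.mk_surjective
        (by rw [Ideal.Quotient.algebraMap_eq, Ideal.mk_ker]; exact hsq) π₁ hπ₁ π₂ hπ₂ α β γ'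
        (fun c => hγ'2 ((1 : R ⧸ J') ⊗ₜ[R] c))
      refine ⟨γ, fun c => ?_, hγ2⟩
      have h1 := hγ'1 ((1 : R ⧸ J') ⊗ₜ[R] c)
      rw [hγ1, hγ₀'] at h1
      have h3 := congrArg eA₂ h1
      rw [BialgEquiv.apply_symm_apply, cancelBaseChangeBialg_tmul, one_smul] at h3
      exact h3

/-- **Formal smoothness of `w ↦ w ∘ u`.** -/
theorem exists_rel_lift {R : Type u} [CommRing R] (I : Ideal R) (hI : IsNilpotent I)
    (A₁ : Type u) [CommRing A₁] [HopfAlgebra R A₁] (h₁ : IsMultType R A₁)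
    (A₂ : Type u) [CommRing A₂] [HopfAlgebra R A₂] (h₂ : IsMultType R A₂) (α : A₂ →ₐc[R] A₁)
    (C : Type u) [CommRing C] [HopfAlgebra R C] [Algebra.Smooth R C] (β : C →ₐc[R] A₁)
    (γ₀ : ((R ⧸ I) ⊗[R] C) →ₐc[R ⧸ I] ((R ⧸ I) ⊗[R] A₂))
    (h0 : ∀ c : C, Algebra.TensorProduct.map (AlgHom.id (R ⧸ I) (R ⧸ I)) (α : A₂ →ₐ[R] A₁)
      (γ₀ ((1 : R ⧸ I) ⊗ₜ[R] c)) = (1 : R ⧸ I) ⊗ₜ[R] (β c)) :
    ∃ γ : C →ₐc[R] A₂, (∀ c : C, γ₀ ((1 : R ⧸ I) ⊗ₜ[R] c) = (1 : R ⧸ I) ⊗ₜ[R] (γ c)) ∧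
      ∀ c : C, α (γ c) = β c := by
  obtain ⟨n, hn⟩ := hI
  refine exists_rel_lift_aux (R ⧸ I) n R A₁ A₂ C h₁ h₂ α β Ideal.Quotient.mk_surjective ?_ γ₀ h0
  rw [Ideal.Quotient.algebraMap_eq, Ideal.mk_ker]
  exact hn

end Groth.Agent.Lib.Helper27.HopfLift
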