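import Groth.Agent.Lib.Helper17.MultBC
import Mathlib

/-!
# Deformations of diagonalisable groups along a square-zero ideal: algebraic core (helper27)

`R` a ring, `I` an ideal with `I * I = ⊥`, `A` an `R`-coalgebra.  If `a : A` is group-like modulo
`I` and `π : A → R` is a functional which is, modulo `I`, the projection onto the `a`-isotypic
part (`(1 ⊗ π) Δ x ≡ π x • a`), then `g = (1 ⊗ π) Δ a` is a group-like lift of `a`, and it is the
only one.  This is the vanishing of Hochschild cohomology of diagonalisable groups, by hand.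
Also: a linear map into a flat module which is bijective modulo a square-zero ideal is bijective.
-/

set_option autoImplicit false
universe u
open TensorProduct

namespace Groth.Agent.Lib.Helper27.HopfNilLift

open Groth.Agent.Lib.Helper17.MultLift

section SqZero

variable {R : Type*} [CommRing R] (I : Ideal R)

theorem smul_smul_top {N : Type*} [AddCommGroup N] [Module R N] (hI : I * I = ⊥) {i : R}
    (hi : i ∈ I) {z : N} (hz : z ∈ I • (⊤ : Submodule R N)) : i • z = 0 := by
  have h : i • z ∈ (I * I) • (⊤ : Submodule R N) := by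
    rw [Submodule.mul_smul]; exact Submodule.smul_mem_smul hi hz
  rw [hI, Submodule.bot_smul] at h
  exact (Submodule.mem_bot R).1 h

theorem kills {N N' : Type*} [AddCommGroup N] [Module R N] [AddCommGroup N'] [Module R N']
    (hI : I * I = ⊥) (h : N →ₗ[R] N') (hh : ∀ x, h x ∈ I • (⊤ : Submodule R N')) {z : N}
    (hz : z ∈ I • (⊤ : Submodule R N)) : h z = 0 := by
  refine Submodule.smul_induction_on hz (fun i hi y _ => ?_)
    (fun a b ha hb => by rw [map_add, ha, hb, add_zero])
  rw [map_smul]
  exact smul_smul_top I hI hi (hh y)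

theorem lTensor_mem {Q N N' : Type*} [AddCommGroup Q] [Module R Q] [AddCommGroup N] [Module R N]
    [AddCommGroup N'] [Module R N'] (h : N →ₗ[R] N')
    (hh : ∀ x, h x ∈ I • (⊤ : Submodule R N')) (z : Q ⊗[R] N) :
    (LinearMap.lTensor Q h) z ∈ I • (⊤ : Submodule R (Q ⊗[R] N')) := by
  induction z using TensorProduct.induction_on with
  | zero => rw [map_zero]; exact zero_mem _
  | tmul q n =>
    rw [LinearMap.lTensor_tmul]
    exact map_mem_smul_top I (TensorProduct.mk R Q N' q) (hh n)
  | add x y hx hy => rw [map_add]; exact add_mem hx hy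

theorem tmul_eq_zero {N N' : Type*} [AddCommGroup N] [Module R N] [AddCommGroup N'] [Module R N']
    (hI : I * I = ⊥) {b : N} {b' : N'} (hb : b ∈ I • (⊤ : Submodule R N))
    (hb' : b' ∈ I • (⊤ : Submodule R N')) : b ⊗ₜ[R] b' = 0 := by
  have := kills I hI ((TensorProduct.mk R N N').flip b')
    (fun x => map_mem_smul_top I (TensorProduct.mk R N N' x) hb') hb
  simpa using this

end SqZero

section Slice

variable {R : Type*} [CommRing R] {A : Type*} [AddCommGroup A] [Module R A]

/-- `x ⊗ y ↦ π y • x` -/
noncomputable def slice (π : A →ₗ[R] R) : A ⊗[R] A →ₗ[R] A :=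
  (TensorProduct.rid R A).toLinearMap ∘ₗ LinearMap.lTensor A π

@[simp] theorem slice_tmul (π : A →ₗ[R] R) (x y : A) : slice π (x ⊗ₜ[R] y) = π y • x := by
  simp [slice]

theorem lTensor_slice_assoc (π : A →ₗ[R] R) (w : A ⊗[R] A) (y : A) :
    LinearMap.lTensor A (slice π) (TensorProduct.assoc R A A A (w ⊗ₜ[R] y)) = π y • w := by
  induction w using TensorProduct.induction_on with
  | zero => simp
  | tmul u v =>
    rw [TensorProduct.assoc_tmul, LinearMap.lTensor_tmul, slice_tmul, TensorProduct.tmul_smul]
  | add a b ha hb => rw [TensorProduct.add_tmul, map_add, map_add, ha, hb, smul_add]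

theorem lTensor_smulRight (π : A →ₗ[R] R) (a : A) (z : A ⊗[R] A) :
    LinearMap.lTensor A (π.smulRight a) z = slice π z ⊗ₜ[R] a := by
  induction z using TensorProduct.induction_on with
  | zero => simp
  | tmul x y =>
    rw [LinearMap.lTensor_tmul, LinearMap.smulRight_apply, slice_tmul, TensorProduct.tmul_smul,
      TensorProduct.smul_tmul']
  | add a b ha hb => rw [map_add, map_add, ha, hb, TensorProduct.add_tmul]

variable [Coalgebra R A]

theorem comul_slice (π : A →ₗ[R] R) (z : A ⊗[R] A) :
    Coalgebra.comul (R := R) (slice π z) = LinearMap.lTensor A (slice π)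
      (TensorProduct.assoc R A A A (LinearMap.rTensor A Coalgebra.comul z)) := by
  induction z using TensorProduct.induction_on with
  | zero => simp
  | tmul x y => rw [slice_tmul, map_smul, LinearMap.rTensor_tmul, lTensor_slice_assoc]
  | add a b ha hb => simp only [map_add, ha, hb]

theorem comul_slice_comul (π : A →ₗ[R] R) (a : A) :
    Coalgebra.comul (R := R) (slice π (Coalgebra.comul a)) =
      LinearMap.lTensor A (slice π ∘ₗ Coalgebra.comul) (Coalgebra.comul a) := by
  rw [comul_slice, Coalgebra.coassoc_apply, LinearMap.lTensor_comp, LinearMap.comp_apply]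

variable (I : Ideal R)

/-- existence of the group-like lift (comultiplication part) -/
theorem comul_lift (hI : I * I = ⊥) (π : A →ₗ[R] R) (a : A)
    (h1 : Coalgebra.comul (R := R) a - a ⊗ₜ[R] a ∈ I • (⊤ : Submodule R (A ⊗[R] A)))
    (h2 : π a = 1)
    (h3 : ∀ x, slice π (Coalgebra.comul (R := R) x) - π x • a ∈ I • (⊤ : Submodule R A)) :
    slice π (Coalgebra.comul (R := R) a) - a ∈ I • (⊤ : Submodule R A) ∧
      Coalgebra.comul (R := R) (slice π (Coalgebra.comul (R := R) a)) =
        slice π (Coalgebra.comul (R := R) a) ⊗ₜ[R] slice π (Coalgebra.comul (R := R) a) := by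
  set g := slice π (Coalgebra.comul (R := R) a) with hg
  set c := Coalgebra.comul (R := R) a - a ⊗ₜ[R] a with hc
  have hb : g - a = slice π c := by rw [hc, map_sub, slice_tmul, h2, one_smul]
  have hbI : g - a ∈ I • (⊤ : Submodule R A) := by
    rw [hb]; exact map_mem_smul_top I (slice π) h1
  refine ⟨hbI, ?_⟩
  set E : A →ₗ[R] A := slice π ∘ₗ Coalgebra.comul with hE
  set D : A →ₗ[R] A := E - π.smulRight a with hD
  have hDm : ∀ x, D x ∈ I • (⊤ : Submodule R A) := fun x => by
    have := h3 x
    rwa [hD, LinearMap.sub_apply, LinearMap.smulRight_apply, hE, LinearMap.comp_apply]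
  have hDc : LinearMap.lTensor A D c = 0 :=
    kills I hI (LinearMap.lTensor A D) (lTensor_mem I D hDm) h1
  have hEc : LinearMap.lTensor A E c = (g - a) ⊗ₜ[R] a := by
    have hED : E = D + π.smulRight a := by rw [hD]; abel
    rw [hED, LinearMap.lTensor_add, LinearMap.add_apply, hDc, zero_add, lTensor_smulRight, ← hb]
  have hΔ : Coalgebra.comul (R := R) a = a ⊗ₜ[R] a + c := by rw [hc]; abel
  have hbb : (g - a) ⊗ₜ[R] (g - a) = 0 := tmul_eq_zero I hI hbI hbI
  have e1 : Coalgebra.comul (R := R) g = LinearMap.lTensor A E (Coalgebra.comul (R := R) a) :=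
    comul_slice_comul π a
  have e2 : LinearMap.lTensor A E (Coalgebra.comul (R := R) a) =
      a ⊗ₜ[R] g + (g - a) ⊗ₜ[R] a := by
    conv_lhs => rw [hΔ]
    rw [map_add, LinearMap.lTensor_tmul, hEc]
    rfl
  rw [e1, e2]
  obtain ⟨b, hbdef⟩ : ∃ b, b = g - a := ⟨_, rfl⟩
  have hgab : g = a + b := by rw [hbdef]; abel
  rw [← hbdef] at hbb ⊢
  rw [hgab]
  simp only [TensorProduct.add_tmul, TensorProduct.tmul_add, hbb]
  abel

theorem counit_lift (hI : I * I = ⊥) (π : A →ₗ[R] R) (a g : A) (h2 : π a = 1)
    (hga : g - a ∈ I • (⊤ : Submodule R A)) (hε : Coalgebra.counit (R := R) a - 1 ∈ I)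
    (hg : Coalgebra.comul (R := R) g = g ⊗ₜ[R] g) : Coalgebra.counit (R := R) g = 1 := by
  have h5 : Coalgebra.counit (R := R) g • g = g := by
    have h := Coalgebra.rTensor_counit_comul (R := R) g
    rw [hg, LinearMap.rTensor_tmul] at h
    have h' := congrArg (TensorProduct.lid R A) h
    rwa [TensorProduct.lid_tmul, TensorProduct.lid_tmul, one_smul] at h'
  set x := Coalgebra.counit (R := R) g - 1 with hx
  have hxI : x ∈ I := by
    have : x = (Coalgebra.counit (R := R) a - 1) + Coalgebra.counit (R := R) (g - a) := by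
      rw [hx, map_sub]; ring
    rw [this]
    exact I.add_mem hε (functional_mem I Coalgebra.counit hga)
  have hxg : x • g = 0 := by rw [hx, sub_smul, h5, one_smul, sub_self]
  have hπg : π g = 1 + π (g - a) := by rw [map_sub, h2]; ring
  have h6 : x * π g = 0 := by
    have := congrArg π hxg
    rwa [map_smul, smul_eq_mul, map_zero] at this
  have h7 : x * π (g - a) = 0 := by
    have : x * π (g - a) ∈ I * I := Ideal.mul_mem_mul hxI (functional_mem I π hga)
    rw [hI] at this
    exact (Submodule.mem_bot R).1 this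
  have h8 : x = 0 := by
    rw [hπg, mul_add, mul_one, h7, add_zero] at h6
    exact h6
  exact sub_eq_zero.1 h8

theorem unique_lift (hI : I * I = ⊥) (π : A →ₗ[R] R) (a : A) (h2 : π a = 1)
    (h3 : ∀ x, slice π (Coalgebra.comul (R := R) x) - π x • a ∈ I • (⊤ : Submodule R A))
    {g g' : A} (hg : Coalgebra.comul (R := R) g = g ⊗ₜ[R] g)
    (hg' : Coalgebra.comul (R := R) g' = g' ⊗ₜ[R] g')
    (hga : g - a ∈ I • (⊤ : Submodule R A)) (hga' : g' - a ∈ I • (⊤ : Submodule R A)) :
    g = g' := by
  obtain ⟨d, hd⟩ : ∃ d, d = g' - g := ⟨_, rfl⟩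
  have hg'd : g' = g + d := by rw [hd]; abel
  have hdI : d ∈ I • (⊤ : Submodule R A) := by
    have : d = (g' - a) - (g - a) := by rw [hd]; abel
    rw [this]; exact sub_mem hga' hga
  have hdd : d ⊗ₜ[R] d = 0 := tmul_eq_zero I hI hdI hdI
  have hΔd : Coalgebra.comul (R := R) d = g ⊗ₜ[R] d + d ⊗ₜ[R] g := by
    rw [hd, map_sub, hg, hg', hg'd]
    simp only [TensorProduct.add_tmul, TensorProduct.tmul_add, hdd]
    abel
  have h4 : slice π (Coalgebra.comul (R := R) d) = π d • a := by
    have := kills I hI ((slice π ∘ₗ Coalgebra.comul) - π.smulRight a) (fun x => by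
      have := h3 x
      rwa [LinearMap.sub_apply, LinearMap.smulRight_apply, LinearMap.comp_apply]) hdI
    rwa [LinearMap.sub_apply, LinearMap.smulRight_apply, LinearMap.comp_apply, sub_eq_zero] at this
  rw [hΔd, map_add, slice_tmul, slice_tmul] at h4
  have hπd : π d ∈ I := functional_mem I π hdI
  have h5 : π d • (g - a) = 0 := smul_smul_top I hI hπd hga
  have h6 : π (g - a) • d = 0 := smul_smul_top I hI (functional_mem I π hga) hdI
  have h7 : π g • d = d := by
    have : π g = 1 + π (g - a) := by rw [map_sub, h2]; ring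
    rw [this, add_smul, one_smul, h6, add_zero]
  have h8 : d = 0 := by
    rw [h7] at h4
    rw [smul_sub, sub_eq_zero] at h5
    rw [h5] at h4
    exact add_left_cancel (h4.trans (add_zero _).symm)
  rw [hg'd, h8, add_zero]

end Slice

section Flat

variable {R : Type*} [CommRing R] (I : Ideal R)

/-- if `q : F → A` is onto a flat module then `ker q ∩ I F ⊆ I • ker q` -/
theorem ker_inter_le_smul {F A : Type*} [AddCommGroup F] [Module R F] [AddCommGroup A]
    [Module R A] [Module.Flat R A] (q : F →ₗ[R] A) (hq : Function.Surjective q) (z : F)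
    (hz : q z = 0) (hzI : z ∈ I • (⊤ : Submodule R F)) : z ∈ I • LinearMap.ker q := by
  have hex : Function.Exact (LinearMap.ker q).subtype q := LinearMap.exact_subtype_ker_map q
  let μ : I ⊗[R] F →ₗ[R] F := (TensorProduct.lid R F).toLinearMap ∘ₗ (I.subtype.rTensor F)
  let μA : I ⊗[R] A →ₗ[R] A := (TensorProduct.lid R A).toLinearMap ∘ₗ (I.subtype.rTensor A)
  have hμA : Function.Injective μA :=
    (TensorProduct.lid R A).injective.comp
      (Module.Flat.rTensor_preserves_injective_linearMap I.subtype Subtype.val_injective)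
  have hnat : ∀ w : I ⊗[R] F, q (μ w) = μA (q.lTensor I w) := by
    intro w
    induction w using TensorProduct.induction_on with
    | zero => simp
    | tmul a r =>
      simp only [μ, μA, LinearMap.comp_apply, LinearMap.rTensor_tmul, LinearMap.lTensor_tmul,
        LinearEquiv.coe_coe, TensorProduct.lid_tmul, Submodule.subtype_apply, map_smul]
    | add x y hx hy => simp only [map_add, hx, hy]
  have hrange : ∀ y ∈ (I • ⊤ : Submodule R F), ∃ w, μ w = y := by
    intro y hy
    refine Submodule.smul_induction_on hy ?_ ?_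
    · intro a ha r _
      exact ⟨(⟨a, ha⟩ : I) ⊗ₜ[R] r, by simp [μ]⟩
    · rintro x y ⟨w, rfl⟩ ⟨w', rfl⟩
      exact ⟨w + w', map_add _ _ _⟩
  obtain ⟨w, rfl⟩ := hrange z hzI
  have h0 : μA (q.lTensor I w) = 0 := by rw [← hnat, hz]
  have h1 : q.lTensor I w = 0 := hμA (h0.trans (map_zero _).symm)
  obtain ⟨v, rfl⟩ := (lTensor_exact I hex hq w).mp h1
  clear h0 h1 hz hzI
  induction v using TensorProduct.induction_on with
  | zero => simp
  | tmul a p =>
    have : μ (((LinearMap.ker q).subtype.lTensor I) (a ⊗ₜ[R] p)) = (a : R) • (p : F) := by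
      simp [μ]
    rw [this]
    exact Submodule.smul_mem_smul a.2 p.2
  | add x y hx hy =>
    rw [map_add, map_add]
    exact add_mem hx hy

theorem bijective_of_sqZero {F A : Type*} [AddCommGroup F] [Module R F] [AddCommGroup A]
    [Module R A] [Module.Flat R A] (hI : I * I = ⊥) (φ : F →ₗ[R] A)
    (hs : ∀ y : A, ∃ x : F, y - φ x ∈ I • (⊤ : Submodule R A))
    (hi : ∀ x : F, φ x ∈ I • (⊤ : Submodule R A) → x ∈ I • (⊤ : Submodule R F)) :
    Function.Bijective φ := by
  have hsurj : Function.Surjective φ := by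
    have hle : I • (⊤ : Submodule R A) ≤ LinearMap.range φ := by
      rw [Submodule.smul_le]
      intro i hi' y _
      obtain ⟨x, hx⟩ := hs y
      refine ⟨i • x, ?_⟩
      rw [map_smul]
      have : i • (y - φ x) = 0 := smul_smul_top I hI hi' hx
      rw [smul_sub, sub_eq_zero] at this
      exact this.symm
    intro y
    obtain ⟨x, hx⟩ := hs y
    obtain ⟨x', hx'⟩ := hle hx
    exact ⟨x + x', by rw [map_add, hx']; abel⟩
  refine ⟨?_, hsurj⟩
  rw [injective_iff_map_eq_zero]
  intro z hz
  have h1 : z ∈ I • (⊤ : Submodule R F) := hi z (by rw [hz]; exact zero_mem _)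
  have h2 := ker_inter_le_smul I φ hsurj z hz h1
  have h3 : I • LinearMap.ker φ ≤ ⊥ := by
    rw [Submodule.smul_le]
    intro i hi' x hx
    rw [Submodule.mem_bot]
    exact smul_smul_top I hI hi' (hi x (by rw [LinearMap.mem_ker.1 hx]; exact zero_mem _))
  exact (Submodule.mem_bot R).1 (h3 h2)

end Flat

end Groth.Agent.Lib.Helper27.HopfNilLift
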