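import Groth.Agent.Lib.Helper27.HopfNilLiftA

/-!
# A flat Hopf algebra which is diagonalisable modulo a square-zero ideal is diagonalisable
(helper27)
-/

set_option autoImplicit false
universe u
open TensorProduct SGA3b

namespace Groth.Agent.Lib.Helper27.HopfNilLift

open Groth.Agent.Lib.Helper27.MultRigid Groth.Agent.Lib.Helper17.MultLift
  Groth.Agent.Lib.Helper17.MultBC

section Core

variable {R K : Type u} [CommRing R] [CommRing K] [Algebra R K]

theorem one_tmul_eq_zero_of_mem {N : Type*} [AddCommGroup N] [Module R N] {y : N}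
    (hy : y ∈ RingHom.ker (algebraMap R K) • (⊤ : Submodule R N)) : (1 : K) ⊗ₜ[R] y = 0 := by
  refine Submodule.smul_induction_on hy (fun j hj m _ => ?_)
    (fun a b ha hb => by rw [TensorProduct.tmul_add, ha, hb, add_zero])
  rw [TensorProduct.tmul_smul, TensorProduct.smul_tmul', Algebra.smul_def, mul_one,
    (RingHom.mem_ker).1 hj, TensorProduct.zero_tmul]

theorem exists_one_tmul (hsurj : Function.Surjective (algebraMap R K)) {A : Type*}
    [AddCommGroup A] [Module R A] (w : K ⊗[R] A) : ∃ a : A, (1 : K) ⊗ₜ[R] a = w := by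
  induction w using TensorProduct.induction_on with
  | zero => exact ⟨0, by simp⟩
  | tmul r a =>
    obtain ⟨r, rfl⟩ := hsurj r
    exact ⟨r • a, by
      rw [TensorProduct.tmul_smul, TensorProduct.smul_tmul', Algebra.smul_def, mul_one]⟩
  | add x y hx hy =>
    obtain ⟨a, rfl⟩ := hx
    obtain ⟨b, rfl⟩ := hy
    exact ⟨a + b, TensorProduct.tmul_add _ _ _⟩

variable {A : Type u} [CommRing A] [HopfAlgebra R A] {M : Type u} [CommGroup M]
  (e₀ : K ⊗[R] A ≃ₐc[K] MonoidAlgebra K M) (a : M → A)

theorem coeff_lc (ha : ∀ m, (1 : K) ⊗ₜ[R] a m = e₀.symm (MonoidAlgebra.of K M m))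
    (x : M →₀ R) (m : M) :
    (e₀ ((1 : K) ⊗ₜ[R] Finsupp.linearCombination R a x)).coeff m = algebraMap R K (x m) := by
  classical
  induction x using Finsupp.induction_linear with
  | zero => simp
  | add x y hx hy =>
    rw [map_add, TensorProduct.tmul_add, map_add, MonoidAlgebra.coeff_add, Finsupp.add_apply, hx,
      hy, Finsupp.add_apply, map_add]
  | single p r =>
    rw [Finsupp.linearCombination_single, TensorProduct.tmul_smul,
      ← algebraMap_smul K r ((1 : K) ⊗ₜ[R] a p), map_smul, ha, e₀.apply_symm_apply,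
      MonoidAlgebra.coeff_smul_apply, MonoidAlgebra.of_apply, MonoidAlgebra.coeff_single,
      Finsupp.single_apply, Finsupp.single_apply]
    split_ifs <;> simp

theorem lc_bijective [Module.Flat R A] (hsurj : Function.Surjective (algebraMap R K))
    (hJ : RingHom.ker (algebraMap R K) * RingHom.ker (algebraMap R K) = ⊥)
    (ha : ∀ m, (1 : K) ⊗ₜ[R] a m = e₀.symm (MonoidAlgebra.of K M m)) :
    Function.Bijective (Finsupp.linearCombination R a) := by
  classical
  apply bijective_of_sqZero (RingHom.ker (algebraMap R K)) hJ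
  · have key : ∀ w : MonoidAlgebra K M, ∃ x : M →₀ R,
        e₀.symm w = (1 : K) ⊗ₜ[R] Finsupp.linearCombination R a x := by
      intro w
      induction w using MonoidAlgebra.induction_on with
      | of m =>
        exact ⟨Finsupp.single m 1, by rw [Finsupp.linearCombination_single, one_smul, ha]⟩
      | add x y hx hy =>
        obtain ⟨z₁, h₁⟩ := hx
        obtain ⟨z₂, h₂⟩ := hy
        exact ⟨z₁ + z₂, by rw [map_add, map_add, h₁, h₂, TensorProduct.tmul_add]⟩
      | smul r x hx =>
        obtain ⟨z, hz⟩ := hx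
        obtain ⟨r, rfl⟩ := hsurj r
        refine ⟨r • z, ?_⟩
        rw [map_smul, hz, algebraMap_smul, map_smul, TensorProduct.tmul_smul]
    intro y
    obtain ⟨x, hx⟩ := key (e₀ ((1 : K) ⊗ₜ[R] y))
    rw [e₀.symm_apply_apply] at hx
    exact ⟨x, mem_smul_top_of_one_tmul_eq_zero hsurj (by
      rw [TensorProduct.tmul_sub, hx, sub_self])⟩
  · intro x hx
    have h0 : (1 : K) ⊗ₜ[R] Finsupp.linearCombination R a x = 0 := one_tmul_eq_zero_of_mem hx
    have hc : ∀ m, x m ∈ RingHom.ker (algebraMap R K) := fun m => by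
      have := coeff_lc e₀ a ha x m
      rw [h0, map_zero, MonoidAlgebra.coeff_zero, Finsupp.zero_apply] at this
      exact (RingHom.mem_ker).2 this.symm
    rw [← Finsupp.sum_single x]
    refine Submodule.sum_mem _ (fun m _ => ?_)
    rw [← Finsupp.smul_single_one]
    exact Submodule.smul_mem_smul (hc m) trivial

theorem exists_family [Module.Flat R A] (hsurj : Function.Surjective (algebraMap R K))
    (hJ : RingHom.ker (algebraMap R K) * RingHom.ker (algebraMap R K) = ⊥) :
    ∃ g : M → A, (∀ m, IsGroupLikeElem R (g m)) ∧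
      (∀ m, (1 : K) ⊗ₜ[R] g m = e₀.symm (MonoidAlgebra.of K M m)) ∧
      (∀ m (g' : A), IsGroupLikeElem R g' →
        (1 : K) ⊗ₜ[R] g' = e₀.symm (MonoidAlgebra.of K M m) → g' = g m) := by
  classical
  set J := RingHom.ker (algebraMap R K) with hJdef
  choose a ha using fun m => exists_one_tmul hsurj (e₀.symm (MonoidAlgebra.of K M m))
  have hbij := lc_bijective e₀ a hsurj hJ ha
  let Λ : A ≃ₗ[R] (M →₀ R) := (LinearEquiv.ofBijective _ hbij).symm
  let π : M → A →ₗ[R] R := fun m => (Finsupp.lapply m) ∘ₗ Λ.toLinearMap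
  have hΛ : ∀ p, Λ (a p) = Finsupp.single p 1 := fun p => by
    rw [LinearEquiv.symm_apply_eq, LinearEquiv.ofBijective_apply,
      Finsupp.linearCombination_single, one_smul]
  have hπ : ∀ m p, π m (a p) = if p = m then 1 else 0 := fun m p => by
    show (Λ (a p)) m = _
    rw [hΛ, Finsupp.single_apply]
  have hπ1 : ∀ m, π m (a m) = 1 := fun m => by rw [hπ, if_pos rfl]
  have hgl : ∀ m, IsGroupLikeElem K ((1 : K) ⊗ₜ[R] a m) := fun m => by
    rw [ha]; exact (isGroupLikeElem_map_equiv e₀.symm).2 (MonoidAlgebra.isGroupLikeElem_of m)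
  have h1 : ∀ m, Coalgebra.comul (R := R) (a m) - a m ⊗ₜ[R] a m ∈
      J • (⊤ : Submodule R (A ⊗[R] A)) := fun m =>
    mem_smul_top_of_one_tmul_eq_zero hsurj (tmul_comul_sub_eq_zero (hgl m)).1
  have hε : ∀ m, Coalgebra.counit (R := R) (a m) - 1 ∈ J := fun m =>
    (RingHom.mem_ker).2 (tmul_comul_sub_eq_zero (hgl m)).2
  have hspan : Submodule.span R (Set.range a) = ⊤ := by
    rw [← Finsupp.range_linearCombination]; exact LinearMap.range_eq_top.2 hbij.2
  have h3 : ∀ m x, slice (π m) (Coalgebra.comul (R := R) x) - π m x • a m ∈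
      J • (⊤ : Submodule R A) := by
    intro m x
    set D : A →ₗ[R] A := slice (π m) ∘ₗ Coalgebra.comul - (π m).smulRight (a m) with hD
    have hle : Submodule.span R (Set.range a) ≤
        Submodule.comap D (J • (⊤ : Submodule R A)) := by
      rw [Submodule.span_le]
      rintro _ ⟨p, rfl⟩
      show D (a p) ∈ J • (⊤ : Submodule R A)
      have e1 : D (a p) =
          slice (π m) (Coalgebra.comul (R := R) (a p) - a p ⊗ₜ[R] a p) := by
        rw [hD, LinearMap.sub_apply, LinearMap.comp_apply, LinearMap.smulRight_apply, map_sub,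
          slice_tmul, hπ]
        split_ifs with h
        · subst h; rfl
        · rw [zero_smul, zero_smul]
      rw [e1]
      exact map_mem_smul_top J _ (h1 p)
    have hx : x ∈ Submodule.span R (Set.range a) := by rw [hspan]; trivial
    have := hle hx
    rwa [Submodule.mem_comap, hD, LinearMap.sub_apply, LinearMap.comp_apply,
      LinearMap.smulRight_apply] at this
  have hmain := fun m => comul_lift J hJ (π m) (a m) (h1 m) (hπ1 m) (h3 m)
  refine ⟨fun m => slice (π m) (Coalgebra.comul (R := R) (a m)), fun m =>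
    ⟨counit_lift J hJ (π m) (a m) _ (hπ1 m) (hmain m).1 (hε m) (hmain m).2, (hmain m).2⟩,
    fun m => ?_, fun m g' hg' h' => ?_⟩
  · rw [← ha m, ← sub_eq_zero, ← TensorProduct.tmul_sub]
    exact one_tmul_eq_zero_of_mem (hmain m).1
  · have hg'a : g' - a m ∈ J • (⊤ : Submodule R A) :=
      mem_smul_top_of_one_tmul_eq_zero hsurj (by rw [TensorProduct.tmul_sub, h', ha, sub_self])
    exact (unique_lift J hJ (π m) (a m) (hπ1 m) (h3 m) (hmain m).2 hg'.comul_eq_tmul_self
      (hmain m).1 hg'a).symm

end Core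

section Main

variable {R K : Type u} [CommRing R] [CommRing K] [Algebra R K]
  {A : Type u} [CommRing A] [HopfAlgebra R A]

/-- the square-zero case -/
theorem isDiag_of_sqZero [Module.Flat R A] (hsurj : Function.Surjective (algebraMap R K))
    (hJ : RingHom.ker (algebraMap R K) * RingHom.ker (algebraMap R K) = ⊥)
    (h0 : IsDiag K (K ⊗[R] A)) : IsDiag R A := by
  classical
  obtain ⟨M, _, ⟨e₀⟩⟩ := h0
  obtain ⟨gh, hgh1, hgh2, huniq⟩ := exists_family e₀ hsurj hJ
  have hone : gh 1 = 1 := (huniq 1 1 (IsGroupLikeElem.one) (by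
    rw [map_one, map_one]; rfl)).symm
  have hmul : ∀ m m', gh (m * m') = gh m * gh m' := fun m m' =>
    (huniq _ _ ((hgh1 m).mul (hgh1 m')) (by
      rw [map_mul, map_mul, ← hgh2 m, ← hgh2 m', Algebra.TensorProduct.tmul_mul_tmul,
        mul_one])).symm
  let γ : M →* GroupLike R A :=
    { toFun := fun m => ⟨gh m, hgh1 m⟩
      map_one' := GroupLike.ext hone
      map_mul' := fun m m' => GroupLike.ext (hmul m m') }
  let Φ : MonoidAlgebra R M →ₐc[R] A :=
    (MonoidAlgebra.liftGroupLikeBialgHom (R := R) (A := A)).comp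
      (MonoidAlgebra.mapDomainBialgHom R γ)
  have hΦof : ∀ m, Φ (MonoidAlgebra.of R M m) = gh m := by
    intro m
    change MonoidAlgebra.liftGroupLikeBialgHom
      (MonoidAlgebra.mapDomainBialgHom R γ (MonoidAlgebra.of R M m)) = gh m
    rw [MonoidAlgebra.of_apply, MonoidAlgebra.mapDomainBialgHom_single]
    simp [MonoidAlgebra.liftGroupLikeBialgHom, γ]
  have hΦlc : ∀ z : MonoidAlgebra R M, Φ z = Finsupp.linearCombination R gh z.coeff := by
    intro z
    induction z using MonoidAlgebra.induction_on with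
    | of m =>
      rw [hΦof, MonoidAlgebra.of_apply, MonoidAlgebra.coeff_single,
        Finsupp.linearCombination_single, one_smul]
    | add x y hx hy => rw [map_add, hx, hy, MonoidAlgebra.coeff_add, map_add]
    | smul r x hx => rw [map_smul, hx, MonoidAlgebra.coeff_smul, map_smul]
  have hbij := lc_bijective e₀ gh hsurj hJ hgh2
  have hΦbij : Function.Bijective Φ := by
    constructor
    · intro z z' h
      rw [hΦlc, hΦlc] at h
      exact MonoidAlgebra.coeff_inj.1 (hbij.1 h)
    · intro y
      obtain ⟨x, hx⟩ := hbij.2 y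
      exact ⟨MonoidAlgebra.ofCoeff x, by rw [hΦlc, MonoidAlgebra.coeff_ofCoeff, hx]⟩
  exact ⟨M, inferInstance, ⟨(BialgEquiv.ofBijective Φ hΦbij).symm⟩⟩

end Main

end Groth.Agent.Lib.Helper27.HopfNilLift
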