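import Mathlib
import Groth.Agent.Lib.Helper27.ComodDiag

/-! Open-closed multiplicative subgroup: graded machinery for a bialgebra map to a group algebra
(helper27). -/

set_option autoImplicit false
set_option linter.unusedSectionVars false
set_option linter.unusedVariables false
open TensorProduct

namespace Groth.Agent.Lib.Helper27.HopfOpen

open Groth.Agent.Lib.Helper27.ComodDiag Groth.Agent.Lib.Helper27.MultRigid HopfRep

universe u

section Coact

variable {S : Type u} [CommRing S] {M : Type u} [CommGroup M] [DecidableEq M]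
variable {D : Type u} [AddCommGroup D] [Module S D] [Coalgebra S D]

/-- coaction induced by a coalgebra map to a group algebra -/
noncomputable def coactOf (f : D →ₗc[S] MonoidAlgebra S M) :
    D →ₗ[S] D ⊗[S] MonoidAlgebra S M :=
  (f.toLinearMap).lTensor D ∘ₗ Coalgebra.comul

theorem coassoc_aux1 (f : D →ₗ[S] MonoidAlgebra S M) (w : D ⊗[S] D) (b : D) :
    TensorProduct.assoc S D (MonoidAlgebra S M) (MonoidAlgebra S M) ((f.lTensor D w) ⊗ₜ[S] f b) =
      TensorProduct.map LinearMap.id (TensorProduct.map f f)
        (TensorProduct.assoc S D D D (w ⊗ₜ[S] b)) := by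
  induction w using TensorProduct.induction_on with
  | zero => simp
  | tmul c d => simp
  | add x y hx hy => simp only [map_add, TensorProduct.add_tmul, hx, hy]

theorem coassoc_aux2 (f : D →ₗ[S] MonoidAlgebra S M) (z : D ⊗[S] D) :
    TensorProduct.assoc S D (MonoidAlgebra S M) (MonoidAlgebra S M)
      ((f.lTensor D ∘ₗ Coalgebra.comul).rTensor (MonoidAlgebra S M) (f.lTensor D z)) =
      TensorProduct.map LinearMap.id (TensorProduct.map f f)
        (TensorProduct.assoc S D D D ((Coalgebra.comul (R := S) (A := D)).rTensor D z)) := by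
  induction z using TensorProduct.induction_on with
  | zero => simp
  | tmul a b =>
    rw [LinearMap.lTensor_tmul, LinearMap.rTensor_tmul, LinearMap.rTensor_tmul,
      LinearMap.comp_apply]
    exact coassoc_aux1 f _ b
  | add x y hx hy => simp only [map_add, hx, hy]

theorem coassoc_aux3 (f : D →ₗc[S] MonoidAlgebra S M) (w : D ⊗[S] D) :
    TensorProduct.map LinearMap.id (TensorProduct.map f.toLinearMap f.toLinearMap)
      ((Coalgebra.comul (R := S) (A := D)).lTensor D w) =
      (Coalgebra.comul (R := S) (A := MonoidAlgebra S M)).lTensor D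
        (f.toLinearMap.lTensor D w) := by
  induction w using TensorProduct.induction_on with
  | zero => simp
  | tmul a b =>
    rw [LinearMap.lTensor_tmul, LinearMap.lTensor_tmul, LinearMap.lTensor_tmul,
      TensorProduct.map_tmul, LinearMap.id_apply]
    congr 1
    exact CoalgHomClass.map_comp_comul_apply f b
  | add x y hx hy => simp only [map_add, hx, hy]

/-- the comodule structure induced by a coalgebra map to a group algebra -/
@[reducible] noncomputable def comodOf (f : D →ₗc[S] MonoidAlgebra S M) :
    Comod S (MonoidAlgebra S M) D where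
  coact := coactOf f
  coassoc := by
    apply LinearMap.ext
    intro x
    simp only [LinearMap.comp_apply, LinearEquiv.coe_coe, coactOf]
    rw [coassoc_aux2, Coalgebra.coassoc_apply, coassoc_aux3]
  counit_comp := by
    have h : (Coalgebra.counit (R := S) (A := MonoidAlgebra S M)).lTensor D ∘ₗ
        f.toLinearMap.lTensor D = (Coalgebra.counit (R := S) (A := D)).lTensor D := by
      rw [← LinearMap.lTensor_comp, f.counit_comp]
    unfold coactOf
    rw [← LinearMap.comp_assoc, h]
    exact Coalgebra.lTensor_counit_comp_comul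

/-- the isotypic projections -/
noncomputable def prO (f : D →ₗc[S] MonoidAlgebra S M) (m : M) : D →ₗ[S] D :=
  cf m ∘ₗ coactOf f

theorem sum_prO (f : D →ₗc[S] MonoidAlgebra S M) (x : D) :
    ∃ F : Finset M, ∑ m ∈ F, prO f m x = x := by
  letI := comodOf f
  exact ⟨_, sum_pr (k := S) (M := M) x⟩

theorem prO_prO (f : D →ₗc[S] MonoidAlgebra S M) (m n : M) (x : D) :
    prO f m (prO f n x) = if m = n then prO f m x else 0 := by
  letI := comodOf f
  exact pr_pr (k := S) m n x

theorem coact_prO (f : D →ₗc[S] MonoidAlgebra S M) (m : M) (x : D) :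
    coactOf f (prO f m x) = prO f m x ⊗ₜ[S] MonoidAlgebra.single m (1 : S) := by
  letI := comodOf f
  have h := coact_eq_sum (k := S) (M := M) (prO f m x)
  have h' : coactOf f (prO f m x) = ∑ n ∈ (dec S (M := M) (prO f m x)).support,
      (if n = m then prO f m x else 0) ⊗ₜ[S] MonoidAlgebra.single n (1 : S) := by
    refine h.trans (Finset.sum_congr rfl fun n _ => ?_)
    have h3 := prO_prO f n m x
    change prO f n (prO f m x) ⊗ₜ[S] _ = _
    rw [h3]
    split_ifs with hnm
    · rw [hnm]
    · rfl
  rw [h']
  by_cases hm : m ∈ (dec S (M := M) (prO f m x)).support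
  · rw [Finset.sum_eq_single m]
    · rw [if_pos rfl]
    · intro n _ hn
      rw [if_neg hn, TensorProduct.zero_tmul]
    · intro h4
      exact absurd hm h4
  · have h0 : prO f m x = 0 := by
      have h1 := pr_eq_zero_of_notMem (k := S) hm
      have h2 := prO_prO f m m x
      rw [if_pos rfl] at h2
      rw [← h2]
      exact h1
    rw [Finset.sum_eq_zero, h0, TensorProduct.zero_tmul]
    intro n _
    rw [h0]
    split_ifs <;> simp

theorem cf_comul (m : M) (s : MonoidAlgebra S M) :
    cf (V := MonoidAlgebra S M) m (Coalgebra.comul (R := S) s) =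
      MonoidAlgebra.single m (s.coeff m) := by
  induction s using MonoidAlgebra.induction_linear with
  | zero => simp
  | add x y hx hy =>
    rw [map_add, map_add, hx, hy, MonoidAlgebra.coeff_add, Finsupp.add_apply,
      MonoidAlgebra.single_add]
  | single p c =>
    by_cases h : p = m
    · subst h
      simp [MonoidAlgebra.comul_single, cf_tmul, MonoidAlgebra.coeff_single_apply]
    · simp [MonoidAlgebra.comul_single, cf_tmul, MonoidAlgebra.coeff_single_apply, h]

theorem f_cf_aux (f : D →ₗ[S] MonoidAlgebra S M) (m : M) (z : D ⊗[S] D) :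
    f (cf m (f.lTensor D z)) = cf (V := MonoidAlgebra S M) m (TensorProduct.map f f z) := by
  induction z using TensorProduct.induction_on with
  | zero => simp
  | tmul a b => simp [cf_tmul]
  | add x y hx hy => simp only [map_add, hx, hy]

theorem f_prO (f : D →ₗc[S] MonoidAlgebra S M) (m : M) (x : D) :
    f (prO f m x) = MonoidAlgebra.single m ((f x).coeff m) := by
  have h := f_cf_aux f.toLinearMap m (Coalgebra.comul (R := S) x)
  have h2 : TensorProduct.map f.toLinearMap f.toLinearMap (Coalgebra.comul (R := S) x) =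
      Coalgebra.comul (R := S) (f x) := CoalgHomClass.map_comp_comul_apply f x
  rw [h2, cf_comul] at h
  exact h

end Coact

section Bialg

variable {S : Type u} [CommRing S] {M : Type u} [CommGroup M] [DecidableEq M]
variable {D : Type u} [CommRing D] [Bialgebra S D]

/-- the coaction as an algebra map -/
noncomputable def rhoAlg (û : D →ₐc[S] MonoidAlgebra S M) : D →ₐ[S] D ⊗[S] MonoidAlgebra S M :=
  (Algebra.TensorProduct.map (AlgHom.id S D) (û : D →ₐ[S] MonoidAlgebra S M)).comp
    (Bialgebra.comulAlgHom S D)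

theorem rhoAlg_apply (û : D →ₐc[S] MonoidAlgebra S M) (x : D) :
    rhoAlg û x = coactOf û.toCoalgHom x := by
  unfold rhoAlg coactOf
  simp only [AlgHom.comp_apply, LinearMap.comp_apply, Bialgebra.comulAlgHom_apply]
  generalize Coalgebra.comul (R := S) x = z
  induction z using TensorProduct.induction_on with
  | zero => simp
  | tmul a b =>
    rw [Algebra.TensorProduct.map_tmul, LinearMap.lTensor_tmul]
    rfl
  | add x y hx hy => simp only [map_add, hx, hy]

theorem cf_mul_homog (m : M) (z : D ⊗[S] MonoidAlgebra S M) (y : D) :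
    cf m (z * (y ⊗ₜ[S] MonoidAlgebra.single m (1 : S))) = cf 1 z * y := by
  induction z using TensorProduct.induction_on with
  | zero => simp
  | tmul d s =>
    rw [Algebra.TensorProduct.tmul_mul_tmul, cf_tmul, cf_tmul]
    have h : (s * MonoidAlgebra.single m (1 : S)).coeff m = s.coeff 1 := by
      rw [MonoidAlgebra.coeff_mul_single_apply, mul_inv_cancel, mul_one]
    rw [h, smul_mul_assoc]
  | add x y' hx hy => rw [add_mul, map_add, map_add, add_mul, hx, hy]

theorem prO_mul_homog (û : D →ₐc[S] MonoidAlgebra S M) (m : M) (c y : D)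
    (hy : coactOf û.toCoalgHom y = y ⊗ₜ[S] MonoidAlgebra.single m (1 : S)) :
    prO û.toCoalgHom m (c * y) = prO û.toCoalgHom 1 c * y := by
  show cf m (coactOf û.toCoalgHom (c * y)) = cf 1 (coactOf û.toCoalgHom c) * y
  rw [← rhoAlg_apply, map_mul, rhoAlg_apply, rhoAlg_apply, hy, cf_mul_homog]

theorem surjective_of_unit_coeff (û : D →ₐc[S] MonoidAlgebra S M)
    (h : ∀ m : M, ∃ x : D, IsUnit ((û x).coeff m)) : Function.Surjective û := by
  intro s
  induction s using MonoidAlgebra.induction_linear with
  | zero => exact ⟨0, map_zero _⟩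
  | add a b ha hb =>
    obtain ⟨x, hx⟩ := ha
    obtain ⟨y, hy⟩ := hb
    exact ⟨x + y, by rw [map_add, hx, hy]⟩
  | single m r =>
    obtain ⟨x, hx⟩ := h m
    obtain ⟨v, hv⟩ := hx.exists_left_inv
    refine ⟨(r * v) • prO û.toCoalgHom m x, ?_⟩
    rw [map_smul]
    have h1 : û (prO û.toCoalgHom m x) = MonoidAlgebra.single m ((û x).coeff m) :=
      f_prO û.toCoalgHom m x
    rw [h1, MonoidAlgebra.smul_single, smul_eq_mul, mul_assoc, hv, mul_one]

theorem ker_le_sq (û : D →ₐc[S] MonoidAlgebra S M) (c : D)
    (hα : IsUnit (1 - (û c).coeff 1)) (hc : ∀ y, û y = 0 → c * y = y) (y : D) (hy : û y = 0) :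
    y ∈ RingHom.ker û * RingHom.ker û := by
  have hfp : ∀ m x, û (prO û.toCoalgHom m x) = MonoidAlgebra.single m ((û x).coeff m) :=
    fun m x => f_prO û.toCoalgHom m x
  obtain ⟨F, hF⟩ := sum_prO û.toCoalgHom y
  rw [← hF]
  refine Ideal.sum_mem _ fun m _ => ?_
  obtain ⟨ym, hym⟩ : ∃ ym, ym = prO û.toCoalgHom m y := ⟨_, rfl⟩
  rw [← hym]
  have h1 : û ym = 0 := by
    rw [hym, hfp, hy]
    simp
  have h2 : coactOf û.toCoalgHom ym = ym ⊗ₜ[S] MonoidAlgebra.single m (1 : S) := by
    rw [hym]
    exact coact_prO û.toCoalgHom m y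
  have h3 : c * ym = ym := hc ym h1
  have h4 : prO û.toCoalgHom m ym = ym := by
    have h := prO_prO û.toCoalgHom m m y
    rw [if_pos rfl] at h
    rw [hym]
    exact h
  have h5 : ym = prO û.toCoalgHom 1 c * ym :=
    calc ym = prO û.toCoalgHom m ym := h4.symm
      _ = prO û.toCoalgHom m (c * ym) := by rw [h3]
      _ = prO û.toCoalgHom 1 c * ym := prO_mul_homog û m c ym h2
  obtain ⟨α, hαd⟩ : ∃ α, α = (û c).coeff 1 := ⟨_, rfl⟩
  rw [← hαd] at hα
  have h6 : û (prO û.toCoalgHom 1 c - algebraMap S D α) = 0 := by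
    rw [map_sub, hfp, ← hαd, AlgHomClass.commutes, MonoidAlgebra.coe_algebraMap]
    simp
  obtain ⟨v, hv⟩ := hα.exists_left_inv
  have h7 : ym = algebraMap S D v * ((prO û.toCoalgHom 1 c - algebraMap S D α) * ym) := by
    have h8 : (prO û.toCoalgHom 1 c - algebraMap S D α) * ym = algebraMap S D (1 - α) * ym := by
      rw [sub_mul, ← h5, map_sub, map_one, sub_mul, one_mul]
    rw [h8, ← mul_assoc, ← map_mul, hv, map_one, one_mul]
  rw [h7]
  exact Ideal.mul_mem_left _ _ (Ideal.mul_mem_mul (RingHom.mem_ker.2 h6) (RingHom.mem_ker.2 h1))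

end Bialg

end Groth.Agent.Lib.Helper27.HopfOpen
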