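import Mathlib
import Groth.Agent.Lib.Helper27.HopfOpenA
import Groth.Agent.Lib.Helper27.HopfDescH
import Groth.Agent.S2970

/-! Open-closed multiplicative subgroup over a complete noetherian base (helper27). -/

set_option autoImplicit false
set_option linter.unusedSectionVars false
set_option linter.unusedVariables false
open TensorProduct SGA3b

namespace Groth.Agent.Lib.Helper27.HopfOpen

open Groth.Agent.Lib.Helper27.MultRigid Groth.Agent.Lib.Helper17.MultLift
  Groth.Agent.Lib.Helper17.MultBC Groth.Agent.Lib.Helper27.IsoLift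
  Groth.Agent.Lib.Helper27.AdicLift Groth.Agent.Lib.Helper27.MTHom
  Groth.Agent.Lib.Helper27.HopfDesc

universe u

section General

theorem isQuasiIsotrivial_of_isIsotrivial {A : Type u} [CommRing A] (B : Type u) [CommRing B]
    [HopfAlgebra A B] (h : IsIsotrivial A B) : IsQuasiIsotrivial A B := by
  obtain ⟨A', _, _, hEt, _, hff, N, _, ⟨e⟩⟩ := h
  haveI := hff
  haveI := hEt
  refine ⟨{1}, by rw [Ideal.span_singleton_one], ?_⟩
  rintro f (rfl : f = 1)
  refine ⟨Localization.Away (1 : A) ⊗[A] A', inferInstance, inferInstance, inferInstance,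
    inferInstance, ?_⟩
  letI iP : Algebra A' (Localization.Away (1 : A) ⊗[A] A') := Algebra.TensorProduct.rightAlgebra
  haveI : IsScalarTower A A' (Localization.Away (1 : A) ⊗[A] A') :=
    IsScalarTower.of_algebraMap_eq (fun x => by
      rw [Algebra.TensorProduct.algebraMap_apply, Algebra.TensorProduct.right_algebraMap_apply,
        Algebra.algebraMap_eq_smul_one, Algebra.algebraMap_eq_smul_one, TensorProduct.smul_tmul])
  obtain ⟨c4⟩ := nonempty_bialgEquiv_of_tower (k := A) (P := A')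
    (S' := Localization.Away (1 : A) ⊗[A] A') (C := B) e
  exact ⟨N, inferInstance, ⟨(cancelBaseChangeBialg A (Localization.Away (1 : A))
    (Localization.Away (1 : A) ⊗[A] A') B).trans c4⟩⟩

theorem isIsotrivial_of_bialgEquiv {A : Type u} [CommRing A] {Q B : Type u} [CommRing Q]
    [CommRing B] [HopfAlgebra A Q] [HopfAlgebra A B] (e : Q ≃ₐc[A] B) (h : IsIsotrivial A B) :
    IsIsotrivial A Q := by
  obtain ⟨S, _, _, hEt, hFin, hFF, M, _, ⟨ε⟩⟩ := h
  refine ⟨S, inferInstance, inferInstance, hEt, hFin, hFF, M, inferInstance, ⟨?_⟩⟩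
  refine (BialgEquiv.ofBialgHom
    (Bialgebra.TensorProduct.map (BialgHom.id S S) e.toBialgHom)
    (Bialgebra.TensorProduct.map (BialgHom.id S S) e.symm.toBialgHom) ?_ ?_).trans ε
  · apply BialgHom.ext
    intro x
    induction x using TensorProduct.induction_on with
    | zero => simp
    | tmul s q =>
      show s ⊗ₜ[A] e (e.symm q) = s ⊗ₜ[A] q
      rw [e.apply_symm_apply]
    | add x y hx hy => rw [map_add, map_add, hx, hy]
  · apply BialgHom.ext
    intro x
    induction x using TensorProduct.induction_on with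
    | zero => simp
    | tmul s q =>
      show s ⊗ₜ[A] e.symm (e q) = s ⊗ₜ[A] q
      rw [e.symm_apply_apply]
    | add x y hx hy => rw [map_add, map_add, hx, hy]

variable {A : Type u} [CommRing A] {C B : Type u} [CommRing C] [CommRing B]
  [HopfAlgebra A C] [HopfAlgebra A B]

theorem isHopfIdeal_of_ker (u : C →ₐc[A] B) (hu : Function.Surjective u)
    (J : Ideal C) (hJ : ∀ x, x ∈ J ↔ u x = 0) : J.IsHopfIdeal A := by
  obtain ⟨uL, huL, hcomul⟩ : ∃ uL : C →ₗ[A] B, (∀ c, uL c = u c) ∧
      (∀ x, TensorProduct.map uL uL (Coalgebra.comul (R := A) x) =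
        Coalgebra.comul (R := A) (u x)) :=
    ⟨(u : C →ₐ[A] B).toLinearMap, fun _ => rfl,
      fun x => CoalgHomClass.map_comp_comul_apply u x⟩
  have hle : J.restrictScalars A ≤ LinearMap.ker uL := fun x hx => by
    rw [LinearMap.mem_ker, huL]
    exact (hJ x).1 hx
  have hge : LinearMap.ker uL ≤ J.restrictScalars A := fun x hx => by
    rw [LinearMap.mem_ker, huL] at hx
    exact (hJ x).2 hx
  let L : (C ⧸ J.restrictScalars A) →ₗ[A] B := Submodule.liftQ _ uL hle
  have hLmk : ∀ c, L (Submodule.Quotient.mk c) = u c := fun c => by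
    rw [← huL]
    exact Submodule.liftQ_apply _ _ _
  have hLinj : Function.Injective L :=
    LinearMap.ker_eq_bot.1 (Submodule.ker_liftQ_eq_bot _ _ hle hge)
  have hLsurj : Function.Surjective L := by
    intro b
    obtain ⟨c, hc⟩ := hu b
    exact ⟨Submodule.Quotient.mk c, by rw [hLmk, hc]⟩
  let Le : (C ⧸ J.restrictScalars A) ≃ₗ[A] B := LinearEquiv.ofBijective L ⟨hLinj, hLsurj⟩
  have hLe : ∀ c, Le (Submodule.Quotient.mk c) = u c := fun c => hLmk c
  have key : ∀ z : C ⊗[A] C, TensorProduct.congr Le Le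
      (TensorProduct.map (J.restrictScalars A).mkQ (J.restrictScalars A).mkQ z) =
      TensorProduct.map uL uL z := by
    intro z
    induction z using TensorProduct.induction_on with
    | zero => simp
    | tmul a b =>
      rw [TensorProduct.map_tmul, TensorProduct.congr_tmul, TensorProduct.map_tmul,
        Submodule.mkQ_apply, Submodule.mkQ_apply, hLe, hLe, huL, huL]
    | add x y hx hy => rw [map_add, map_add, map_add, hx, hy]
  haveI hco : (J.restrictScalars A).IsCoideal := by
    refine ⟨?_, ?_⟩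
    · intro x hx
      have h1 := CoalgHomClass.counit_comp_apply u x
      rw [← h1, (hJ x).1 hx, map_zero]
    · intro x hx
      apply (TensorProduct.congr Le Le).injective
      rw [key, map_zero, hcomul, (hJ x).1 hx, map_zero]
  refine ⟨?_⟩
  intro x hx
  rw [hJ, ← Groth.Agent.Lib.Helper27.MultMono.antipode_apply u x, (hJ x).1 hx, map_zero]

theorem exists_isotrivial_quot (u : C →ₐc[A] B) (hu : Function.Surjective u)
    (J : Ideal C) (hJ : ∀ x, x ∈ J ↔ u x = 0) (hB : IsIsotrivial A B) :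
    ∃ _ : J.IsHopfIdeal A, IsIsotrivial A (C ⧸ J) := by
  haveI hH : J.IsHopfIdeal A := isHopfIdeal_of_ker u hu J hJ
  refine ⟨hH, ?_⟩
  let ū₀ : (C ⧸ J) →ₐ[A] B :=
    Ideal.Quotient.liftₐ J (u : C →ₐ[A] B) (fun x hx => (hJ x).1 hx)
  have hū₀ : ∀ c, ū₀ (Ideal.Quotient.mk J c) = u c := fun c => rfl
  have hc1 : (Bialgebra.counitAlgHom A B).comp ū₀ = Bialgebra.counitAlgHom A (C ⧸ J) := by
    apply Ideal.Quotient.algHom_ext
    apply AlgHom.ext
    intro c
    show Coalgebra.counit (R := A) (ū₀ (Ideal.Quotient.mk J c)) =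
      Coalgebra.counit (R := A) (Ideal.Quotient.mk J c)
    rw [hū₀, Bialgebra.Quotient.counit_mk]
    exact CoalgHomClass.counit_comp_apply u c
  have hc2 : (Algebra.TensorProduct.map ū₀ ū₀).comp (Bialgebra.comulAlgHom A (C ⧸ J)) =
      (Bialgebra.comulAlgHom A B).comp ū₀ := by
    apply Ideal.Quotient.algHom_ext
    apply AlgHom.ext
    intro c
    show Algebra.TensorProduct.map ū₀ ū₀ (Coalgebra.comul (R := A) (Ideal.Quotient.mk J c)) =
      Coalgebra.comul (R := A) (ū₀ (Ideal.Quotient.mk J c))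
    rw [hū₀, Bialgebra.Quotient.comul_mk]
    have h2 : TensorProduct.map (u : C →ₐ[A] B).toLinearMap (u : C →ₐ[A] B).toLinearMap
        (Coalgebra.comul (R := A) c) = Coalgebra.comul (R := A) (u c) :=
      CoalgHomClass.map_comp_comul_apply u c
    rw [← h2]
    generalize Coalgebra.comul (R := A) c = z
    induction z using TensorProduct.induction_on with
    | zero => simp
    | tmul a b =>
      rw [TensorProduct.map_tmul, Algebra.TensorProduct.map_tmul, TensorProduct.map_tmul]
      rfl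
    | add x y hx hy => simp only [map_add, hx, hy]
  let ū : (C ⧸ J) →ₐc[A] B := BialgHom.ofAlgHom ū₀ hc1 hc2
  have hū : ∀ c, ū (Ideal.Quotient.mk J c) = u c := fun c => rfl
  have hbij : Function.Bijective ū := by
    constructor
    · rw [injective_iff_map_eq_zero]
      intro x hx
      obtain ⟨c, rfl⟩ := Ideal.Quotient.mk_surjective x
      rw [hū] at hx
      exact Ideal.Quotient.eq_zero_iff_mem.2 ((hJ c).2 hx)
    · intro b
      obtain ⟨c, hc⟩ := hu b
      exact ⟨Ideal.Quotient.mk J c, by rw [hū, hc]⟩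
  exact isIsotrivial_of_bialgEquiv (BialgEquiv.ofBijective ū hbij) hB

end General

section Steps

variable {A : Type u} [CommRing A] (I : Ideal A)
  {C : Type u} [CommRing C] [HopfAlgebra A C] {B : Type u} [CommRing B] [HopfAlgebra A B]
  (u : C →ₐc[A] B)
  {S : Type u} [CommRing S] [Algebra A S] {M : Type u} [CommGroup M]
  (ε : S ⊗[A] B ≃ₐc[S] MonoidAlgebra S M)

/-- base change of `u` -/
noncomputable def bu : (S ⊗[A] C) →ₐc[S] (S ⊗[A] B) :=
  Bialgebra.TensorProduct.map (BialgHom.id S S) u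

/-- base change of `u` followed by a splitting -/
noncomputable def uHat : (S ⊗[A] C) →ₐc[S] MonoidAlgebra S M := ε.toBialgHom.comp (bu u)

theorem bu_tmul (s : S) (c : C) : bu (S := S) u (s ⊗ₜ[A] c) = s ⊗ₜ[A] u c := rfl

theorem uHat_apply (x : S ⊗[A] C) : uHat u ε x = ε (bu u x) := rfl

theorem uHat_eq_zero_iff (x : S ⊗[A] C) : uHat u ε x = 0 ↔ bu u x = 0 := by
  rw [uHat_apply]
  exact EmbeddingLike.map_eq_zero_iff

theorem bu_lTensor (x : S ⊗[A] C) :
    ((u : C →ₐ[A] B).toLinearMap).lTensor S x = bu u x := by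
  induction x using TensorProduct.induction_on with
  | zero => simp
  | tmul s c => rfl
  | add x y hx hy => rw [map_add, map_add, hx, hy]

theorem bu_algMap (x : S ⊗[A] C) :
    Algebra.TensorProduct.map (AlgHom.id A S) (u : C →ₐ[A] B) x = bu u x := by
  induction x using TensorProduct.induction_on with
  | zero => simp
  | tmul s c => rfl
  | add x y hx hy => rw [map_add, map_add, hx, hy]

theorem uHat_surjective (hJac : I.map (algebraMap A S) ≤ Ideal.jacobson ⊥)
    (hsurj0 : ∀ b : B, ∃ c : C, u c - b ∈ I • (⊤ : Submodule A B)) :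
    Function.Surjective (uHat u ε) := by
  have h1 : ∀ w : S ⊗[A] B, ∃ x : S ⊗[A] C,
      bu u x - w ∈ I.map (algebraMap A S) • (⊤ : Submodule S (S ⊗[A] B)) := by
    intro w
    induction w using TensorProduct.induction_on with
    | zero =>
      refine ⟨0, ?_⟩
      rw [map_zero, sub_zero]
      exact Submodule.zero_mem _
    | tmul s b =>
      obtain ⟨c, hc⟩ := hsurj0 b
      refine ⟨s ⊗ₜ[A] c, ?_⟩
      rw [bu_tmul, ← TensorProduct.tmul_sub]
      exact tmul_mem_smul_top I s hc
    | add w₁ w₂ h₁ h₂ =>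
      obtain ⟨x₁, hx₁⟩ := h₁
      obtain ⟨x₂, hx₂⟩ := h₂
      refine ⟨x₁ + x₂, ?_⟩
      have h : bu u (x₁ + x₂) - (w₁ + w₂) = (bu u x₁ - w₁) + (bu u x₂ - w₂) := by
        rw [map_add]; abel
      rw [h]
      exact Submodule.add_mem _ hx₁ hx₂
  apply surjective_of_mod (I.map (algebraMap A S)) hJac (uHat u ε)
  intro b
  obtain ⟨x, hx⟩ := h1 (ε.symm b)
  refine ⟨x, ?_⟩
  have h2 := map_mem_smul_top' (I.map (algebraMap A S))
    (ε.toBialgHom.toCoalgHom.toLinearMap) hx
  have h3 : ε.toBialgHom.toCoalgHom.toLinearMap (bu u x - ε.symm b) = uHat u ε x - b := by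
    show ε (bu u x - ε.symm b) = _
    rw [map_sub, ε.apply_symm_apply]
    rfl
  rw [h3] at h2
  exact h2

theorem u_surjective [Module.FaithfullyFlat A S] (h : Function.Surjective (uHat u ε)) :
    Function.Surjective u := by
  have h2 : Function.Surjective (((u : C →ₐ[A] B).toLinearMap).lTensor S) := by
    intro w
    obtain ⟨x, hx⟩ := h (ε w)
    refine ⟨x, ?_⟩
    rw [bu_lTensor]
    exact EquivLike.injective ε hx
  exact (Module.FaithfullyFlat.lTensor_surjective_iff_surjective A S _).1 h2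

theorem ker_le_mul [Module.Flat A B] (husurj : Function.Surjective u)
    (hinj0 : ∀ c : C, u c = 0 → (1 : A ⧸ I) ⊗ₜ[A] c = 0) :
    RingHom.ker u ≤ Ideal.map (algebraMap A C) I * RingHom.ker u := by
  obtain ⟨uL, huL⟩ : ∃ uL : C →ₗ[A] B, ∀ c, uL c = u c :=
    ⟨(u : C →ₐ[A] B).toLinearMap, fun _ => rfl⟩
  have husurjL : Function.Surjective uL := fun b => by
    obtain ⟨c, hc⟩ := husurj b
    exact ⟨c, by rw [huL, hc]⟩
  intro j hj
  have hj1 : u j = 0 := RingHom.mem_ker.1 hj
  have hj0 : uL j = 0 := by rw [huL]; exact hj1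
  have hex : Function.Exact (LinearMap.ker uL).subtype uL := LinearMap.exact_subtype_ker_map uL
  have hinjT := LinearMap.lTensor_injective_of_exact_of_flat uL husurjL
    (LinearMap.ker uL).subtype (Submodule.injective_subtype _) hex (A ⧸ I)
  have h4 : (1 : A ⧸ I) ⊗ₜ[A] (⟨j, hj0⟩ : LinearMap.ker uL) = 0 := by
    apply hinjT
    rw [LinearMap.lTensor_tmul, map_zero]
    exact hinj0 j hj1
  have h5 := mem_smul_top_of_one_tmul_eq_zero (k := A) (K := A ⧸ I)
    Ideal.Quotient.mk_surjective h4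
  rw [Ideal.Quotient.algebraMap_eq, Ideal.mk_ker] at h5
  have h6 : ∀ y : LinearMap.ker uL, y ∈ I • (⊤ : Submodule A (LinearMap.ker uL)) →
      (y : C) ∈ Ideal.map (algebraMap A C) I * RingHom.ker u := by
    intro y hy
    refine Submodule.smul_induction_on hy (fun a ha n _ => ?_) (fun x y hx hy => ?_)
    · rw [Submodule.coe_smul, Algebra.smul_def]
      refine Ideal.mul_mem_mul (Ideal.mem_map_of_mem _ ha) (RingHom.mem_ker.2 ?_)
      rw [← huL]
      exact LinearMap.mem_ker.1 n.2
    · rw [Submodule.coe_add]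
      exact Ideal.add_mem _ hx hy
  exact h6 ⟨j, hj0⟩ h5

theorem ker_uHat (husurj : Function.Surjective u) :
    RingHom.ker (uHat u ε) =
      (RingHom.ker u).map (Algebra.TensorProduct.includeRight : C →ₐ[A] S ⊗[A] C) := by
  have hk := Algebra.TensorProduct.lTensor_ker (A := S) (u : C →ₐ[A] B) husurj
  have hk' : RingHom.ker u = RingHom.ker (u : C →ₐ[A] B) := rfl
  rw [hk', ← hk]
  ext y
  rw [RingHom.mem_ker, RingHom.mem_ker, uHat_eq_zero_iff, bu_algMap]

include ε in
theorem ker_le_sq_base [Module.FaithfullyFlat A S]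
    (hJac : I.map (algebraMap A S) ≤ Ideal.jacobson ⊥)
    (husurj : Function.Surjective u) (c : C) (hcI : c ∈ Ideal.map (algebraMap A C) I)
    (hcJ : ∀ n ∈ RingHom.ker u, c * n = n) :
    RingHom.ker u ≤ RingHom.ker u * RingHom.ker u := by
  classical
  have hKJ := ker_uHat u ε husurj
  obtain ⟨J, hJdef⟩ : ∃ J : Ideal C, J = RingHom.ker u := ⟨_, rfl⟩
  have hJmem : ∀ x, x ∈ J ↔ u x = 0 := fun x => by rw [hJdef, RingHom.mem_ker]
  rw [← hJdef] at hKJ hcJ ⊢
  obtain ⟨ĉ, hĉdef⟩ : ∃ ĉ : S ⊗[A] C, ĉ = (1 : S) ⊗ₜ[A] c := ⟨_, rfl⟩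
  have hĉ : ∀ y, uHat u ε y = 0 → ĉ * y = y := by
    intro y hy
    have hmem : y ∈ J.map (Algebra.TensorProduct.includeRight : C →ₐ[A] S ⊗[A] C) := by
      rw [← hKJ]
      exact RingHom.mem_ker.2 hy
    rw [Ideal.map] at hmem
    refine Submodule.span_induction (p := fun y _ => ĉ * y = y) ?_ ?_ ?_ ?_ hmem
    · rintro _ ⟨j, hj, rfl⟩
      show ĉ * ((1 : S) ⊗ₜ[A] j) = (1 : S) ⊗ₜ[A] j
      rw [hĉdef, Algebra.TensorProduct.tmul_mul_tmul, one_mul, hcJ j hj]
    · exact mul_zero _
    · intro x y _ _ hx hy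
      rw [mul_add, hx, hy]
    · intro a x _ hx
      rw [smul_eq_mul, mul_left_comm, hx]
  have hα : IsUnit (1 - (uHat u ε ĉ).coeff 1) := by
    have hc' : c ∈ I • (⊤ : Submodule A C) := by
      rw [Ideal.smul_top_eq_map]
      exact hcI
    have h7 : ĉ ∈ I.map (algebraMap A S) • (⊤ : Submodule S (S ⊗[A] C)) := by
      rw [hĉdef]
      exact tmul_mem_smul_top I (1 : S) hc'
    have h8 := map_mem_smul_top' (I.map (algebraMap A S))
      ((coeffL (R' := S) (1 : M)) ∘ₗ (uHat u ε).toCoalgHom.toLinearMap) h7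
    rw [Ideal.smul_eq_mul, Ideal.mul_top] at h8
    have h8' : (uHat u ε ĉ).coeff 1 ∈ I.map (algebraMap A S) := h8
    have h9 := Ideal.mem_jacobson_bot.1 (hJac h8') (-1)
    have h10 : 1 - (uHat u ε ĉ).coeff 1 = (uHat u ε ĉ).coeff 1 * -1 + 1 := by ring
    rw [h10]
    exact h9
  have hsq := ker_le_sq (uHat u ε) ĉ hα hĉ
  rw [hKJ, ← Ideal.map_mul] at hsq
  obtain ⟨q, hq⟩ : ∃ q : C →ₐ[A] (C ⧸ (J * J)), ∀ x, q x = 0 ↔ x ∈ J * J :=
    ⟨Ideal.Quotient.mkₐ A (J * J), fun x => Ideal.Quotient.eq_zero_iff_mem⟩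
  have hg : q.toLinearMap ∘ₗ (J.restrictScalars A).subtype = 0 := by
    rw [Module.FaithfullyFlat.zero_iff_lTensor_zero A S]
    apply LinearMap.ext
    intro t
    induction t using TensorProduct.induction_on with
    | zero => simp
    | tmul s j =>
      rw [LinearMap.lTensor_tmul, LinearMap.zero_apply]
      have hΨ : s ⊗ₜ[A] (q.toLinearMap ∘ₗ (J.restrictScalars A).subtype) j =
          Algebra.TensorProduct.map (AlgHom.id A S) q (s ⊗ₜ[A] (j : C)) := rfl
      rw [hΨ]
      have hmem : uHat u ε (s ⊗ₜ[A] (j : C)) = 0 := by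
        rw [uHat_eq_zero_iff, bu_tmul, (hJmem _).1 j.2, TensorProduct.tmul_zero]
      have hmem2 := hsq _ hmem
      have hle : (J * J).map (Algebra.TensorProduct.includeRight : C →ₐ[A] S ⊗[A] C) ≤
          RingHom.ker (Algebra.TensorProduct.map (AlgHom.id A S) q) := by
        rw [Ideal.map_le_iff_le_comap]
        intro x hx
        rw [Ideal.mem_comap, RingHom.mem_ker]
        show Algebra.TensorProduct.map (AlgHom.id A S) q ((1 : S) ⊗ₜ[A] x) = 0
        rw [Algebra.TensorProduct.map_tmul, (hq x).2 hx, TensorProduct.tmul_zero]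
      exact RingHom.mem_ker.1 (hle hmem2)
    | add x y hx hy =>
      rw [map_add, hx, hy]
      simp
  intro j hj
  have h := LinearMap.congr_fun hg ⟨j, hj⟩
  exact (hq j).1 h

end Steps

end Groth.Agent.Lib.Helper27.HopfOpen
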