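import Mathlib
import Groth.Agent.Lib.Helper27.HopfOpenB

/-! Open-closed multiplicative subgroup over a complete noetherian base: assembly (helper27). -/

set_option autoImplicit false
set_option linter.unusedSectionVars false
set_option linter.unusedVariables false
open TensorProduct SGA3b

namespace Groth.Agent.Lib.Helper27.HopfOpen

open Groth.Agent.Lib.Helper27.MultRigid Groth.Agent.Lib.Helper17.MultLift
  Groth.Agent.Lib.Helper17.MultBC Groth.Agent.Lib.Helper27.IsoLift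
  Groth.Agent.Lib.Helper27.AdicLift Groth.Agent.Lib.Helper27.MTHom
  Groth.Agent.Lib.Helper27.HopfDesc

universe u

section Main

variable {A : Type u} [CommRing A] [IsNoetherianRing A] (I : Ideal A) [IsAdicComplete I A]
  {C : Type u} [CommRing C] [HopfAlgebra A C] {B : Type u} [CommRing B] [HopfAlgebra A B]

theorem nak_aux {C : Type u} [CommRing C] [IsNoetherianRing C] (IC J : Ideal C)
    (h3 : J ≤ IC * J) : ∃ c : C, c ∈ IC ∧ ∀ n ∈ J, c * n = n := by
  have hJfg : J.FG := IsNoetherian.noetherian J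
  obtain ⟨r, hr1, hr2⟩ := Submodule.exists_sub_one_mem_and_smul_eq_zero_of_fg_of_le_smul IC J hJfg
    (by rw [Ideal.smul_eq_mul]; exact h3)
  refine ⟨1 - r, ?_, ?_⟩
  · have h := IC.neg_mem hr1
    rwa [neg_sub] at h
  · intro n hn
    have h := hr2 n hn
    rw [smul_eq_mul] at h
    rw [sub_mul, one_mul, h, sub_zero]

theorem idem_aux {C : Type u} [CommRing C] [IsNoetherianRing C] (J : Ideal C)
    (h10 : J ≤ J * J) : ∃ e : C, IsIdempotentElem e ∧ J = Ideal.span {e} := by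
  have hJfg : J.FG := IsNoetherian.noetherian J
  have hJidem : IsIdempotentElem J := le_antisymm Ideal.mul_le_right h10
  exact (Ideal.isIdempotentElem_iff_of_fg J hJfg).1 hJidem

set_option maxHeartbeats 400000 in
theorem surj_aux (hB : IsIsotrivial A B)
    (u : C →ₐc[A] B)
    (hsurj0 : ∀ b : B, ∃ c : C, u c - b ∈ I • (⊤ : Submodule A B)) :
    Function.Surjective u := by
  obtain ⟨S, _, _, hEt, hFin, hFF, M, _, ⟨ε⟩⟩ := hB
  haveI := hFin
  haveI := hFF
  have hIjac : I ≤ Ideal.jacobson ⊥ := IsAdicComplete.le_jacobson_bot I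
  have hJac : I.map (algebraMap A S) ≤ Ideal.jacobson ⊥ := map_le_jacobson_bot I hIjac
  exact u_surjective u ε (uHat_surjective I u ε hJac hsurj0)

set_option maxHeartbeats 400000 in
theorem sq_aux (hB : IsIsotrivial A B)
    (u : C →ₐc[A] B) (husurj : Function.Surjective u)
    (c : C) (hcI : c ∈ Ideal.map (algebraMap A C) I)
    (hcJ : ∀ n ∈ RingHom.ker u, c * n = n) :
    RingHom.ker u ≤ RingHom.ker u * RingHom.ker u := by
  obtain ⟨S, _, _, hEt, hFin, hFF, M, _, ⟨ε⟩⟩ := hB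
  haveI := hFin
  haveI := hFF
  have hIjac : I ≤ Ideal.jacobson ⊥ := IsAdicComplete.le_jacobson_bot I
  have hJac : I.map (algebraMap A S) ≤ Ideal.jacobson ⊥ := map_le_jacobson_bot I hIjac
  exact ker_le_sq_base I u ε hJac husurj c hcI hcJ

set_option maxHeartbeats 400000 in
/-- the kernel of a lift of an isomorphism of reductions is generated by an idempotent -/
theorem lift_facts (hft : Algebra.FiniteType A C) (hB : IsIsotrivial A B)
    (u : C →ₐc[A] B)
    (hsurj0 : ∀ b : B, ∃ c : C, u c - b ∈ I • (⊤ : Submodule A B))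
    (hinj0 : ∀ c : C, u c = 0 → (1 : A ⧸ I) ⊗ₜ[A] c = 0) :
    Function.Surjective u ∧ ∃ e : C, IsIdempotentElem e ∧ e ∈ Ideal.map (algebraMap A C) I ∧
      RingHom.ker u = Ideal.span {e} := by
  have hBmt : IsMultType A B := isMultType_of_isIsotrivial B hB
  haveI hBflat : Module.Flat A B := flat_of_isMultType hBmt
  have husurj : Function.Surjective u := surj_aux I hB u hsurj0
  refine ⟨husurj, ?_⟩
  have h3 := ker_le_mul I u husurj hinj0
  haveI : IsNoetherianRing C := Algebra.FiniteType.isNoetherianRing A C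
  obtain ⟨c, hcI, hcJ⟩ := nak_aux _ _ h3
  have h10 := sq_aux I hB u husurj c hcI hcJ
  obtain ⟨e, he, hJe⟩ := idem_aux _ h10
  have heJ : e ∈ RingHom.ker u := by
    rw [hJe]
    exact Ideal.mem_span_singleton_self e
  have hle : Ideal.map (algebraMap A C) I * RingHom.ker u ≤ Ideal.map (algebraMap A C) I :=
    Ideal.mul_le_left
  have heI : e ∈ Ideal.map (algebraMap A C) I := hle (h3 heJ)
  exact ⟨e, he, heI, hJe⟩

theorem open_closed_of_lift (hft : Algebra.FiniteType A C) (hB : IsIsotrivial A B)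
    (u : C →ₐc[A] B)
    (hsurj0 : ∀ b : B, ∃ c : C, u c - b ∈ I • (⊤ : Submodule A B))
    (hinj0 : ∀ c : C, u c = 0 → (1 : A ⧸ I) ⊗ₜ[A] c = 0) :
    ∃ e : C, IsIdempotentElem e ∧ e ∈ Ideal.map (algebraMap A C) I ∧
      ∃ _ : (Ideal.span {e}).IsHopfIdeal A, IsIsotrivial A (C ⧸ Ideal.span {e}) := by
  obtain ⟨husurj, e, he, heI, hker⟩ := lift_facts I hft hB u hsurj0 hinj0
  have hJmem' : ∀ x, x ∈ Ideal.span {e} ↔ u x = 0 := fun x => by
    rw [← hker, RingHom.mem_ker]
  obtain ⟨hH, hiso⟩ := exists_isotrivial_quot u husurj (Ideal.span {e}) hJmem' hB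
  exact ⟨e, he, heI, hH, hiso⟩

/-- existence of a lift `u` of an isomorphism on reductions -/
theorem exists_lift (A : Type u) [CommRing A] [IsNoetherianRing A] (I : Ideal A)
    [IsAdicComplete I A]
    (C : Type u) [CommRing C] [HopfAlgebra A C]
    (hfl : ∀ (q : Ideal C) [q.IsPrime], Ideal.map (algebraMap A C) I ≤ q →
      Module.Flat A (Localization.AtPrime q))
    (h0 : IsIsotrivial (A ⧸ I) ((A ⧸ I) ⊗[A] C)) :
    ∃ (B : Type u) (_ : CommRing B) (_ : HopfAlgebra A B), IsIsotrivial A B ∧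
      ∃ u : C →ₐc[A] B, (∀ b : B, ∃ c : C, u c - b ∈ I • (⊤ : Submodule A B)) ∧
        (∀ c : C, u c = 0 → (1 : A ⧸ I) ⊗ₜ[A] c = 0) := by
  obtain ⟨B, _, _, hB, ⟨e₁⟩⟩ := isotrivial_lifts A I ((A ⧸ I) ⊗[A] C) h0
  have h0q := isQuasiIsotrivial_of_isIsotrivial _ h0
  obtain ⟨-, hex⟩ := reduction_bijective_adic A I B hB C hfl h0q
  obtain ⟨u, hu⟩ := hex e₁.symm.toBialgHom
  have hu' : ∀ c, e₁.symm ((1 : A ⧸ I) ⊗ₜ[A] c) = (1 : A ⧸ I) ⊗ₜ[A] u c := hu
  refine ⟨B, inferInstance, inferInstance, hB, u, ?_, ?_⟩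
  · intro b
    obtain ⟨c, hc⟩ := Groth.Agent.S2970.exists_tmul_eq I (e₁ ((1 : A ⧸ I) ⊗ₜ[A] b))
    refine ⟨c, ?_⟩
    have h1 : (1 : A ⧸ I) ⊗ₜ[A] (u c - b) = 0 := by
      rw [TensorProduct.tmul_sub, ← hu', hc, e₁.symm_apply_apply, sub_self]
    have h2 := mem_smul_top_of_one_tmul_eq_zero (k := A) (K := A ⧸ I)
      Ideal.Quotient.mk_surjective h1
    rwa [Ideal.Quotient.algebraMap_eq, Ideal.mk_ker] at h2
  · intro c hc
    have h1 := hu' c
    rw [hc, TensorProduct.tmul_zero] at h1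
    exact (EmbeddingLike.map_eq_zero_iff (f := e₁.symm)).1 h1

/-- S5285 -/
theorem open_closed (A : Type u) [CommRing A] [IsNoetherianRing A] (I : Ideal A)
    [IsAdicComplete I A]
    (C : Type u) [CommRing C] [HopfAlgebra A C] (hft : Algebra.FiniteType A C)
    (hfl : ∀ (q : Ideal C) [q.IsPrime], Ideal.map (algebraMap A C) I ≤ q →
      Module.Flat A (Localization.AtPrime q))
    (h0 : IsIsotrivial (A ⧸ I) ((A ⧸ I) ⊗[A] C)) :
    ∃ e : C, IsIdempotentElem e ∧ e ∈ Ideal.map (algebraMap A C) I ∧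
      ∃ _ : (Ideal.span {e}).IsHopfIdeal A, IsIsotrivial A (C ⧸ Ideal.span {e}) := by
  obtain ⟨B, _, _, hB, u, h1, h2⟩ := exists_lift A I C hfl h0
  exact open_closed_of_lift I hft hB u h1 h2

end Main

end Groth.Agent.Lib.Helper27.HopfOpen
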