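import Mathlib
import Groth.Agent.Lib.Helper27.HopfOpenC

/-! Connected fibres: the open-closed multiplicative subgroup is everything (helper27). -/

set_option autoImplicit false
set_option linter.unusedSectionVars false
set_option linter.unusedVariables false
open TensorProduct SGA3b

namespace Groth.Agent.Lib.Helper27.HopfOpen

universe u

section Conn

variable {A : Type u} [CommRing A] {C : Type u} [CommRing C] [Bialgebra A C]

/-- an idempotent killed by the counit vanishes when all fibres are connected -/
theorem idem_eq_zero_of_connected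
    (hconn : ∀ (p : Ideal A) [p.IsPrime], ConnectedSpace (PrimeSpectrum (p.ResidueField ⊗[A] C)))
    (e : C) (he : IsIdempotentElem e) (hce : Coalgebra.counit (R := A) e = 0) : e = 0 := by
  apply he.eq_zero_of_isNilpotent
  rw [← mem_nilradical, nilradical_eq_sInf, Ideal.mem_sInf]
  intro q hq
  haveI : q.IsPrime := hq
  obtain ⟨p, hp⟩ : ∃ p : Ideal A, p = q.comap (algebraMap A C) := ⟨_, rfl⟩
  haveI : p.IsPrime := by rw [hp]; exact Ideal.comap_isPrime _ _
  haveI := hconn p
  obtain ⟨e', he'def⟩ : ∃ e' : p.ResidueField ⊗[A] C, e' = (1 : p.ResidueField) ⊗ₜ[A] e :=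
    ⟨_, rfl⟩
  have he' : IsIdempotentElem e' := by
    show e' * e' = e'
    rw [he'def, Algebra.TensorProduct.tmul_mul_tmul, one_mul, he.eq]
  have hclopen : IsClopen (PrimeSpectrum.basicOpen e' : Set (PrimeSpectrum (p.ResidueField ⊗[A] C))) :=
    PrimeSpectrum.isClopen_basicOpen_of_mul_add e' (1 - e')
      (by rw [mul_sub, mul_one, he'.eq, sub_self]) (by ring)
  -- the counit point
  let χ : (p.ResidueField ⊗[A] C) →ₐ[A] p.ResidueField :=
    Algebra.TensorProduct.productMap (AlgHom.id A p.ResidueField)
      ((Algebra.ofId A p.ResidueField).comp (Bialgebra.counitAlgHom A C))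
  have hχ : χ e' = 0 := by
    rw [he'def]
    show Algebra.TensorProduct.productMap (AlgHom.id A p.ResidueField)
      ((Algebra.ofId A p.ResidueField).comp (Bialgebra.counitAlgHom A C))
      ((1 : p.ResidueField) ⊗ₜ[A] e) = 0
    rw [Algebra.TensorProduct.productMap_apply_tmul]
    show (1 : p.ResidueField) * algebraMap A p.ResidueField (Coalgebra.counit (R := A) e) = 0
    rw [hce, map_zero, mul_zero]
  rcases isClopen_iff.1 hclopen with h | h
  · -- nilpotent
    have hnil : IsNilpotent e' := by
      rw [← mem_nilradical, nilradical_eq_sInf, Ideal.mem_sInf]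
      intro x hx
      by_contra hne
      have hmem : (⟨x, hx⟩ : PrimeSpectrum (p.ResidueField ⊗[A] C)) ∈
          (PrimeSpectrum.basicOpen e' : Set (PrimeSpectrum (p.ResidueField ⊗[A] C))) := hne
      rw [h] at hmem
      exact hmem
    letI : Algebra A q.ResidueField :=
      ((algebraMap C q.ResidueField).comp (algebraMap A C)).toAlgebra
    let f : p.ResidueField →ₐ[A] q.ResidueField :=
      { Ideal.ResidueField.map p q (algebraMap A C) hp with
        commutes' := fun r => Ideal.ResidueField.map_algebraMap p q (algebraMap A C) hp r }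
    let g : C →ₐ[A] q.ResidueField :=
      { algebraMap C q.ResidueField with commutes' := fun r => rfl }
    let φ : (p.ResidueField ⊗[A] C) →ₐ[A] q.ResidueField := Algebra.TensorProduct.productMap f g
    have hφ : φ e' = algebraMap C q.ResidueField e := by
      rw [he'def]
      show Algebra.TensorProduct.productMap f g ((1 : p.ResidueField) ⊗ₜ[A] e) = _
      rw [Algebra.TensorProduct.productMap_apply_tmul, map_one, one_mul]
      rfl
    have h2 : IsNilpotent (φ e') := hnil.map φ
    rw [hφ] at h2
    exact Ideal.algebraMap_residueField_eq_zero.1 h2.eq_zero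
  · exfalso
    have hmem : (⟨RingHom.ker χ, RingHom.ker_isPrime χ⟩ : PrimeSpectrum (p.ResidueField ⊗[A] C)) ∈
        (PrimeSpectrum.basicOpen e' : Set (PrimeSpectrum (p.ResidueField ⊗[A] C))) := by
      rw [h]
      exact Set.mem_univ _
    exact hmem (RingHom.mem_ker.2 hχ)

end Conn

section Main

open Groth.Agent.Lib.Helper27.HopfDesc

/-- S5251 -/
theorem isotrivial_of_connected (A : Type u) [CommRing A] [IsNoetherianRing A] (I : Ideal A)
    [IsAdicComplete I A]
    (C : Type u) [CommRing C] [HopfAlgebra A C] [Module.Flat A C]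
    (hft : Algebra.FiniteType A C)
    (hconn : ∀ (p : Ideal A) [p.IsPrime],
      ConnectedSpace (PrimeSpectrum (p.ResidueField ⊗[A] C)))
    (h0 : IsIsotrivial (A ⧸ I) ((A ⧸ I) ⊗[A] C)) :
    IsIsotrivial A C := by
  have hfl : ∀ (q : Ideal C) [q.IsPrime], Ideal.map (algebraMap A C) I ≤ q →
      Module.Flat A (Localization.AtPrime q) := fun q _ _ => inferInstance
  obtain ⟨B, _, _, hB, u, h1, h2⟩ := exists_lift A I C hfl h0
  obtain ⟨husurj, e, he, heI, hker⟩ := lift_facts I hft hB u h1 h2
  have hue : u e = 0 := by
    rw [← RingHom.mem_ker, hker]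
    exact Ideal.mem_span_singleton_self e
  have hce : Coalgebra.counit (R := A) e = 0 := by
    have h := CoalgHomClass.counit_comp_apply u e
    rw [← h, hue, map_zero]
  have he0 : e = 0 := idem_eq_zero_of_connected hconn e he hce
  have hinj : Function.Injective u := by
    rw [injective_iff_map_eq_zero]
    intro x hx
    have hx' : x ∈ RingHom.ker u := RingHom.mem_ker.2 hx
    rw [hker, he0, Ideal.span_singleton_eq_bot.2 rfl] at hx'
    exact hx'
  exact isIsotrivial_of_bialgEquiv (BialgEquiv.ofBijective u ⟨hinj, husurj⟩) hB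

end Main

end Groth.Agent.Lib.Helper27.HopfOpen
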