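import Mathlib
import Groth.Agent.Lib.Helper27.HopfOpenD

/-! Torus version: the type of an isotrivial group is read off on the reduction (helper27). -/

set_option autoImplicit false
set_option linter.unusedSectionVars false
set_option linter.unusedVariables false
open TensorProduct SGA3b

namespace Groth.Agent.Lib.Helper27.HopfOpen

open Groth.Agent.Lib.Helper17.MultLift Groth.Agent.Lib.Helper17.MultBC

universe u

/-- `ℤ^n` lifted to universe `u` -/
abbrev NU (n : ℕ) : Type u := ULift.{u} (Multiplicative (Fin n → ℤ))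

theorem isTorus_of_split {A : Type u} [CommRing A] {C : Type u} [CommRing C] [HopfAlgebra A C]
    (S : Type u) [CommRing S] [Algebra A S] [Module.FaithfullyFlat A S] (n : ℕ)
    (e : S ⊗[A] C ≃ₐc[S] MonoidAlgebra S (NU.{u} n)) : IsTorus A C := by
  refine ⟨{1}, by rw [Ideal.span_singleton_one], ?_⟩
  rintro f (rfl : f = 1)
  refine ⟨Localization.Away (1 : A) ⊗[A] S, inferInstance, inferInstance, inferInstance, n, ?_⟩
  letI iP : Algebra S (Localization.Away (1 : A) ⊗[A] S) := Algebra.TensorProduct.rightAlgebra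
  haveI : IsScalarTower A S (Localization.Away (1 : A) ⊗[A] S) :=
    IsScalarTower.of_algebraMap_eq (fun x => by
      rw [Algebra.TensorProduct.algebraMap_apply, Algebra.TensorProduct.right_algebraMap_apply,
        Algebra.algebraMap_eq_smul_one, Algebra.algebraMap_eq_smul_one, TensorProduct.smul_tmul])
  obtain ⟨c4⟩ := nonempty_bialgEquiv_of_tower (k := A) (P := S)
    (S' := Localization.Away (1 : A) ⊗[A] S) (C := C) e
  exact ⟨((cancelBaseChangeBialg A (Localization.Away (1 : A))
    (Localization.Away (1 : A) ⊗[A] S) C).trans c4).trans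
    (MonoidAlgebra.domCongrBialgEquiv _ _ MulEquiv.ulift)⟩

theorem nonempty_mulEquiv_of_bialgEquiv {Ω : Type*} [CommRing Ω] [IsDomain Ω] {M N : Type*}
    [CommGroup M] [CommGroup N]
    (e : MonoidAlgebra Ω M ≃ₐc[Ω] MonoidAlgebra Ω N) : Nonempty (M ≃* N) := by
  have h1 : (MonoidAlgebra.mapDomainOfBialgHom e.symm.toBialgHom).comp
      (MonoidAlgebra.mapDomainOfBialgHom e.toBialgHom) = MonoidHom.id M := by
    rw [← MonoidAlgebra.mapDomainOfBialgHom_comp]
    have h : (e.symm.toBialgHom).comp e.toBialgHom = BialgHom.id Ω _ := by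
      apply BialgHom.ext
      intro x
      exact e.symm_apply_apply x
    rw [h, MonoidAlgebra.mapDomainOfBialgHom_id]
  have h2 : (MonoidAlgebra.mapDomainOfBialgHom e.toBialgHom).comp
      (MonoidAlgebra.mapDomainOfBialgHom e.symm.toBialgHom) = MonoidHom.id N := by
    rw [← MonoidAlgebra.mapDomainOfBialgHom_comp]
    have h : (e.toBialgHom).comp e.symm.toBialgHom = BialgHom.id Ω _ := by
      apply BialgHom.ext
      intro x
      exact e.apply_symm_apply x
    rw [h, MonoidAlgebra.mapDomainOfBialgHom_id]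
  exact ⟨{ toFun := MonoidAlgebra.mapDomainOfBialgHom e.toBialgHom
           invFun := MonoidAlgebra.mapDomainOfBialgHom e.symm.toBialgHom
           left_inv := fun m => DFunLike.congr_fun h1 m
           right_inv := fun n => DFunLike.congr_fun h2 n
           map_mul' := map_mul _ }⟩

theorem exists_torus_point (K : Type u) [CommRing K] [Nontrivial K] (X : Type u) [CommRing X]
    [HopfAlgebra K X] (hT : IsTorus K X) :
    ∃ (R' : Type u) (_ : CommRing R') (_ : Algebra K R'), Nontrivial R' ∧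
      ∃ n : ℕ, Nonempty (R' ⊗[K] X ≃ₐc[R'] MonoidAlgebra R' (NU.{u} n)) := by
  obtain ⟨s, hs, h⟩ := hT
  obtain ⟨𝔫, h𝔫⟩ := Ideal.exists_maximal K
  have hex : ∃ f ∈ s, f ∉ 𝔫 := by
    by_contra hcon
    push Not at hcon
    have hle : Ideal.span s ≤ 𝔫 := Ideal.span_le.2 hcon
    rw [hs] at hle
    exact h𝔫.ne_top (top_le_iff.1 hle)
  obtain ⟨f, hfs, hf𝔫⟩ := hex
  obtain ⟨R', _, _, hff, n, ⟨e⟩⟩ := h f hfs
  haveI := hff
  haveI : Nontrivial (Localization.Away f) := by
    have hu : IsUnit (Ideal.Quotient.mk 𝔫 f) := by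
      letI := Ideal.Quotient.field 𝔫
      exact isUnit_iff_ne_zero.2 (fun h0 => hf𝔫 (Ideal.Quotient.eq_zero_iff_mem.1 h0))
    haveI : Nontrivial (K ⧸ 𝔫) := Ideal.Quotient.nontrivial_iff.2 h𝔫.ne_top
    exact (IsLocalization.Away.lift (S := Localization.Away f) f hu).domain_nontrivial
  haveI : Nontrivial R' := by
    haveI : Nontrivial (R' ⊗[Localization.Away f] Localization.Away f) := inferInstance
    exact (TensorProduct.rid (Localization.Away f) R').symm.toEquiv.nontrivial
  letI : Algebra K R' :=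
    ((algebraMap (Localization.Away f) R').comp (algebraMap K (Localization.Away f))).toAlgebra
  haveI : IsScalarTower K (Localization.Away f) R' := IsScalarTower.of_algebraMap_eq (fun _ => rfl)
  refine ⟨R', inferInstance, inferInstance, inferInstance, n, ⟨?_⟩⟩
  exact ((cancelBaseChangeBialg K (Localization.Away f) R' X).symm.trans e).trans
    (MonoidAlgebra.domCongrBialgEquiv _ _ MulEquiv.ulift.symm)

theorem isTorus_of_reduction {A : Type u} [CommRing A] (I : Ideal A)
    (hI : I ≤ Ideal.jacobson ⊥) {C : Type u} [CommRing C] [HopfAlgebra A C]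
    (hiso : IsIsotrivial A C) (hT0 : IsTorus (A ⧸ I) ((A ⧸ I) ⊗[A] C)) : IsTorus A C := by
  rcases subsingleton_or_nontrivial A with hA | hA
  · refine ⟨∅, ?_, fun f hf => absurd hf (Set.notMem_empty f)⟩
    rw [Ideal.eq_top_iff_one, Subsingleton.elim (1 : A) 0]
    exact Ideal.zero_mem _
  · have hIne : I ≠ ⊤ := by
      intro hItop
      rw [hItop, top_le_iff, Ideal.jacobson_eq_top_iff] at hI
      exact bot_ne_top hI
    haveI : Nontrivial (A ⧸ I) := Ideal.Quotient.nontrivial_iff.2 hIne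
    obtain ⟨R', _, _, hR'nt, n, ⟨e₀⟩⟩ := exists_torus_point (A ⧸ I) ((A ⧸ I) ⊗[A] C) hT0
    letI : Algebra A R' := ((algebraMap (A ⧸ I) R').comp (algebraMap A (A ⧸ I))).toAlgebra
    haveI : IsScalarTower A (A ⧸ I) R' := IsScalarTower.of_algebraMap_eq (fun _ => rfl)
    obtain ⟨e', -⟩ : ∃ e' : R' ⊗[A] C ≃ₐc[R'] MonoidAlgebra R' (NU.{u} n), True :=
      ⟨(cancelBaseChangeBialg A (A ⧸ I) R' C).symm.trans e₀, trivial⟩
    obtain ⟨S, _, _, hEt, hFin, hFF, M, _, ⟨ε⟩⟩ := hiso
    haveI := hFF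
    letI : Algebra S (R' ⊗[A] S) := Algebra.TensorProduct.rightAlgebra
    haveI : IsScalarTower A S (R' ⊗[A] S) :=
      IsScalarTower.of_algebraMap_eq (fun x => by
        rw [Algebra.TensorProduct.algebraMap_apply, Algebra.TensorProduct.right_algebraMap_apply,
          Algebra.algebraMap_eq_smul_one, Algebra.algebraMap_eq_smul_one, TensorProduct.smul_tmul])
    haveI : Nontrivial (R' ⊗[A] S) := inferInstance
    obtain ⟨𝔐, h𝔐⟩ := Ideal.exists_maximal (R' ⊗[A] S)
    haveI := h𝔐.isPrime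
    obtain ⟨c1⟩ := nonempty_bialgEquiv_of_tower (k := A) (P := S)
      (S' := (R' ⊗[A] S) ⧸ 𝔐) (C := C) ε
    obtain ⟨c2⟩ := nonempty_bialgEquiv_of_tower (k := A) (P := R')
      (S' := (R' ⊗[A] S) ⧸ 𝔐) (C := C) e'
    obtain ⟨φ⟩ := nonempty_mulEquiv_of_bialgEquiv (c1.symm.trans c2)
    exact isTorus_of_split S n (ε.trans (MonoidAlgebra.domCongrBialgEquiv S S φ))

/-- S5277 -/
theorem isotrivial_torus_of_connected (A : Type u) [CommRing A] [IsNoetherianRing A]
    (I : Ideal A) [IsAdicComplete I A]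
    (C : Type u) [CommRing C] [HopfAlgebra A C] [Module.Flat A C]
    (hft : Algebra.FiniteType A C)
    (hconn : ∀ (p : Ideal A) [p.IsPrime],
      ConnectedSpace (PrimeSpectrum (p.ResidueField ⊗[A] C)))
    (h0 : IsIsotrivial (A ⧸ I) ((A ⧸ I) ⊗[A] C) ∧ IsTorus (A ⧸ I) ((A ⧸ I) ⊗[A] C)) :
    IsIsotrivial A C ∧ IsTorus A C := by
  have hiso := isotrivial_of_connected A I C hft hconn h0.1
  exact ⟨hiso, isTorus_of_reduction I (IsAdicComplete.le_jacobson_bot I) hiso h0.2⟩

end Groth.Agent.Lib.Helper27.HopfOpen
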