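import Groth.Agent.Lib.Helper28.RootCox
import Groth.Agent.Lib.Helper28.RootExist
import Mathlib.LinearAlgebra.RootSystem.Reduced
import Mathlib.LinearAlgebra.RootSystem.IsValuedIn
import Mathlib.LinearAlgebra.FreeModule.PID

/-! The integral form of a crystallographic root pairing on its coroot lattice (helper27):
a root pairing over `ℤ` with weight space the `ℤ`-span of the coroots, whose roots are the coroots
of `P`, with the same `reflectionPerm`.  This allows transporting helper28's root-datum library to
root pairings over an arbitrary domain of characteristic zero. -/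

set_option autoImplicit false

namespace Groth.Agent.Lib.Helper27.IntForm

open RootPairing Module

variable {ι R M N : Type*} [CommRing R] [IsDomain R] [CharZero R]
  [AddCommGroup M] [Module R M] [AddCommGroup N] [Module R N] (P : RootPairing ι R M N)

/-- the coroot lattice -/
abbrev QN : Submodule ℤ N := Submodule.span ℤ (Set.range P.coroot)

variable [P.IsCrystallographic]

lemma exists_int_pairing (i : ι) (y : N) (hy : y ∈ QN P) :
    ∃ z : ℤ, (z : R) = P.toLinearMap (P.root i) y := by
  induction hy using Submodule.span_induction with
  | mem y hy =>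
    obtain ⟨j, rfl⟩ := hy
    refine ⟨P.pairingIn ℤ i j, ?_⟩
    have := P.algebraMap_pairingIn ℤ i j
    rw [eq_intCast] at this
    exact this
  | zero => exact ⟨0, by simp⟩
  | add y y' _ _ hy hy' =>
    obtain ⟨z, hz⟩ := hy
    obtain ⟨z', hz'⟩ := hy'
    exact ⟨z + z', by rw [map_add, ← hz, ← hz']; push_cast; rfl⟩
  | smul a y _ hy =>
    obtain ⟨z, hz⟩ := hy
    refine ⟨a * z, ?_⟩
    rw [map_zsmul, ← hz]; push_cast; rw [zsmul_eq_mul]

/-- pairing with a root, as an integer valued functional on the coroot lattice -/
noncomputable def rootFun (i : ι) : QN P →ₗ[ℤ] ℤ where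
  toFun y := (exists_int_pairing P i y.1 y.2).choose
  map_add' y y' := by
    apply Int.cast_injective (α := R)
    rw [(exists_int_pairing P i _ (y + y').2).choose_spec]
    push_cast
    rw [(exists_int_pairing P i _ y.2).choose_spec, (exists_int_pairing P i _ y'.2).choose_spec]
    simp
  map_smul' a y := by
    apply Int.cast_injective (α := R)
    rw [(exists_int_pairing P i _ (a • y).2).choose_spec]
    simp only [RingHom.id_apply, smul_eq_mul]
    push_cast
    rw [(exists_int_pairing P i _ y.2).choose_spec]
    simp [zsmul_eq_mul]

lemma cast_rootFun (i : ι) (y : QN P) :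
    ((rootFun P i y : ℤ) : R) = P.toLinearMap (P.root i) (y : N) :=
  (exists_int_pairing P i y.1 y.2).choose_spec

/-- coroots as elements of the coroot lattice -/
def corootZ (i : ι) : QN P := ⟨P.coroot i, Submodule.subset_span ⟨i, rfl⟩⟩

@[simp] lemma coe_corootZ (i : ι) : (corootZ P i : N) = P.coroot i := rfl

lemma rootFun_corootZ (i j : ι) : rootFun P i (corootZ P j) = P.pairingIn ℤ i j := by
  apply Int.cast_injective (α := R)
  rw [cast_rootFun, coe_corootZ]
  have := P.algebraMap_pairingIn ℤ i j
  rw [eq_intCast] at this
  rw [this]; rfl

section Form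

variable [Finite ι] [P.IsReduced]

lemma isReflexive_QN : IsReflexive ℤ (QN P) := by
  have hR : IsReflexive R N := .of_isPerfPair P.flip.toLinearMap
  have hN : IsAddTorsionFree N := by
    have : Module.IsTorsionFree R N := inferInstance
    exact IsAddTorsionFree.of_isTorsionFree R N
  have h1 : Module.Finite ℤ (QN P) :=
    Module.Finite.of_fg (Submodule.fg_span (Set.finite_range _))
  have h2 : Module.IsTorsionFree ℤ (QN P) := by
    rw [Module.isTorsionFree_int_iff_isAddTorsionFree]
    exact Function.Injective.isAddTorsionFree (QN P).subtype.toAddMonoidHom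
      Subtype.val_injective
  have h3 : Module.Free ℤ (QN P) := Module.free_of_finite_type_torsion_free'
  infer_instance

lemma rootFun_injective : Function.Injective (rootFun P) := by
  intro i j h
  have h1 : P.pairingIn ℤ i j = 2 := by
    rw [← rootFun_corootZ, h, rootFun_corootZ, P.pairingIn_same ℤ]
  have h2 : P.pairingIn ℤ j i = 2 := by
    rw [← rootFun_corootZ, ← h, rootFun_corootZ, P.pairingIn_same ℤ]
  have hRM : IsReflexive R M := .of_isPerfPair P.toLinearMap
  have hRN : IsReflexive R N := .of_isPerfPair P.flip.toLinearMap
  have hM : Module.IsTorsionFree R M := inferInstance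
  have hN : Module.IsTorsionFree R N := inferInstance
  apply (P.pairing_two_two_iff i j).mp
  constructor
  · rw [← P.algebraMap_pairingIn ℤ, h1]; simp
  · rw [← P.algebraMap_pairingIn ℤ, h2]; simp

lemma corootZ_injective : Function.Injective (corootZ P) := by
  intro i j h
  exact P.coroot.injective (congrArg Subtype.val h)

/-- the integral form: a root pairing over `ℤ` on the coroot lattice whose roots are the coroots
of `P`. -/
noncomputable def zForm : RootPairing ι ℤ (QN P) (Module.Dual ℤ (QN P)) :=
  haveI := isReflexive_QN P
  { toLinearMap := Module.Dual.eval ℤ (QN P)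
    isPerfPair_toLinearMap := inferInstance
    root := ⟨corootZ P, corootZ_injective P⟩
    coroot := ⟨rootFun P, rootFun_injective P⟩
    root_coroot_two := fun i => by
      change rootFun P i (corootZ P i) = 2
      rw [rootFun_corootZ, P.pairingIn_same ℤ]
    reflectionPerm := P.reflectionPerm
    reflectionPerm_root := fun i j => by
      change corootZ P j - rootFun P i (corootZ P j) • corootZ P i = corootZ P (P.reflectionPerm i j)
      apply Subtype.val_injective
      rw [rootFun_corootZ]
      simp only [Submodule.coe_sub, Submodule.coe_smul, coe_corootZ]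
      rw [← P.reflectionPerm_coroot i j, ← Int.cast_smul_eq_zsmul R]
      congr 2
      have := P.algebraMap_pairingIn ℤ i j
      rw [eq_intCast] at this
      exact this
    reflectionPerm_coroot := fun i j => by
      change rootFun P j - rootFun P j (corootZ P i) • rootFun P i = rootFun P (P.reflectionPerm i j)
      ext y
      apply Int.cast_injective (α := R)
      simp only [LinearMap.sub_apply, LinearMap.smul_apply, smul_eq_mul]
      push_cast
      rw [cast_rootFun, cast_rootFun, cast_rootFun, cast_rootFun, coe_corootZ,
        ← P.reflectionPerm_root i j]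
      simp only [map_sub, map_smul, LinearMap.sub_apply, LinearMap.smul_apply, smul_eq_mul] }

@[simp] lemma zForm_root (i : ι) : (zForm P).root i = corootZ P i := rfl
@[simp] lemma zForm_coroot (i : ι) : (zForm P).coroot i = rootFun P i := rfl
@[simp] lemma zForm_reflectionPerm (i : ι) : (zForm P).reflectionPerm i = P.reflectionPerm i := rfl

lemma isIndiv_zForm (k : ι) : RootD.IsIndiv (zForm P) k := by
  intro j hj
  have hRM : IsReflexive R M := .of_isPerfPair P.toLinearMap
  have hM : Module.IsTorsionFree R M := inferInstance
  have hRN : IsReflexive R N := .of_isPerfPair P.flip.toLinearMap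
  have hN : Module.IsTorsionFree R N := inferInstance
  have hN' : IsAddTorsionFree N := IsAddTorsionFree.of_isTorsionFree R N
  have h1 : (2 : ℕ) • P.flip.root j ∈ Set.range P.flip.root := by
    refine ⟨k, ?_⟩
    have := congrArg Subtype.val hj
    simp only [zForm_root, Submodule.coe_smul, coe_corootZ] at this
    change P.coroot k = (2 : ℕ) • P.coroot j
    rw [← this, ofNat_zsmul]
  exact P.flip.nsmul_notMem_range_root h1

open Groth.Agent.Lib.Helper28 in
/-- there is a set `Δ` of indices whose coroots are `ℤ`-linearly independent, such that every index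
is obtained from an element of `Δ` by successive reflections in elements of `Δ`. -/
theorem exists_simple_coroots :
    ∃ Δ : Set ι, LinearIndepOn ℤ P.coroot Δ ∧
      ∀ (p : ι → Prop), (∀ i ∈ Δ, p i) → (∀ i k, i ∈ Δ → p k → p (P.reflectionPerm i k)) →
        ∀ k, p k := by
  obtain ⟨Δ, hΔ⟩ := exists_isSimpleSys (zForm P)
  refine ⟨Δ, ?_, ?_⟩
  · have h := hΔ.linInd
    have h2 := h.map_injOn (QN P).subtype (Subtype.val_injective.injOn)
    exact h2
  · intro p hs hr k
    obtain ⟨g, hg, i, hi, rfl⟩ := exists_simple_conj hΔ (isIndiv_zForm P k)
    obtain ⟨l, hl, rfl⟩ := exists_word_of_mem_closure hg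
    have key : ∀ l : List ι, (∀ a ∈ l, a ∈ Δ) → p (wordProd (zForm P) l • i) := by
      intro l
      induction l with
      | nil => intro _; simpa using hs i hi
      | cons a l ih =>
        intro hl
        rw [wordProd_cons, mul_smul]
        exact hr a _ (hl a List.mem_cons_self)
          (ih (fun b hb => hl b (List.mem_cons_of_mem _ hb)))
    exact key l hl

end Form

end Groth.Agent.Lib.Helper27.IntForm
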