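import Mathlib

/-!
# Local dual bases of finite projective modules (helper27)

For a finite projective module `P` of rank `n` at a prime `p`, there are `s ∉ p`,
`e₁,…,eₙ ∈ P` and functionals `φ₁,…,φₙ` with `φᵢ(eⱼ) = s δᵢⱼ` and `s • x = ∑ φᵢ(x) eᵢ`.
-/

universe u v

namespace Groth.Agent.Lib.Helper27.JacHyp

/-- A finite family of elements each killed by an element of `S` has a common killer. -/
theorem exists_common_killer {R : Type u} [CommRing R] (S : Submonoid R) {K : Type*} [Finite K]
    (r : K → R) (h : ∀ k, ∃ w ∈ S, w * r k = 0) : ∃ w ∈ S, ∀ k, w * r k = 0 := by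
  classical
  cases nonempty_fintype K
  choose w hw hwr using h
  refine ⟨∏ k, w k, Submonoid.prod_mem _ (fun k _ => hw k), fun k => ?_⟩
  rw [← Finset.prod_erase_mul _ _ (Finset.mem_univ k), mul_assoc, hwr, mul_zero]

/-- An ideal membership can be checked locally at every prime. -/
theorem mem_of_forall_prime {R : Type u} [CommRing R] (I : Ideal R) (a : R)
    (h : ∀ p : PrimeSpectrum R, ∃ t, t ∉ p.asIdeal ∧ t * a ∈ I) : a ∈ I := by
  let K : Ideal R := Submodule.comap (LinearMap.toSpanSingleton R R a) I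
  have hK : ∀ t, t ∈ K ↔ t * a ∈ I := fun t => by
    simp [K, Submodule.mem_comap, LinearMap.toSpanSingleton_apply]
  by_cases hK1 : K = ⊤
  · have : (1 : R) ∈ K := hK1 ▸ Submodule.mem_top
    simpa using (hK 1).1 this
  · obtain ⟨m, hm, hKm⟩ := Ideal.exists_le_maximal K hK1
    obtain ⟨t, ht, hta⟩ := h ⟨m, hm.isPrime⟩
    exact absurd (hKm ((hK t).2 hta)) ht

theorem exists_local_dual_basis {R : Type u} [CommRing R] {P : Type v} [AddCommGroup P]
    [Module R P] [Module.Finite R P] [Module.Projective R P] (p : PrimeSpectrum R) (n : ℕ)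
    (hn : Module.rankAtStalk P p = n) :
    ∃ (s : R) (e : Fin n → P) (φ : Fin n → (P →ₗ[R] R)), s ∉ p.asIdeal ∧
      (∀ i j, φ i (e j) = if i = j then s else 0) ∧ ∀ x, s • x = ∑ i, φ i x • e i := by
  classical
  have hFP : Module.FinitePresentation R P := Module.finitePresentation_of_projective R P
  let S := p.asIdeal.primeCompl
  let Rp := Localization.AtPrime p.asIdeal
  let Pp := LocalizedModule S P
  let mk : P →ₗ[R] Pp := LocalizedModule.mkLinearMap S P
  have hfree : Module.Free Rp Pp := Module.free_of_flat_of_isLocalRing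
  have hfin : Module.finrank Rp Pp = n := hn
  let b₀ : Module.Basis (Fin n) Rp Pp := Module.finBasisOfFinrankEq Rp Pp hfin
  have hsurj := fun i => IsLocalizedModule.surj S mk (b₀ i)
  choose es hes using hsurj
  let e : Fin n → P := fun i => (es i).1
  have hunit : ∀ i, IsUnit (algebraMap R Rp ((es i).2 : R)) :=
    fun i => IsLocalization.map_units Rp (es i).2
  let b : Module.Basis (Fin n) Rp Pp := b₀.isUnitSMul hunit
  have hb : ∀ i, b i = mk (e i) := by
    intro i
    rw [Module.Basis.isUnitSMul_apply, ← hes i, algebraMap_smul]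
    rfl
  -- coordinate functionals
  let g : Fin n → (P →ₗ[R] Rp) := fun i => ((b.coord i).restrictScalars R) ∘ₗ mk
  have hlift := fun i => Module.FinitePresentation.exists_lift_of_isLocalizedModule S
    (Algebra.linearMap R Rp) (g i)
  choose ψ t hψ using hlift
  have hψ' : ∀ i x, algebraMap R Rp (ψ i x) = algebraMap R Rp (t i : R) * b.coord i (mk x) := by
    intro i x
    have := LinearMap.congr_fun (hψ i) x
    simpa [g, Submonoid.smul_def, Algebra.smul_def] using this
  -- uniformize the denominators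
  let T : R := ∏ i, (t i : R)
  have hT : T ∈ S := Submonoid.prod_mem _ (fun i _ => (t i).2)
  let ψ' : Fin n → (P →ₗ[R] R) := fun i => (∏ j ∈ Finset.univ.erase i, (t j : R)) • ψ i
  have hψ'' : ∀ i x, algebraMap R Rp (ψ' i x) = algebraMap R Rp T * b.coord i (mk x) := by
    intro i x
    simp only [ψ', LinearMap.smul_apply, smul_eq_mul, map_mul, hψ']
    rw [← mul_assoc, ← map_mul, Finset.prod_erase_mul _ _ (Finset.mem_univ i)]
  -- the difference map
  let Δ : P →ₗ[R] P := T • LinearMap.id - ∑ i, (ψ' i).smulRight (e i)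
  have hΔ : mk ∘ₗ Δ = mk ∘ₗ (0 : P →ₗ[R] P) := by
    ext x
    simp only [LinearMap.comp_apply, LinearMap.zero_apply, map_zero, Δ, LinearMap.sub_apply,
      LinearMap.smul_apply, LinearMap.id_apply, LinearMap.sum_apply, LinearMap.smulRight_apply,
      map_sub, map_sum, map_smul]
    rw [sub_eq_zero]
    conv_lhs => rw [← b.sum_repr (mk x), Finset.smul_sum]
    refine Finset.sum_congr rfl fun i _ => ?_
    rw [← hb i, ← algebraMap_smul Rp (ψ' i x), hψ'', ← algebraMap_smul Rp T, smul_smul]
    rfl
  obtain ⟨u, hu⟩ := Module.Finite.exists_smul_of_comp_eq_of_isLocalizedModule S mk Δ 0 hΔ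
  -- first adjustment
  let s' : R := (u : R) * T
  have hs' : s' ∈ S := S.mul_mem u.2 hT
  let φ' : Fin n → (P →ₗ[R] R) := fun i => (u : R) • ψ' i
  have hexp : ∀ x, s' • x = ∑ i, φ' i x • e i := by
    intro x
    have := LinearMap.congr_fun hu x
    simp only [LinearMap.smul_apply, LinearMap.zero_apply, smul_zero, Δ, LinearMap.sub_apply,
      LinearMap.id_apply, LinearMap.sum_apply, LinearMap.smulRight_apply, Submonoid.smul_def,
      smul_sub, sub_eq_zero] at this
    simp only [s', φ', mul_smul, LinearMap.smul_apply, smul_eq_mul]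
    rw [this, Finset.smul_sum]
  have hφ'e : ∀ ij : Fin n × Fin n, ∃ w ∈ S,
      w * (φ' ij.1 (e ij.2) - if ij.1 = ij.2 then s' else 0) = 0 := by
    rintro ⟨i, j⟩
    have h1 : algebraMap R Rp (φ' i (e j)) = algebraMap R Rp (if i = j then s' else 0) := by
      simp only [φ', LinearMap.smul_apply, smul_eq_mul, map_mul, hψ'', ← hb j, s']
      rw [Module.Basis.coord_apply, Module.Basis.repr_self, Finsupp.single_apply]
      split_ifs with h1 h2 h2
      · simp
      · exact absurd h1.symm h2
      · exact absurd h2.symm h1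
      · simp
    obtain ⟨w, hw⟩ := (IsLocalization.eq_iff_exists S Rp).1 h1
    exact ⟨w, w.2, by rw [mul_sub, hw, sub_self]⟩
  obtain ⟨w, hwS, hw⟩ := exists_common_killer S _ hφ'e
  refine ⟨w * s', e, fun i => w • φ' i, S.mul_mem hwS hs', fun i j => ?_, fun x => ?_⟩
  · have := hw (i, j)
    simp only [mul_sub, sub_eq_zero] at this
    simp only [LinearMap.smul_apply, smul_eq_mul, this]
    split_ifs <;> simp
  · simp only [mul_smul, hexp x, LinearMap.smul_apply, smul_eq_mul, Finset.smul_sum]

end Groth.Agent.Lib.Helper27.JacHyp
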