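import Groth.Agent.Lib.Helper27.JacHypA

/-!
# Annihilator of the top exterior power of `P ⧸ R v` (helper27)

For `P` finite projective of constant rank `n` and `v ∈ P`, the annihilator of
`⋀ⁿ (P ⧸ R v)` is the content ideal `{ψ v | ψ ∈ P^∨}`.
-/

universe u v

namespace Groth.Agent.Lib.Helper27.JacHyp

open exteriorPower

variable {R : Type u} [CommRing R] {P : Type v} [AddCommGroup P] [Module R P]

/-- The content ideal of `v`: values of all functionals at `v`. -/
def content (v : P) : Ideal R :=
  LinearMap.range (LinearMap.applyₗ v : (P →ₗ[R] R) →ₗ[R] R)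

lemma mem_content {v : P} {a : R} : a ∈ content v ↔ ∃ ψ : P →ₗ[R] R, ψ v = a := by
  simp [content, LinearMap.mem_range]

lemma smul_eq_zero_of_forall_ιMulti {M : Type*} [AddCommGroup M] [Module R M] (n : ℕ) (c : R)
    (h : ∀ z : Fin n → M, c • ιMulti R n z = 0) (y : ⋀[R]^n M) : c • y = 0 := by
  have hy : y ∈ Submodule.span R (Set.range (ιMulti R n)) := by
    rw [ιMulti_span]; trivial
  induction hy using Submodule.span_induction with
  | mem x hx => obtain ⟨z, rfl⟩ := hx; exact h z
  | zero => simp
  | add x y _ _ hx hy => rw [smul_add, hx, hy, add_zero]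
  | smul a x _ hx => rw [smul_comm, hx, smul_zero]

section core

variable {n : ℕ} (s : R) (e : Fin n → P) (φ : Fin n → (P →ₗ[R] R))
  (hexp : ∀ x, s • x = ∑ i, φ i x • e i) (v : P)

include hexp in
lemma smul_ιMulti_eq_zero (i : Fin n) :
    φ i v • ιMulti R n (fun j => (Submodule.span R {v}).mkQ (e j)) = 0 := by
  classical
  set ē : Fin n → P ⧸ Submodule.span R {v} := fun j => (Submodule.span R {v}).mkQ (e j) with hē
  have hv0 : ∑ j, φ j v • ē j = 0 := by
    have h1 : (Submodule.span R {v}).mkQ (s • v) = 0 := by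
      rw [map_smul]
      have : (Submodule.span R {v}).mkQ v = 0 := by
        simpa using Submodule.mem_span_singleton_self v
      rw [this, smul_zero]
    rw [hexp v, map_sum] at h1
    simpa [hē] using h1
  have h0 : (ιMulti R n) (Function.update ē i (∑ j, φ j v • ē j)) = 0 := by
    rw [hv0, AlternatingMap.map_update_zero]
  rw [AlternatingMap.map_update_sum, Finset.sum_eq_single i] at h0
  · rwa [AlternatingMap.map_update_smul, Function.update_eq_self] at h0
  · intro j _ hji
    rw [AlternatingMap.map_update_smul,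
      AlternatingMap.map_eq_zero_of_eq _ _ (i := i) (j := j) ?_ hji.symm, smul_zero]
    simp [Function.update_of_ne hji]
  · simp

include hexp in
lemma smul_ιMulti_comp_eq_zero (ψ : P →ₗ[R] R) (r : Fin n → Fin n) :
    (s * ψ v) • ιMulti R n (fun j => (Submodule.span R {v}).mkQ (e (r j))) = 0 := by
  classical
  set ē : Fin n → P ⧸ Submodule.span R {v} := fun j => (Submodule.span R {v}).mkQ (e j) with hē
  have hbase : (s * ψ v) • ιMulti R n ē = 0 := by
    have : s * ψ v = ∑ i, φ i v * ψ (e i) := by
      rw [← smul_eq_mul, ← map_smul, hexp v, map_sum]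
      simp
    rw [this, Finset.sum_smul]
    refine Finset.sum_eq_zero fun i _ => ?_
    rw [mul_comm, mul_smul, smul_ιMulti_eq_zero s e φ hexp v i, smul_zero]
  by_cases hr : Function.Injective r
  · have hbij : Function.Bijective r := Finite.injective_iff_bijective.1 hr
    let σ : Equiv.Perm (Fin n) := Equiv.ofBijective r hbij
    have : (fun j => (Submodule.span R {v}).mkQ (e (r j))) = ē ∘ σ := rfl
    rw [this, AlternatingMap.map_perm, smul_comm, hbase, smul_zero]
  · rw [AlternatingMap.map_eq_zero_of_not_injective, smul_zero]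
    intro hinj
    apply hr
    intro a b hab
    exact hinj (by simp [hab])

include hexp in
lemma pow_mul_smul_eq_zero (ψ : P →ₗ[R] R) (y : ⋀[R]^n (P ⧸ Submodule.span R {v})) :
    (s ^ n * (s * ψ v)) • y = 0 := by
  classical
  apply smul_eq_zero_of_forall_ιMulti
  intro z
  obtain ⟨x, rfl⟩ : ∃ x : Fin n → P, z = fun j => (Submodule.span R {v}).mkQ (x j) := by
    choose x hx using fun j => (Submodule.span R {v}).mkQ_surjective (z j)
    exact ⟨x, funext fun j => (hx j).symm⟩
  rw [mul_smul]
  have h1 : s ^ n • ιMulti R n (fun j => (Submodule.span R {v}).mkQ (x j)) =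
      ιMulti R n (fun j => ∑ i, φ i (x j) • (Submodule.span R {v}).mkQ (e i)) := by
    have : (fun j => ∑ i, φ i (x j) • (Submodule.span R {v}).mkQ (e i)) =
        fun j => s • (Submodule.span R {v}).mkQ (x j) := by
      funext j
      rw [← map_smul, hexp (x j), map_sum]
      simp
    rw [this]
    have := (ιMulti R n (M := P ⧸ Submodule.span R {v})).toMultilinearMap.map_smul_univ
      (fun _ => s) (fun j => (Submodule.span R {v}).mkQ (x j))
    simp only [Finset.prod_const, Finset.card_univ, Fintype.card_fin] at this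
    exact this.symm
  rw [smul_comm, h1]
  have h2 := (ιMulti R n (M := P ⧸ Submodule.span R {v})).toMultilinearMap.map_sum
    (fun j i => φ i (x j) • (Submodule.span R {v}).mkQ (e i))
  erw [h2]
  rw [Finset.smul_sum]
  refine Finset.sum_eq_zero fun r _ => ?_
  have h3 := (ιMulti R n (M := P ⧸ Submodule.span R {v})).toMultilinearMap.map_smul_univ
      (fun j => φ (r j) (x j)) (fun j => (Submodule.span R {v}).mkQ (e (r j)))
  erw [h3]
  rw [smul_comm]
  erw [smul_ιMulti_comp_eq_zero s e φ hexp v ψ r]
  simp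

end core

/-- `R`-alternating determinant on `(Fin n → R ⧸ c)`. -/
noncomputable def detR (c : Ideal R) (n : ℕ) : (Fin n → R ⧸ c) [⋀^Fin n]→ₗ[R] (R ⧸ c) :=
  { (Matrix.detRowAlternating (R := R ⧸ c) (n := Fin n)).toMultilinearMap.restrictScalars R with
    map_eq_zero_of_eq' := fun v i j h hij =>
      (Matrix.detRowAlternating (R := R ⧸ c) (n := Fin n)).map_eq_zero_of_eq v h hij }

lemma detR_apply (c : Ideal R) (n : ℕ) (M : Fin n → Fin n → R ⧸ c) :
    detR c n M = Matrix.det (Matrix.of M) := rfl

theorem content_le_annihilator [Module.Finite R P] [Module.Projective R P] (n : ℕ)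
    (hn : ∀ p : PrimeSpectrum R, Module.rankAtStalk P p = n) (v : P) :
    content v ≤ (⋀[R]^n (P ⧸ Submodule.span R {v})).annihilator := by
  intro a ha
  obtain ⟨ψ, rfl⟩ := mem_content.1 ha
  apply mem_of_forall_prime
  intro p
  obtain ⟨s, e, φ, hs, -, hexp⟩ := exists_local_dual_basis p n (hn p)
  refine ⟨s ^ n * s, ?_, ?_⟩
  · exact fun h => (p.2.mem_or_mem h).elim (fun h' => hs (p.2.mem_of_pow_mem _ h')) hs
  · rw [Module.mem_annihilator]
    intro y
    rw [mul_assoc]
    exact pow_mul_smul_eq_zero s e φ hexp v ψ y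

theorem annihilator_le_content [Module.Finite R P] [Module.Projective R P] (n : ℕ)
    (hn : ∀ p : PrimeSpectrum R, Module.rankAtStalk P p = n) (v : P) :
    (⋀[R]^n (P ⧸ Submodule.span R {v})).annihilator ≤ content v := by
  classical
  intro a ha
  apply mem_of_forall_prime
  intro p
  obtain ⟨s, e, φ, hs, hdual, hexp⟩ := exists_local_dual_basis p n (hn p)
  refine ⟨s ^ n, fun h' => hs (p.2.mem_of_pow_mem _ h'), ?_⟩
  set c : Ideal R := content v with hc
  let Φ : P →ₗ[R] (Fin n → R ⧸ c) := LinearMap.pi (fun i => (Submodule.mkQ c) ∘ₗ φ i)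
  have hΦv : Submodule.span R {v} ≤ LinearMap.ker Φ := by
    rw [Submodule.span_le, Set.singleton_subset_iff]
    show Φ v = 0
    funext i
    simp only [Φ, LinearMap.pi_apply, LinearMap.comp_apply, Pi.zero_apply]
    exact (Submodule.Quotient.mk_eq_zero c).2 (mem_content.2 ⟨φ i, rfl⟩)
  let Φbar : (P ⧸ Submodule.span R {v}) →ₗ[R] (Fin n → R ⧸ c) :=
    (Submodule.span R {v}).liftQ Φ hΦv
  let D : (P ⧸ Submodule.span R {v}) [⋀^Fin n]→ₗ[R] (R ⧸ c) := (detR c n).compLinearMap Φbar
  let ℓ : ⋀[R]^n (P ⧸ Submodule.span R {v}) →ₗ[R] (R ⧸ c) := alternatingMapLinearEquiv D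
  set ē : Fin n → P ⧸ Submodule.span R {v} := fun j => (Submodule.span R {v}).mkQ (e j) with hē
  have h0 : a • ιMulti R n ē = 0 := (Module.mem_annihilator.1 ha) (ιMulti R n ē)
  have h1 : ℓ (ιMulti R n ē) = (Ideal.Quotient.mk c s) ^ n := by
    rw [alternatingMapLinearEquiv_apply_ιMulti]
    show detR c n (fun j => Φbar (ē j)) = _
    rw [detR_apply]
    have : (Matrix.of fun j => Φbar (ē j)) = Matrix.diagonal (fun _ => Ideal.Quotient.mk c s) := by
      ext j i
      simp only [Matrix.of_apply, hē, Φbar, Submodule.mkQ_apply, Submodule.liftQ_apply, Φ,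
        LinearMap.pi_apply, LinearMap.comp_apply, hdual i j, Matrix.diagonal_apply]
      split_ifs with h1 h2 h2
      · rfl
      · exact absurd h1.symm h2
      · exact absurd h2.symm h1
      · exact (Submodule.Quotient.mk_eq_zero c).2 c.zero_mem
    rw [this, Matrix.det_diagonal, Finset.prod_const, Finset.card_univ, Fintype.card_fin]
  have h2 := congrArg ℓ h0
  rw [map_smul, h1, map_zero] at h2
  have h3 : a • (Ideal.Quotient.mk c s) ^ n = Ideal.Quotient.mk c (s ^ n * a) := by
    rw [map_mul, map_pow, mul_comm]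
    rfl
  rw [h3] at h2
  exact Ideal.Quotient.eq_zero_iff_mem.1 h2

theorem annihilator_eq_content [Module.Finite R P] [Module.Projective R P] (n : ℕ)
    (hn : ∀ p : PrimeSpectrum R, Module.rankAtStalk P p = n) (v : P) :
    (⋀[R]^n (P ⧸ Submodule.span R {v})).annihilator = content v :=
  le_antisymm (annihilator_le_content n hn v) (content_le_annihilator n hn v)

/-- The annihilator of an exterior power only depends on the isomorphism class. -/
theorem annihilator_exteriorPower_congr {M N : Type*} [AddCommGroup M] [Module R M]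
    [AddCommGroup N] [Module R N] (n : ℕ) (f : M ≃ₗ[R] N) :
    (⋀[R]^n M).annihilator = (⋀[R]^n N).annihilator := by
  let F : ⋀[R]^n M ≃ₗ[R] ⋀[R]^n N :=
    LinearEquiv.ofLinearMap (exteriorPower.map n f.toLinearMap) (exteriorPower.map n f.symm.toLinearMap)
      (by rw [← exteriorPower.map_comp]; simp [exteriorPower.map_id])
      (by rw [← exteriorPower.map_comp]; simp [exteriorPower.map_id])
  exact F.annihilator_eq

end Groth.Agent.Lib.Helper27.JacHyp
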