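import Groth.Agent.Lib.Helper27.JacHypB

/-!
# Splitting criterion for `R v ⊆ P` at a prime (helper27)

`P` finite projective, `v ∈ P`, `Q = P ⧸ R v`.  At a prime `p`:
`Q_p` is free and `v/1 ≠ 0` in `P_p` iff some functional `ψ` has `ψ v ∉ p`.
-/

universe u v

namespace Groth.Agent.Lib.Helper27.JacHyp

variable {R : Type u} [CommRing R] {P : Type v} [AddCommGroup P] [Module R P]

theorem mem_freeLocus_quotient_of_functional [Module.Finite R P] [Module.Projective R P]
    (v : P) (p : PrimeSpectrum R) (ψ : P →ₗ[R] R) (hψ : ψ v ∉ p.asIdeal) :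
    p ∈ Module.freeLocus R (P ⧸ Submodule.span R {v}) := by
  rw [Module.mem_freeLocus]
  let S := p.asIdeal.primeCompl
  let Rp := Localization.AtPrime p.asIdeal
  set u : R := ψ v with hu
  let π : P →ₗ[R] P := u • LinearMap.id - ψ.smulRight v
  have hπv : Submodule.span R {v} ≤ LinearMap.ker π := by
    rw [Submodule.span_le, Set.singleton_subset_iff]
    show π v = 0
    simp [π, hu]
  let πbar : (P ⧸ Submodule.span R {v}) →ₗ[R] P := (Submodule.span R {v}).liftQ π hπv
  have hcomp : (Submodule.span R {v}).mkQ ∘ₗ πbar = u • LinearMap.id := by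
    apply Submodule.linearMap_qext
    ext x
    have hv0 : (Submodule.span R {v}).mkQ v = 0 := by
      simpa using Submodule.mem_span_singleton_self v
    simp only [LinearMap.comp_apply, πbar, Submodule.mkQ_apply, Submodule.liftQ_apply, π,
      LinearMap.sub_apply, LinearMap.smul_apply, LinearMap.id_apply, LinearMap.smulRight_apply,
      Submodule.Quotient.mk_sub, Submodule.Quotient.mk_smul]
    rw [← Submodule.mkQ_apply, ← Submodule.mkQ_apply, hv0, smul_zero, sub_zero]
  let i := LocalizedModule.map S πbar
  let r := LocalizedModule.map S (Submodule.span R {v}).mkQ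
  have hri : r ∘ₗ i = (algebraMap R Rp u) • LinearMap.id := by
    ext x
    induction x using LocalizedModule.induction_on with
    | h q t =>
      simp only [LinearMap.comp_apply, i, r, LocalizedModule.map_mk, LinearMap.smul_apply,
        LinearMap.id_apply]
      have := LinearMap.congr_fun hcomp q
      simp only [LinearMap.comp_apply, LinearMap.smul_apply, LinearMap.id_apply] at this
      rw [this, algebraMap_smul, LocalizedModule.smul'_mk]
  obtain ⟨w, hw⟩ := (IsLocalization.map_units Rp (⟨u, hψ⟩ : S)).exists_left_inv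
  have hproj : Module.Projective Rp (LocalizedModule S (P ⧸ Submodule.span R {v})) := by
    refine Module.Projective.of_split i (w • r) ?_
    rw [LinearMap.smul_comp, hri, smul_smul, hw, one_smul]
  exact Module.free_of_flat_of_isLocalRing

theorem exists_functional_of_mem_freeLocus_quotient [Module.Finite R P] [Module.Projective R P]
    (v : P) (p : PrimeSpectrum R) (n : ℕ) (hn : Module.rankAtStalk P p = n)
    (hv : ∀ c : R, c ∉ p.asIdeal → c • v ≠ 0)
    (hfree : p ∈ Module.freeLocus R (P ⧸ Submodule.span R {v})) :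
    ∃ ψ : P →ₗ[R] R, ψ v ∉ p.asIdeal := by
  classical
  by_contra hcon
  push_neg at hcon
  obtain ⟨s, e, φ, hs, -, hexp⟩ := exists_local_dual_basis p n hn
  rw [Module.mem_freeLocus] at hfree
  let S := p.asIdeal.primeCompl
  let Rp := Localization.AtPrime p.asIdeal
  let Pp := LocalizedModule S P
  let Qp := LocalizedModule S (P ⧸ Submodule.span R {v})
  let qp : Pp →ₗ[Rp] Qp := LocalizedModule.map S (Submodule.span R {v}).mkQ
  have hqp : Function.Surjective qp :=
    LocalizedModule.map_surjective S _ (Submodule.span R {v}).mkQ_surjective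
  have hprojQ : Module.Projective Rp Qp := inferInstance
  obtain ⟨σ, hσ⟩ := Module.projective_lifting_property qp LinearMap.id hqp
  let vp : Pp := LocalizedModule.mk v 1
  have hv0 : (Submodule.span R {v}).mkQ v = 0 := by
    simpa using Submodule.mem_span_singleton_self v
  -- kernel of qp is generated by vp
  have hK : ∀ x : Pp, qp x = 0 → ∃ l : Rp, x = l • vp := by
    intro x hx
    induction x using LocalizedModule.induction_on with
    | h y t =>
      have hx2 : LocalizedModule.mk ((Submodule.span R {v}).mkQ y) t = 0 := by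
        rw [← LocalizedModule.map_mk]; exact hx
      rw [← LocalizedModule.zero_mk t] at hx2
      obtain ⟨u, hu⟩ := LocalizedModule.mk_eq.1 hx2
      obtain ⟨c, hc⟩ : ∃ c : S, c • (Submodule.span R {v}).mkQ y = 0 :=
        ⟨u * t, by simpa [mul_smul] using hu⟩
      rw [Submonoid.smul_def, ← map_smul, Submodule.mkQ_apply, Submodule.Quotient.mk_eq_zero,
        Submodule.mem_span_singleton] at hc
      obtain ⟨d, hd⟩ := hc
      refine ⟨Localization.mk d (c * t), ?_⟩
      rw [LocalizedModule.mk_smul_mk, mul_one, hd, ← Submonoid.smul_def,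
        LocalizedModule.mk_cancel_common_left]
  let ρ : Pp →ₗ[Rp] Pp := LinearMap.id - σ ∘ₗ qp
  have hρ : ∀ x, qp (ρ x) = 0 := by
    intro x
    simp only [ρ, LinearMap.sub_apply, LinearMap.id_apply, LinearMap.comp_apply, map_sub]
    have := LinearMap.congr_fun hσ (qp x)
    simp only [LinearMap.comp_apply, LinearMap.id_apply] at this
    rw [this, sub_self]
  have hqvp : qp vp = 0 := by
    show LocalizedModule.map S (Submodule.span R {v}).mkQ (LocalizedModule.mk v 1) = 0
    rw [LocalizedModule.map_mk, hv0, LocalizedModule.zero_mk]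
  have hρvp : ρ vp = vp := by
    simp only [ρ, LinearMap.sub_apply, LinearMap.id_apply, LinearMap.comp_apply, hqvp, map_zero,
      sub_zero]
  choose l hl using fun i => hK (ρ (LocalizedModule.mk (e i) 1)) (hρ _)
  have hsv : algebraMap R Rp s • vp = ∑ i, algebraMap R Rp (φ i v) • LocalizedModule.mk (e i) (1 : S) := by
    have h1 : algebraMap R Rp s • vp = LocalizedModule.mkLinearMap S P (s • v) := by
      rw [map_smul, algebraMap_smul]; rfl
    rw [h1, hexp v, map_sum]
    refine Finset.sum_congr rfl fun i _ => ?_
    rw [map_smul, algebraMap_smul]; rfl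
  have hkey : (algebraMap R Rp s - ∑ i, algebraMap R Rp (φ i v) * l i) • vp = 0 := by
    have h2 := congrArg ρ hsv
    rw [map_smul, hρvp, map_sum] at h2
    rw [sub_smul, h2, Finset.sum_smul, sub_eq_zero]
    refine Finset.sum_congr rfl fun i _ => ?_
    rw [map_smul, hl i, smul_smul]
  have hunit : IsUnit (algebraMap R Rp s - ∑ i, algebraMap R Rp (φ i v) * l i) := by
    by_contra hnu
    have hmem : (algebraMap R Rp s - ∑ i, algebraMap R Rp (φ i v) * l i) ∈
        IsLocalRing.maximalIdeal Rp := (IsLocalRing.mem_maximalIdeal _).2 hnu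
    have hsum : (∑ i, algebraMap R Rp (φ i v) * l i) ∈ IsLocalRing.maximalIdeal Rp := by
      refine Ideal.sum_mem _ fun i _ => Ideal.mul_mem_right _ _ ?_
      exact (IsLocalization.AtPrime.to_map_mem_maximal_iff Rp p.asIdeal _).2 (hcon (φ i))
    have hs' : algebraMap R Rp s ∈ IsLocalRing.maximalIdeal Rp := by
      have := Ideal.add_mem _ hmem hsum
      rwa [sub_add_cancel] at this
    exact hs ((IsLocalization.AtPrime.to_map_mem_maximal_iff Rp p.asIdeal _).1 hs')
  have hvp0 : vp = 0 := by
    obtain ⟨w, hw⟩ := hunit.exists_left_inv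
    rw [← one_smul Rp vp, ← hw, mul_smul, hkey, smul_zero]
  obtain ⟨c, hc⟩ := (IsLocalizedModule.eq_zero_iff S (LocalizedModule.mkLinearMap S P)).1
    (show LocalizedModule.mkLinearMap S P v = 0 from hvp0)
  exact hv c c.2 hc

end Groth.Agent.Lib.Helper27.JacHyp
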