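import Groth.Agent.Lib.Helper27.JacHypC

/-!
# Hypersurfaces in smooth algebras: Kähler differentials (helper27)

`B` smooth over `A`, `R = B/(g)`.  `Ω[R⁄A] ≃ (R ⊗ Ω[B⁄A]) ⧸ R·(1 ⊗ dg)`, the annihilator of
`⋀ⁿ Ω[R⁄A]` is generated by the `φ(dg)`, and the smooth locus of `R` is where some `φ(dg)` is a unit.
-/

open scoped TensorProduct

universe u

namespace Groth.Agent.Lib.Helper27.JacHyp

section

variable (A B R : Type u) [CommRing A] [CommRing B] [CommRing R]
    [Algebra A B] [Algebra B R] [Algebra A R] [IsScalarTower A B R]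

/-- `1 ⊗ dg` in `R ⊗[B] Ω[B⁄A]`. -/
noncomputable def vv (g : B) : R ⊗[B] Ω[B⁄A] := 1 ⊗ₜ KaehlerDifferential.D A B g

variable {A B R}
variable {g : B}

theorem one_tmul_D_mul (b : B) (hgk : algebraMap B R g = 0) :
    (1 : R) ⊗ₜ[B] KaehlerDifferential.D A B (b * g) = algebraMap B R b • vv A B R g := by
  rw [Derivation.leibniz, TensorProduct.tmul_add, ← TensorProduct.smul_tmul,
    ← TensorProduct.smul_tmul, Algebra.smul_def, Algebra.smul_def, mul_one, mul_one, hgk,
    TensorProduct.zero_tmul, add_zero, vv, TensorProduct.smul_tmul', smul_eq_mul, mul_one]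

theorem ker_mapBaseChange_eq (hsurj : Function.Surjective (algebraMap B R))
    (hker : RingHom.ker (algebraMap B R) = Ideal.span {g}) :
    LinearMap.ker (KaehlerDifferential.mapBaseChange A B R) = Submodule.span R {vv A B R g} := by
  have hgk : g ∈ RingHom.ker (algebraMap B R) := by
    rw [hker]; exact Ideal.mem_span_singleton_self g
  have hex := KaehlerDifferential.exact_kerCotangentToTensor_mapBaseChange A B R hsurj
  apply le_antisymm
  · intro x hx
    obtain ⟨y, rfl⟩ := (hex x).1 hx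
    obtain ⟨⟨z, hz⟩, rfl⟩ := Ideal.toCotangent_surjective _ y
    rw [KaehlerDifferential.kerCotangentToTensor_toCotangent]
    have hz' := hz
    rw [hker, Ideal.mem_span_singleton'] at hz'
    obtain ⟨b, rfl⟩ := hz'
    rw [one_tmul_D_mul b hgk]
    exact Submodule.smul_mem _ _ (Submodule.mem_span_singleton_self _)
  · rw [Submodule.span_le, Set.singleton_subset_iff]
    exact (hex _).2 ⟨Ideal.toCotangent _ ⟨g, hgk⟩, rfl⟩

/-- `Ω[R⁄A] ≃ (R ⊗ Ω[B⁄A]) ⧸ R·(1 ⊗ dg)`. -/
noncomputable def omegaEquiv (hsurj : Function.Surjective (algebraMap B R))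
    (hker : RingHom.ker (algebraMap B R) = Ideal.span {g}) :
    Ω[R⁄A] ≃ₗ[R] (R ⊗[B] Ω[B⁄A]) ⧸ Submodule.span R {vv A B R g} :=
  ((Submodule.quotEquivOfEq _ _ (ker_mapBaseChange_eq hsurj hker)).symm ≪≫ₗ
    (KaehlerDifferential.mapBaseChange A B R).quotKerEquivOfSurjective
      (KaehlerDifferential.mapBaseChange_surjective A B R hsurj)).symm

theorem content_vv_eq [Module.Projective B Ω[B⁄A]]
    (hsurj : Function.Surjective (algebraMap B R)) (g : B) :
    content (vv A B R g) = Ideal.span (Set.range fun φ : Ω[B⁄A] →ₗ[B] B =>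
      algebraMap B R (φ (KaehlerDifferential.D A B g))) := by
  apply le_antisymm
  · intro a ha
    obtain ⟨ψ, rfl⟩ := mem_content.1 ha
    let f : Ω[B⁄A] →ₗ[B] R := (ψ.restrictScalars B) ∘ₗ (TensorProduct.mk B R Ω[B⁄A] 1)
    obtain ⟨φ, hφ⟩ := Module.projective_lifting_property (Algebra.linearMap B R) f hsurj
    refine Ideal.subset_span ⟨φ, ?_⟩
    have := LinearMap.congr_fun hφ (KaehlerDifferential.D A B g)
    simpa [f, vv] using this
  · rw [Ideal.span_le]
    rintro _ ⟨φ, rfl⟩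
    refine mem_content.2 ⟨LinearMap.liftBaseChange R ((Algebra.linearMap B R) ∘ₗ φ), ?_⟩
    simp [vv]

theorem rankAtStalk_baseChange_eq [Module.Flat B Ω[B⁄A]] [Module.Finite B Ω[B⁄A]] (n : ℕ)
    (hn : ∀ p : PrimeSpectrum B, Module.rankAtStalk (Ω[B⁄A]) p = n) (p : PrimeSpectrum R) :
    Module.rankAtStalk (R ⊗[B] Ω[B⁄A]) p = n := by
  rw [Module.rankAtStalk_baseChange]; exact hn _

theorem annihilator_eq_span [Algebra.Smooth A B] (n : ℕ)
    (hn : ∀ p : PrimeSpectrum B, Module.rankAtStalk (Ω[B⁄A]) p = n)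
    (hsurj : Function.Surjective (algebraMap B R))
    (hker : RingHom.ker (algebraMap B R) = Ideal.span {g}) :
    (⋀[R]^n (Ω[R⁄A])).annihilator =
      Ideal.span (Set.range fun φ : Ω[B⁄A] →ₗ[B] B =>
        algebraMap B R (φ (KaehlerDifferential.D A B g))) := by
  rw [annihilator_exteriorPower_congr n (omegaEquiv (A := A) hsurj hker),
    annihilator_eq_content n (rankAtStalk_baseChange_eq n hn) (vv A B R g),
    content_vv_eq hsurj g]

end

end Groth.Agent.Lib.Helper27.JacHyp
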