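import Groth.Agent.Lib.Helper27.JacHypD

/-!
# Smooth locus of a hypersurface in a smooth algebra (helper27)
-/

open scoped TensorProduct

universe u

namespace Groth.Agent.Lib.Helper27.JacHyp

section

variable {A B R : Type u} [CommRing A] [CommRing B] [CommRing R]
    [Algebra A B] [Algebra B R] [Algebra A R] [IsScalarTower A B R]

/-- The extension `B → R`. -/
@[reducible] noncomputable def ext (hsurj : Function.Surjective (algebraMap B R)) :
    Algebra.Extension.{u} A R where
  Ring := B
  σ x := (hsurj x).choose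
  algebraMap_σ x := (hsurj x).choose_spec

variable {g : B} (hsurj : Function.Surjective (algebraMap B R))
  (hker : RingHom.ker (algebraMap B R) = Ideal.span {g})

include hker in
lemma g_mem_ker : g ∈ (ext (A := A) hsurj).ker := by
  show g ∈ RingHom.ker (algebraMap B R)
  rw [hker]; exact Ideal.mem_span_singleton_self g

/-- The class of `g` in the cotangent module of `B → R`. -/
noncomputable def gbar : (ext (A := A) hsurj).Cotangent :=
  Algebra.Extension.Cotangent.mk ⟨g, g_mem_ker hsurj hker⟩

lemma cotangentComplex_gbar :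
    (ext (A := A) hsurj).cotangentComplex (gbar hsurj hker) = vv A B R g := by
  rw [gbar, Algebra.Extension.cotangentComplex_mk]
  rfl

lemma exists_smul_gbar (m : (ext (A := A) hsurj).Cotangent) :
    ∃ c : R, m = c • gbar (A := A) hsurj hker := by
  obtain ⟨⟨z, hz⟩, rfl⟩ := Algebra.Extension.Cotangent.mk_surjective m
  have hz' : z ∈ Ideal.span {g} := by rw [← hker]; exact hz
  obtain ⟨b, rfl⟩ := Ideal.mem_span_singleton'.1 hz'
  refine ⟨algebraMap B R b, ?_⟩
  have : (algebraMap B R b) • gbar (A := A) hsurj hker = (b : (ext (A := A) hsurj).Ring) •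
      gbar (A := A) hsurj hker := algebraMap_smul R b _
  rw [this, gbar, ← map_smul]
  rfl

include hker in
lemma smul_gbar_eq_zero (hg : IsSMulRegular B g) (c : R)
    (h : c • gbar (A := A) hsurj hker = 0) : c = 0 := by
  obtain ⟨c', rfl⟩ := hsurj c
  have h1 : (algebraMap B R c') • gbar (A := A) hsurj hker = (c' : (ext (A := A) hsurj).Ring) •
      gbar (A := A) hsurj hker := algebraMap_smul R c' _
  rw [h1, gbar, ← map_smul, Algebra.Extension.Cotangent.mk_eq_zero_iff] at h
  have h2 : c' * g ∈ (RingHom.ker (algebraMap B R)) ^ 2 := h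
  rw [hker, Ideal.span_singleton_pow, Ideal.mem_span_singleton'] at h2
  obtain ⟨d, hd⟩ := h2
  have h3 : c' = d * g := by
    apply hg
    show g • c' = g • (d * g)
    rw [smul_eq_mul, smul_eq_mul, mul_comm g c', ← hd]; ring
  have hgk : algebraMap B R g = 0 := by
    have : g ∈ RingHom.ker (algebraMap B R) := by
      rw [hker]; exact Ideal.mem_span_singleton_self g
    exact this
  rw [h3, map_mul, hgk, mul_zero]

include hsurj hker in
theorem mem_smoothLocus_iff [Algebra.Smooth A B] (n : ℕ)
    (hn : ∀ p : PrimeSpectrum B, Module.rankAtStalk (Ω[B⁄A]) p = n)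
    (hg : IsSMulRegular B g) (p : PrimeSpectrum R) :
    p ∈ Algebra.smoothLocus A R ↔
      ∃ ψ : (R ⊗[B] Ω[B⁄A]) →ₗ[R] R, ψ (vv A B R g) ∉ p.asIdeal := by
  have hFT : Algebra.FiniteType A R :=
    Algebra.FiniteType.of_surjective (IsScalarTower.toAlgHom A B R) hsurj
  rw [Algebra.smoothLocus_eq_compl_support_inter]
  let E := ext (A := A) hsurj
  have hE : Algebra.FormallySmooth A E.Ring := (inferInstance : Algebra.FormallySmooth A B)
  have hsupp : Module.support R (Algebra.H1Cotangent A R) = Module.support R E.H1Cotangent :=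
    (E.equivH1CotangentOfFormallySmooth).support_eq.symm
  have hfree : Module.freeLocus R Ω[R⁄A] =
      Module.freeLocus R ((R ⊗[B] Ω[B⁄A]) ⧸ Submodule.span R {vv A B R g}) :=
    Module.freeLocus_congr (omegaEquiv (A := A) hsurj hker)
  rw [Set.mem_inter_iff, Set.mem_compl_iff, hsupp, hfree]
  constructor
  · rintro ⟨h1, h2⟩
    refine exists_functional_of_mem_freeLocus_quotient (vv A B R g) p n
      (rankAtStalk_baseChange_eq n hn p) ?_ h2
    intro c hc hcv
    have hm : c • gbar (A := A) hsurj hker ∈ LinearMap.ker E.cotangentComplex := by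
      rw [LinearMap.mem_ker, map_smul, cotangentComplex_gbar, hcv]
    obtain ⟨r, hr, hrm⟩ := Module.notMem_support_iff'.1 h1
      (⟨c • gbar (A := A) hsurj hker, hm⟩ : E.H1Cotangent)
    have h3 : (r * c) • gbar (A := A) hsurj hker = 0 := by
      have := congrArg Subtype.val hrm
      rw [mul_smul]
      exact this
    have hrc := smul_gbar_eq_zero hsurj hker hg _ h3
    have : r * c ∈ p.asIdeal := hrc ▸ p.asIdeal.zero_mem
    exact (p.2.mem_or_mem this).elim hr hc
  · rintro ⟨ψ, hψ⟩
    refine ⟨?_, mem_freeLocus_quotient_of_functional _ p ψ hψ⟩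
    rw [Module.notMem_support_iff']
    intro m
    obtain ⟨c, hc⟩ := exists_smul_gbar (A := A) hsurj hker m.1
    refine ⟨ψ (vv A B R g), hψ, ?_⟩
    have h0 : c • vv A B R g = 0 := by
      have := m.2
      rw [LinearMap.mem_ker, hc, map_smul, cotangentComplex_gbar] at this
      exact this
    have h1 : c * ψ (vv A B R g) = 0 := by
      rw [← smul_eq_mul, ← map_smul, h0, map_zero]
    apply Subtype.ext
    show ψ (vv A B R g) • m.1 = 0
    rw [hc, smul_smul, mul_comm, h1, zero_smul]

end

end Groth.Agent.Lib.Helper27.JacHyp
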