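import Mathlib
import Groth.Agent.Lib.Helper87.KzTop
import Groth.Agent.Lib.Helper87.KzBridge
import Groth.Agent.Lib.Helper87.KoszulTensor

/-!
# Iterated cones (`kz`) commute with additive functors compatible with scalars (helper27)

Generic bridge: for an additive functor `G : Mod S ⥤ Mod R` with `G (ρ r • 𝟙) = r • 𝟙`,
`G (kz X (l.map ρ)) ≅ kz (G X) l`; if moreover `G` preserves exactness of short complexes, vanishing of
Koszul cohomology transfers.  Instances: restriction of scalars, `ι →₀ -`.
-/

set_option autoImplicit false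
universe u
open CategoryTheory CategoryTheory.Limits CochainComplex HomologicalComplex

namespace Groth.Agent.Lib.Helper27.KzFunctor

open Groth.Agent.Lib.Helper94.KoszulReg Groth.Agent.Lib.Helper87.KzLES
  Groth.Agent.Lib.Helper87.KzMod Groth.Agent.Lib.Helper87.KzBridge
  Groth.Agent.Lib.Helper87.KoszulTensor

variable {R S : Type u} [CommRing R] [CommRing S] (ρ : R →+* S)
  (G : ModuleCat.{u} S ⥤ ModuleCat.{u} R) [G.Additive]

/-- scalar compatibility of a functor between module categories -/
def ScalarCompat : Prop :=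
  ∀ (M : ModuleCat.{u} S) (r : R), G.map (ρ r • 𝟙 M) = r • 𝟙 (G.obj M)

/-- `G` preserves exactness of short complexes -/
def ExactPres : Prop := ∀ T : ShortComplex (ModuleCat.{u} S), T.Exact → (T.map G).Exact

variable {ρ G}

theorem mapHC_smul (hG : ScalarCompat ρ G) (X : CochainComplex (ModuleCat.{u} S) ℤ) (r : R) :
    (G.mapHomologicalComplex (ComplexShape.up ℤ)).map (ρ r • 𝟙 X) =
      r • 𝟙 ((G.mapHomologicalComplex (ComplexShape.up ℤ)).obj X) := by
  apply HomologicalComplex.hom_ext
  intro n
  exact hG (X.X n) r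

theorem nonempty_bridge (hG : ScalarCompat ρ G) (X : CochainComplex (ModuleCat.{u} S) ℤ) :
    ∀ l : List R, Nonempty ((G.mapHomologicalComplex (ComplexShape.up ℤ)).obj (kz X (l.map ρ)) ≅
      kz ((G.mapHomologicalComplex (ComplexShape.up ℤ)).obj X) l)
  | [] => ⟨Iso.refl _⟩
  | a :: l => by
    obtain ⟨e⟩ := nonempty_bridge hG X l
    refine ⟨(mappingCone.mapHomologicalComplexIso (ρ a • 𝟙 (kz X (l.map ρ))) G).trans ?_⟩
    exact coneMapIso _ (a • 𝟙 (kz ((G.mapHomologicalComplex (ComplexShape.up ℤ)).obj X) l)) e e (by
      rw [mapHC_smul hG, Linear.smul_comp, Linear.comp_smul, Category.id_comp, Category.comp_id])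

theorem isZero_homology_map (hex : ExactPres G) (K : CochainComplex (ModuleCat.{u} S) ℤ) (i : ℤ)
    (h : IsZero (K.homology i)) :
    IsZero (((G.mapHomologicalComplex (ComplexShape.up ℤ)).obj K).homology i) := by
  rw [← HomologicalComplex.exactAt_iff_isZero_homology] at h ⊢
  exact hex _ h

theorem isZero_kz (hG : ScalarCompat ρ G) (hex : ExactPres G)
    (X : CochainComplex (ModuleCat.{u} S) ℤ) (l : List R) (i : ℤ)
    (h : IsZero ((kz X (l.map ρ)).homology i)) :
    IsZero ((kz ((G.mapHomologicalComplex (ComplexShape.up ℤ)).obj X) l).homology i) := by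
  obtain ⟨e⟩ := nonempty_bridge hG X l
  exact (isZero_homology_map hex _ i h).of_iso
    ((HomologicalComplex.homologyFunctor _ _ i).mapIso e).symm

theorem isZero_kz_sg (hG : ScalarCompat ρ G) (hex : ExactPres G)
    (M : ModuleCat.{u} S) (l : List R) (i : ℤ)
    (h : IsZero ((kz (sg S M) (l.map ρ)).homology i)) :
    IsZero ((kz (sg R (G.obj M)) l).homology i) := by
  have e : (G.mapHomologicalComplex (ComplexShape.up ℤ)).obj (sg S M) ≅ sg R (G.obj M) :=
    (HomologicalComplex.singleMapHomologicalComplex G (ComplexShape.up ℤ) 0).app M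
  exact (isZero_kz hG hex (sg S M) l i h).of_iso
    ((HomologicalComplex.homologyFunctor _ _ i).mapIso (kzIso e l)).symm

section restrict

variable {R S : Type u} [CommRing R] [CommRing S] (π : R →+* S)

theorem scalarCompat_restrict : ScalarCompat π (ModuleCat.restrictScalars π) := by
  intro M r
  apply ModuleCat.hom_ext
  apply LinearMap.ext
  intro x
  rfl

theorem exactPres_restrict : ExactPres (ModuleCat.restrictScalars π) := by
  intro T hT
  rw [ShortComplex.moduleCat_exact_iff] at hT ⊢
  intro x hx
  obtain ⟨y, hy⟩ := hT x hx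
  exact ⟨y, hy⟩

/-- Koszul cohomology over `R` of an `S`-module vanishes if it does over `S`. -/
theorem subsingleton_KH_restrict (M : Type u) [AddCommGroup M] [Module S M] [Module R M]
    (hc : ∀ (r : R) (x : M), r • x = π r • x) (l : List R) (i : ℤ)
    (h : IsZero ((kz (sg S (ModuleCat.of S M)) (l.map π)).homology i)) :
    Subsingleton (KH l M i) := by
  have h1 := isZero_kz_sg (scalarCompat_restrict π) (exactPres_restrict π) (ModuleCat.of S M) l i h
  let e0 : ((ModuleCat.restrictScalars π).obj (ModuleCat.of S M)) ≃ₗ[R] M :=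
    { toFun := fun x => x
      invFun := fun x => x
      map_add' := fun _ _ => rfl
      map_smul' := fun r x => (hc r x).symm
      left_inv := fun _ => rfl
      right_inv := fun _ => rfl }
  let e : (ModuleCat.restrictScalars π).obj (ModuleCat.of S M) ≅ ModuleCat.of R M :=
    e0.toModuleIso
  have h2 : IsZero ((kz (sg R (ModuleCat.of R M)) l).homology i) :=
    h1.of_iso ((HomologicalComplex.homologyFunctor _ _ i).mapIso
      (kzIso ((HomologicalComplex.single (ModuleCat.{u} R) (ComplexShape.up ℤ) 0).mapIso e) l)).symm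
  exact ModuleCat.subsingleton_of_isZero h2

end restrict

section finsupp

variable {R : Type u} [CommRing R] (ι : Type u)

/-- the functor `M ↦ (ι →₀ M)` -/
noncomputable def finF : ModuleCat.{u} R ⥤ ModuleCat.{u} R where
  obj M := ModuleCat.of R (ι →₀ M)
  map f := ModuleCat.ofHom (Finsupp.mapRange.linearMap f.hom)
  map_id M := by
    apply ModuleCat.hom_ext
    apply LinearMap.ext
    intro x
    ext j
    simp
  map_comp f g := by
    apply ModuleCat.hom_ext
    apply LinearMap.ext
    intro x
    ext j
    simp

instance : (finF (R := R) ι).Additive where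
  map_add {M N f g} := by
    apply ModuleCat.hom_ext
    apply LinearMap.ext
    intro x
    refine Finsupp.ext (fun j => ?_)
    rfl

theorem scalarCompat_finF : ScalarCompat (RingHom.id R) (finF (R := R) ι) := by
  intro M r
  apply ModuleCat.hom_ext
  apply LinearMap.ext
  intro x
  refine Finsupp.ext (fun j => ?_)
  rfl

theorem exactPres_finF : ExactPres (finF (R := R) ι) := by
  intro T hT
  rw [ShortComplex.moduleCat_exact_iff] at hT ⊢
  intro x hx
  classical
  let c : T.X₂ → T.X₁ := fun v =>
    if h : T.g v = 0 then (if v = 0 then 0 else Classical.choose (hT v h)) else 0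
  have hc0 : c 0 = 0 := by simp [c]
  have hc : ∀ v, T.g v = 0 → T.f (c v) = v := by
    intro v hv
    by_cases h0 : v = 0
    · subst h0; simp [c]
    · simp only [c, dif_pos hv, if_neg h0]
      exact Classical.choose_spec (hT v hv)
  let x' : ι →₀ T.X₂ := x
  have hx' : ∀ j, T.g (x' j) = 0 := by
    intro j
    have := DFunLike.congr_fun
      (show (Finsupp.mapRange.linearMap T.g.hom x' : ι →₀ T.X₃) = 0 from hx) j
    simpa using this
  refine ⟨(Finsupp.mapRange c hc0 x' : ι →₀ T.X₁), ?_⟩
  refine Finsupp.ext (fun j => ?_)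
  exact hc _ (hx' j)

theorem subsingleton_KH_finsupp (M : Type u) [AddCommGroup M] [Module R M] (l : List R) (i : ℤ)
    (h : Subsingleton (KH l M i)) : Subsingleton (KH l (ι →₀ M) i) := by
  have h0 : IsZero ((kz (sg R (ModuleCat.of R M)) (l.map (RingHom.id R))).homology i) := by
    have : l.map (RingHom.id R) = l := by simp
    rw [this]
    exact ModuleCat.isZero_of_subsingleton _
  have h1 := isZero_kz_sg (scalarCompat_finF ι) (exactPres_finF ι) (ModuleCat.of R M) l i h0
  exact ModuleCat.subsingleton_of_isZero h1

end finsupp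

end Groth.Agent.Lib.Helper27.KzFunctor
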