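import Mathlib
import Groth.Agent.Lib.Helper87.KzTop

/-!
# The natural surjection `M → H^0(l; M)` with kernel `(l) M` (helper27)
-/

set_option autoImplicit false
universe u
open CategoryTheory CategoryTheory.Limits CochainComplex HomologicalComplex
open scoped Pointwise

namespace Groth.Agent.Lib.Helper27.KzTopNat

open Groth.Agent.Lib.Helper94.KoszulReg Groth.Agent.Lib.Helper87.KzLES
  Groth.Agent.Lib.Helper87.KzMod Groth.Agent.Lib.Helper87.KzBasic

variable {A : Type u} [CommRing A]

/-- the map `H^n(l; M) → H^n(a :: l; M)` induced by the inclusion into the cone -/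
noncomputable def alpha (a : A) (l : List A) (M : Type u) [AddCommGroup M] [Module A M] (n : ℤ) :
    KH l M n →ₗ[A] KH (a :: l) M n :=
  (homologyMap (mappingCone.inr (a • 𝟙 (kz (sg A (ModuleCat.of A M)) l))) n).hom

theorem alpha_exact (a : A) (l : List A) (M : Type u) [AddCommGroup M] [Module A M] (n : ℤ) :
    Function.Exact (LinearMap.lsmul A (KH l M n) a) (alpha a l M n) := by
  set X := kz (sg A (ModuleCat.of A M)) l with hX
  have e : (homologyMap (a • 𝟙 X) n).hom = LinearMap.lsmul A (KH l M n) a := by
    apply LinearMap.ext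
    intro z
    exact homologyMap_smul_id_apply a n z
  have := cone_exact₂ (a • 𝟙 X) n
  rwa [e] at this

theorem alpha_surjective_zero (a : A) (l : List A) (M : Type u) [AddCommGroup M] [Module A M] :
    Function.Surjective (alpha a l M 0) := by
  set X := kz (sg A (ModuleCat.of A M)) l with hX
  have h3 := cone_exact₃ (a • 𝟙 X) 0 1 rfl
  have hs : Subsingleton (KH l M 1) := KH_subsingleton M l 1 (Or.inl one_pos)
  intro z
  have : (coneδ (a • 𝟙 X) 0 1 rfl).hom z = 0 := Subsingleton.elim _ _
  exact (h3 z).mp this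

variable {M N : Type u} [AddCommGroup M] [Module A M] [AddCommGroup N] [Module A N]

theorem alpha_natural (a : A) (l : List A) (f : M →ₗ[A] N) (n : ℤ) (z : KH l M n) :
    alpha a l N n (KHmap l f n z) = KHmap (a :: l) f n (alpha a l M n z) := by
  have hc : kmap (sgMap f) l ≫ mappingCone.inr (a • 𝟙 (kz (sg A (ModuleCat.of A N)) l)) =
      mappingCone.inr (a • 𝟙 (kz (sg A (ModuleCat.of A M)) l)) ≫ kmap (sgMap f) (a :: l) := by
    change _ = mappingCone.inr _ ≫ mappingCone.map _ _ (kmap (sgMap f) l) (kmap (sgMap f) l) _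
    simp [mappingCone.map]
  have h2 : homologyMap (kmap (sgMap f) l) n ≫
      homologyMap (mappingCone.inr (a • 𝟙 (kz (sg A (ModuleCat.of A N)) l))) n =
      homologyMap (mappingCone.inr (a • 𝟙 (kz (sg A (ModuleCat.of A M)) l))) n ≫
        homologyMap (kmap (sgMap f) (a :: l)) n := by
    have e1 := homologyMap_comp (kmap (sgMap f) l)
      (mappingCone.inr (a • 𝟙 (kz (sg A (ModuleCat.of A N)) l))) n
    have e2 := homologyMap_comp (mappingCone.inr (a • 𝟙 (kz (sg A (ModuleCat.of A M)) l)))
      (kmap (sgMap f) (a :: l)) n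
    exact e1.symm.trans ((congrArg (fun φ => homologyMap φ n) hc).trans e2)
  have h3 := congrArg (fun ψ => ψ.hom z) h2
  simp only [ModuleCat.hom_comp, LinearMap.comp_apply] at h3
  exact h3

/-- the natural map `M → H^0(l; M)` -/
noncomputable def tau : ∀ (l : List A) (M : Type u) [AddCommGroup M] [Module A M],
    M →ₗ[A] KH l M 0
  | [], M, _, _ => (KHnil M).symm.toLinearMap
  | a :: l, M, _, _ => (alpha a l M 0).comp (tau l M)

theorem tau_surjective : ∀ (l : List A) (M : Type u) [AddCommGroup M] [Module A M],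
    Function.Surjective (tau l M)
  | [], M, _, _ => (KHnil M).symm.surjective
  | a :: l, M, _, _ => (alpha_surjective_zero a l M).comp (tau_surjective l M)

theorem KHnil_natural (f : M →ₗ[A] N) (z : KH ([] : List A) M 0) :
    KHnil N (KHmap [] f 0 z) = f (KHnil M z) := by
  have h := HomologicalComplex.singleObjHomologySelfIso_hom_naturality (ComplexShape.up ℤ) 0
    (ModuleCat.ofHom f)
  have h2 := congrArg (fun φ => φ.hom z) h
  simp only [ModuleCat.hom_comp, LinearMap.comp_apply] at h2
  exact h2

theorem tau_natural : ∀ (l : List A) {M N : Type u} [AddCommGroup M] [Module A M]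
    [AddCommGroup N] [Module A N] (f : M →ₗ[A] N) (m : M),
    KHmap l f 0 (tau l M m) = tau l N (f m)
  | [], M, N, _, _, _, _, f, m => by
    apply (KHnil N).injective
    rw [KHnil_natural]
    simp [tau]
  | a :: l, M, N, _, _, _, _, f, m => by
    change KHmap (a :: l) f 0 (alpha a l M 0 (tau l M m)) = alpha a l N 0 (tau l N (f m))
    rw [← alpha_natural, tau_natural l f m]

theorem tau_eq_zero_iff : ∀ (l : List A) (M : Type u) [AddCommGroup M] [Module A M] (m : M),
    tau l M m = 0 ↔ m ∈ (Ideal.ofList l • ⊤ : Submodule A M)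
  | [], M, _, _, m => by
    rw [Ideal.ofList_nil, Submodule.bot_smul, Submodule.mem_bot]
    simp [tau]
  | a :: l, M, _, _, m => by
    change alpha a l M 0 (tau l M m) = 0 ↔ _
    rw [Ideal.ofList_cons_smul, Submodule.mem_sup, alpha_exact a l M 0 (tau l M m)]
    constructor
    · rintro ⟨y, hy⟩
      obtain ⟨m', rfl⟩ := tau_surjective l M y
      have h0 : tau l M (m - a • m') = 0 := by
        rw [map_sub, map_smul, sub_eq_zero]
        exact hy.symm
      rw [tau_eq_zero_iff l M] at h0
      refine ⟨a • m', Submodule.smul_mem_pointwise_smul _ _ _ Submodule.mem_top, m - a • m', h0, ?_⟩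
      abel
    · rintro ⟨u, hu, v, hv, rfl⟩
      rw [Submodule.mem_smul_pointwise_iff_exists] at hu
      obtain ⟨m', -, rfl⟩ := hu
      rw [← tau_eq_zero_iff l M] at hv
      refine ⟨tau l M m', ?_⟩
      rw [map_add, hv, add_zero, map_smul]
      rfl

end Groth.Agent.Lib.Helper27.KzTopNat
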