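import Mathlib
import Groth.Agent.Lib.Helper27.KzFunctor
import Groth.Agent.Lib.Helper27.KzTopNat

/-!
# Koszul cohomology of `B ⊗[A] N` for a flat `A`-algebra `B`: comparison of `H^0` with
`(B/(l)) ⊗[A] N`, and dimension shifting over modules killed by an ideal (helper27)
-/

set_option autoImplicit false
universe u
open scoped TensorProduct Pointwise

namespace Groth.Agent.Lib.Helper27.KzFlat

open Groth.Agent.Lib.Helper87.KzMod Groth.Agent.Lib.Helper87.KzBasic
  Groth.Agent.Lib.Helper27.KzTopNat Groth.Agent.Lib.Helper27.KzFunctor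

variable {A B : Type u} [CommRing A] [CommRing B] [Algebra A B] (l : List B)

section qmap

variable (N : Type u) [AddCommGroup N] [Module A N]

/-- the quotient map `B ⊗ N → (B/(l)) ⊗ N` -/
noncomputable def qmap : B ⊗[A] N →ₗ[B] (B ⧸ Ideal.ofList l) ⊗[A] N :=
  TensorProduct.AlgebraTensorModule.map (Submodule.mkQ (Ideal.ofList l) : B →ₗ[B] B ⧸ Ideal.ofList l)
    (LinearMap.id : N →ₗ[A] N)

@[simp] theorem qmap_tmul (b : B) (n : N) :
    qmap l N (b ⊗ₜ[A] n) = (Ideal.Quotient.mk (Ideal.ofList l) b) ⊗ₜ[A] n := rfl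

theorem qmap_eq_rTensor (t : B ⊗[A] N) :
    qmap l N t = LinearMap.rTensor N ((Submodule.mkQ (Ideal.ofList l)).restrictScalars A) t := by
  induction t using TensorProduct.induction_on with
  | zero => simp
  | tmul b n => rfl
  | add x y hx hy => rw [map_add, map_add, hx, hy]

theorem qmap_surjective : Function.Surjective (qmap (A := A) l N) := by
  intro z
  obtain ⟨t, ht⟩ := LinearMap.rTensor_surjective (R := A) N
    (g := (Submodule.mkQ (Ideal.ofList l)).restrictScalars A)
    (Submodule.mkQ_surjective _) z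
  exact ⟨t, (qmap_eq_rTensor l N t).trans ht⟩

theorem qmap_eq_zero_iff (t : B ⊗[A] N) :
    qmap l N t = 0 ↔ t ∈ (Ideal.ofList l • ⊤ : Submodule B (B ⊗[A] N)) := by
  have hex : Function.Exact
      (LinearMap.rTensor N ((Submodule.subtype (Ideal.ofList l)).restrictScalars A))
      (LinearMap.rTensor N ((Submodule.mkQ (Ideal.ofList l)).restrictScalars A)) := by
    apply rTensor_exact N
    · intro x
      simp only [LinearMap.coe_restrictScalars, Submodule.mkQ_apply, Submodule.subtype_apply]
      rw [Submodule.Quotient.mk_eq_zero]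
      constructor
      · intro hx; exact ⟨⟨x, hx⟩, rfl⟩
      · rintro ⟨y, rfl⟩; exact y.2
    · exact Submodule.mkQ_surjective _
  rw [qmap_eq_rTensor, hex]
  constructor
  · rintro ⟨w, rfl⟩
    induction w using TensorProduct.induction_on with
    | zero => simp
    | tmul i n =>
      have : LinearMap.rTensor N ((Submodule.subtype (Ideal.ofList l)).restrictScalars A)
          (i ⊗ₜ[A] n) = (i : B) • ((1 : B) ⊗ₜ[A] n) := by
        rw [LinearMap.rTensor_tmul, TensorProduct.smul_tmul']
        simp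
      rw [this]
      exact Submodule.smul_mem_smul i.2 Submodule.mem_top
    | add x y hx hy =>
      rw [map_add]
      exact add_mem hx hy
  · intro ht
    refine Submodule.smul_induction_on ht ?_ ?_
    · intro i hi t' ht'
      clear ht'
      induction t' using TensorProduct.induction_on with
      | zero => exact ⟨0, by simp⟩
      | tmul b n =>
        refine ⟨(⟨i * b, Ideal.mul_mem_right _ _ hi⟩ : Ideal.ofList l) ⊗ₜ[A] n, ?_⟩
        rw [LinearMap.rTensor_tmul, TensorProduct.smul_tmul']
        simp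
      | add x y hx hy =>
        obtain ⟨x', hx'⟩ := hx
        obtain ⟨y', hy'⟩ := hy
        exact ⟨x' + y', by rw [map_add, hx', hy', smul_add]⟩
    · rintro x y ⟨x', hx'⟩ ⟨y', hy'⟩
      exact ⟨x' + y', by rw [map_add, hx', hy']⟩

variable {N}
variable {N' : Type u} [AddCommGroup N'] [Module A N']

theorem qmap_natural (f : N →ₗ[A] N') (t : B ⊗[A] N) :
    qmap l N' (f.baseChange B t) = (f.lTensor (B ⧸ Ideal.ofList l)) (qmap l N t) := by
  induction t using TensorProduct.induction_on with
  | zero => simp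
  | tmul b n => simp
  | add x y hx hy => simp only [map_add, hx, hy]

/-- comparison of injectivity on `H^0` and on `(B/(l)) ⊗ -` -/
theorem KHmap_injective_iff (f : N →ₗ[A] N') :
    Function.Injective (KHmap l (f.baseChange B) 0) ↔
      Function.Injective (f.lTensor (B ⧸ Ideal.ofList l)) := by
  have key1 : Function.Injective (KHmap l (f.baseChange B) 0) ↔
      ∀ t : B ⊗[A] N, f.baseChange B t ∈ (Ideal.ofList l • ⊤ : Submodule B (B ⊗[A] N')) →
        t ∈ (Ideal.ofList l • ⊤ : Submodule B (B ⊗[A] N)) := by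
    constructor
    · intro hinj t ht
      rw [← tau_eq_zero_iff] at ht ⊢
      rw [← tau_natural] at ht
      exact hinj (ht.trans (map_zero _).symm)
    · intro h
      rw [injective_iff_map_eq_zero]
      intro z hz
      obtain ⟨t, rfl⟩ := tau_surjective l (B ⊗[A] N) z
      rw [tau_natural, tau_eq_zero_iff] at hz
      rw [tau_eq_zero_iff]
      exact h t hz
  have key2 : Function.Injective (f.lTensor (B ⧸ Ideal.ofList l)) ↔
      ∀ t : B ⊗[A] N, f.baseChange B t ∈ (Ideal.ofList l • ⊤ : Submodule B (B ⊗[A] N')) →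
        t ∈ (Ideal.ofList l • ⊤ : Submodule B (B ⊗[A] N)) := by
    constructor
    · intro hinj t ht
      rw [← qmap_eq_zero_iff] at ht ⊢
      rw [qmap_natural] at ht
      exact hinj (ht.trans (map_zero _).symm)
    · intro h
      rw [injective_iff_map_eq_zero]
      intro z hz
      obtain ⟨t, rfl⟩ := qmap_surjective (A := A) l N z
      rw [← qmap_natural, qmap_eq_zero_iff] at hz
      rw [qmap_eq_zero_iff]
      exact h t hz
  rw [key1, key2]

end qmap

section shift

variable [Module.Flat A B] (I : Ideal A)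

/-- `KH` of a trivial module is trivial -/
theorem subsingleton_KH_of_subsingleton (M : Type u) [AddCommGroup M] [Module B M]
    [Subsingleton M] (i : ℤ) : Subsingleton (KH l M i) := by
  have h0 : ∀ z : KH l M i, z = 0 := by
    intro z
    have h1 := KHmap_smul_id (M := M) l (0 : B) i z
    have h2 : (0 : B) • (LinearMap.id : M →ₗ[B] M) = LinearMap.id := by
      apply LinearMap.ext
      intro m
      exact Subsingleton.elim _ _
    rw [h2, KHmap_id, zero_smul] at h1
    exact h1
  exact ⟨fun x y => by rw [h0 x, h0 y]⟩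

/-- Koszul cohomology of `B ⊗ (free A/I-module)` -/
theorem subsingleton_KH_free (h1 : ∀ i : ℤ, i ≠ 0 → Subsingleton (KH l (B ⊗[A] (A ⧸ I)) i))
    (X : Type u) (i : ℤ) (hi : i ≠ 0) : Subsingleton (KH l (B ⊗[A] (X →₀ A ⧸ I)) i) := by
  classical
  have e : B ⊗[A] (X →₀ A ⧸ I) ≃ₗ[B] (X →₀ B ⊗[A] (A ⧸ I)) :=
    TensorProduct.finsuppRight A B B (A ⧸ I) X
  have := subsingleton_KH_finsupp X (B ⊗[A] (A ⧸ I)) l i (h1 i hi)
  exact (KHcongr (N := (X →₀ B ⊗[A] (A ⧸ I))) l e i).toEquiv.subsingleton

variable {N : Type u} [AddCommGroup N] [Module A N]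

/-- the free `A/I`-module on the set `N` is killed by `I` -/
theorem free_torsion (X : Type u) (a : A) (ha : a ∈ I) (x : X →₀ A ⧸ I) : a • x = 0 := by
  refine Finsupp.ext (fun j => ?_)
  rw [Finsupp.smul_apply, Finsupp.zero_apply]
  obtain ⟨y, hy⟩ := Ideal.Quotient.mk_surjective (x j)
  rw [← hy, Algebra.smul_def, Ideal.Quotient.algebraMap_eq, ← map_mul,
    Ideal.Quotient.eq_zero_iff_mem]
  exact Ideal.mul_mem_right _ _ ha

/-- presentation of a module killed by `I` by a free `A/I`-module -/
noncomputable def pres (hN : ∀ a ∈ I, ∀ x : N, a • x = 0) : (N →₀ A ⧸ I) →ₗ[A] N :=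
  Finsupp.lsum ℕ (fun n => Submodule.liftQ I (LinearMap.toSpanSingleton A N n) (by
    intro a ha
    rw [LinearMap.mem_ker, LinearMap.toSpanSingleton_apply]
    exact hN a ha n))

theorem pres_surjective (hN : ∀ a ∈ I, ∀ x : N, a • x = 0) :
    Function.Surjective (pres I hN) := by
  intro n
  refine ⟨Finsupp.single n (Submodule.Quotient.mk 1), ?_⟩
  unfold pres
  rw [Finsupp.lsum_single, Submodule.liftQ_apply, LinearMap.toSpanSingleton_apply, one_smul]

omit [Module.Flat A B] in
theorem les_core [Module.Flat A B] {K F : Type u} [AddCommGroup K] [Module A K] [AddCommGroup F]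
    [Module A F] (f : K →ₗ[A] F) (p : F →ₗ[A] N) (hf : Function.Injective f)
    (hfp : Function.Exact f p) (hp : Function.Surjective p) (n m : ℤ) (hnm : n + 1 = m)
    (hF : Subsingleton (KH l (B ⊗[A] F) n))
    (hm : Function.Injective (KHmap l (f.baseChange B) m)) :
    Subsingleton (KH l (B ⊗[A] N) n) := by
  have hinj : Function.Injective (f.baseChange B) := by
    rw [LinearMap.baseChange_eq_ltensor]
    exact Module.Flat.lTensor_preserves_injective_linearMap _ hf
  have hex : Function.Exact (f.baseChange B) (p.baseChange B) := by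
    rw [LinearMap.baseChange_eq_ltensor, LinearMap.baseChange_eq_ltensor]
    exact Module.Flat.lTensor_exact B hfp
  have hsurj' : Function.Surjective (p.baseChange B) := by
    rw [LinearMap.baseChange_eq_ltensor]
    exact LinearMap.lTensor_surjective B hp
  obtain ⟨δ, -, e2, e3⟩ := KH_les _ _ hinj hex hsurj' l n m hnm
  have h0 : ∀ z : KH l (B ⊗[A] N) n, z = 0 := by
    intro z
    have hz : δ z = 0 := by
      apply hm
      rw [map_zero]
      exact (e3 (δ z)).mpr ⟨z, rfl⟩
    obtain ⟨w, hw⟩ := (e2 z).mp hz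
    rw [← hw, Subsingleton.elim w 0, map_zero]
  exact ⟨fun x y => by rw [h0 x, h0 y]⟩

/-- generic form of `subsingleton_KH_free` -/
theorem subsingleton_KH_free' (h1 : ∀ i : ℤ, i ≠ 0 → Subsingleton (KH l (B ⊗[A] (A ⧸ I)) i))
    {F : Type u} [AddCommGroup F] [Module A F] (X : Type u) (e : F ≃ₗ[A] (X →₀ A ⧸ I))
    (i : ℤ) (hi : i ≠ 0) : Subsingleton (KH l (B ⊗[A] F) i) := by
  have h := subsingleton_KH_free l I h1 X i hi
  let e' : B ⊗[A] F ≃ₗ[B] B ⊗[A] (X →₀ A ⧸ I) :=
    TensorProduct.AlgebraTensorModule.congr (LinearEquiv.refl B B) e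
  exact (KHcongr (N := B ⊗[A] (X →₀ A ⧸ I)) l e' i).toEquiv.subsingleton

/-- one step of dimension shifting, generic form -/
theorem shift_one {K F : Type u} [AddCommGroup K] [Module A K] [AddCommGroup F] [Module A F]
    (f : K →ₗ[A] F) (p : F →ₗ[A] N) (hf : Function.Injective f)
    (hfp : Function.Exact f p) (hp : Function.Surjective p)
    (hF : ∀ i : ℤ, i ≠ 0 → Subsingleton (KH l (B ⊗[A] F) i)) (n : ℤ) (hn : n ≠ 0)
    (hK : (n + 1 = 0 ∧ Function.Injective (f.lTensor (B ⧸ Ideal.ofList l))) ∨
      Subsingleton (KH l (B ⊗[A] K) (n + 1))) :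
    Subsingleton (KH l (B ⊗[A] N) n) := by
  rcases hK with ⟨h0, hinj⟩ | hK
  · refine les_core l f p hf hfp hp n 0 h0 (hF n hn) ?_
    exact (KHmap_injective_iff l f).mpr hinj
  · refine les_core l f p hf hfp hp n (n + 1) rfl (hF n hn) ?_
    exact Function.injective_of_subsingleton _

theorem ker_torsion (hN : ∀ a ∈ I, ∀ x : N, a • x = 0) :
    ∀ a ∈ I, ∀ x : LinearMap.ker (pres I hN), a • x = 0 := by
  intro a ha x
  apply Subtype.ext
  exact free_torsion I N a ha x.1

/-- abstract presentation of a module killed by `I` -/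
theorem exists_pres (hN : ∀ a ∈ I, ∀ x : N, a • x = 0) :
    ∃ (K F : Type u) (_ : AddCommGroup K) (_ : Module A K) (_ : AddCommGroup F) (_ : Module A F)
      (f : K →ₗ[A] F) (p : F →ₗ[A] N) (X : Type u) (_ : F ≃ₗ[A] (X →₀ A ⧸ I)),
      Function.Injective f ∧ Function.Exact f p ∧ Function.Surjective p ∧
      (∀ a ∈ I, ∀ x : K, a • x = 0) ∧ (∀ a ∈ I, ∀ x : F, a • x = 0) :=
  ⟨LinearMap.ker (pres I hN), N →₀ A ⧸ I, inferInstance, inferInstance, inferInstance,
    inferInstance, (LinearMap.ker (pres I hN)).subtype, pres I hN, N, LinearEquiv.refl A _,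
    Submodule.injective_subtype _, LinearMap.exact_subtype_ker_map _, pres_surjective I hN,
    ker_torsion I hN, free_torsion I N⟩

/-- dimension shifting: Koszul cohomology of `B ⊗ N` vanishes in negative degrees for `N` killed by `I` -/
theorem shift (h1 : ∀ i : ℤ, i ≠ 0 → Subsingleton (KH l (B ⊗[A] (A ⧸ I)) i))
    (h2 : ∀ (N' N : Type u) [AddCommGroup N'] [Module A N'] [AddCommGroup N] [Module A N]
      (f : N' →ₗ[A] N), (∀ a ∈ I, ∀ x : N', a • x = 0) → (∀ a ∈ I, ∀ x : N, a • x = 0) →
      Function.Injective f → Function.Injective (f.lTensor (B ⧸ Ideal.ofList l))) :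
    ∀ (k : ℕ) (N : Type u) [AddCommGroup N] [Module A N], (∀ a ∈ I, ∀ x : N, a • x = 0) →
      ∀ n : ℤ, n = -((k : ℤ) + 1) → Subsingleton (KH l (B ⊗[A] N) n) := by
  intro k
  induction k with
  | zero =>
    intro N _ _ hN n hn
    obtain ⟨K, F, _, _, _, _, f, p, X, e, hf, hfp, hp, hK, hF⟩ := exists_pres I hN
    refine shift_one l f p hf hfp hp
      (subsingleton_KH_free' l I h1 X e) n (by rw [hn]; norm_num)
      (Or.inl ⟨by rw [hn]; norm_num, ?_⟩)
    exact h2 K F f hK hF hf
  | succ k ih =>
    intro N _ _ hN n hn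
    obtain ⟨K, F, _, _, _, _, f, p, X, e, hf, hfp, hp, hK, hF⟩ := exists_pres I hN
    refine shift_one l f p hf hfp hp
      (subsingleton_KH_free' l I h1 X e) n (by rw [hn]; push_cast; omega)
      (Or.inr ?_)
    exact ih K hK (n + 1) (by rw [hn]; push_cast; ring)

end shift

end Groth.Agent.Lib.Helper27.KzFlat
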