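import Mathlib
import Groth.Agent.Lib.Helper27.KzFlat
import Groth.Prelude.Def_LCI2

/-!
# Lifting Koszul-regularity and flatness across nilpotent thickenings (helper27)
-/

set_option autoImplicit false
universe u
open scoped TensorProduct Pointwise
open CategoryTheory CategoryTheory.Limits

namespace Groth.Agent.Lib.Helper27.KzLift

open Groth.Agent.Lib.Helper87.KzMod Groth.Agent.Lib.Helper87.KzBasic
  Groth.Agent.Lib.Helper27.KzTopNat Groth.Agent.Lib.Helper27.KzFunctor
  Groth.Agent.Lib.Helper27.KzFlat Groth.Agent.Lib.Helper94.KoszulReg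
  Groth.Agent.Lib.Helper87.KoszulTensor

section flat

variable {A : Type u} [CommRing A] (I : Ideal A)

/-- a flat `A/I`-module is "flat on `I`-torsion `A`-modules" -/
theorem flat_torsion (M : Type u) [AddCommGroup M] [Module A M] [Module (A ⧸ I) M]
    [IsScalarTower A (A ⧸ I) M] [Module.Flat (A ⧸ I) M]
    {N' N : Type u} [AddCommGroup N'] [Module A N'] [AddCommGroup N] [Module A N]
    (f : N' →ₗ[A] N) (hN' : ∀ a ∈ I, ∀ x : N', a • x = 0) (hN : ∀ a ∈ I, ∀ x : N, a • x = 0)
    (hf : Function.Injective f) : Function.Injective (f.lTensor M) := by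
  have tN' : Module.IsTorsionBySet A N' I := fun x a => hN' a a.2 x
  have tN : Module.IsTorsionBySet A N I := fun x a => hN a a.2 x
  letI : Module (A ⧸ I) N' := tN'.module
  letI : Module (A ⧸ I) N := tN.module
  have : IsScalarTower A (A ⧸ I) N' := tN'.isScalarTower
  have : IsScalarTower A (A ⧸ I) N := tN.isScalarTower
  have hsurj : Function.Surjective (algebraMap A (A ⧸ I)) := Ideal.Quotient.mk_surjective
  let f' : N' →ₗ[A ⧸ I] N := LinearMap.extendScalarsOfSurjective hsurj f
  have hf' : Function.Injective (f'.lTensor M) :=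
    Module.Flat.lTensor_preserves_injective_linearMap f' hf
  have c1 : TensorProduct.CompatibleSMul A (A ⧸ I) M N' := ⟨fun r m n => by
    obtain ⟨a, rfl⟩ := Ideal.Quotient.mk_surjective r
    rw [← Ideal.Quotient.algebraMap_eq, algebraMap_smul, algebraMap_smul,
      TensorProduct.smul_tmul]⟩
  have c2 : TensorProduct.CompatibleSMul A (A ⧸ I) M N := ⟨fun r m n => by
    obtain ⟨a, rfl⟩ := Ideal.Quotient.mk_surjective r
    rw [← Ideal.Quotient.algebraMap_eq, algebraMap_smul, algebraMap_smul,
      TensorProduct.smul_tmul]⟩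
  let e' : M ⊗[A] N' ≃ₗ[A] M ⊗[A ⧸ I] N' := TensorProduct.equivOfCompatibleSMul (A ⧸ I) A A M N'
  let e : M ⊗[A] N ≃ₗ[A] M ⊗[A ⧸ I] N := TensorProduct.equivOfCompatibleSMul (A ⧸ I) A A M N
  have hnat : ∀ z : M ⊗[A] N', e (f.lTensor M z) = f'.lTensor M (e' z) := by
    intro z
    induction z using TensorProduct.induction_on with
    | zero => simp
    | tmul m n => rfl
    | add x y hx hy => simp only [map_add, hx, hy]
  rw [injective_iff_map_eq_zero]
  intro z hz
  have h1 : f'.lTensor M (e' z) = 0 := by rw [← hnat, hz, map_zero]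
  have h2 : e' z = 0 := hf' (h1.trans (map_zero _).symm)
  exact e'.injective (h2.trans (map_zero _).symm)

/-- transfer of injectivity along a surjection with kernel in `I • ⊤` -/
theorem lTensor_injective_of_quot {C M : Type u} [AddCommGroup C] [Module A C] [AddCommGroup M]
    [Module A M] (φ : C →ₗ[A] M) (hφ : Function.Surjective φ)
    (hker : LinearMap.ker φ ≤ (I • ⊤ : Submodule A C))
    {N' N : Type u} [AddCommGroup N'] [Module A N'] [AddCommGroup N] [Module A N]
    (f : N' →ₗ[A] N) (hN' : ∀ a ∈ I, ∀ x : N', a • x = 0)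
    (hM : Function.Injective (f.lTensor M)) : Function.Injective (f.lTensor C) := by
  have hzero : ∀ c ∈ (I • ⊤ : Submodule A C), ∀ n : N', c ⊗ₜ[A] n = 0 := by
    intro c hc n
    refine Submodule.smul_induction_on hc ?_ ?_
    · intro a ha c' _
      rw [TensorProduct.smul_tmul, hN' a ha n, TensorProduct.tmul_zero]
    · intro x y hx hy
      rw [TensorProduct.add_tmul, hx, hy, add_zero]
  have hex : Function.Exact ((LinearMap.ker φ).subtype.rTensor N') (φ.rTensor N') :=
    rTensor_exact N' (LinearMap.exact_subtype_ker_map φ) hφ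
  have hall : ∀ w : (LinearMap.ker φ) ⊗[A] N', (LinearMap.ker φ).subtype.rTensor N' w = 0 := by
    intro w
    induction w using TensorProduct.induction_on with
    | zero => simp
    | tmul k n =>
      rw [LinearMap.rTensor_tmul]
      exact hzero _ (hker k.2) n
    | add x y hx hy => rw [map_add, hx, hy, add_zero]
  have hinj : Function.Injective (φ.rTensor N') := by
    rw [injective_iff_map_eq_zero]
    intro z hz
    obtain ⟨w, rfl⟩ := (hex z).mp hz
    exact hall w
  have hnat : ∀ z : C ⊗[A] N', φ.rTensor N (f.lTensor C z) = f.lTensor M (φ.rTensor N' z) := by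
    intro z
    induction z using TensorProduct.induction_on with
    | zero => simp
    | tmul c n => rfl
    | add x y hx hy => simp only [map_add, hx, hy]
  rw [injective_iff_map_eq_zero]
  intro z hz
  have h1 : f.lTensor M (φ.rTensor N' z) = 0 := by rw [← hnat, hz, map_zero]
  have h2 : φ.rTensor N' z = 0 := hM (h1.trans (map_zero _).symm)
  exact hinj (h2.trans (map_zero _).symm)

end flat

section dev

variable {A B : Type u} [CommRing A] [CommRing B] [Algebra A B] [Module.Flat A B] (l : List B)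
  (I : Ideal A)

theorem subsingleton_KH_of_ses {K N Q : Type u} [AddCommGroup K] [Module A K] [AddCommGroup N]
    [Module A N] [AddCommGroup Q] [Module A Q] (f : K →ₗ[A] N) (g : N →ₗ[A] Q)
    (hf : Function.Injective f) (hfg : Function.Exact f g) (hg : Function.Surjective g) (n : ℤ)
    (hK : Subsingleton (KH l (B ⊗[A] K) n)) (hQ : Subsingleton (KH l (B ⊗[A] Q) n)) :
    Subsingleton (KH l (B ⊗[A] N) n) := by
  have hinj : Function.Injective (f.baseChange B) := by
    rw [LinearMap.baseChange_eq_ltensor]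
    exact Module.Flat.lTensor_preserves_injective_linearMap _ hf
  have hex : Function.Exact (f.baseChange B) (g.baseChange B) := by
    rw [LinearMap.baseChange_eq_ltensor, LinearMap.baseChange_eq_ltensor]
    exact Module.Flat.lTensor_exact B hfg
  have hsurj' : Function.Surjective (g.baseChange B) := by
    rw [LinearMap.baseChange_eq_ltensor]
    exact LinearMap.lTensor_surjective B hg
  obtain ⟨δ, e1, -, -⟩ := KH_les _ _ hinj hex hsurj' l n (n + 1) rfl
  exact subsingleton_of_exact e1

omit [Module.Flat A B] in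
theorem exists_ses (m : ℕ) {N : Type u} [AddCommGroup N] [Module A N]
    (hN : ∀ a ∈ I ^ (m + 1), ∀ x : N, a • x = 0) :
    ∃ (K Q : Type u) (_ : AddCommGroup K) (_ : Module A K) (_ : AddCommGroup Q) (_ : Module A Q)
      (f : K →ₗ[A] N) (g : N →ₗ[A] Q), Function.Injective f ∧ Function.Exact f g ∧
      Function.Surjective g ∧ (∀ a ∈ I ^ m, ∀ x : K, a • x = 0) ∧
      (∀ a ∈ I, ∀ x : Q, a • x = 0) := by
  refine ⟨(I • ⊤ : Submodule A N), N ⧸ (I • ⊤ : Submodule A N), inferInstance, inferInstance,
    inferInstance, inferInstance, (I • ⊤ : Submodule A N).subtype, (I • ⊤ : Submodule A N).mkQ,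
    Submodule.injective_subtype _, LinearMap.exact_subtype_mkQ _, Submodule.mkQ_surjective _,
    ?_, ?_⟩
  · intro a ha x
    apply Subtype.ext
    rw [Submodule.coe_smul, Submodule.coe_zero]
    refine Submodule.smul_induction_on x.2 ?_ ?_
    · intro b hb y _
      rw [smul_smul]
      exact hN (a * b) (by rw [pow_succ]; exact Ideal.mul_mem_mul ha hb) y
    · intro y z hy hz
      rw [smul_add, hy, hz, add_zero]
  · intro a ha x
    obtain ⟨y, rfl⟩ := Submodule.mkQ_surjective _ x
    rw [← map_smul, Submodule.mkQ_apply, Submodule.Quotient.mk_eq_zero]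
    exact Submodule.smul_mem_smul ha Submodule.mem_top

theorem devissage (h1 : ∀ i : ℤ, i ≠ 0 → Subsingleton (KH l (B ⊗[A] (A ⧸ I)) i))
    (h2 : ∀ (N' N : Type u) [AddCommGroup N'] [Module A N'] [AddCommGroup N] [Module A N]
      (f : N' →ₗ[A] N), (∀ a ∈ I, ∀ x : N', a • x = 0) → (∀ a ∈ I, ∀ x : N, a • x = 0) →
      Function.Injective f → Function.Injective (f.lTensor (B ⧸ Ideal.ofList l))) :
    ∀ (m : ℕ) (N : Type u) [AddCommGroup N] [Module A N], (∀ a ∈ I ^ m, ∀ x : N, a • x = 0) →
      ∀ (k : ℕ) (n : ℤ), n = -((k : ℤ) + 1) → Subsingleton (KH l (B ⊗[A] N) n) := by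
  intro m
  induction m with
  | zero =>
    intro N _ _ hN k n hn
    have h0 : ∀ x : N, x = 0 := by
      intro x
      have hx := hN 1 (by rw [pow_zero, Ideal.one_eq_top]; exact Submodule.mem_top) x
      rwa [one_smul] at hx
    have h0' : ∀ z : B ⊗[A] N, z = 0 := by
      intro z
      induction z using TensorProduct.induction_on with
      | zero => rfl
      | tmul b x => rw [h0 x, TensorProduct.tmul_zero]
      | add x y hx hy => rw [hx, hy, add_zero]
    have : Subsingleton (B ⊗[A] N) := ⟨fun x y => by rw [h0' x, h0' y]⟩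
    exact subsingleton_KH_of_subsingleton l _ n
  | succ m ih =>
    intro N _ _ hN k n hn
    obtain ⟨K, Q, _, _, _, _, f, g, hf, hfg, hg, hK, hQ⟩ := exists_ses I m hN
    exact subsingleton_KH_of_ses l f g hf hfg hg n (ih K hK k n hn)
      (shift l I h1 h2 k Q hQ n hn)

theorem main (m : ℕ) (hm : I ^ m = ⊥)
    (h1 : ∀ i : ℤ, i ≠ 0 → Subsingleton (KH l (B ⊗[A] (A ⧸ I)) i))
    (h2 : ∀ (N' N : Type u) [AddCommGroup N'] [Module A N'] [AddCommGroup N] [Module A N]
      (f : N' →ₗ[A] N), (∀ a ∈ I, ∀ x : N', a • x = 0) → (∀ a ∈ I, ∀ x : N, a • x = 0) →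
      Function.Injective f → Function.Injective (f.lTensor (B ⧸ Ideal.ofList l))) :
    (∀ i : ℤ, i ≠ 0 → Subsingleton (KH l B i)) ∧ Module.Flat A (B ⧸ Ideal.ofList l) := by
  have hall : ∀ (N : Type u) [AddCommGroup N] [Module A N] (k : ℕ) (n : ℤ),
      n = -((k : ℤ) + 1) → Subsingleton (KH l (B ⊗[A] N) n) := by
    intro N _ _ k n hn
    refine devissage l I h1 h2 m N ?_ k n hn
    intro a ha x
    rw [hm, Ideal.mem_bot] at ha
    rw [ha, zero_smul]
  constructor
  · intro i hi
    rcases lt_or_gt_of_ne hi with hneg | hpos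
    · obtain ⟨k, hk⟩ : ∃ k : ℕ, i = -((k : ℤ) + 1) := ⟨(-i - 1).toNat, by omega⟩
      have := hall A k i hk
      exact (KHcongr l (TensorProduct.AlgebraTensorModule.rid A B B).symm i).toEquiv.subsingleton
    · exact KH_subsingleton (M := B) l i (Or.inl hpos)
  · rw [Module.Flat.iff_lTensor_injective']
    intro 𝔞
    rw [← KHmap_injective_iff]
    have hinj : Function.Injective (𝔞.subtype.baseChange B) := by
      rw [LinearMap.baseChange_eq_ltensor]
      exact Module.Flat.lTensor_preserves_injective_linearMap _ (Submodule.injective_subtype _)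
    have hex : Function.Exact (𝔞.subtype.baseChange B) (𝔞.mkQ.baseChange B) := by
      rw [LinearMap.baseChange_eq_ltensor, LinearMap.baseChange_eq_ltensor]
      exact Module.Flat.lTensor_exact B (LinearMap.exact_subtype_mkQ _)
    have hsurj' : Function.Surjective (𝔞.mkQ.baseChange B) := by
      rw [LinearMap.baseChange_eq_ltensor]
      exact LinearMap.lTensor_surjective B (Submodule.mkQ_surjective _)
    obtain ⟨δ, -, -, e3⟩ := KH_les _ _ hinj hex hsurj' l (-1) 0 (by norm_num)
    have hsub := hall (A ⧸ 𝔞) 0 (-1) (by norm_num)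
    rw [injective_iff_map_eq_zero]
    intro z hz
    obtain ⟨w, rfl⟩ := (e3 z).mp hz
    rw [Subsingleton.elim w 0, map_zero]

end dev

section bridge

theorem isKoszulRegularSeq_iff_isZero (R : Type u) [CommRing R] (l : List R) :
    LCI.IsKoszulRegularSeq R l ↔
      ∀ i : ℤ, i ≠ 0 → IsZero ((kz (sg R (ModuleCat.of R R)) l).homology i) := by
  have e : Koszul.koszul R l ≅ kz (sg R (ModuleCat.of R R)) l := eqToIso (koszul_eq l)
  constructor
  · intro h i hi
    exact (h i hi).of_iso ((HomologicalComplex.homologyFunctor _ _ i).mapIso e.symm)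
  · intro h i hi
    exact (h i hi).of_iso ((HomologicalComplex.homologyFunctor _ _ i).mapIso e)

theorem isKoszulRegularSeq_iff_KH (R : Type u) [CommRing R] (l : List R) :
    LCI.IsKoszulRegularSeq R l ↔ ∀ i : ℤ, i ≠ 0 → Subsingleton (KH l R i) := by
  rw [isKoszulRegularSeq_iff_isZero]
  constructor
  · intro h i hi
    exact ModuleCat.subsingleton_of_isZero (h i hi)
  · intro h i hi
    have := h i hi
    exact ModuleCat.isZero_of_subsingleton _

variable {A B : Type u} [CommRing A] [CommRing B] [Algebra A B] (l : List B) (I : Ideal A)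

theorem h1_of_reg
    (hreg : LCI.IsKoszulRegularSeq (B ⧸ I.map (algebraMap A B))
      (l.map (Ideal.Quotient.mk (I.map (algebraMap A B))))) :
    ∀ i : ℤ, i ≠ 0 → Subsingleton (KH l (B ⊗[A] (A ⧸ I)) i) := by
  intro i hi
  have h := (isKoszulRegularSeq_iff_isZero _ _).mp hreg i hi
  have hs : Subsingleton (KH l (B ⧸ I.map (algebraMap A B)) i) :=
    subsingleton_KH_restrict (Ideal.Quotient.mk (I.map (algebraMap A B)))
      (B ⧸ I.map (algebraMap A B)) (fun r x => by
        rw [Algebra.smul_def, Ideal.Quotient.algebraMap_eq, smul_eq_mul]) l i h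
  exact (KHcongr l
    (Algebra.TensorProduct.quotIdealMapEquivTensorQuot B I).symm.toLinearEquiv i).toEquiv.subsingleton

theorem h2_of_flat (K : Ideal (B ⧸ I.map (algebraMap A B)))
    (hK : K = (Ideal.ofList l).map (Ideal.Quotient.mk (I.map (algebraMap A B))))
    [Module.Flat (A ⧸ I) ((B ⧸ I.map (algebraMap A B)) ⧸ K)] :
    ∀ (N' N : Type u) [AddCommGroup N'] [Module A N'] [AddCommGroup N] [Module A N]
      (f : N' →ₗ[A] N), (∀ a ∈ I, ∀ x : N', a • x = 0) → (∀ a ∈ I, ∀ x : N, a • x = 0) →
      Function.Injective f → Function.Injective (f.lTensor (B ⧸ Ideal.ofList l)) := by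
  intro N' N _ _ _ _ f hN' hN hf
  have : IsScalarTower A (A ⧸ I) ((B ⧸ I.map (algebraMap A B)) ⧸ K) := inferInstance
  have hlK : ∀ b ∈ Ideal.ofList l,
      ((Ideal.Quotient.mkₐ A K).comp (Ideal.Quotient.mkₐ A (I.map (algebraMap A B)))) b = 0 := by
    intro b hb
    change Ideal.Quotient.mk K (Ideal.Quotient.mk (I.map (algebraMap A B)) b) = 0
    rw [Ideal.Quotient.eq_zero_iff_mem, hK]
    exact Ideal.mem_map_of_mem _ hb
  let φ : (B ⧸ Ideal.ofList l) →ₐ[A] ((B ⧸ I.map (algebraMap A B)) ⧸ K) :=
    Ideal.Quotient.liftₐ (Ideal.ofList l)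
      ((Ideal.Quotient.mkₐ A K).comp (Ideal.Quotient.mkₐ A (I.map (algebraMap A B)))) hlK
  have hφmk : ∀ b : B, φ (Ideal.Quotient.mk (Ideal.ofList l) b) =
      Ideal.Quotient.mk K (Ideal.Quotient.mk (I.map (algebraMap A B)) b) := fun b => rfl
  have hφsurj : Function.Surjective φ.toLinearMap := by
    intro z
    obtain ⟨y, rfl⟩ := Ideal.Quotient.mk_surjective z
    obtain ⟨b, rfl⟩ := Ideal.Quotient.mk_surjective y
    exact ⟨Ideal.Quotient.mk (Ideal.ofList l) b, hφmk b⟩
  have hImap : ∀ y ∈ I.map (algebraMap A B),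
      Ideal.Quotient.mk (Ideal.ofList l) y ∈ (I • ⊤ : Submodule A (B ⧸ Ideal.ofList l)) := by
    intro y hy
    have hy' : y ∈ (I • ⊤ : Submodule A B) := by
      rw [Ideal.smul_top_eq_map]
      exact hy
    refine Submodule.smul_induction_on hy' ?_ ?_
    · intro a ha b _
      have : Ideal.Quotient.mk (Ideal.ofList l) (a • b) =
          a • Ideal.Quotient.mk (Ideal.ofList l) b := rfl
      rw [this]
      exact Submodule.smul_mem_smul ha Submodule.mem_top
    · intro x y hx hy
      rw [map_add]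
      exact add_mem hx hy
  have hker : LinearMap.ker φ.toLinearMap ≤ (I • ⊤ : Submodule A (B ⧸ Ideal.ofList l)) := by
    intro c hc
    obtain ⟨b, rfl⟩ := Ideal.Quotient.mk_surjective c
    rw [LinearMap.mem_ker, AlgHom.toLinearMap_apply, hφmk, Ideal.Quotient.eq_zero_iff_mem, hK] at hc
    obtain ⟨x, hx, hxb⟩ := (Ideal.mem_map_iff_of_surjective _ Ideal.Quotient.mk_surjective).mp hc
    have hbx : b - x ∈ I.map (algebraMap A B) := by
      rw [← Ideal.Quotient.eq_zero_iff_mem, map_sub, hxb, sub_self]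
    have h3 := hImap _ hbx
    rw [map_sub, Ideal.Quotient.eq_zero_iff_mem.mpr hx, sub_zero] at h3
    exact h3
  exact lTensor_injective_of_quot I φ.toLinearMap hφsurj hker f hN'
    (flat_torsion I _ f hN' hN hf)

/-- Lifting Koszul-regularity and flatness across a nilpotent thickening. -/
theorem lift_main [Module.Flat A B] (m : ℕ) (hm : I ^ m = ⊥)
    (hreg : LCI.IsKoszulRegularSeq (B ⧸ I.map (algebraMap A B))
      (l.map (Ideal.Quotient.mk (I.map (algebraMap A B)))))
    (K : Ideal (B ⧸ I.map (algebraMap A B)))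
    (hK : K = (Ideal.ofList l).map (Ideal.Quotient.mk (I.map (algebraMap A B))))
    [Module.Flat (A ⧸ I) ((B ⧸ I.map (algebraMap A B)) ⧸ K)] :
    LCI.IsKoszulRegularSeq B l ∧ Module.Flat A (B ⧸ Ideal.ofList l) := by
  obtain ⟨h, hfl⟩ := main l I m hm (h1_of_reg l I hreg) (h2_of_flat l I K hK)
  exact ⟨(isKoszulRegularSeq_iff_KH B l).mpr h, hfl⟩

end bridge

end Groth.Agent.Lib.Helper27.KzLift
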