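import Mathlib

/-!
# An ideal with flat quotient is determined by its reduction modulo a nilpotent ideal (helper27)
-/

set_option autoImplicit false
universe u
open scoped TensorProduct Pointwise

namespace Groth.Agent.Lib.Helper27.KzNak

variable {A R : Type u} [CommRing A] [CommRing R] [Algebra A R] (I : Ideal A)

/-- if `R/J` is flat over `A` then `J ∩ IR ⊆ I • J` -/
theorem inter_le_smul (J : Ideal R) [Module.Flat A (R ⧸ J)] (z : R) (hzJ : z ∈ J)
    (hzI : z ∈ I.map (algebraMap A R)) :
    z ∈ (I • (J.restrictScalars A) : Submodule A R) := by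
  let P : Submodule A R := J.restrictScalars A
  let q : R →ₗ[A] R ⧸ J := (Ideal.Quotient.mkₐ A J).toLinearMap
  have hq : ∀ r : R, q r = Ideal.Quotient.mk J r := fun r => rfl
  have hqsurj : Function.Surjective q := Ideal.Quotient.mk_surjective
  have hex : Function.Exact P.subtype q := by
    intro y
    rw [hq, Ideal.Quotient.eq_zero_iff_mem]
    constructor
    · intro hy; exact ⟨⟨y, hy⟩, rfl⟩
    · rintro ⟨p, rfl⟩; exact p.2
  let μ : I ⊗[A] R →ₗ[A] R := (TensorProduct.lid A R).toLinearMap ∘ₗ (I.subtype.rTensor R)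
  let μM : I ⊗[A] (R ⧸ J) →ₗ[A] R ⧸ J :=
    (TensorProduct.lid A (R ⧸ J)).toLinearMap ∘ₗ (I.subtype.rTensor (R ⧸ J))
  have hμM : Function.Injective μM :=
    (TensorProduct.lid A (R ⧸ J)).injective.comp
      (Module.Flat.rTensor_preserves_injective_linearMap I.subtype Subtype.val_injective)
  have hnat : ∀ w : I ⊗[A] R, q (μ w) = μM (q.lTensor I w) := by
    intro w
    induction w using TensorProduct.induction_on with
    | zero => simp
    | tmul a r =>
      simp only [μ, μM, LinearMap.comp_apply, LinearMap.rTensor_tmul, LinearMap.lTensor_tmul,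
        LinearEquiv.coe_coe, TensorProduct.lid_tmul, Submodule.subtype_apply, map_smul]
    | add x y hx hy => simp only [map_add, hx, hy]
  have hrange : ∀ y ∈ (I • ⊤ : Submodule A R), ∃ w, μ w = y := by
    intro y hy
    refine Submodule.smul_induction_on hy ?_ ?_
    · intro a ha r _
      exact ⟨(⟨a, ha⟩ : I) ⊗ₜ[A] r, by simp [μ]⟩
    · rintro x y ⟨w, rfl⟩ ⟨w', rfl⟩
      exact ⟨w + w', map_add _ _ _⟩
  have hzI' : z ∈ (I • ⊤ : Submodule A R) := by
    rw [Ideal.smul_top_eq_map]; exact hzI
  obtain ⟨w, rfl⟩ := hrange z hzI'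
  have h0 : μM (q.lTensor I w) = 0 := by
    rw [← hnat, hq, Ideal.Quotient.eq_zero_iff_mem]; exact hzJ
  have h1 : q.lTensor I w = 0 := hμM (h0.trans (map_zero _).symm)
  obtain ⟨v, rfl⟩ := (lTensor_exact I hex hqsurj w).mp h1
  clear h0 h1 hzJ hzI hzI'
  induction v using TensorProduct.induction_on with
  | zero => simp
  | tmul a p =>
    have : μ ((P.subtype.lTensor I) (a ⊗ₜ[A] p)) = (a : A) • (p : R) := by simp [μ]
    rw [this]
    exact Submodule.smul_mem_smul a.2 p.2
  | add x y hx hy =>
    rw [map_add, map_add]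
    exact add_mem hx hy

/-- Nakayama-type uniqueness: an ideal `J'` with flat quotient containing `J₀` and agreeing with it
modulo a nilpotent ideal `I` equals `J₀`. -/
theorem ideal_eq_of_flat_quot (m : ℕ) (hm : I ^ m = ⊥) (J₀ J' : Ideal R) (h0 : J₀ ≤ J')
    [Module.Flat A (R ⧸ J')]
    (hmap : J'.map (Ideal.Quotient.mk (I.map (algebraMap A R))) =
      J₀.map (Ideal.Quotient.mk (I.map (algebraMap A R)))) : J' = J₀ := by
  let P : Submodule A R := J'.restrictScalars A
  let P₀ : Submodule A R := J₀.restrictScalars A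
  have H : P ≤ P₀ ⊔ I • P := by
    intro x hx
    have hx' : x ∈ J' := hx
    have h1 : Ideal.Quotient.mk (I.map (algebraMap A R)) x ∈
        J₀.map (Ideal.Quotient.mk (I.map (algebraMap A R))) := by
      rw [← hmap]; exact Ideal.mem_map_of_mem _ hx'
    obtain ⟨y, hy, hyx⟩ := (Ideal.mem_map_iff_of_surjective _ Ideal.Quotient.mk_surjective).mp h1
    have hxy : x - y ∈ I.map (algebraMap A R) := by
      rw [← Ideal.Quotient.eq_zero_iff_mem, map_sub, hyx, sub_self]
    have hxyJ : x - y ∈ J' := sub_mem hx' (h0 hy)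
    have h2 := inter_le_smul I J' (x - y) hxyJ hxy
    have : x = y + (x - y) := by ring
    rw [this]
    exact Submodule.add_mem_sup hy h2
  have Hk : ∀ k : ℕ, P ≤ P₀ ⊔ I ^ k • P := by
    intro k
    induction k with
    | zero =>
      rw [pow_zero, Ideal.one_eq_top, Submodule.top_smul]
      exact le_sup_right
    | succ k ih =>
      refine H.trans (sup_le le_sup_left ?_)
      refine (Submodule.smul_mono (le_refl I) ih).trans ?_
      rw [Submodule.smul_sup]
      refine sup_le (Submodule.smul_le_right.trans le_sup_left) ?_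
      rw [← Submodule.smul_assoc, smul_eq_mul, ← pow_succ']
      exact le_sup_right
  have Hm := Hk m
  rw [hm, Submodule.bot_smul, sup_bot_eq] at Hm
  exact le_antisymm (fun x hx => Hm hx) h0

end Groth.Agent.Lib.Helper27.KzNak
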