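import Mathlib
import Groth.Prelude.Def_FrobAlg

/-! If `F_* R` is a projective `R`-module then `R` is F-split, the perfect closure of `R` is a
union of projective direct summands, and tensoring with it preserves joint injectivity of families
of linear maps (helper27). -/

set_option autoImplicit false
universe u

namespace Groth.Agent.Lib.Helper27.PerfProj

open TensorProduct

/-! ### transitivity of projectivity -/

theorem projective_trans (R S N : Type*) [CommRing R] [CommRing S] [Algebra R S]
    [AddCommGroup N] [Module S N] [Module R N] [IsScalarTower R S N]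
    [Module.Projective R S] [Module.Projective S N] : Module.Projective R N := by
  classical
  obtain ⟨s, hs⟩ := Module.projective_def'.1 (inferInstance : Module.Projective S N)
  haveI : Module.Projective R (N →₀ S) :=
    Module.Projective.of_equiv' (finsuppLequivDFinsupp R).symm
  refine Module.Projective.of_split (s.restrictScalars R)
    ((Finsupp.linearCombination S (id : N → N)).restrictScalars R) ?_
  ext x
  exact congrArg (fun f => f x) hs

/-! ### coordinates on a tensor product with a projective module -/

section coord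

variable {R : Type*} [CommRing R] {M : Type*} [AddCommGroup M] [Module R M]

/-- the coordinate map attached to a functional -/
noncomputable def coord (f : M →ₗ[R] R) (Q : Type*) [AddCommGroup Q] [Module R Q] :
    M ⊗[R] Q →ₗ[R] Q :=
  (TensorProduct.lid R Q).toLinearMap ∘ₗ LinearMap.rTensor Q f

lemma coord_tmul (f : M →ₗ[R] R) (Q : Type*) [AddCommGroup Q] [Module R Q] (m : M) (y : Q) :
    coord f Q (m ⊗ₜ y) = f m • y := by
  simp [coord]

lemma coord_natural (f : M →ₗ[R] R) {Q Q' : Type*} [AddCommGroup Q] [Module R Q]
    [AddCommGroup Q'] [Module R Q'] (g : Q →ₗ[R] Q') (z : M ⊗[R] Q) :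
    g (coord f Q z) = coord f Q' (LinearMap.lTensor M g z) := by
  induction z using TensorProduct.induction_on with
  | zero => simp
  | tmul m y => simp [coord_tmul]
  | add a b ha hb => simp only [map_add, ha, hb]

theorem eq_zero_of_lTensor_eq_zero [Module.Projective R M] {P : Type*} [AddCommGroup P]
    [Module R P] {ι : Type*} {N : ι → Type*} [∀ i, AddCommGroup (N i)] [∀ i, Module R (N i)]
    (g : ∀ i, P →ₗ[R] N i) (hg : ∀ y, (∀ i, g i y = 0) → y = 0) (z : M ⊗[R] P)
    (hz : ∀ i, LinearMap.lTensor M (g i) z = 0) : z = 0 := by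
  classical
  obtain ⟨s, hs⟩ := Module.projective_def'.1 (inferInstance : Module.Projective R M)
  have h1 : ∀ m' : M, coord (Finsupp.lapply m' ∘ₗ s) P z = 0 := by
    intro m'
    apply hg
    intro i
    rw [coord_natural, hz, map_zero]
  have h2 : (finsuppScalarLeft R P M) (LinearMap.rTensor P s z) = 0 := by
    ext m'
    have key : ∀ w : M ⊗[R] P, (finsuppScalarLeft R P M (LinearMap.rTensor P s w)) m'
        = coord (Finsupp.lapply m' ∘ₗ s) P w := by
      intro w
      induction w using TensorProduct.induction_on with
      | zero => simp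
      | tmul m y => simp [coord_tmul, finsuppScalarLeft_apply_tmul_apply]
      | add a b ha hb => simp only [map_add, Finsupp.add_apply, ha, hb]
    rw [key, h1]
    rfl
  have h3 : LinearMap.rTensor P s z = 0 := by
    simpa using h2
  have h4 : LinearMap.rTensor P (Finsupp.linearCombination R id ∘ₗ s) z = z := by
    rw [hs, LinearMap.rTensor_id, LinearMap.id_apply]
  rw [← h4, LinearMap.rTensor_comp, LinearMap.comp_apply, h3, map_zero]

end coord

/-! ### F-splitting -/

section fsplit

variable (p : ℕ) [hp : Fact p.Prime] (R : Type u) [CommRing R] [CharP R p]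

theorem exists_fsplit [Module.Projective R (FrobAlg.Twist p R)] :
    ∃ lam : R →+ R, lam 1 = 1 ∧ ∀ a b : R, lam (a ^ p * b) = a * lam b := by
  classical
  obtain ⟨s, hs⟩ :=
    Module.projective_def'.1 (inferInstance : Module.Projective R (FrobAlg.Twist p R))
  set c : FrobAlg.Twist p R →₀ R := s 1 with hc
  have h1 : Finsupp.linearCombination R (id : FrobAlg.Twist p R → FrobAlg.Twist p R) c = 1 := by
    have := congrArg (fun f => f 1) hs
    simpa using this
  let I : Ideal R := Ideal.span (Set.range fun t : c.support => c t)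
  have hI : I = ⊤ := by
    by_contra hne
    obtain ⟨m, hm, hIm⟩ := Ideal.exists_le_maximal I hne
    have h2 : (FrobAlg.toTwist p R).symm (Finsupp.linearCombination R id c) ∈ m := by
      rw [Finsupp.linearCombination_apply, Finsupp.sum, map_sum]
      refine Ideal.sum_mem _ fun t ht => ?_
      rw [id, Algebra.smul_def, FrobAlg.algebraMap_twist, map_mul, RingEquiv.symm_apply_apply]
      exact Ideal.mul_mem_right _ _ (Ideal.pow_mem_of_mem _
        (hIm (Ideal.subset_span ⟨⟨t, ht⟩, rfl⟩)) p hp.out.pos)
    rw [h1, map_one] at h2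
    exact hm.ne_top ((Ideal.eq_top_iff_one _).2 h2)
  have h1I : (1 : R) ∈ I := by rw [hI]; trivial
  obtain ⟨a, ha⟩ := Ideal.mem_span_range_iff_exists_fun.1 h1I
  let lamL : FrobAlg.Twist p R →ₗ[R] R :=
    ∑ i : c.support, a i • (Finsupp.lapply (i : FrobAlg.Twist p R) ∘ₗ s)
  have hlam1 : lamL 1 = 1 := by
    simp only [lamL, LinearMap.sum_apply, LinearMap.smul_apply, LinearMap.comp_apply,
      Finsupp.lapply_apply, smul_eq_mul]
    exact ha
  refine ⟨lamL.toAddMonoidHom.comp (FrobAlg.toTwist p R).toAddMonoidHom, ?_, ?_⟩
  · change lamL (FrobAlg.toTwist p R 1) = 1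
    rw [map_one, hlam1]
  · intro x y
    change lamL (FrobAlg.toTwist p R (x ^ p * y)) = x * lamL (FrobAlg.toTwist p R y)
    rw [map_mul, ← FrobAlg.algebraMap_twist, ← Algebra.smul_def, map_smul, smul_eq_mul]

variable {R}
variable (lam : R →+ R) (hlam1 : lam 1 = 1) (hlam : ∀ a b : R, lam (a ^ p * b) = a * lam b)

include hlam in
lemma lam_iter (m : ℕ) (a b : R) : (lam^[m]) (a ^ p ^ m * b) = a * (lam^[m]) b := by
  induction m generalizing a b with
  | zero => simp
  | succ m ih =>
    rw [Function.iterate_succ_apply, Function.iterate_succ_apply, pow_succ, pow_mul, hlam, ih]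

include hlam1 in
lemma lam_iter_one (m : ℕ) : (lam^[m]) 1 = 1 := by
  induction m with
  | zero => rfl
  | succ m ih => rw [Function.iterate_succ_apply, hlam1, ih]

include hlam1 hlam in
lemma lam_iter_pow (m : ℕ) (a : R) : (lam^[m]) (a ^ p ^ m) = a := by
  have := lam_iter p lam hlam m a 1
  rwa [mul_one, lam_iter_one lam hlam1, mul_one] at this

end fsplit

/-! ### the Frobenius modules -/

section FM

variable (p : ℕ) [hp : Fact p.Prime] (R : Type u) [CommRing R] [CharP R p]

/-- `R` as an `R`-module through the `n`-th iterate of Frobenius -/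
@[nolint unusedArguments]
def FM (_p : ℕ) (R : Type u) (_n : ℕ) : Type u := R

instance (n : ℕ) : AddCommGroup (FM p R n) := inferInstanceAs (AddCommGroup R)

/-- the identity -/
def toFM (n : ℕ) : R ≃+ FM p R n := AddEquiv.refl R

noncomputable instance instModuleFM (n : ℕ) : Module R (FM p R n) :=
  @Module.compHom R R (FM p R n) _ _ (inferInstanceAs (Module R R)) _ (iterateFrobenius R p n)

lemma smul_FM (n : ℕ) (r : R) (m : FM p R n) :
    (toFM p R n).symm (r • m) = r ^ p ^ n * (toFM p R n).symm m := by
  rw [← iterateFrobenius_def]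
  rfl

/-- a copy of `R` as a module over the Frobenius twist -/
@[nolint unusedArguments]
def FS (_p : ℕ) (R : Type u) (_n : ℕ) : Type u := R

instance (n : ℕ) : AddCommGroup (FS p R n) := inferInstanceAs (AddCommGroup R)

/-- the identity -/
def toFS (n : ℕ) : R ≃+ FS p R n := AddEquiv.refl R

noncomputable instance instModuleFS (n : ℕ) : Module (FrobAlg.Twist p R) (FS p R n) :=
  @Module.compHom R (FrobAlg.Twist p R) (FS p R n) _ _ (inferInstanceAs (Module R R)) _
    ((iterateFrobenius R p n).comp ((FrobAlg.toTwist p R).symm : FrobAlg.Twist p R →+* R))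

noncomputable instance instModuleFS' (n : ℕ) : Module R (FS p R n) :=
  Module.compHom (FS p R n) (algebraMap R (FrobAlg.Twist p R))

instance (n : ℕ) : IsScalarTower R (FrobAlg.Twist p R) (FS p R n) := ⟨fun r s m => by
  change (r • s) • m = (algebraMap R (FrobAlg.Twist p R) r) • (s • m)
  rw [Algebra.smul_def, mul_smul]⟩

theorem projective_FM [Module.Projective R (FrobAlg.Twist p R)] (n : ℕ) :
    Module.Projective R (FM p R n) := by
  induction n with
  | zero =>
    let e : R ≃ₗ[R] FM p R 0 :=
      { toFM p R 0 with
        map_smul' := fun r m => by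
          apply (toFM p R 0).symm.injective
          rw [smul_FM]
          simp }
    exact Module.Projective.of_equiv' e
  | succ n ih =>
    haveI := ih
    haveI : RingHomInvPair ((FrobAlg.toTwist p R : R →+* FrobAlg.Twist p R))
        ((FrobAlg.toTwist p R).symm : FrobAlg.Twist p R →+* R) :=
      RingHomInvPair.of_ringEquiv _
    haveI : RingHomInvPair ((FrobAlg.toTwist p R).symm : FrobAlg.Twist p R →+* R)
        ((FrobAlg.toTwist p R : R →+* FrobAlg.Twist p R)) :=
      RingHomInvPair.symm _ _
    let e₁ : FM p R n ≃ₛₗ[(FrobAlg.toTwist p R : R →+* FrobAlg.Twist p R)] FS p R n :=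
      { (toFM p R n).symm.trans (toFS p R n) with
        map_smul' := fun r m => rfl }
    haveI : Module.Projective (FrobAlg.Twist p R) (FS p R n) := Module.Projective.of_equiv e₁
    haveI : Module.Projective R (FS p R n) :=
      projective_trans R (FrobAlg.Twist p R) (FS p R n)
    let e₂ : FS p R n ≃ₗ[R] FM p R (n + 1) :=
      { (toFS p R n).symm.trans (toFM p R (n + 1)) with
        map_smul' := fun r m => by
          apply (toFM p R (n + 1)).symm.injective
          rw [RingHom.id_apply, smul_FM]
          change iterateFrobenius R p n ((FrobAlg.toTwist p R).symm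
            (algebraMap R (FrobAlg.Twist p R) r)) * _ = _
          rw [FrobAlg.algebraMap_twist, RingEquiv.symm_apply_apply, iterateFrobenius_def,
            ← pow_mul, ← pow_succ']
          rfl }
    exact Module.Projective.of_equiv' e₂

/-- the algebra structure on the perfect closure -/
@[reducible] noncomputable def pcAlg : Algebra R (PerfectClosure R p) :=
  (PerfectClosure.of R p).toAlgebra

attribute [local instance] pcAlg

lemma smul_pc (r : R) (x : PerfectClosure R p) : r • x = PerfectClosure.of R p r * x := rfl

/-- the inclusion of the `n`-th Frobenius module into the perfect closure -/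
noncomputable def jmap (n : ℕ) : FM p R n →ₗ[R] PerfectClosure R p where
  toFun m := PerfectClosure.mk R p (n, (toFM p R n).symm m)
  map_add' a b := by
    rw [PerfectClosure.mk_add_mk]
    simp only
    rw [map_add, ← iterate_map_add]
    exact PerfectClosure.R.sound R p n n _ _ rfl
  map_smul' r m := by
    rw [RingHom.id_apply, smul_pc, PerfectClosure.of_apply, PerfectClosure.mk_mul_mk]
    simp only [zero_add, Function.iterate_zero, id]
    rw [smul_FM, iterate_frobenius]

/-- the transition maps -/
noncomputable def tr (n : ℕ) : FM p R n →ₗ[R] FM p R (n + 1) where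
  toFun m := toFM p R (n + 1) (((toFM p R n).symm m) ^ p)
  map_add' a b := by rw [map_add, add_pow_char, map_add]
  map_smul' r m := by
    apply (toFM p R (n + 1)).symm.injective
    rw [RingHom.id_apply, smul_FM, smul_FM, AddEquiv.symm_apply_apply,
      AddEquiv.symm_apply_apply, mul_pow, ← pow_mul, ← pow_succ]

lemma jmap_tr (n : ℕ) (m : FM p R n) : jmap p R (n + 1) (tr p R n m) = jmap p R n m := by
  change PerfectClosure.mk R p (n + 1, _ ^ p) = PerfectClosure.mk R p (n, _)
  exact PerfectClosure.mk_succ_pow R p n _

variable {R}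
variable (lam : R →+ R) (hlam1 : lam 1 = 1) (hlam : ∀ a b : R, lam (a ^ p * b) = a * lam b)

/-- the retractions of the perfect closure onto the Frobenius modules -/
noncomputable def rho (n : ℕ) : PerfectClosure R p →ₗ[R] FM p R n where
  toFun x := x.liftOn (fun y => toFM p R n ((lam^[y.1]) (y.2 ^ p ^ n))) (by
    rintro _ _ ⟨m, s⟩
    simp only
    rw [Function.iterate_succ_apply, frobenius_def, ← pow_mul, mul_comm p, pow_mul,
      ← mul_one ((s ^ p ^ n) ^ p), hlam, hlam1, mul_one])
  map_add' x y := by
    refine PerfectClosure.induction_on x (fun ⟨m, a⟩ => ?_)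
    refine PerfectClosure.induction_on y (fun ⟨m', b⟩ => ?_)
    rw [PerfectClosure.mk_add_mk]
    simp only [PerfectClosure.liftOn_mk]
    rw [← map_add]
    congr 1
    rw [iterate_frobenius, iterate_frobenius, add_pow_char_pow, iterate_map_add]
    congr 1
    · rw [Function.iterate_add_apply, ← pow_mul, mul_comm (p ^ m'), pow_mul,
        lam_iter_pow p lam hlam1 hlam]
    · rw [add_comm m m', Function.iterate_add_apply, ← pow_mul, mul_comm (p ^ m), pow_mul,
        lam_iter_pow p lam hlam1 hlam]
  map_smul' r x := by
    refine PerfectClosure.induction_on x (fun ⟨m, a⟩ => ?_)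
    rw [RingHom.id_apply, smul_pc, PerfectClosure.of_apply, PerfectClosure.mk_mul_mk]
    simp only [PerfectClosure.liftOn_mk, zero_add, Function.iterate_zero, id]
    apply (toFM p R n).symm.injective
    rw [smul_FM, AddEquiv.symm_apply_apply, AddEquiv.symm_apply_apply, iterate_frobenius,
      mul_pow, ← pow_mul, mul_comm (p ^ m), pow_mul, lam_iter p lam hlam]

lemma rho_jmap (n : ℕ) (m : FM p R n) : rho p lam hlam1 hlam n (jmap p R n m) = m := by
  change toFM p R n ((lam^[n]) (((toFM p R n).symm m) ^ p ^ n)) = m
  rw [lam_iter_pow p lam hlam1 hlam]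
  exact (toFM p R n).apply_symm_apply m

end FM

/-! ### the main theorem -/

section main

variable (p : ℕ) [hp : Fact p.Prime] (R : Type u) [CommRing R] [CharP R p]

attribute [local instance] pcAlg

theorem range_mono (P : Type*) [AddCommGroup P] [Module R P] {n N : ℕ} (h : n ≤ N) :
    LinearMap.range (LinearMap.rTensor P (jmap p R n))
      ≤ LinearMap.range (LinearMap.rTensor P (jmap p R N)) := by
  induction N, h using Nat.le_induction with
  | base => exact le_rfl
  | succ N hN ih =>
    refine ih.trans ?_
    have : jmap p R N = jmap p R (N + 1) ∘ₗ tr p R N := by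
      ext m
      exact (jmap_tr p R N m).symm
    rw [this, LinearMap.rTensor_comp]
    exact LinearMap.range_comp_le_range _ _

theorem exists_mem_range (P : Type*) [AddCommGroup P] [Module R P]
    (x : PerfectClosure R p ⊗[R] P) :
    ∃ n, x ∈ LinearMap.range (LinearMap.rTensor P (jmap p R n)) := by
  induction x using TensorProduct.induction_on with
  | zero => exact ⟨0, Submodule.zero_mem _⟩
  | tmul r y =>
    refine PerfectClosure.induction_on r (fun ⟨n, s⟩ => ?_)
    exact ⟨n, (toFM p R n s) ⊗ₜ y, by rw [LinearMap.rTensor_tmul]; rfl⟩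
  | add a b ha hb =>
    obtain ⟨n, hn⟩ := ha
    obtain ⟨m, hm⟩ := hb
    exact ⟨n + m, Submodule.add_mem _ (range_mono p R P (Nat.le_add_right n m) hn)
      (range_mono p R P (Nat.le_add_left m n) hm)⟩

theorem main [Module.Projective R (FrobAlg.Twist p R)] {P : Type*} [AddCommGroup P] [Module R P]
    {ι : Type*} {N : ι → Type*} [∀ i, AddCommGroup (N i)] [∀ i, Module R (N i)]
    (g : ∀ i, P →ₗ[R] N i) (hg : ∀ y, (∀ i, g i y = 0) → y = 0) :
    Function.Injective (LinearMap.pi fun i => LinearMap.lTensor (PerfectClosure R p) (g i)) := by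
  rw [injective_iff_map_eq_zero]
  intro x hx
  obtain ⟨lam, hlam1, hlam⟩ := exists_fsplit p R
  obtain ⟨n, a, rfl⟩ := exists_mem_range p R P x
  haveI := projective_FM p R n
  have ha : a = 0 := by
    apply eq_zero_of_lTensor_eq_zero g hg
    intro i
    have h1 : LinearMap.lTensor (PerfectClosure R p) (g i)
        (LinearMap.rTensor P (jmap p R n) a) = 0 := congrFun hx i
    have h2 : LinearMap.lTensor (PerfectClosure R p) (g i) (LinearMap.rTensor P (jmap p R n) a)
        = LinearMap.rTensor (N i) (jmap p R n) (LinearMap.lTensor (FM p R n) (g i) a) := by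
      rw [← LinearMap.comp_apply, ← LinearMap.comp_apply, LinearMap.lTensor_comp_rTensor,
        LinearMap.rTensor_comp_lTensor]
    rw [h2] at h1
    have h3 := congrArg (LinearMap.rTensor (N i) (rho p lam hlam1 hlam n)) h1
    rw [map_zero, ← LinearMap.comp_apply, ← LinearMap.rTensor_comp] at h3
    have h4 : rho p lam hlam1 hlam n ∘ₗ jmap p R n = LinearMap.id := by
      ext m
      exact rho_jmap p lam hlam1 hlam n m
    rwa [h4, LinearMap.rTensor_id, LinearMap.id_apply] at h3
  rw [ha, map_zero]

end main

end Groth.Agent.Lib.Helper27.PerfProj
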