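import Groth.Agent.Lib.Helper27.RelFrobA

/-!
# Relative Frobenius of a polynomial algebra is flat (free on the monomials with exponents `< p`)
-/

set_option autoImplicit false

namespace Groth.Agent.Lib.Helper27.RelFrob

open TensorProduct FrobAlg MvPolynomial

universe u v

section expand

variable {σ : Type*} {R R' : Type*} [CommRing R] [CommRing R'] (τ : R ≃+* R') (p : ℕ)

/-- `f ↦ f^τ(x^p)`. -/
noncomputable def phi : MvPolynomial σ R →+* MvPolynomial σ R' :=
  (expand p : MvPolynomial σ R' →ₐ[R'] MvPolynomial σ R').toRingHom.comp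
    (MvPolynomial.map (τ : R →+* R'))

theorem phi_monomial (m : σ →₀ ℕ) (r : R) :
    phi (σ := σ) τ p (monomial m r) = monomial (p • m) (τ r) := by
  simp [phi]

theorem phi_C (r : R) : phi (σ := σ) τ p (C r) = C (τ r) := by
  simp [phi]

/-- Exponent vectors with all entries `< p`. -/
def EE (σ : Type*) (p : ℕ) : Type _ := {e : σ →₀ ℕ // ∀ i, e i < p}

variable {p} in
/-- Componentwise remainder. -/
noncomputable def modp (hp : 0 < p) (m : σ →₀ ℕ) : EE σ p :=
  ⟨m.mapRange (· % p) (Nat.zero_mod p), fun i => by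
    simp only [Finsupp.mapRange_apply]; exact Nat.mod_lt _ hp⟩

/-- Componentwise quotient. -/
noncomputable def divp (m : σ →₀ ℕ) : σ →₀ ℕ := m.mapRange (· / p) (Nat.zero_div p)

variable {p} in
theorem divp_add_modp (hp : 0 < p) (m : σ →₀ ℕ) : p • divp p m + (modp hp m).1 = m := by
  ext i
  simp only [modp, divp, Finsupp.coe_add, Finsupp.coe_smul, Pi.add_apply, Pi.smul_apply,
    Finsupp.mapRange_apply, smul_eq_mul]
  exact Nat.div_add_mod _ _

variable {p} in
theorem modp_smul_add (hp : 0 < p) (k : σ →₀ ℕ) (e : EE σ p) : modp hp (p • k + e.1) = e := by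
  apply Subtype.ext
  ext i
  simp only [modp, Finsupp.mapRange_apply, Finsupp.coe_add, Finsupp.coe_smul, Pi.add_apply,
    Pi.smul_apply, smul_eq_mul]
  rw [Nat.mul_add_mod, Nat.mod_eq_of_lt (e.2 i)]

variable {p} in
theorem divp_smul_add (hp : 0 < p) (k : σ →₀ ℕ) (e : EE σ p) : divp p (p • k + e.1) = k := by
  ext i
  simp only [divp, Finsupp.mapRange_apply, Finsupp.coe_add, Finsupp.coe_smul, Pi.add_apply,
    Pi.smul_apply, smul_eq_mul]
  rw [Nat.mul_add_div hp, Nat.div_eq_of_lt (e.2 i), add_zero]

variable {p} in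
/-- The inverse of the basis map, as an additive map. -/
noncomputable def Psi (hp : 0 < p) : MvPolynomial σ R' →+ (EE σ p →₀ MvPolynomial σ R) :=
  (Finsupp.liftAddHom (fun m : σ →₀ ℕ =>
    ((Finsupp.singleAddHom (modp hp m)).comp
      ((monomial (divp p m) : R →ₗ[R] MvPolynomial σ R).toAddMonoidHom)).comp
      (τ.symm : R' →+* R).toAddMonoidHom)).comp
    (AddMonoidAlgebra.coeffAddEquiv (R := R') (M := σ →₀ ℕ)).toAddMonoidHom

variable {p} in
theorem Psi_monomial (hp : 0 < p) (m : σ →₀ ℕ) (a : R') :
    Psi (σ := σ) τ hp (monomial m a) =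
      Finsupp.single (modp hp m) (monomial (divp p m) (τ.symm a)) := by
  simp [Psi, MvPolynomial.monomial]

variable {p} in
theorem phi_nonempty_equiv (hp : 0 < p) :
    letI alg : Algebra (MvPolynomial σ R) (MvPolynomial σ R') := (phi (σ := σ) τ p).toAlgebra
    Nonempty ((EE σ p →₀ MvPolynomial σ R) ≃ₗ[MvPolynomial σ R] MvPolynomial σ R') := by
  letI alg : Algebra (MvPolynomial σ R) (MvPolynomial σ R') := (phi (σ := σ) τ p).toAlgebra
  let Φ : (EE σ p →₀ MvPolynomial σ R) →ₗ[MvPolynomial σ R] MvPolynomial σ R' :=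
    Finsupp.linearCombination (MvPolynomial σ R) (fun e : EE σ p => monomial e.1 (1 : R'))
  have hΦ : ∀ (e : EE σ p) (k : σ →₀ ℕ) (r : R),
      Φ (Finsupp.single e (monomial k r)) = monomial (p • k + e.1) (τ r) := by
    intro e k r
    simp only [Φ, Finsupp.linearCombination_single]
    rw [Algebra.smul_def, RingHom.algebraMap_toAlgebra, phi_monomial, monomial_mul, mul_one]
  have h1 : ∀ f : MvPolynomial σ R', Φ (Psi τ hp f) = f := by
    intro f
    induction f using MvPolynomial.induction_on' with
    | monomial m a =>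
      rw [Psi_monomial, hΦ, divp_add_modp, RingEquiv.apply_symm_apply]
    | add f g hf hg => rw [map_add, map_add, hf, hg]
  have h2 : ∀ w : EE σ p →₀ MvPolynomial σ R, Psi τ hp (Φ w) = w := by
    intro w
    induction w using Finsupp.induction_linear with
    | zero => simp
    | add f g hf hg => rw [map_add, map_add, hf, hg]
    | single e g =>
      induction g using MvPolynomial.induction_on' with
      | monomial k r =>
        rw [hΦ, Psi_monomial, modp_smul_add, divp_smul_add hp, RingEquiv.symm_apply_apply]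
      | add f g hf hg => rw [Finsupp.single_add, map_add, map_add, hf, hg]
  let e : (EE σ p →₀ MvPolynomial σ R) ≃ₗ[MvPolynomial σ R] MvPolynomial σ R' :=
    { Φ with
      invFun := Psi τ hp
      left_inv := h2
      right_inv := h1 }
  exact ⟨e⟩

variable {p} in
theorem phi_flat (hp : 0 < p) : (phi (σ := σ) τ p).Flat := by
  letI alg : Algebra (MvPolynomial σ R) (MvPolynomial σ R') := (phi (σ := σ) τ p).toAlgebra
  obtain ⟨e⟩ := phi_nonempty_equiv (σ := σ) τ hp
  exact Module.Flat.of_linearEquiv e.symm

end expand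

section mvpoly

variable (p : ℕ) [Fact p.Prime] (A : Type u) [CommRing A] [CharP A p] (σ : Type v)

instance : CharP (MvPolynomial σ A) p := inferInstance

/-- The ring isomorphism `A[x] ⊗_A A^{Frob} ≃ A^{Frob}[x]`. -/
noncomputable def rho : BaseChange p A (MvPolynomial σ A) ≃+* MvPolynomial σ (Twist p A) :=
  ((Algebra.TensorProduct.comm A (MvPolynomial σ A) (Twist p A)).trans
    ((MvPolynomial.algebraTensorAlgEquiv (σ := σ) A (Twist p A)).restrictScalars A)).toRingEquiv

theorem relFrob_mvPolynomial_eq :
    relFrob p A (MvPolynomial σ A) =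
      (phi (σ := σ) (toTwist p A).symm p).comp (rho p A σ : _ →+* _) := by
  have hcomp : ∀ f : MvPolynomial σ A,
      phi (σ := σ) (toTwist p A).symm p (MvPolynomial.map (algebraMap A (Twist p A)) f) = f ^ p := by
    intro f
    have : ((toTwist p A).symm : Twist p A →+* A).comp (algebraMap A (Twist p A)) =
        frobenius A p := by
      ext a
      simp [algebraMap_twist, frobenius_def]
    simp only [phi, RingHom.coe_comp, Function.comp_apply, MvPolynomial.map_map, this]
    change expand p (MvPolynomial.map (frobenius A p) f) = f ^ p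
    rw [← MvPolynomial.map_expand, MvPolynomial.map_frobenius_expand]
  refine RingHom.ext (fun x => ?_)
  induction x using TensorProduct.induction_on with
  | zero => simp
  | tmul f t =>
    rw [relFrob_tmul]
    simp only [rho, RingHom.coe_comp, Function.comp_apply]
    change _ = phi (σ := σ) (toTwist p A).symm p
      (MvPolynomial.algebraTensorAlgEquiv (σ := σ) A (Twist p A) (t ⊗ₜ[A] f))
    rw [MvPolynomial.algebraTensorAlgEquiv_tmul, MvPolynomial.smul_eq_C_mul, map_mul, phi_C,
      hcomp, mul_comm]
    rfl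
  | add x y hx hy => rw [map_add, map_add, hx, hy]

theorem relFrob_mvPolynomial_flat : (relFrob p A (MvPolynomial σ A)).Flat := by
  rw [relFrob_mvPolynomial_eq]
  exact RingHom.Flat.comp (RingHom.Flat.of_bijective (rho p A σ).bijective)
    (phi_flat _ (Fact.out : p.Prime).pos)

end mvpoly

end Groth.Agent.Lib.Helper27.RelFrob
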