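import Groth.Agent.Lib.Helper27.RelFrobB

/-!
# Relative Frobenius of a composite `A → P → B` with `B/P` relatively perfect
-/

set_option autoImplicit false

namespace Groth.Agent.Lib.Helper27.RelFrob

open TensorProduct FrobAlg

universe u v w

section comp

variable (p : ℕ) [Fact p.Prime] (A : Type u) [CommRing A] [CharP A p]
  (P : Type v) [CommRing P] [Algebra A P] [CharP P p]
  (B : Type w) [CommRing B] [Algebra A B] [Algebra P B] [IsScalarTower A P B] [CharP B p]

/-- The map `P ⊗ A^{Frob} → B ⊗ A^{Frob}`. -/
noncomputable def jmap : BaseChange p A P →ₐ[A] BaseChange p A B :=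
  Algebra.TensorProduct.map (IsScalarTower.toAlgHom A P B) (AlgHom.id A (Twist p A))

theorem relFrob_jmap (s : BaseChange p A P) :
    relFrob p A B (jmap p A P B s) = algebraMap P B (relFrob p A P s) := by
  induction s using TensorProduct.induction_on with
  | zero => simp
  | tmul c a =>
    simp only [jmap, Algebra.TensorProduct.map_tmul, IsScalarTower.coe_toAlgHom', AlgHom.coe_id,
      id_eq]
    rw [relFrob_tmul, relFrob_tmul, map_mul, map_pow, ← IsScalarTower.algebraMap_apply]
  | add x y hx hy => simp only [map_add, hx, hy]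

theorem relFrob_flat_of_comp (h1 : (relFrob p A P).Flat)
    (h2 : Function.Bijective (relFrob p P B)) : (relFrob p A B).Flat := by
  letI aSX : Algebra (BaseChange p A P) (BaseChange p A B) := (jmap p A P B).toRingHom.toAlgebra
  letI aSP : Algebra (BaseChange p A P) (Copy P) :=
    RingHom.toAlgebra (show BaseChange p A P →+* Copy P from relFrob p A P)
  letI aXB : Algebra (BaseChange p A B) (Copy B) :=
    RingHom.toAlgebra (show BaseChange p A B →+* Copy B from relFrob p A B)
  letI aSB : Algebra (BaseChange p A P) (Copy B) :=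
    RingHom.toAlgebra (show BaseChange p A P →+* Copy B from
      (relFrob p A B).comp (jmap p A P B).toRingHom)
  letI aPB : Algebra (Copy P) (Copy B) :=
    RingHom.toAlgebra (show Copy P →+* Copy B from algebraMap P B)
  have t1 : IsScalarTower (BaseChange p A P) (BaseChange p A B) (Copy B) :=
    IsScalarTower.of_algebraMap_eq (fun s => rfl)
  have t2 : IsScalarTower (BaseChange p A P) (Copy P) (Copy B) :=
    IsScalarTower.of_algebraMap_eq (fun s => relFrob_jmap p A P B s)
  have hflat : Module.Flat (BaseChange p A P) (Copy P) := h1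
  have hflat2 : Module.Flat (BaseChange p A B) (BaseChange p A B ⊗[BaseChange p A P] Copy P) :=
    inferInstance
  let lam : BaseChange p A B ⊗[BaseChange p A P] Copy P →ₗ[BaseChange p A B] Copy B :=
    LinearMap.liftBaseChange (BaseChange p A B)
      ((IsScalarTower.toAlgHom (BaseChange p A P) (Copy P) (Copy B)).toLinearMap)
  have hlam : ∀ (x : BaseChange p A B) (c : P),
      lam (x ⊗ₜ[BaseChange p A P] (show Copy P from c)) =
        (show Copy B from relFrob p A B x * algebraMap P B c) := by
    intro x c
    simp only [lam, LinearMap.liftBaseChange_tmul, AlgHom.toLinearMap_apply,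
      IsScalarTower.coe_toAlgHom']
    rfl
  -- the additive map `B ⊗_P P^{Frob} → X ⊗_S P`
  let f0 : B → Twist p P →+ BaseChange p A B ⊗[BaseChange p A P] Copy P := fun b =>
    ((TensorProduct.mk (BaseChange p A P) (BaseChange p A B) (Copy P)
      (b ⊗ₜ[A] (1 : Twist p A))).toAddMonoidHom).comp
      (show Twist p P →+ Copy P from ((toTwist p P).symm : Twist p P →+* P).toAddMonoidHom)
  have hf0 : ∀ b t, f0 b t = (b ⊗ₜ[A] (1 : Twist p A)) ⊗ₜ[BaseChange p A P]
      (show Copy P from (toTwist p P).symm t) := fun b t => rfl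
  let f1 : B →+ Twist p P →+ BaseChange p A B ⊗[BaseChange p A P] Copy P :=
    AddMonoidHom.mk' f0 (fun b b' => by
      ext t
      simp only [hf0, AddMonoidHom.add_apply, TensorProduct.add_tmul])
  have hbal : ∀ (c : P) (b : B) (t : Twist p P), f1 (c • b) t = f1 b (c • t) := by
    intro c b t
    change f0 (c • b) t = f0 b (c • t)
    rw [hf0, hf0]
    have e1 : ((c • b) ⊗ₜ[A] (1 : Twist p A) : BaseChange p A B) =
        (c ⊗ₜ[A] (1 : Twist p A) : BaseChange p A P) • (b ⊗ₜ[A] (1 : Twist p A)) := by
      have hs : (c ⊗ₜ[A] (1 : Twist p A) : BaseChange p A P) •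
          (b ⊗ₜ[A] (1 : Twist p A) : BaseChange p A B) =
          jmap p A P B (c ⊗ₜ[A] (1 : Twist p A)) * (b ⊗ₜ[A] (1 : Twist p A)) := rfl
      rw [hs]
      simp only [jmap, Algebra.TensorProduct.map_tmul,
        IsScalarTower.coe_toAlgHom', AlgHom.coe_id, id_eq, Algebra.TensorProduct.tmul_mul_tmul,
        mul_one, Algebra.smul_def]
    rw [e1, TensorProduct.smul_tmul]
    congr 1
    change relFrob p A P (c ⊗ₜ[A] (1 : Twist p A)) * (toTwist p P).symm t =
      (toTwist p P).symm (c • t)
    rw [relFrob_tmul_one, Algebra.smul_def, map_mul, algebraMap_twist, RingEquiv.symm_apply_apply]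
  let mu : B ⊗[P] Twist p P →+ BaseChange p A B ⊗[BaseChange p A P] Copy P :=
    TensorProduct.liftAddHom f1 hbal
  have hmu : ∀ b t, mu (b ⊗ₜ[P] t) = (b ⊗ₜ[A] (1 : Twist p A)) ⊗ₜ[BaseChange p A P]
      (show Copy P from (toTwist p P).symm t) := fun b t => rfl
  have hmu_surj : Function.Surjective mu := by
    intro z
    induction z using TensorProduct.induction_on with
    | zero => exact ⟨0, map_zero _⟩
    | add x y hx hy =>
      obtain ⟨a, rfl⟩ := hx
      obtain ⟨b, rfl⟩ := hy
      exact ⟨a + b, map_add _ _ _⟩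
    | tmul x c =>
      induction x using TensorProduct.induction_on with
      | zero => exact ⟨0, by rw [map_zero, TensorProduct.zero_tmul]⟩
      | add x y hx hy =>
        obtain ⟨a, ha⟩ := hx
        obtain ⟨b, hb⟩ := hy
        exact ⟨a + b, by rw [map_add, ha, hb, TensorProduct.add_tmul]⟩
      | tmul b a =>
        refine ⟨b ⊗ₜ[P] (toTwist p P (algebraMap A P ((toTwist p A).symm a) * (show P from c))), ?_⟩
        rw [hmu, RingEquiv.symm_apply_apply]
        have e1 : (b ⊗ₜ[A] a : BaseChange p A B) =
            ((1 : P) ⊗ₜ[A] a : BaseChange p A P) • (b ⊗ₜ[A] (1 : Twist p A)) := by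
          have hs : ((1 : P) ⊗ₜ[A] a : BaseChange p A P) •
              (b ⊗ₜ[A] (1 : Twist p A) : BaseChange p A B) =
              jmap p A P B ((1 : P) ⊗ₜ[A] a) * (b ⊗ₜ[A] (1 : Twist p A)) := rfl
          rw [hs]
          simp only [jmap,
            Algebra.TensorProduct.map_tmul, AlgHom.coe_id, id_eq,
            Algebra.TensorProduct.tmul_mul_tmul, mul_one, map_one, one_mul]
        rw [e1, TensorProduct.smul_tmul]
        congr 1
        change _ = relFrob p A P ((1 : P) ⊗ₜ[A] a) * (show P from c)
        rw [relFrob_one_tmul]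
  have hcomp : ∀ y : B ⊗[P] Twist p P, lam (mu y) = (show Copy B from relFrob p P B y) := by
    intro y
    induction y using TensorProduct.induction_on with
    | zero =>
      rw [map_zero, map_zero, map_zero]
      rfl
    | tmul b t =>
      rw [hmu, hlam, relFrob_tmul_one, relFrob_tmul]
    | add x y hx hy =>
      rw [map_add, map_add, hx, hy, map_add]
      rfl
  have hbij : Function.Bijective lam := by
    constructor
    · intro x x' hxx
      obtain ⟨y, rfl⟩ := hmu_surj x
      obtain ⟨y', rfl⟩ := hmu_surj x'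
      rw [hcomp, hcomp] at hxx
      rw [h2.1 hxx]
    · intro b
      obtain ⟨y, hy⟩ := h2.2 (show B from b)
      refine ⟨mu y, ?_⟩
      rw [hcomp]
      exact hy
  have hfin : Module.Flat (BaseChange p A B) (Copy B) :=
    Module.Flat.of_linearEquiv (LinearEquiv.ofBijective lam hbij).symm
  exact hfin

end comp

end Groth.Agent.Lib.Helper27.RelFrob
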