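import Groth.Agent.Lib.Helper27.RelFrobC

/-!
# Relative Frobenius of a smooth algebra is flat
-/

set_option autoImplicit false

namespace Groth.Agent.Lib.Helper27.RelFrob

open TensorProduct FrobAlg

universe u v w

/-- Flatness of a ring map is local on the target (universe-polymorphic version). -/
theorem flat_of_span_target {R : Type u} {S : Type v} [CommRing R] [CommRing S] (f : R →+* S)
    (s : Set S) (hs : Ideal.span s = ⊤)
    (h : ∀ r : s, ((algebraMap S (Localization.Away (r : S))).comp f).Flat) : f.Flat := by
  algebraize_only [f]
  refine Module.flat_of_isLocalized_span _ _ s hs _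
    (fun r ↦ Algebra.linearMap S <| Localization.Away r.1) ?_
  dsimp only [RingHom.Flat] at h
  convert! h; ext
  apply Algebra.smul_def

/-- `B ⊗ T → B_r ⊗ T` is flat. -/
theorem map_away_flat (A : Type u) (B : Type v) (T : Type w) [CommRing A] [CommRing B] [CommRing T]
    [Algebra A B] [Algebra A T] (r : B) :
    (Algebra.TensorProduct.map (IsScalarTower.toAlgHom A B (Localization.Away r))
      (AlgHom.id A T)).toRingHom.Flat := by
  letI alg : Algebra (B ⊗[A] T) (Localization.Away r ⊗[A] T) :=
    (Algebra.TensorProduct.map (IsScalarTower.toAlgHom A B (Localization.Away r))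
      (AlgHom.id A T)).toRingHom.toAlgebra
  have tw : IsScalarTower B (B ⊗[A] T) (Localization.Away r ⊗[A] T) :=
    IsScalarTower.of_algebraMap_eq (fun b => by
      simp [RingHom.algebraMap_toAlgebra])
  have hloc := IsLocalization.tensorProduct_tensorProduct A T (Submonoid.powers r)
    (Localization.Away r) (by
      ext t
      simp [RingHom.algebraMap_toAlgebra])
  exact IsLocalization.flat _ (Algebra.algebraMapSubmonoid (B ⊗[A] T) (Submonoid.powers r))

section smooth

variable (p : ℕ) [Fact p.Prime] (A : Type u) [CommRing A] [CharP A p]

/-- étale over a polynomial ring ⟹ relative Frobenius is flat. -/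
theorem relFrob_flat_of_etale_mvPolynomial (σ : Type w)
    (B : Type v) [CommRing B] [Algebra A B] [CharP B p]
    [Algebra (MvPolynomial σ A) B] [IsScalarTower A (MvPolynomial σ A) B]
    [Algebra.Etale (MvPolynomial σ A) B] : (relFrob p A B).Flat :=
  relFrob_flat_of_comp p A (MvPolynomial σ A) B (relFrob_mvPolynomial_flat p A σ)
    (relFrob_bijective_of_etale p (MvPolynomial σ A) B)

theorem relFrob_flat_of_smooth (B : Type v) [CommRing B] [Algebra A B] [CharP B p]
    [Algebra.Smooth A B] : (relFrob p A B).Flat := by
  obtain ⟨s, hs, hstd⟩ := Algebra.Smooth.exists_span_eq_top_isStandardSmooth A B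
  refine flat_of_span_target _ s hs (fun r => ?_)
  have hr := hstd r.1 r.2
  rcases subsingleton_or_nontrivial (Localization.Away (r : B)) with hsub | hnt
  · letI alg : Algebra (BaseChange p A B) (Localization.Away (r : B)) :=
      ((algebraMap B (Localization.Away (r : B))).comp (relFrob p A B)).toAlgebra
    have : Module.Flat (BaseChange p A B) (Localization.Away (r : B)) := inferInstance
    exact this
  · have hp0 : ((p : ℕ) : Localization.Away (r : B)) = 0 := by
      rw [← map_natCast (algebraMap B (Localization.Away (r : B))), CharP.cast_eq_zero, map_zero]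
    have hchar : CharP (Localization.Away (r : B)) p :=
      (CharP.charP_iff_prime_eq_zero (Fact.out : p.Prime)).2 hp0
    obtain ⟨n, g, hgC, hg⟩ := RingHom.IsStandardSmooth.exists_etale_mvPolynomial
      (f := algebraMap A (Localization.Away (r : B)))
      (by rwa [RingHom.isStandardSmooth_algebraMap])
    letI algg : Algebra (MvPolynomial (Fin n) A) (Localization.Away (r : B)) := g.toAlgebra
    have tw : IsScalarTower A (MvPolynomial (Fin n) A) (Localization.Away (r : B)) :=
      IsScalarTower.of_algebraMap_eq' hgC.symm
    have het : Algebra.Etale (MvPolynomial (Fin n) A) (Localization.Away (r : B)) := hg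
    have hfl : (relFrob p A (Localization.Away (r : B))).Flat :=
      relFrob_flat_of_etale_mvPolynomial p A (Fin n) (Localization.Away (r : B))
    have heq : (algebraMap B (Localization.Away (r : B))).comp (relFrob p A B) =
        (relFrob p A (Localization.Away (r : B))).comp
          (jmap p A B (Localization.Away (r : B))).toRingHom := by
      refine RingHom.ext (fun x => ?_)
      exact (relFrob_jmap p A B (Localization.Away (r : B)) x).symm
    rw [heq]
    exact RingHom.Flat.comp (map_away_flat A B (Twist p A) (r : B)) hfl

end smooth

end Groth.Agent.Lib.Helper27.RelFrob
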