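import Groth.Agent.Lib.Helper27.RelFrobD

/-!
# Bases for the relative Frobenius: polynomial rings and étale algebras over them
-/

set_option autoImplicit false

namespace Groth.Agent.Lib.Helper27.RelFrob

open TensorProduct FrobAlg Module

universe u v w

/-- `B` regarded as an algebra over its Frobenius twist through the relative Frobenius. -/
def RF (p : ℕ) (A : Type u) (B : Type v) : Type v := B

instance (p : ℕ) (A : Type u) (B : Type v) [CommRing B] : CommRing (RF p A B) :=
  inferInstanceAs (CommRing B)

noncomputable instance (p : ℕ) [Fact p.Prime] (A : Type u) [CommRing A] [CharP A p]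
    (B : Type v) [CommRing B] [Algebra A B] [CharP B p] :
    Algebra (BaseChange p A B) (RF p A B) :=
  RingHom.toAlgebra (show BaseChange p A B →+* RF p A B from relFrob p A B)

section

variable (p : ℕ) [Fact p.Prime] (A : Type u) [CommRing A] [CharP A p]
  (B : Type v) [CommRing B] [Algebra A B] [CharP B p]

theorem RF_smul_def (x : BaseChange p A B) (b : RF p A B) :
    x • b = (show RF p A B from relFrob p A B x) * b := rfl

theorem RF_algebraMap (x : BaseChange p A B) :
    algebraMap (BaseChange p A B) (RF p A B) x = relFrob p A B x := rfl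

end

section mvpoly

variable (p : ℕ) [Fact p.Prime] (A : Type u) [CommRing A] [CharP A p] (σ : Type v)

theorem mvPolynomial_basis :
    Nonempty (Basis (EE σ p) (BaseChange p A (MvPolynomial σ A)) (RF p A (MvPolynomial σ A))) := by
  letI algQ : Algebra (MvPolynomial σ (Twist p A)) (RF p A (MvPolynomial σ A)) :=
    RingHom.toAlgebra (show MvPolynomial σ (Twist p A) →+* RF p A (MvPolynomial σ A) from
      phi (σ := σ) (toTwist p A).symm p)
  obtain ⟨e⟩ := phi_nonempty_equiv (σ := σ) (toTwist p A).symm (Fact.out : p.Prime).pos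
  have e' : (EE σ p →₀ MvPolynomial σ (Twist p A)) ≃ₗ[MvPolynomial σ (Twist p A)]
      RF p A (MvPolynomial σ A) := e
  let bQ : Basis (EE σ p) (MvPolynomial σ (Twist p A)) (RF p A (MvPolynomial σ A)) :=
    Basis.ofRepr e'.symm
  refine ⟨bQ.mapCoeffs (rho p A σ).symm (fun c x => ?_)⟩
  rw [RF_smul_def, relFrob_mvPolynomial_eq]
  simp only [RingHom.coe_comp, RingHom.coe_coe, Function.comp_apply, RingEquiv.apply_symm_apply]
  rfl

end mvpoly

section card

theorem natCard_EE (σ : Type v) [Finite σ] (p : ℕ) : Nat.card (EE σ p) = p ^ Nat.card σ := by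
  let e : EE σ p ≃ (σ → Fin p) :=
    { toFun := fun e i => ⟨e.1 i, e.2 i⟩
      invFun := fun f => ⟨Finsupp.equivFunOnFinite.symm (fun i => (f i).1), fun i => by
        simp only [Finsupp.equivFunOnFinite_symm_apply_apply]; exact (f i).2⟩
      left_inv := fun e => by
        apply Subtype.ext
        ext i
        simp
      right_inv := fun f => by
        ext i
        simp }
  rw [Nat.card_congr e, Nat.card_fun, Nat.card_fin]

instance (σ : Type v) [Finite σ] (p : ℕ) : Finite (EE σ p) := by
  let e : EE σ p → (σ → Fin p) := fun e i => ⟨e.1 i, e.2 i⟩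
  refine Finite.of_injective e (fun a b hab => ?_)
  apply Subtype.ext
  ext i
  have := congrFun hab i
  simpa [e] using congrArg Fin.val this

end card

section comp

variable (p : ℕ) [Fact p.Prime] (A : Type u) [CommRing A] [CharP A p]
  (P : Type v) [CommRing P] [Algebra A P] [CharP P p]
  (B : Type w) [CommRing B] [Algebra A B] [Algebra P B] [IsScalarTower A P B] [CharP B p]

theorem exists_basis_of_comp {ι : Type*} (b : Basis ι (BaseChange p A P) (RF p A P))
    (h2 : Function.Bijective (relFrob p P B)) :
    Nonempty (Basis ι (BaseChange p A B) (RF p A B)) := by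
  letI aSX : Algebra (BaseChange p A P) (BaseChange p A B) := (jmap p A P B).toRingHom.toAlgebra
  letI aSB : Algebra (BaseChange p A P) (RF p A B) :=
    RingHom.toAlgebra (show BaseChange p A P →+* RF p A B from
      (relFrob p A B).comp (jmap p A P B).toRingHom)
  letI aPB : Algebra (RF p A P) (RF p A B) :=
    RingHom.toAlgebra (show RF p A P →+* RF p A B from algebraMap P B)
  have t1 : IsScalarTower (BaseChange p A P) (BaseChange p A B) (RF p A B) :=
    IsScalarTower.of_algebraMap_eq (fun s => rfl)
  have t2 : IsScalarTower (BaseChange p A P) (RF p A P) (RF p A B) :=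
    IsScalarTower.of_algebraMap_eq (fun s => relFrob_jmap p A P B s)
  let lam : BaseChange p A B ⊗[BaseChange p A P] RF p A P →ₗ[BaseChange p A B] RF p A B :=
    LinearMap.liftBaseChange (BaseChange p A B)
      ((IsScalarTower.toAlgHom (BaseChange p A P) (RF p A P) (RF p A B)).toLinearMap)
  have hlam : ∀ (x : BaseChange p A B) (c : P),
      lam (x ⊗ₜ[BaseChange p A P] (show RF p A P from c)) =
        (show RF p A B from relFrob p A B x * algebraMap P B c) := by
    intro x c
    simp only [lam, LinearMap.liftBaseChange_tmul, AlgHom.toLinearMap_apply,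
      IsScalarTower.coe_toAlgHom']
    rfl
  -- the additive map `B ⊗_P P^{Frob} → X ⊗_S P`
  let f0 : B → Twist p P →+ BaseChange p A B ⊗[BaseChange p A P] RF p A P := fun b =>
    ((TensorProduct.mk (BaseChange p A P) (BaseChange p A B) (RF p A P)
      (b ⊗ₜ[A] (1 : Twist p A))).toAddMonoidHom).comp
      (show Twist p P →+ RF p A P from ((toTwist p P).symm : Twist p P →+* P).toAddMonoidHom)
  have hf0 : ∀ b t, f0 b t = (b ⊗ₜ[A] (1 : Twist p A)) ⊗ₜ[BaseChange p A P]
      (show RF p A P from (toTwist p P).symm t) := fun b t => rfl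
  let f1 : B →+ Twist p P →+ BaseChange p A B ⊗[BaseChange p A P] RF p A P :=
    AddMonoidHom.mk' f0 (fun b b' => by
      ext t
      simp only [hf0, AddMonoidHom.add_apply, TensorProduct.add_tmul])
  have hbal : ∀ (c : P) (b : B) (t : Twist p P), f1 (c • b) t = f1 b (c • t) := by
    intro c b t
    change f0 (c • b) t = f0 b (c • t)
    rw [hf0, hf0]
    have e1 : ((c • b) ⊗ₜ[A] (1 : Twist p A) : BaseChange p A B) =
        (c ⊗ₜ[A] (1 : Twist p A) : BaseChange p A P) • (b ⊗ₜ[A] (1 : Twist p A)) := by
      have hs : (c ⊗ₜ[A] (1 : Twist p A) : BaseChange p A P) •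
          (b ⊗ₜ[A] (1 : Twist p A) : BaseChange p A B) =
          jmap p A P B (c ⊗ₜ[A] (1 : Twist p A)) * (b ⊗ₜ[A] (1 : Twist p A)) := rfl
      rw [hs]
      simp only [jmap, Algebra.TensorProduct.map_tmul,
        IsScalarTower.coe_toAlgHom', AlgHom.coe_id, id_eq, Algebra.TensorProduct.tmul_mul_tmul,
        mul_one, Algebra.smul_def]
    rw [e1, TensorProduct.smul_tmul]
    congr 1
    change relFrob p A P (c ⊗ₜ[A] (1 : Twist p A)) * (toTwist p P).symm t =
      (toTwist p P).symm (c • t)
    rw [relFrob_tmul_one, Algebra.smul_def, map_mul, algebraMap_twist, RingEquiv.symm_apply_apply]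
  let mu : B ⊗[P] Twist p P →+ BaseChange p A B ⊗[BaseChange p A P] RF p A P :=
    TensorProduct.liftAddHom f1 hbal
  have hmu : ∀ b t, mu (b ⊗ₜ[P] t) = (b ⊗ₜ[A] (1 : Twist p A)) ⊗ₜ[BaseChange p A P]
      (show RF p A P from (toTwist p P).symm t) := fun b t => rfl
  have hmu_surj : Function.Surjective mu := by
    intro z
    induction z using TensorProduct.induction_on with
    | zero => exact ⟨0, map_zero _⟩
    | add x y hx hy =>
      obtain ⟨a, rfl⟩ := hx
      obtain ⟨b, rfl⟩ := hy
      exact ⟨a + b, map_add _ _ _⟩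
    | tmul x c =>
      induction x using TensorProduct.induction_on with
      | zero => exact ⟨0, by rw [map_zero, TensorProduct.zero_tmul]⟩
      | add x y hx hy =>
        obtain ⟨a, ha⟩ := hx
        obtain ⟨b, hb⟩ := hy
        exact ⟨a + b, by rw [map_add, ha, hb, TensorProduct.add_tmul]⟩
      | tmul b a =>
        refine ⟨b ⊗ₜ[P] (toTwist p P (algebraMap A P ((toTwist p A).symm a) * (show P from c))), ?_⟩
        rw [hmu, RingEquiv.symm_apply_apply]
        have e1 : (b ⊗ₜ[A] a : BaseChange p A B) =
            ((1 : P) ⊗ₜ[A] a : BaseChange p A P) • (b ⊗ₜ[A] (1 : Twist p A)) := by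
          have hs : ((1 : P) ⊗ₜ[A] a : BaseChange p A P) •
              (b ⊗ₜ[A] (1 : Twist p A) : BaseChange p A B) =
              jmap p A P B ((1 : P) ⊗ₜ[A] a) * (b ⊗ₜ[A] (1 : Twist p A)) := rfl
          rw [hs]
          simp only [jmap,
            Algebra.TensorProduct.map_tmul, AlgHom.coe_id, id_eq,
            Algebra.TensorProduct.tmul_mul_tmul, mul_one, map_one, one_mul]
        rw [e1, TensorProduct.smul_tmul]
        congr 1
        change _ = relFrob p A P ((1 : P) ⊗ₜ[A] a) * (show P from c)
        rw [relFrob_one_tmul]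
  have hcomp : ∀ y : B ⊗[P] Twist p P, lam (mu y) = (show RF p A B from relFrob p P B y) := by
    intro y
    induction y using TensorProduct.induction_on with
    | zero =>
      rw [map_zero, map_zero, map_zero]
      rfl
    | tmul b t =>
      rw [hmu, hlam, relFrob_tmul_one, relFrob_tmul]
    | add x y hx hy =>
      rw [map_add, map_add, hx, hy, map_add]
      rfl
  have hbij : Function.Bijective lam := by
    constructor
    · intro x x' hxx
      obtain ⟨y, rfl⟩ := hmu_surj x
      obtain ⟨y', rfl⟩ := hmu_surj x'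
      rw [hcomp, hcomp] at hxx
      rw [h2.1 hxx]
    · intro b
      obtain ⟨y, hy⟩ := h2.2 (show B from b)
      refine ⟨mu y, ?_⟩
      rw [hcomp]
      exact hy
  exact ⟨(b.baseChange (BaseChange p A B)).map (LinearEquiv.ofBijective lam hbij)⟩


end comp

end Groth.Agent.Lib.Helper27.RelFrob
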