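import Groth.Agent.Lib.Helper27.RelFrobE

/-!
# Finiteness, projectivity and rank of the relative Frobenius of a smooth algebra
-/

set_option autoImplicit false

namespace Groth.Agent.Lib.Helper27.RelFrob

open TensorProduct FrobAlg Module

universe u v w

section finite

variable (p : ℕ) [Fact p.Prime] (A : Type u) [CommRing A] [CharP A p]
  (B : Type v) [CommRing B] [Algebra A B] [CharP B p]

theorem RF_isIntegral : Algebra.IsIntegral (BaseChange p A B) (RF p A B) := by
  refine ⟨fun b => ?_⟩
  refine ⟨Polynomial.X ^ p - Polynomial.C ((show B from b) ⊗ₜ[A] (1 : Twist p A)),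
    Polynomial.monic_X_pow_sub_C _ (Fact.out : p.Prime).ne_zero, ?_⟩
  rw [Polynomial.eval₂_sub, Polynomial.eval₂_pow, Polynomial.eval₂_X, Polynomial.eval₂_C,
    RF_algebraMap, relFrob_tmul_one]
  exact sub_self _

theorem RF_finiteType [Algebra.FiniteType A B] :
    Algebra.FiniteType (BaseChange p A B) (RF p A B) := by
  obtain ⟨s0, hs⟩ := (Algebra.FiniteType.out : (⊤ : Subalgebra A B).FG)
  obtain ⟨s, hss⟩ : ∃ s : Finset (RF p A B), s = s0 := ⟨s0, rfl⟩
  have key : ∀ x : B, x ∈ Algebra.adjoin A (↑s0 : Set B) →
      (show RF p A B from x) ∈ Algebra.adjoin (BaseChange p A B) (↑s : Set (RF p A B)) := by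
    intro x hx
    induction hx using Algebra.adjoin_induction with
    | mem x hx => exact Algebra.subset_adjoin (by rw [hss]; exact hx)
    | algebraMap a =>
      have : (show RF p A B from algebraMap A B a) =
          algebraMap (BaseChange p A B) (RF p A B) ((1 : B) ⊗ₜ[A] (toTwist p A a)) := by
        rw [RF_algebraMap, relFrob_one_tmul, RingEquiv.symm_apply_apply]
      rw [this]
      exact Subalgebra.algebraMap_mem _ _
    | add x y _ _ hx hy => exact Subalgebra.add_mem _ hx hy
    | mul x y _ _ hx hy => exact Subalgebra.mul_mem _ hx hy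
  refine ⟨⟨s, ?_⟩⟩
  rw [eq_top_iff]
  intro b _
  exact key b (by rw [hs]; trivial)

theorem RF_finite [Algebra.FiniteType A B] : Module.Finite (BaseChange p A B) (RF p A B) := by
  have h1 := RF_isIntegral p A B
  have h2 := RF_finiteType p A B
  exact Algebra.IsIntegral.finite

theorem RF_algFinitePresentation [Algebra.FinitePresentation A B] :
    Algebra.FinitePresentation (BaseChange p A B) (RF p A B) := by
  letI algTB : Algebra (Twist p A) (RF p A B) :=
    RingHom.toAlgebra (show Twist p A →+* RF p A B from
      (algebraMap A B).comp ((toTwist p A).symm : Twist p A →+* A))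
  have tower : IsScalarTower (Twist p A) (BaseChange p A B) (RF p A B) :=
    IsScalarTower.of_algebraMap_eq (fun t => by
      change algebraMap A B ((toTwist p A).symm t) = relFrob p A B ((1 : B) ⊗ₜ[A] t)
      rw [relFrob_one_tmul])
  have e1 : Algebra.FiniteType (Twist p A) (BaseChange p A B) :=
    Algebra.FiniteType.equiv inferInstance (Algebra.TensorProduct.commRight A (Twist p A) B)
  have e2 : Algebra.FinitePresentation (Twist p A) (RF p A B) := by
    letI algTA : Algebra (Twist p A) A :=
      RingHom.toAlgebra ((toTwist p A).symm : Twist p A →+* A)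
    letI algAB : Algebra A (RF p A B) := inferInstanceAs (Algebra A B)
    have hAB : Algebra.FinitePresentation A (RF p A B) :=
      inferInstanceAs (Algebra.FinitePresentation A B)
    have hTA : Algebra.FinitePresentation (Twist p A) A := by
      have h : ((toTwist p A).symm : Twist p A →+* A).Etale :=
        RingHom.Etale.of_bijective (toTwist p A).symm.bijective
      have : Algebra.Etale (Twist p A) A := h
      infer_instance
    have tw : IsScalarTower (Twist p A) A (RF p A B) :=
      IsScalarTower.of_algebraMap_eq (fun t => rfl)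
    exact Algebra.FinitePresentation.trans (Twist p A) A (RF p A B)
  exact Algebra.FinitePresentation.of_restrict_scalars_finitePresentation (Twist p A)
    (BaseChange p A B) (RF p A B)

theorem RF_finitePresentation [Algebra.FinitePresentation A B] :
    Module.FinitePresentation (BaseChange p A B) (RF p A B) := by
  have h1 := RF_finite p A B
  have h2 := RF_algFinitePresentation p A B
  exact Module.FinitePresentation.of_finite_of_finitePresentation _ _

theorem RF_flat [Algebra.Smooth A B] : Module.Flat (BaseChange p A B) (RF p A B) :=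
  relFrob_flat_of_smooth p A B

theorem RF_projective [Algebra.Smooth A B] : Module.Projective (BaseChange p A B) (RF p A B) := by
  have h1 := RF_flat p A B
  have h2 := RF_finitePresentation p A B
  exact Module.Flat.projective_of_finitePresentation

end finite

section away

variable (p : ℕ) [Fact p.Prime] (A : Type u) [CommRing A] [CharP A p]
  (B : Type v) [CommRing B] [Algebra A B] [CharP B p]

set_option backward.isDefEq.respectTransparency false in
/-- The rank of `B_r` over its Frobenius twist agrees with the rank of `B` over its twist. -/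
theorem rankAtStalk_away (r : B) [CharP (Localization.Away r) p]
    [Module.Flat (BaseChange p A B) (RF p A B)] [Module.Finite (BaseChange p A B) (RF p A B)]
    (x : PrimeSpectrum (BaseChange p A (Localization.Away r))) :
    rankAtStalk (R := BaseChange p A (Localization.Away r)) (RF p A (Localization.Away r)) x =
      rankAtStalk (R := BaseChange p A B) (RF p A B)
        (PrimeSpectrum.comap (jmap p A B (Localization.Away r)).toRingHom x) := by
  letI aXX : Algebra (BaseChange p A B) (BaseChange p A (Localization.Away r)) :=
    (jmap p A B (Localization.Away r)).toRingHom.toAlgebra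
  letI aBB : Algebra (RF p A B) (RF p A (Localization.Away r)) :=
    inferInstanceAs (Algebra B (Localization.Away r))
  letI aXB : Algebra (BaseChange p A B) (RF p A (Localization.Away r)) :=
    RingHom.toAlgebra ((algebraMap (BaseChange p A (Localization.Away r))
      (RF p A (Localization.Away r))).comp
      (algebraMap (BaseChange p A B) (BaseChange p A (Localization.Away r))))
  have t1 : IsScalarTower (BaseChange p A B) (BaseChange p A (Localization.Away r))
      (RF p A (Localization.Away r)) := IsScalarTower.of_algebraMap_eq (fun _ => rfl)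
  have t2 : IsScalarTower (BaseChange p A B) (RF p A B) (RF p A (Localization.Away r)) :=
    IsScalarTower.of_algebraMap_eq (fun s => relFrob_jmap p A B (Localization.Away r) s)
  have tw : IsScalarTower B (BaseChange p A B) (BaseChange p A (Localization.Away r)) :=
    IsScalarTower.of_algebraMap_eq (fun b => by
      simp [RingHom.algebraMap_toAlgebra, jmap])
  have hlocX : IsLocalization (Algebra.algebraMapSubmonoid (BaseChange p A B) (Submonoid.powers r))
      (BaseChange p A (Localization.Away r)) :=
    IsLocalization.tensorProduct_tensorProduct A (Twist p A) (Submonoid.powers r)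
      (Localization.Away r) (by
        ext t
        simp [RingHom.algebraMap_toAlgebra, jmap])
  have hlocB : IsLocalization (Algebra.algebraMapSubmonoid (RF p A B)
      (Algebra.algebraMapSubmonoid (BaseChange p A B) (Submonoid.powers r)))
      (RF p A (Localization.Away r)) := by
    have h0 : @IsLocalization (RF p A B) _ (@Submonoid.powers (RF p A B) _ r)
        (RF p A (Localization.Away r)) _ _ :=
      (inferInstance : IsLocalization (Submonoid.powers r) (Localization.Away r))
    refine (IsLocalization.iff_of_le_of_exists_dvd _ _ ?_ ?_).2 h0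
    · rintro _ ⟨m, ⟨b, ⟨k, rfl⟩, rfl⟩, rfl⟩
      refine ⟨k * p, ?_⟩
      change r ^ (k * p) = relFrob p A B ((r ^ k) ⊗ₜ[A] (1 : Twist p A))
      rw [relFrob_tmul_one, pow_mul]
    · rintro _ ⟨k, rfl⟩
      refine ⟨(show RF p A B from (r ^ k) ^ p), ⟨(r ^ k) ⊗ₜ[A] (1 : Twist p A), ⟨r ^ k, ⟨k, rfl⟩, rfl⟩, ?_⟩,
        dvd_pow_self _ (Fact.out : p.Prime).ne_zero⟩
      change relFrob p A B ((r ^ k) ⊗ₜ[A] (1 : Twist p A)) = (r ^ k) ^ p
      rw [relFrob_tmul_one]
  have push : Algebra.IsPushout (BaseChange p A B) (RF p A B)
      (BaseChange p A (Localization.Away r)) (RF p A (Localization.Away r)) :=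
    (Algebra.isLocalization_iff_isPushout
      (Algebra.algebraMapSubmonoid (BaseChange p A B) (Submonoid.powers r))
      (BaseChange p A (Localization.Away r))).1 hlocB
  exact Algebra.rankAtStalk_eq_of_isPushout (BaseChange p A B) (RF p A B)
    (BaseChange p A (Localization.Away r)) (RF p A (Localization.Away r)) x

end away

section omega

variable (A : Type u) [CommRing A]

/-- If `B'` is étale over `A[x₁,…,xₙ]`, then `Ω_{B'/A}` has rank `n` everywhere. -/
theorem rankAtStalk_kaehler_of_etale (n : ℕ) (B' : Type v) [CommRing B'] [Algebra A B']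
    [Nontrivial B'] [Algebra (MvPolynomial (Fin n) A) B']
    [IsScalarTower A (MvPolynomial (Fin n) A) B'] [Algebra.Etale (MvPolynomial (Fin n) A) B']
    (x' : PrimeSpectrum B') : rankAtStalk (R := B') Ω[B'⁄A] x' = n := by
  let e := KaehlerDifferential.tensorKaehlerEquivOfFormallyEtale A (MvPolynomial (Fin n) A) B'
  let b : Basis (Fin n) B' Ω[B'⁄A] :=
    ((KaehlerDifferential.mvPolynomialBasis A (Fin n)).baseChange B').map e
  have : Module.Free B' Ω[B'⁄A] := Module.Free.of_basis b
  rw [rankAtStalk_eq_finrank_of_free, Module.finrank_eq_card_basis b, Fintype.card_fin]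
  simp

/-- The rank of `Ω` is unchanged by localization. -/
theorem rankAtStalk_kaehler_away (B : Type v) [CommRing B] [Algebra A B]
    [Module.Flat B Ω[B⁄A]] [Module.Finite B Ω[B⁄A]] (r : B)
    (x' : PrimeSpectrum (Localization.Away r)) :
    rankAtStalk (R := Localization.Away r) Ω[Localization.Away r⁄A] x' =
      rankAtStalk (R := B) Ω[B⁄A] (PrimeSpectrum.comap (algebraMap B (Localization.Away r)) x') := by
  have := Algebra.FormallyEtale.of_isLocalization (Rₘ := Localization.Away r) (Submonoid.powers r)
  exact Module.rankAtStalk_isBaseChange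
    (KaehlerDifferential.isBaseChange_of_formallyEtale A B (Localization.Away r)) x'

end omega

section main

variable (p : ℕ) [Fact p.Prime] (A : Type u) [CommRing A] [CharP A p]
  (B : Type v) [CommRing B] [Algebra A B] [CharP B p]

theorem rankAtStalk_RF_of_smooth [Algebra.Smooth A B] (r : ℕ)
    (hr : ∀ q : PrimeSpectrum B, rankAtStalk (R := B) Ω[B⁄A] q = r)
    (q : PrimeSpectrum (BaseChange p A B)) :
    rankAtStalk (R := BaseChange p A B) (RF p A B) q = p ^ r := by
  have hfl := RF_flat p A B
  have hfin := RF_finite p A B
  obtain ⟨s, hs, hstd⟩ := Algebra.Smooth.exists_span_eq_top_isStandardSmooth A B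
  -- a prime of `B` over `q`
  obtain ⟨q', hq'def⟩ : ∃ q' : PrimeSpectrum B, q' = PrimeSpectrum.comap
      (Algebra.TensorProduct.includeLeftRingHom : B →+* BaseChange p A B) q := ⟨_, rfl⟩
  have hq' : PrimeSpectrum.comap (relFrob p A B) q' = q := by
    ext y
    rw [hq'def]
    simp only [PrimeSpectrum.comap_asIdeal, Ideal.mem_comap]
    change (relFrob p A B y) ⊗ₜ[A] (1 : Twist p A) ∈ q.asIdeal ↔ _
    rw [← pow_eq]
    exact ⟨fun h => q.isPrime.mem_of_pow_mem _ h,
      fun h => Ideal.pow_mem_of_mem _ h _ (Fact.out : p.Prime).pos⟩
  obtain ⟨f, hfs, hfq⟩ : ∃ f ∈ s, f ∉ q'.asIdeal := by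
    by_contra hcon
    push_neg at hcon
    have : Ideal.span s ≤ q'.asIdeal := Ideal.span_le.2 hcon
    rw [hs] at this
    exact q'.isPrime.ne_top (top_le_iff.1 this)
  have hstdf := hstd f hfs
  obtain ⟨x', hx'⟩ : ∃ x' : PrimeSpectrum (Localization.Away f),
      PrimeSpectrum.comap (algebraMap B (Localization.Away f)) x' = q' := by
    have : q' ∈ Set.range (PrimeSpectrum.comap (algebraMap B (Localization.Away f))) := by
      rw [PrimeSpectrum.localization_away_comap_range (Localization.Away f) f]
      exact hfq
    exact this
  have hnt : Nontrivial (Localization.Away f) := by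
    refine nontrivial_of_ne (1 : Localization.Away f) 0 (fun h => x'.isPrime.ne_top ?_)
    rw [Ideal.eq_top_iff_one, h]
    exact zero_mem _
  have hp0 : ((p : ℕ) : Localization.Away f) = 0 := by
    rw [← map_natCast (algebraMap B (Localization.Away f)), CharP.cast_eq_zero, map_zero]
  have hchar : CharP (Localization.Away f) p :=
    (CharP.charP_iff_prime_eq_zero (Fact.out : p.Prime)).2 hp0
  obtain ⟨n, g, hgC, hg⟩ := RingHom.IsStandardSmooth.exists_etale_mvPolynomial
    (f := algebraMap A (Localization.Away f))
    (by rwa [RingHom.isStandardSmooth_algebraMap])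
  letI algg : Algebra (MvPolynomial (Fin n) A) (Localization.Away f) := g.toAlgebra
  have tw : IsScalarTower A (MvPolynomial (Fin n) A) (Localization.Away f) :=
    IsScalarTower.of_algebraMap_eq' hgC.symm
  have het : Algebra.Etale (MvPolynomial (Fin n) A) (Localization.Away f) := hg
  -- `n = r`
  have hn : n = r := by
    have h1 := rankAtStalk_kaehler_of_etale A n (Localization.Away f) x'
    have h2 := rankAtStalk_kaehler_away A B f x'
    rw [h1, hr] at h2
    exact h2
  -- a basis of `B_f` over its twist
  obtain ⟨b0⟩ := mvPolynomial_basis p A (Fin n)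
  obtain ⟨b⟩ := exists_basis_of_comp p A (MvPolynomial (Fin n) A) (Localization.Away f) b0
    (relFrob_bijective_of_etale p (MvPolynomial (Fin n) A) (Localization.Away f))
  obtain ⟨x, hxdef⟩ : ∃ x : PrimeSpectrum (BaseChange p A (Localization.Away f)),
      x = PrimeSpectrum.comap (relFrob p A (Localization.Away f)) x' := ⟨_, rfl⟩
  have hx : PrimeSpectrum.comap (jmap p A B (Localization.Away f)).toRingHom x = q := by
    have heq : (relFrob p A (Localization.Away f)).comp
        (jmap p A B (Localization.Away f)).toRingHom =
        (algebraMap B (Localization.Away f)).comp (relFrob p A B) := by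
      refine RingHom.ext (fun y => ?_)
      exact relFrob_jmap p A B (Localization.Away f) y
    rw [hxdef, ← PrimeSpectrum.comap_comp_apply, heq, PrimeSpectrum.comap_comp_apply, hx', hq']
  have h3 := rankAtStalk_away p A B f x
  rw [hx] at h3
  rw [← h3]
  have hntX : Nontrivial (BaseChange p A (Localization.Away f)) :=
    (relFrob p A (Localization.Away f)).domain_nontrivial
  have hfree : Module.Free (BaseChange p A (Localization.Away f)) (RF p A (Localization.Away f)) :=
    Module.Free.of_basis b
  rw [rankAtStalk_eq_finrank_of_free, Module.finrank_eq_nat_card_basis b, natCard_EE, Nat.card_fin,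
    hn]
  simp

end main

end Groth.Agent.Lib.Helper27.RelFrob
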