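import Mathlib

/-! Number theory for the gcd of `∏_{a ≤ g} (ℓ^{2a} - 1)` over large primes `ℓ` (helper27). -/

set_option autoImplicit false
open Finset

namespace Groth.Agent.Lib.Helper27.SSRedNT

lemma padicValNat_prod' {ι : Type*} (p : ℕ) [Fact p.Prime] (s : Finset ι) (f : ι → ℕ)
    (hf : ∀ i ∈ s, f i ≠ 0) :
    padicValNat p (∏ i ∈ s, f i) = ∑ i ∈ s, padicValNat p (f i) := by
  classical
  induction s using Finset.induction_on with
  | empty => simp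
  | insert a s ha ih =>
    rw [prod_insert ha, sum_insert ha,
      padicValNat.mul (hf a (mem_insert_self a s))
        (prod_ne_zero_iff.mpr fun i hi => hf i (mem_insert_of_mem hi)),
      ih fun i hi => hf i (mem_insert_of_mem hi)]

lemma padicValNat_factorial_eq_sum (p : ℕ) [Fact p.Prime] (g : ℕ) :
    padicValNat p g.factorial = ∑ a ∈ Icc 1 g, padicValNat p a := by
  induction g with
  | zero => simp
  | succ g ih =>
    rw [Nat.factorial_succ, padicValNat.mul (by omega) (Nat.factorial_ne_zero g), ih,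
      Finset.sum_Icc_succ_top (by omega), add_comm]

lemma pow_sub_one_ne_zero {ℓ a : ℕ} (hℓ : 1 < ℓ) (ha : a ≠ 0) : ℓ ^ (2 * a) - 1 ≠ 0 := by
  have : 1 < ℓ ^ (2 * a) := Nat.one_lt_pow (by omega) hℓ
  omega

/-- the product -/
def Pr (ℓ g : ℕ) : ℕ := ∏ a ∈ Icc 1 g, (ℓ ^ (2 * a) - 1)

lemma Pr_ne_zero {ℓ : ℕ} (hℓ : 1 < ℓ) (g : ℕ) : Pr ℓ g ≠ 0 := by
  rw [Pr, prod_ne_zero_iff]
  intro a ha
  rw [mem_Icc] at ha
  exact pow_sub_one_ne_zero hℓ (by omega)

lemma padicValNat_Pr (p : ℕ) [Fact p.Prime] {ℓ : ℕ} (hℓ : 1 < ℓ) (g : ℕ) :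
    padicValNat p (Pr ℓ g) = ∑ a ∈ Icc 1 g, padicValNat p (ℓ ^ (2 * a) - 1) := by
  rw [Pr, padicValNat_prod']
  intro a ha
  rw [mem_Icc] at ha
  exact pow_sub_one_ne_zero hℓ (by omega)

/-! ### The prime 2 -/

lemma v2_pow {ℓ a : ℕ} (hℓ : 1 < ℓ) (hodd : ¬ 2 ∣ ℓ) (ha : a ≠ 0) :
    padicValNat 2 (ℓ ^ (2 * a) - 1)
      = padicValNat 2 (ℓ + 1) + padicValNat 2 (ℓ - 1) + padicValNat 2 a := by
  have h := padicValNat.pow_two_sub_one hℓ hodd (n := 2 * a) (by omega) (even_two_mul a)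
  have h2 : padicValNat 2 (2 * a) = 1 + padicValNat 2 a := by
    rw [padicValNat.mul (by norm_num) ha]; simp
  omega

lemma v2_Pr {ℓ : ℕ} (hℓ : 1 < ℓ) (hodd : ¬ 2 ∣ ℓ) (g : ℕ) :
    padicValNat 2 (Pr ℓ g)
      = g * (padicValNat 2 (ℓ + 1) + padicValNat 2 (ℓ - 1)) + padicValNat 2 g.factorial := by
  rw [padicValNat_Pr 2 hℓ, padicValNat_factorial_eq_sum]
  have : ∀ a ∈ Icc 1 g, padicValNat 2 (ℓ ^ (2 * a) - 1)
      = (padicValNat 2 (ℓ + 1) + padicValNat 2 (ℓ - 1)) + padicValNat 2 a := by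
    intro a ha
    rw [mem_Icc] at ha
    exact v2_pow hℓ hodd (by omega)
  rw [sum_congr rfl this, sum_add_distrib, sum_const, Nat.card_Icc]
  simp

lemma v2_ge_three {ℓ : ℕ} (hℓ : 1 < ℓ) (hodd : ¬ 2 ∣ ℓ) :
    3 ≤ padicValNat 2 (ℓ + 1) + padicValNat 2 (ℓ - 1) := by
  have h1 : ℓ + 1 ≠ 0 := by omega
  have h2 : ℓ - 1 ≠ 0 := by omega
  rw [← padicValNat.mul h1 h2]
  refine (padicValNat_dvd_iff_le (mul_ne_zero h1 h2)).mp ?_
  have : (ℓ + 1) * (ℓ - 1) = ℓ ^ 2 - 1 := by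
    have := Nat.pow_two_sub_pow_two ℓ 1
    simpa using this.symm
  rw [this]
  have hodd' : Odd ℓ := by rwa [← Nat.not_even_iff_odd, even_iff_two_dvd]
  exact Nat.eight_dvd_sq_sub_one_of_odd hodd'

lemma v2_eq_three {ℓ k : ℕ} (h : ℓ = 8 * k + 3) :
    padicValNat 2 (ℓ + 1) + padicValNat 2 (ℓ - 1) = 3 := by
  subst h
  have e1 : 8 * k + 3 + 1 = 2 ^ 2 * (2 * k + 1) := by ring
  have e2 : 8 * k + 3 - 1 = 2 ^ 1 * (4 * k + 1) := by omega
  rw [e1, e2, padicValNat.mul (by norm_num) (by omega), padicValNat.mul (by norm_num) (by omega),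
    padicValNat.prime_pow, padicValNat.prime_pow,
    padicValNat.eq_zero_of_not_dvd (by omega), padicValNat.eq_zero_of_not_dvd (by omega)]

/-! ### Odd primes -/

lemma fermat_dvd {p ℓ : ℕ} (hp : p.Prime) (hℓ : ¬ p ∣ ℓ) : p ∣ ℓ ^ (p - 1) - 1 := by
  have hc : Nat.Coprime ℓ p := ((Nat.Prime.coprime_iff_not_dvd hp).mpr hℓ).symm
  have h := Nat.ModEq.pow_totient hc
  rw [Nat.totient_prime hp] at h
  have hpos : 0 < ℓ := Nat.pos_of_ne_zero (fun h0 => hℓ (h0 ▸ dvd_zero p))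
  exact (Nat.modEq_iff_dvd' (Nat.one_le_pow _ _ hpos)).mp h.symm

lemma vp_pow {p ℓ i : ℕ} [Fact p.Prime] (hp : Odd p) (hℓ1 : 1 < ℓ) (hℓ : ¬ p ∣ ℓ) (hi : i ≠ 0) :
    padicValNat p (ℓ ^ ((p - 1) * i) - 1)
      = padicValNat p (ℓ ^ (p - 1) - 1) + padicValNat p i := by
  have hp' := (Fact.out : p.Prime)
  have hp1 : p - 1 ≠ 0 := by have := hp'.two_le; omega
  have h1 : 1 < ℓ ^ (p - 1) := Nat.one_lt_pow hp1 hℓ1
  have h := padicValNat.pow_sub_pow hp (x := ℓ ^ (p - 1)) (y := 1) h1 (fermat_dvd hp' hℓ)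
    (fun h => hℓ (hp'.dvd_of_dvd_pow h)) hi
  rwa [one_pow, ← pow_mul] at h

lemma exists_good_prime {p : ℕ} (hp : p.Prime) (hp2 : p ≠ 2) (B : ℕ) :
    ∃ ℓ, ℓ.Prime ∧ B < ℓ ∧ ¬ p ∣ ℓ ∧ padicValNat p (ℓ ^ (p - 1) - 1) = 1 ∧
      ∀ m, p ∣ ℓ ^ m - 1 → (p - 1) ∣ m := by
  haveI := Fact.mk hp
  have hodd : Odd p := hp.odd_of_ne_two hp2
  haveI : NeZero (p ^ 2) := ⟨pow_ne_zero 2 hp.ne_zero⟩
  haveI := ZMod.isCyclic_units_of_prime_pow p hp hp2 2
  obtain ⟨u, hu⟩ := IsCyclic.exists_generator (α := (ZMod (p ^ 2))ˣ)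
  have hord : orderOf u = p * (p - 1) := by
    rw [orderOf_eq_card_of_forall_mem_zpowers hu, Nat.card_eq_fintype_card,
      ZMod.card_units_eq_totient, Nat.totient_prime_pow hp (by norm_num)]
    simp
  obtain ⟨ℓ, hℓB, hℓp, hℓu⟩ := Nat.forall_exists_prime_gt_and_eq_mod (q := p ^ 2)
    (a := (u : ZMod (p ^ 2))) u.isUnit (max B p)
  have hℓ1 : 1 < ℓ := hℓp.one_lt
  have hpℓ : ¬ p ∣ ℓ := by
    intro h
    have h1 := (Nat.prime_dvd_prime_iff_eq hp hℓp).mp h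
    have h2 : p < ℓ := lt_of_le_of_lt (le_max_right B p) hℓB
    omega
  have key : ∀ m, p ^ 2 ∣ ℓ ^ m - 1 → p * (p - 1) ∣ m := by
    intro m hm
    rw [← hord, orderOf_dvd_iff_pow_eq_one]
    apply Units.ext
    rw [Units.val_pow_eq_pow_val, ← hℓu, Units.val_one]
    have h1 : ((ℓ ^ m - 1 : ℕ) : ZMod (p ^ 2)) = 0 := (ZMod.natCast_eq_zero_iff _ _).mpr hm
    rw [Nat.cast_sub (Nat.one_le_pow _ _ (by omega)), Nat.cast_pow, Nat.cast_one,
      sub_eq_zero] at h1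
    exact h1
  have hp1 : p - 1 ≠ 0 := by have := hp.two_le; omega
  refine ⟨ℓ, hℓp, lt_of_le_of_lt (le_max_left B p) hℓB, hpℓ, ?_, ?_⟩
  · have hne : ℓ ^ (p - 1) - 1 ≠ 0 := by
      have : 1 < ℓ ^ (p - 1) := Nat.one_lt_pow hp1 hℓ1
      omega
    have h1 : 1 ≤ padicValNat p (ℓ ^ (p - 1) - 1) :=
      one_le_padicValNat_of_dvd hne (fermat_dvd hp hpℓ)
    by_contra hne1
    have h2 : 2 ≤ padicValNat p (ℓ ^ (p - 1) - 1) := by omega
    have h3 : p ^ 2 ∣ ℓ ^ (p - 1) - 1 := (padicValNat_dvd_iff_le hne).mpr h2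
    have h4 := key _ h3
    have h5 := Nat.le_of_dvd (by omega) h4
    have h6 := hp.two_le
    have h7 : 2 * (p - 1) ≤ p * (p - 1) := Nat.mul_le_mul_right _ h6
    omega
  · intro m hm
    rcases Nat.eq_zero_or_pos m with rfl | hmpos
    · simp
    have hx1 : 1 < ℓ ^ m := Nat.one_lt_pow hmpos.ne' hℓ1
    have hLTE := padicValNat.pow_sub_pow hodd (x := ℓ ^ m) (y := 1) hx1 (by simpa using hm)
      (fun h => hpℓ (hp.dvd_of_dvd_pow h)) (n := p) hp.ne_zero
    rw [one_pow, ← pow_mul, padicValNat_self] at hLTE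
    have h1 : 1 ≤ padicValNat p (ℓ ^ m - 1) := one_le_padicValNat_of_dvd (by omega) hm
    have hne : ℓ ^ (m * p) - 1 ≠ 0 := by
      have : 1 < ℓ ^ (m * p) := Nat.one_lt_pow (Nat.mul_ne_zero hmpos.ne' hp.ne_zero) hℓ1
      omega
    have h3 : p ^ 2 ∣ ℓ ^ (m * p) - 1 := (padicValNat_dvd_iff_le hne).mpr (by omega)
    have h4 := key _ h3
    rw [mul_comm m p] at h4
    exact Nat.dvd_of_mul_dvd_mul_left hp.pos h4

lemma image_subset_Icc {h k g : ℕ} (hh : 0 < h) (hk : k = g / h) :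
    (Icc 1 k).image (fun i => h * i) ⊆ Icc 1 g := by
  intro a ha
  obtain ⟨i, hi, rfl⟩ := mem_image.mp ha
  rw [mem_Icc] at hi ⊢
  constructor
  · exact Nat.mul_pos hh hi.1
  · calc h * i ≤ h * (g / h) := Nat.mul_le_mul_left _ (hk ▸ hi.2)
      _ ≤ g := Nat.mul_div_le g h

lemma sum_image_h {h k : ℕ} (hh : 0 < h) (F : ℕ → ℕ) :
    ∑ a ∈ (Icc 1 k).image (fun i => h * i), F a = ∑ i ∈ Icc 1 k, F (h * i) :=
  sum_image (fun _ _ _ _ hxy => Nat.eq_of_mul_eq_mul_left hh hxy)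

lemma odd_lower {p : ℕ} [Fact p.Prime] (hp : Odd p) {ℓ : ℕ} (hℓ1 : 1 < ℓ) (hℓ : ¬ p ∣ ℓ)
    (g : ℕ) :
    (2 * g) / (p - 1) + ∑ i ∈ Icc 1 ((2 * g) / (p - 1)), padicValNat p i
      ≤ padicValNat p (Pr ℓ g) := by
  have hp' := (Fact.out : p.Prime)
  obtain ⟨h, hph'⟩ := hp
  have hph : p - 1 = 2 * h := by omega
  have hh : 0 < h := by have := hp'.two_le; omega
  have hk : (2 * g) / (p - 1) = g / h := by
    rw [hph, Nat.mul_div_mul_left g h two_pos]
  set k := (2 * g) / (p - 1) with hkdef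
  rw [padicValNat_Pr p hℓ1]
  have hp1 : Odd p := ⟨h, hph'⟩
  calc k + ∑ i ∈ Icc 1 k, padicValNat p i
      = ∑ i ∈ Icc 1 k, (1 + padicValNat p i) := by
        rw [sum_add_distrib, sum_const, Nat.card_Icc]; simp
    _ ≤ ∑ i ∈ Icc 1 k, padicValNat p (ℓ ^ (2 * (h * i)) - 1) := by
        refine sum_le_sum fun i hi => ?_
        rw [mem_Icc] at hi
        have e : 2 * (h * i) = (p - 1) * i := by rw [hph]; ring
        rw [e, vp_pow hp1 hℓ1 hℓ (by omega)]
        have hne : ℓ ^ (p - 1) - 1 ≠ 0 := by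
          have : 1 < ℓ ^ (p - 1) := Nat.one_lt_pow (by omega) hℓ1
          omega
        have := one_le_padicValNat_of_dvd hne (fermat_dvd hp' hℓ)
        omega
    _ = ∑ a ∈ (Icc 1 k).image (fun i => h * i), padicValNat p (ℓ ^ (2 * a) - 1) :=
        (sum_image_h hh (fun a => padicValNat p (ℓ ^ (2 * a) - 1))).symm
    _ ≤ ∑ a ∈ Icc 1 g, padicValNat p (ℓ ^ (2 * a) - 1) :=
        sum_le_sum_of_subset (image_subset_Icc hh hk)

lemma odd_exact {p : ℕ} [Fact p.Prime] (hp : Odd p) {ℓ : ℕ} (hℓ1 : 1 < ℓ) (hℓ : ¬ p ∣ ℓ)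
    (hv : padicValNat p (ℓ ^ (p - 1) - 1) = 1) (hord : ∀ m, p ∣ ℓ ^ m - 1 → (p - 1) ∣ m)
    (g : ℕ) :
    padicValNat p (Pr ℓ g)
      = (2 * g) / (p - 1) + ∑ i ∈ Icc 1 ((2 * g) / (p - 1)), padicValNat p i := by
  have hp' := (Fact.out : p.Prime)
  obtain ⟨h, hph'⟩ := hp
  have hph : p - 1 = 2 * h := by omega
  have hh : 0 < h := by have := hp'.two_le; omega
  have hk : (2 * g) / (p - 1) = g / h := by
    rw [hph, Nat.mul_div_mul_left g h two_pos]
  set k := (2 * g) / (p - 1) with hkdef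
  rw [padicValNat_Pr p hℓ1]
  have hp1 : Odd p := ⟨h, hph'⟩
  symm
  calc k + ∑ i ∈ Icc 1 k, padicValNat p i
      = ∑ i ∈ Icc 1 k, (1 + padicValNat p i) := by
        rw [sum_add_distrib, sum_const, Nat.card_Icc]; simp
    _ = ∑ i ∈ Icc 1 k, padicValNat p (ℓ ^ (2 * (h * i)) - 1) := by
        refine sum_congr rfl fun i hi => ?_
        rw [mem_Icc] at hi
        have e : 2 * (h * i) = (p - 1) * i := by rw [hph]; ring
        rw [e, vp_pow hp1 hℓ1 hℓ (by omega), hv]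
    _ = ∑ a ∈ (Icc 1 k).image (fun i => h * i), padicValNat p (ℓ ^ (2 * a) - 1) :=
        (sum_image_h hh (fun a => padicValNat p (ℓ ^ (2 * a) - 1))).symm
    _ = ∑ a ∈ Icc 1 g, padicValNat p (ℓ ^ (2 * a) - 1) := by
        refine sum_subset (image_subset_Icc hh hk) fun a ha hna => ?_
        rw [mem_Icc] at ha
        by_contra hne
        have hdvd : p ∣ ℓ ^ (2 * a) - 1 := by
          by_contra hnd
          exact hne (padicValNat.eq_zero_of_not_dvd hnd)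
        have h1 := hord _ hdvd
        rw [hph] at h1
        have h2 : h ∣ a := Nat.dvd_of_mul_dvd_mul_left two_pos h1
        obtain ⟨i, rfl⟩ := h2
        apply hna
        refine mem_image.mpr ⟨i, ?_, rfl⟩
        rw [mem_Icc]
        constructor
        · rcases Nat.eq_zero_or_pos i with rfl | hi
          · omega
          · exact hi
        · rw [hk]
          exact (Nat.le_div_iff_mul_le hh).mpr (by rw [mul_comm]; exact ha.2)

/-! ### The number `N(g)` -/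

/-- exponent at an odd prime -/
def E (p g : ℕ) : ℕ := (2 * g) / (p - 1) + ∑ i ∈ Icc 1 ((2 * g) / (p - 1)), padicValNat p i

/-- the number N(g) -/
def N (g : ℕ) : ℕ := 2 ^ (3 * g + padicValNat 2 g.factorial) *
  ∏ p ∈ (Icc 3 (2 * g + 1)).filter Nat.Prime, p ^ (E p g)

lemma N_ne_zero (g : ℕ) : N g ≠ 0 := by
  rw [N]
  refine mul_ne_zero (by positivity) (prod_ne_zero_iff.mpr fun p hp => ?_)
  rw [mem_filter] at hp
  exact pow_ne_zero _ hp.2.ne_zero

lemma padicValNat_N (q : ℕ) [Fact q.Prime] (g : ℕ) :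
    padicValNat q (N g) = (if q = 2 then 3 * g + padicValNat 2 g.factorial else 0) +
      (if q ∈ (Icc 3 (2 * g + 1)).filter Nat.Prime then E q g else 0) := by
  have hq := (Fact.out : q.Prime)
  rw [N, padicValNat.mul (by positivity) (prod_ne_zero_iff.mpr fun p hp => by
    rw [mem_filter] at hp; exact pow_ne_zero _ hp.2.ne_zero)]
  congr 1
  · by_cases h2 : q = 2
    · subst h2; simp
    · rw [if_neg h2, padicValNat.pow]
      haveI : Fact (Nat.Prime 2) := ⟨Nat.prime_two⟩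
      rw [padicValNat_primes h2, mul_zero]
  · rw [padicValNat_prod' q _ _ (fun p hp => by
      rw [mem_filter] at hp; exact pow_ne_zero _ hp.2.ne_zero)]
    have : ∀ p ∈ (Icc 3 (2 * g + 1)).filter Nat.Prime,
        padicValNat q (p ^ E p g) = if p = q then E q g else 0 := by
      intro p hp
      rw [mem_filter] at hp
      rw [padicValNat.pow]
      by_cases hpq : p = q
      · subst hpq; simp
      · rw [if_neg hpq]
        haveI : Fact p.Prime := ⟨hp.2⟩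
        rw [padicValNat_primes (Ne.symm hpq), mul_zero]
    rw [sum_congr rfl this, sum_ite_eq']

lemma padicValNat_N_two (g : ℕ) : padicValNat 2 (N g) = 3 * g + padicValNat 2 g.factorial := by
  haveI : Fact (Nat.Prime 2) := ⟨Nat.prime_two⟩
  rw [padicValNat_N, if_pos rfl, if_neg, add_zero]
  rw [mem_filter, mem_Icc]
  omega

lemma padicValNat_N_odd (q : ℕ) [Fact q.Prime] (hq2 : q ≠ 2) (g : ℕ) :
    padicValNat q (N g) = E q g := by
  have hq := (Fact.out : q.Prime)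
  rw [padicValNat_N, if_neg hq2, zero_add]
  split_ifs with h
  · rfl
  · rw [mem_filter, mem_Icc] at h
    have h3 : 3 ≤ q := by have := hq.two_le; omega
    have h4 : 2 * g + 1 < q := by
      by_contra hle
      exact h ⟨⟨h3, by omega⟩, hq⟩
    have h5 : (2 * g) / (q - 1) = 0 := Nat.div_eq_of_lt (by omega)
    rw [E, h5]; simp

theorem main (g B d : ℕ) (hB : 2 * g + 1 ≤ B) :
    (∀ ℓ : ℕ, ℓ.Prime → B < ℓ → d ∣ Pr ℓ g) ↔ d ∣ N g := by
  constructor
  · intro hd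
    have hd0 : d ≠ 0 := by
      obtain ⟨ℓ, hℓB, hℓp⟩ := Nat.exists_infinite_primes (B + 1)
      intro h0
      have := hd ℓ hℓp (by omega)
      rw [h0, zero_dvd_iff] at this
      exact Pr_ne_zero hℓp.one_lt g this
    rw [← Nat.factorization_prime_le_iff_dvd hd0 (N_ne_zero g)]
    intro q hq
    haveI := Fact.mk hq
    rw [Nat.factorization_def _ hq, Nat.factorization_def _ hq]
    have hle : ∀ ℓ : ℕ, ℓ.Prime → B < ℓ → padicValNat q d ≤ padicValNat q (Pr ℓ g) := by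
      intro ℓ hℓp hℓB
      have h1 : q ^ padicValNat q d ∣ Pr ℓ g := (pow_padicValNat_dvd).trans (hd ℓ hℓp hℓB)
      exact (padicValNat_dvd_iff_le (Pr_ne_zero hℓp.one_lt g)).mp h1
    by_cases hq2 : q = 2
    · subst hq2
      have hu : IsUnit ((3 : ℕ) : ZMod 8) := (ZMod.isUnit_iff_coprime 3 8).mpr (by norm_num)
      obtain ⟨ℓ, hℓB, hℓp, hℓ3⟩ := Nat.forall_exists_prime_gt_and_eq_mod hu B
      have hmod : ℓ % 8 = 3 := by
        have := (ZMod.natCast_eq_natCast_iff' ℓ 3 8).mp hℓ3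
        simpa using this
      have hℓeq : ℓ = 8 * (ℓ / 8) + 3 := by omega
      have hodd : ¬ 2 ∣ ℓ := by omega
      refine (hle ℓ hℓp hℓB).trans ?_
      rw [v2_Pr hℓp.one_lt hodd, v2_eq_three hℓeq, padicValNat_N_two]
      omega
    · obtain ⟨ℓ, hℓp, hℓB, hqℓ, hv, hord⟩ := exists_good_prime hq hq2 B
      refine (hle ℓ hℓp hℓB).trans ?_
      rw [odd_exact (hq.odd_of_ne_two hq2) hℓp.one_lt hqℓ hv hord, padicValNat_N_odd q hq2]
      rfl
  · intro hdN ℓ hℓp hℓB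
    refine hdN.trans ?_
    rw [← Nat.factorization_prime_le_iff_dvd (N_ne_zero g) (Pr_ne_zero hℓp.one_lt g)]
    intro q hq
    haveI := Fact.mk hq
    rw [Nat.factorization_def _ hq, Nat.factorization_def _ hq]
    by_cases hq2 : q = 2
    · subst hq2
      rw [padicValNat_N_two]
      rcases Nat.eq_zero_or_pos g with rfl | hg
      · simp
      · have hodd : ¬ 2 ∣ ℓ := by
          intro h
          have := (Nat.prime_dvd_prime_iff_eq Nat.prime_two hℓp).mp h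
          omega
        rw [v2_Pr hℓp.one_lt hodd]
        have := v2_ge_three hℓp.one_lt hodd
        nlinarith
    · rw [padicValNat_N, if_neg hq2, zero_add]
      split_ifs with h
      · rw [mem_filter, mem_Icc] at h
        have hqℓ : ¬ q ∣ ℓ := by
          intro hdvd
          have := (Nat.prime_dvd_prime_iff_eq hq hℓp).mp hdvd
          omega
        exact odd_lower (hq.odd_of_ne_two hq2) hℓp.one_lt hqℓ g
      · exact Nat.zero_le _

end Groth.Agent.Lib.Helper27.SSRedNT
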