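import Mathlib.RingTheory.Smooth.StandardSmoothCotangent
import Mathlib.RingTheory.Smooth.Flat
import Mathlib.RingTheory.Extension.Presentation.Submersive

/-! Lifting standard smooth algebras along square-zero (nilpotent) surjections (helper27). -/

set_option autoImplicit false

namespace Groth.Agent.Lib.Helper27.SmoothLift

universe u v w

open MvPolynomial

lemma isUnit_of_map_of_ker_sq {R S : Type*} [CommRing R] [CommRing S] (f : R →+* S)
    (hf : Function.Surjective f) (hK : (RingHom.ker f) ^ 2 = ⊥) (x : R) (hx : IsUnit (f x)) :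
    IsUnit x := by
  obtain ⟨u, hu⟩ := hx
  obtain ⟨y, hy⟩ := hf (↑u⁻¹ : S)
  have hmem : x * y - 1 ∈ RingHom.ker f := by
    rw [RingHom.mem_ker, map_sub, map_mul, map_one, hy, ← hu, Units.mul_inv, sub_self]
  have hnil : IsNilpotent (x * y - 1) := by
    refine ⟨2, ?_⟩
    have : (x * y - 1) ^ 2 ∈ (RingHom.ker f) ^ 2 := Ideal.pow_mem_pow hmem 2
    rw [hK] at this
    exact this
  have : IsUnit (x * y) := by
    have h := hnil.isUnit_add_one
    simpa using h
  exact isUnit_of_mul_isUnit_left this

variable {A : Type u} {B : Type v} {C : Type w} [CommRing A] [CommRing B] [CommRing C]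
  [Algebra A C]

theorem exists_lift_of_submersive {ι σ : Type} [Finite ι] [Finite σ]
    (P : Algebra.SubmersivePresentation A C ι σ)
    (π : B →+* A) (hπ : Function.Surjective π) (hK : (RingHom.ker π) ^ 2 = ⊥) :
    ∃ (C' : Type v) (_ : CommRing C') (_ : Algebra B C') (πC : C' →+* C),
      Function.Surjective πC ∧ (∀ b, πC (algebraMap B C' b) = algebraMap A C (π b)) ∧
      RingHom.ker πC = Ideal.map (algebraMap B C') (RingHom.ker π) ∧
      Algebra.IsStandardSmooth B C' := by
  classical
  cases nonempty_fintype σ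
  have hsurj : Function.Surjective (MvPolynomial.map (σ := ι) π) :=
    MvPolynomial.map_surjective π hπ
  choose f' hf' using fun r : σ => hsurj (P.relation r)
  let J : Ideal (MvPolynomial ι B) := Ideal.span (Set.range f')
  let q : MvPolynomial ι B →+* C := (algebraMap P.Ring C).comp (MvPolynomial.map π)
  have hqJ : ∀ x ∈ J, q x = 0 := by
    intro x hx
    induction hx using Submodule.span_induction with
    | mem y hy =>
      obtain ⟨r, rfl⟩ := hy
      change algebraMap P.Ring C (MvPolynomial.map π (f' r)) = 0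
      rw [hf']
      exact P.relation_mem_ker r
    | zero => exact map_zero _
    | add y z _ _ hy hz => rw [map_add, hy, hz, add_zero]
    | smul a y _ hy => rw [smul_eq_mul, map_mul, hy, mul_zero]
  let πC : MvPolynomial ι B ⧸ J →+* C := Ideal.Quotient.lift J q hqJ
  have hπC_mk : ∀ y, πC (Ideal.Quotient.mk J y) = algebraMap P.Ring C (MvPolynomial.map π y) :=
    fun y => rfl
  have hπC_surj : Function.Surjective πC := by
    intro c
    obtain ⟨y, hy⟩ := P.algebraMap_surjective c
    obtain ⟨z, hz⟩ := hsurj y
    exact ⟨Ideal.Quotient.mk J z, by rw [hπC_mk, hz, hy]⟩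
  have hπC_alg : ∀ b, πC (algebraMap B (MvPolynomial ι B ⧸ J) b) = algebraMap A C (π b) := by
    intro b
    have : algebraMap B (MvPolynomial ι B ⧸ J) b = Ideal.Quotient.mk J (MvPolynomial.C b) := rfl
    rw [this, hπC_mk, MvPolynomial.map_C]
    change algebraMap P.Ring C (algebraMap A P.Ring (π b)) = _
    rw [← IsScalarTower.algebraMap_apply]
  have hker : RingHom.ker πC
      = Ideal.map (algebraMap B (MvPolynomial ι B ⧸ J)) (RingHom.ker π) := by
    apply le_antisymm
    · intro x hx
      obtain ⟨y, rfl⟩ := Ideal.Quotient.mk_surjective x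
      rw [RingHom.mem_ker, hπC_mk] at hx
      have hy : MvPolynomial.map π y ∈ P.ker := hx
      rw [← P.span_range_relation_eq_ker] at hy
      have hmap : Ideal.span (Set.range P.relation) = Ideal.map (MvPolynomial.map π) J := by
        rw [Ideal.map_span, ← Set.range_comp]
        congr 1
        ext r
        simp [hf']
      rw [hmap, Ideal.mem_map_iff_of_surjective _ hsurj] at hy
      obtain ⟨j, hj, hjy⟩ := hy
      have hyj : y - j ∈ RingHom.ker (MvPolynomial.map (σ := ι) π) := by
        rw [RingHom.mem_ker, map_sub, hjy, sub_self]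
      rw [MvPolynomial.ker_map] at hyj
      have h1 : Ideal.Quotient.mk J y = Ideal.Quotient.mk J (y - j) := by
        rw [map_sub, Ideal.Quotient.eq_zero_iff_mem.2 hj, sub_zero]
      rw [h1]
      have h2 : algebraMap B (MvPolynomial ι B ⧸ J)
          = (Ideal.Quotient.mk J).comp (MvPolynomial.C : B →+* MvPolynomial ι B) := rfl
      rw [h2, ← Ideal.map_map]
      exact Ideal.mem_map_of_mem _ hyj
    · rw [Ideal.map_le_iff_le_comap]
      intro b hb
      rw [Ideal.mem_comap, RingHom.mem_ker, hπC_alg, (RingHom.mem_ker).1 hb, map_zero]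
  -- the submersive presentation
  let P' : Algebra.PreSubmersivePresentation B (MvPolynomial ι B ⧸ J) ι σ :=
    Algebra.PreSubmersivePresentation.naive (v := f') P.map P.map_inj
  have hjac : πC P'.jacobian = P.jacobian := by
    rw [Algebra.PreSubmersivePresentation.jacobian_eq_jacobiMatrix_det,
      Algebra.PreSubmersivePresentation.jacobian_eq_jacobiMatrix_det]
    have h3 : ∀ y : MvPolynomial ι B, algebraMap P'.Ring (MvPolynomial ι B ⧸ J) y
        = Ideal.Quotient.mk J y := fun y => rfl
    rw [h3, hπC_mk, RingHom.map_det]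
    congr 2
    refine Matrix.ext fun i j => ?_
    have h4 : P'.jacobiMatrix i j = (f' j).pderiv (P.map i) :=
      Algebra.PreSubmersivePresentation.jacobiMatrix_naive (v := f') P.map P.map_inj _ _ i j
    have h5 : P.jacobiMatrix i j = MvPolynomial.pderiv (P.map i) (P.relation j) :=
      Algebra.PreSubmersivePresentation.jacobiMatrix_apply _ i j
    rw [RingHom.mapMatrix_apply, Matrix.map_apply, h4, h5, ← MvPolynomial.pderiv_map, hf']
  have hKC : (RingHom.ker πC) ^ 2 = ⊥ := by
    rw [hker, ← Ideal.map_pow, hK, Ideal.map_bot]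
  have hunit : IsUnit P'.jacobian :=
    isUnit_of_map_of_ker_sq πC hπC_surj hKC _ (hjac ▸ P.jacobian_isUnit)
  let P'' : Algebra.SubmersivePresentation B (MvPolynomial ι B ⧸ J) ι σ := ⟨P', hunit⟩
  exact ⟨MvPolynomial ι B ⧸ J, inferInstance, inferInstance, πC, hπC_surj, hπC_alg, hker,
    P''.isStandardSmooth⟩

theorem exists_lift_of_isStandardSmooth [Algebra.IsStandardSmooth A C]
    (π : B →+* A) (hπ : Function.Surjective π) (hK : (RingHom.ker π) ^ 2 = ⊥) :
    ∃ (C' : Type v) (_ : CommRing C') (_ : Algebra B C') (πC : C' →+* C),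
      Function.Surjective πC ∧ (∀ b, πC (algebraMap B C' b) = algebraMap A C (π b)) ∧
      RingHom.ker πC = Ideal.map (algebraMap B C') (RingHom.ker π) ∧
      Algebra.IsStandardSmooth B C' := by
  obtain ⟨ι, σ, _, _, ⟨P⟩⟩ := Algebra.IsStandardSmooth.out (R := A) (S := C)
  exact exists_lift_of_submersive P π hπ hK

end Groth.Agent.Lib.Helper27.SmoothLift
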