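import Mathlib

/-! A smooth algebra with functions whose differentials form a basis of the differentials along
the zero locus of an ideal becomes standard smooth after inverting an element congruent to `1`
modulo the ideal (helper27). -/

set_option autoImplicit false
universe u

namespace Groth.Agent.Lib.Helper27.StdSmoothNbhd

open KaehlerDifferential

theorem core {R B : Type u} [CommRing R] [CommRing B] [Algebra R B] [Algebra.Smooth R B]
    (𝔞 : Ideal B) {n : ℕ} (b : Fin n → B)
    (H1 : Submodule.span B (Set.range fun j => D R B (b j)) ⊔ 𝔞 • (⊤ : Submodule B Ω[B⁄R]) = ⊤)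
    (Dv : Fin n → Derivation R B B)
    (H2 : ∀ i j, Dv i (b j) - (if i = j then 1 else 0) ∈ 𝔞) :
    ∃ g : B, g - 1 ∈ 𝔞 ∧ Algebra.IsStandardSmooth R (Localization.Away g) := by
  classical
  set W : Submodule B Ω[B⁄R] := Submodule.span B (Set.range fun j => D R B (b j)) with hW
  -- first element: kills the cokernel
  obtain ⟨g₁, hg₁, hg₁W⟩ : ∃ g₁ : B, g₁ - 1 ∈ 𝔞 ∧ ∀ ω : Ω[B⁄R], g₁ • ω ∈ W := by
    have hfg : (⊤ : Submodule B (Ω[B⁄R] ⧸ W)).FG := Module.finite_def.1 inferInstance
    have hle : (⊤ : Submodule B (Ω[B⁄R] ⧸ W)) ≤ 𝔞 • ⊤ := by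
      have h1 : Submodule.map W.mkQ (W ⊔ 𝔞 • (⊤ : Submodule B Ω[B⁄R])) = ⊤ := by
        rw [H1, Submodule.map_top, Submodule.range_mkQ]
      rw [Submodule.map_sup, Submodule.map_smul'', Submodule.map_top, Submodule.range_mkQ,
        Submodule.mkQ_map_self, bot_sup_eq] at h1
      rw [h1]
    obtain ⟨r, hr, hr0⟩ :=
      Submodule.exists_sub_one_mem_and_smul_eq_zero_of_fg_of_le_smul 𝔞 ⊤ hfg hle
    refine ⟨r, hr, fun ω => ?_⟩
    have := hr0 (W.mkQ ω) trivial
    rw [← map_smul, Submodule.mkQ_apply, Submodule.Quotient.mk_eq_zero] at this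
    exact this
  -- second element: the determinant
  set Mx : Matrix (Fin n) (Fin n) B := Matrix.of fun i j => Dv i (b j) with hMx
  set g₂ : B := Mx.det with hg₂def
  have hg₂ : g₂ - 1 ∈ 𝔞 := by
    rw [← Ideal.Quotient.eq, hg₂def, RingHom.map_det, map_one]
    have : (Ideal.Quotient.mk 𝔞).mapMatrix Mx = 1 := by
      refine Matrix.ext fun i j => ?_
      rw [RingHom.mapMatrix_apply, Matrix.map_apply, hMx, Matrix.of_apply, Matrix.one_apply]
      have h := H2 i j
      rw [← Ideal.Quotient.eq] at h
      rw [h]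
      split_ifs <;> simp
    rw [this, Matrix.det_one]
  obtain ⟨g, hg⟩ : ∃ g : B, g = g₁ * g₂ := ⟨_, rfl⟩
  refine ⟨g, ?_, ?_⟩
  · have : g - 1 = g₁ * (g₂ - 1) + (g₁ - 1) := by rw [hg]; ring
    rw [this]
    exact 𝔞.add_mem (𝔞.mul_mem_left _ hg₂) hg₁
  let S := Localization.Away g
  haveI : Algebra.Smooth B S := Algebra.Smooth.of_isLocalization_Away g
  haveI : Algebra.Smooth R S := Algebra.Smooth.comp R B S
  have hgu : IsUnit (algebraMap B S g) := IsLocalization.Away.algebraMap_isUnit g
  have hmul : algebraMap B S g = algebraMap B S g₁ * algebraMap B S g₂ :=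
    (congrArg (algebraMap B S) hg).trans (map_mul _ _ _)
  rw [hmul] at hgu
  have hu₁ : IsUnit (algebraMap B S g₁) := isUnit_of_mul_isUnit_left hgu
  have hu₂ : IsUnit (algebraMap B S g₂) := isUnit_of_mul_isUnit_right hgu
  let c : Fin n → Ω[S⁄R] := fun j => D R S (algebraMap B S (b j))
  -- spanning
  have hsp : ⊤ ≤ Submodule.span S (Set.range c) := by
    rw [← span_range_map_derivation_of_isLocalization R B S (Submonoid.powers g)]
    refine Submodule.span_le.2 ?_
    rintro _ ⟨x, rfl⟩
    simp only [Function.comp_apply, SetLike.mem_coe]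
    have h1 : g₁ • D R B x ∈ W := hg₁W _
    have h2 : map R R B S (g₁ • D R B x)
        ∈ (Submodule.span S (Set.range c)).restrictScalars B := by
      have hle : W ≤ ((Submodule.span S (Set.range c)).restrictScalars B).comap
          (map R R B S) := by
        rw [hW]
        refine Submodule.span_le.2 ?_
        rintro _ ⟨j, rfl⟩
        simp only [Submodule.comap_coe, Submodule.coe_restrictScalars, Set.mem_preimage,
          SetLike.mem_coe, map_D]
        exact Submodule.subset_span ⟨j, rfl⟩
      exact hle h1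
    rw [Submodule.restrictScalars_mem, map_smul, ← algebraMap_smul S g₁] at h2
    have h3 := Submodule.smul_mem _ (↑hu₁.unit⁻¹ : S) h2
    rwa [smul_smul, IsUnit.val_inv_mul, one_smul] at h3
  -- independence
  have hli : LinearIndependent S c := by
    rw [Fintype.linearIndependent_iff]
    intro s hs
    have hbc := isBaseChange_of_formallyEtale R B S
    let L : Fin n → (Ω[S⁄R] →ₗ[S] S) := fun i =>
      hbc.lift ((Algebra.linearMap B S) ∘ₗ (Dv i).liftKaehlerDifferential)
    have hL : ∀ i j, L i (c j) = algebraMap B S (Dv i (b j)) := by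
      intro i j
      change hbc.lift _ (D R S (algebraMap B S (b j))) = _
      rw [← map_D R R B S, hbc.lift_eq]
      simp
    have h1 : (Mx.map (algebraMap B S)).mulVec s = 0 := by
      funext i
      have := congrArg (L i) hs
      rw [map_sum, map_zero] at this
      simp only [map_smul, hL, smul_eq_mul] at this
      rw [Matrix.mulVec, dotProduct, Pi.zero_apply, ← this]
      refine Finset.sum_congr rfl fun j _ => ?_
      rw [Matrix.map_apply, hMx, Matrix.of_apply, mul_comm]
    have hdet : IsUnit (Mx.map (algebraMap B S)).det := by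
      have : (Mx.map (algebraMap B S)).det = algebraMap B S g₂ := by
        rw [hg₂def, RingHom.map_det]
        rfl
      rw [this]
      exact hu₂
    have h2 := congrArg ((Mx.map (algebraMap B S))⁻¹.mulVec) h1
    rw [Matrix.mulVec_mulVec, Matrix.nonsing_inv_mul _ hdet, Matrix.one_mulVec,
      Matrix.mulVec_zero] at h2
    intro i
    exact congrFun h2 i
  exact Algebra.IsStandardSmooth.of_basis_kaehlerDifferential (Module.Basis.mk hli hsp) (by
    rintro _ ⟨j, rfl⟩
    rw [Module.Basis.mk_apply]
    exact ⟨_, rfl⟩)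

end Groth.Agent.Lib.Helper27.StdSmoothNbhd
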