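import Mathlib
import Groth.Agent.Lib.Helper27.StdSmoothNbhd

/-! Every smooth algebra has a smooth algebra over it, with a retraction, which is standard smooth
over the base: a neighbourhood of the zero section in the symmetric algebra of a complement of the
module of differentials (helper27). -/

set_option autoImplicit false
universe u

namespace Groth.Agent.Lib.Helper27.StdSmoothRetract

open KaehlerDifferential

section sym

variable {A : Type u} [CommRing A] {n : ℕ} (P : Submodule A (Fin n → A))
  (q : (Fin n → A) →ₗ[A] P) (hq : ∀ p : P, q p = p)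

omit hq in
lemma single_eq (j : Fin n) (a : A) :
    (Pi.single j a : Fin n → A) = a • (Pi.single j (1 : A) : Fin n → A) := by
  ext k
  simp [Pi.single_apply]

omit hq in
lemma q_eq_sum (v : Fin n → A) : q v = ∑ j, v j • q (Pi.single j 1) := by
  conv_lhs => rw [← Finset.univ_sum_single v]
  rw [map_sum]
  refine Finset.sum_congr rfl fun j _ => ?_
  rw [single_eq, map_smul]

include hq in
theorem finitePresentation_sym : Algebra.FinitePresentation A (SymmetricAlgebra A P) := by
  classical
  let π : MvPolynomial (Fin n) A →ₐ[A] SymmetricAlgebra A P :=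
    MvPolynomial.aeval (fun j => SymmetricAlgebra.ι A P (q (Pi.single j 1)))
  let ℓ : P →ₗ[A] MvPolynomial (Fin n) A :=
    (Fintype.linearCombination A (fun j => (MvPolynomial.X j : MvPolynomial (Fin n) A))) ∘ₗ
      P.subtype
  let σ : SymmetricAlgebra A P →ₐ[A] MvPolynomial (Fin n) A := SymmetricAlgebra.lift ℓ
  have hπσ : π.comp σ = AlgHom.id A _ := by
    apply SymmetricAlgebra.algHom_ext
    ext p
    simp only [LinearMap.coe_comp, Function.comp_apply, AlgHom.coe_toLinearMap, AlgHom.coe_comp,
      AlgHom.coe_id, id_eq]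
    change π (SymmetricAlgebra.lift ℓ (SymmetricAlgebra.ι A P p)) = _
    rw [SymmetricAlgebra.lift_ι_apply]
    change π (Fintype.linearCombination A _ (p : Fin n → A)) = _
    rw [Fintype.linearCombination_apply, map_sum]
    simp only [map_smul, π, MvPolynomial.aeval_X]
    change _ = SymmetricAlgebra.ι A P p
    conv_rhs => rw [← hq p, q_eq_sum P q, map_sum]
    refine Finset.sum_congr rfl fun j _ => ?_
    rw [map_smul]
  have hsurj : Function.Surjective π := fun b => ⟨σ b, congrArg (fun f => f b) hπσ⟩
  set K : Ideal (MvPolynomial (Fin n) A) :=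
    Ideal.span (Set.range fun j => (MvPolynomial.X j : MvPolynomial (Fin n) A)
      - σ (π (MvPolynomial.X j))) with hK
  have hker : RingHom.ker π.toRingHom = K := by
    apply le_antisymm
    · intro F hF
      have h1 : (Ideal.Quotient.mkₐ A K) = ((Ideal.Quotient.mkₐ A K).comp σ).comp π := by
        apply MvPolynomial.algHom_ext
        intro j
        simp only [AlgHom.comp_apply, Ideal.Quotient.mkₐ_eq_mk]
        rw [Ideal.Quotient.eq]
        exact Ideal.subset_span ⟨j, rfl⟩
      have h2 := congrArg (fun g => g F) h1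
      simp only [AlgHom.comp_apply, Ideal.Quotient.mkₐ_eq_mk] at h2
      have hF' : π F = 0 := hF
      rw [hF', map_zero, map_zero, Ideal.Quotient.eq_zero_iff_mem] at h2
      exact h2
    · rw [hK]
      refine Ideal.span_le.2 ?_
      rintro _ ⟨j, rfl⟩
      change π (MvPolynomial.X j - σ (π (MvPolynomial.X j))) = 0
      rw [map_sub]
      have := congrArg (fun f => f (π (MvPolynomial.X j))) hπσ
      simp only [AlgHom.comp_apply, AlgHom.coe_id, id_eq] at this
      rw [this, sub_self]
  refine Algebra.FinitePresentation.of_surjective (f := π) hsurj ?_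
  rw [hker]
  exact Submodule.fg_span (Set.finite_range _)

omit q in
theorem formallySmooth_sym [Module.Projective A P] :
    Algebra.FormallySmooth A (SymmetricAlgebra A P) := by
  refine Algebra.FormallySmooth.of_comp_surjective ?_
  intro C _ _ I _ g
  obtain ⟨l, hl⟩ := Module.projective_lifting_property (Ideal.Quotient.mkₐ A I).toLinearMap
    (g.toLinearMap ∘ₗ SymmetricAlgebra.ι A P) (Ideal.Quotient.mkₐ_surjective A I)
  refine ⟨SymmetricAlgebra.lift l, ?_⟩
  apply SymmetricAlgebra.algHom_ext
  ext p
  have := congrArg (fun f => f p) hl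
  simp only [LinearMap.coe_comp, Function.comp_apply, AlgHom.coe_toLinearMap] at this
  change (Ideal.Quotient.mkₐ A I) (SymmetricAlgebra.lift l (SymmetricAlgebra.ι A P p))
    = g (SymmetricAlgebra.ι A P p)
  rw [SymmetricAlgebra.lift_ι_apply]
  exact this

end sym

section main

variable {R A : Type u} [CommRing R] [CommRing A] [Algebra R A] {n : ℕ} (x : Fin n → A)

variable (R) in
/-- the map `Aⁿ → Ω` given by the differentials of the generators -/
noncomputable def uMap : (Fin n → A) →ₗ[A] Ω[A⁄R] :=
  Fintype.linearCombination A (fun j => D R A (x j))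

variable (R) in
/-- the kernel of `uMap` -/
noncomputable abbrev PP : Submodule A (Fin n → A) := LinearMap.ker (uMap R x)

variable (R) in
/-- the symmetric algebra of the kernel -/
abbrev BB : Type u := SymmetricAlgebra A (PP R x)

variable (q : (Fin n → A) →ₗ[A] PP R x) (s : Ω[A⁄R] →ₗ[A] (Fin n → A))

/-- the coordinate functions on the symmetric algebra -/
noncomputable def bb (j : Fin n) : BB R x :=
  algebraMap A (BB R x) (x j) + SymmetricAlgebra.ι A (PP R x) (q (Pi.single j 1))

variable (R) in
/-- the augmentation -/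
noncomputable abbrev rho : BB R x →ₐ[A] A := SymmetricAlgebra.algebraMapInv

theorem H1 (hus : ∀ ω, uMap R x (s ω) = ω)
    (hq : ∀ v, (q v : Fin n → A) = v - s (uMap R x v)) :
    Submodule.span (BB R x) (Set.range fun j => D R (BB R x) (bb x q j)) ⊔
      RingHom.ker (rho R x) • (⊤ : Submodule (BB R x) Ω[BB R x⁄R]) = ⊤ := by
  set W : Submodule (BB R x) Ω[BB R x⁄R] :=
    Submodule.span (BB R x) (Set.range fun j => D R (BB R x) (bb x q j)) with hW
  set W' : Submodule (BB R x) Ω[BB R x⁄R] :=
    W ⊔ RingHom.ker (rho R x) • (⊤ : Submodule (BB R x) Ω[BB R x⁄R]) with hW'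
  have hι : ∀ p, SymmetricAlgebra.ι A (PP R x) p ∈ RingHom.ker (rho R x) :=
    fun p => SymmetricAlgebra.algebraMapInv_ι p
  have star : ∀ v : Fin n → A, map R R A (BB R x) (uMap R x v)
      + D R (BB R x) (SymmetricAlgebra.ι A _ (q v)) ∈ W' := by
    intro v
    have e1 : map R R A (BB R x) (uMap R x v)
        = ∑ j, v j • D R (BB R x) (algebraMap A (BB R x) (x j)) := by
      rw [uMap, Fintype.linearCombination_apply, map_sum]
      refine Finset.sum_congr rfl fun j _ => ?_
      rw [map_smul, map_D]
    have e2 : D R (BB R x) (SymmetricAlgebra.ι A _ (q v))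
        = ∑ j, (v j • D R (BB R x) (SymmetricAlgebra.ι A _ (q (Pi.single j 1)))
          + SymmetricAlgebra.ι A _ (q (Pi.single j 1))
            • D R (BB R x) (algebraMap A (BB R x) (v j))) := by
      rw [q_eq_sum _ q v, map_sum, map_sum]
      refine Finset.sum_congr rfl fun j _ => ?_
      rw [map_smul, Algebra.smul_def, Derivation.leibniz, algebraMap_smul]
    have e3 : ∑ j, v j • D R (BB R x) (bb x q j) ∈ W :=
      Submodule.sum_mem _ fun j _ =>
        W.smul_of_tower_mem _ (Submodule.subset_span ⟨j, rfl⟩)
    have e4 : map R R A (BB R x) (uMap R x v) + D R (BB R x) (SymmetricAlgebra.ι A _ (q v))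
        = ∑ j, v j • D R (BB R x) (bb x q j)
          + ∑ j, SymmetricAlgebra.ι A _ (q (Pi.single j 1))
            • D R (BB R x) (algebraMap A (BB R x) (v j)) := by
      rw [e1, e2]
      simp only [bb, map_add, smul_add, Finset.sum_add_distrib]
      abel
    rw [e4]
    exact Submodule.add_mem _ (le_sup_left (a := W) e3)
      (le_sup_right (a := W) (Submodule.sum_mem _ fun j _ =>
        Submodule.smul_mem_smul (hι _) trivial))
  have hP : ∀ p : PP R x, D R (BB R x) (SymmetricAlgebra.ι A _ p) ∈ W' := by
    intro p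
    have h := star (p : Fin n → A)
    have hp : uMap R x (p : Fin n → A) = 0 := p.2
    have hqp : q (p : Fin n → A) = p := by
      apply Subtype.ext
      rw [hq, hp, map_zero, sub_zero]
    rwa [hp, map_zero, zero_add, hqp] at h
  have hΩ : ∀ ω : Ω[A⁄R], map R R A (BB R x) ω ∈ W' := by
    intro ω
    have h := star (s ω)
    have hqs : q (s ω) = 0 := by
      apply Subtype.ext
      rw [hq, hus, sub_self]
      rfl
    rwa [hus, hqs, map_zero, map_zero, add_zero] at h
  rw [eq_top_iff, ← span_range_derivation R (BB R x)]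
  refine Submodule.span_le.2 ?_
  rintro _ ⟨b, rfl⟩
  change D R (BB R x) b ∈ W'
  induction b using SymmetricAlgebra.induction with
  | algebraMap a =>
    have := hΩ (D R A a)
    rwa [map_D] at this
  | ι p => exact hP p
  | mul a b ha hb =>
    rw [Derivation.leibniz]
    exact Submodule.add_mem _ (Submodule.smul_mem _ _ hb) (Submodule.smul_mem _ _ ha)
  | add a b ha hb =>
    rw [map_add]
    exact Submodule.add_mem _ ha hb

lemma uMap_single (j : Fin n) : uMap R x (Pi.single j 1) = D R A (x j) := by
  rw [uMap, Fintype.linearCombination_apply_single, one_smul]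

theorem H2 [Algebra.FormallySmooth R (BB R x)] (hq : ∀ v, (q v : Fin n → A) = v - s (uMap R x v)) :
    ∃ Dv : Fin n → Derivation R (BB R x) (BB R x), ∀ i j,
      Dv i (bb x q j) - (if i = j then 1 else 0) ∈ RingHom.ker (rho R x) := by
  classical
  letI algBA : Algebra (BB R x) A := (rho R x).toRingHom.toAlgebra
  have halg : ∀ b : BB R x, algebraMap (BB R x) A b = rho R x b := fun b => rfl
  haveI : IsScalarTower R (BB R x) A := IsScalarTower.of_algebraMap_eq fun r => by
    rw [halg, IsScalarTower.algebraMap_apply R A (BB R x), AlgHom.commutes]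
    rfl
  -- the Ω-part
  let dΩ : Fin n → Derivation R (BB R x) A := fun i =>
    ((LinearMap.proj i ∘ₗ s).compDer (D R A)).compAlgebraMap (BB R x)
  have hdΩ : ∀ i b, dΩ i b = s (D R A (rho R x b)) i := fun i b => rfl
  -- the P-part
  let φ : BB R x →ₐ[A] TrivSqZeroExt A (Fin n → A) :=
    SymmetricAlgebra.lift (TrivSqZeroExt.inrHom A (Fin n → A) ∘ₗ (PP R x).subtype)
  have hφι : ∀ p : PP R x, φ (SymmetricAlgebra.ι A _ p) = TrivSqZeroExt.inr (p : Fin n → A) := by
    intro p
    change SymmetricAlgebra.lift _ (SymmetricAlgebra.ι A _ p) = _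
    rw [SymmetricAlgebra.lift_ι_apply]
    rfl
  have hφfst : ∀ b, (φ b).fst = rho R x b := by
    intro b
    have : (TrivSqZeroExt.fstHom A A (Fin n → A)).comp φ = rho R x := by
      apply SymmetricAlgebra.algHom_ext
      ext p
      change (φ (SymmetricAlgebra.ι A _ p)).fst = SymmetricAlgebra.algebraMapInv (SymmetricAlgebra.ι A _ p)
      rw [hφι, SymmetricAlgebra.algebraMapInv_ι, TrivSqZeroExt.fst_inr]
    exact congrArg (fun f => f b) this
  let dP : Fin n → Derivation R (BB R x) A := fun i =>
    Derivation.mk' (((LinearMap.proj i ∘ₗ TrivSqZeroExt.sndHom A (Fin n → A)) ∘ₗ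
      φ.toLinearMap).restrictScalars R)
      (fun a b => by
        change ((φ (a * b)).snd) i = a • ((φ b).snd i) + b • ((φ a).snd i)
        have hsm : ∀ (c : BB R x) (z : A), c • z = rho R x c * z := fun c z => rfl
        rw [map_mul, TrivSqZeroExt.snd_mul, Pi.add_apply, Pi.smul_apply, Pi.smul_apply, hφfst,
          hφfst, hsm, hsm, smul_eq_mul, MulOpposite.smul_eq_mul_unop, MulOpposite.unop_op,
          mul_comm ((φ a).snd i)])
  have hdP : ∀ i b, dP i b = (φ b).snd i := fun i b => rfl
  have hsurj : Function.Surjective (Algebra.linearMap (BB R x) A) := fun a =>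
    ⟨algebraMap A (BB R x) a, by
      rw [Algebra.linearMap_apply, halg, AlgHom.commutes]
      rfl⟩
  choose h hh using fun i => Module.projective_lifting_property (Algebra.linearMap (BB R x) A)
    ((dΩ i + dP i).liftKaehlerDifferential) hsurj
  refine ⟨fun i => (h i).compDer (D R (BB R x)), fun i j => ?_⟩
  have h1 : rho R x ((h i) (D R _ (bb x q j))) = (dΩ i + dP i) (bb x q j) := by
    have := congrArg (fun f => f (D R _ (bb x q j))) (hh i)
    simp only [LinearMap.coe_comp, Function.comp_apply, Algebra.linearMap_apply,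
      Derivation.liftKaehlerDifferential_comp_D] at this
    rw [← halg]
    exact this
  have hρbb : rho R x (bb x q j) = x j := by
    rw [bb, map_add, AlgHom.commutes]
    change _ + SymmetricAlgebra.algebraMapInv (SymmetricAlgebra.ι A _ _) = _
    rw [SymmetricAlgebra.algebraMapInv_ι, add_zero]
    rfl
  have hφbb : (φ (bb x q j)).snd = (q (Pi.single j 1) : Fin n → A) := by
    rw [bb, map_add, AlgHom.commutes, hφι, TrivSqZeroExt.snd_add, TrivSqZeroExt.snd_inr,
      TrivSqZeroExt.algebraMap_eq_inl, TrivSqZeroExt.snd_inl, zero_add]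
  have h2 : (dΩ i + dP i) (bb x q j) = if i = j then 1 else 0 := by
    rw [Derivation.add_apply, hdΩ, hdP, hρbb, hφbb, hq, uMap_single, Pi.sub_apply,
      add_sub_cancel, Pi.single_apply]
  rw [RingHom.mem_ker, map_sub]
  change rho R x ((h i) (D R _ (bb x q j))) - _ = 0
  rw [h1, h2]
  split_ifs <;> simp

end main

theorem exists_stdSmooth_retract {R A : Type u} [CommRing R] [CommRing A] [Algebra R A]
    [Algebra.Smooth R A] :
    ∃ (B : Type u) (_ : CommRing B) (_ : Algebra R B) (_ : Algebra A B) (_ : IsScalarTower R A B),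
      Algebra.Smooth A B ∧ Nonempty (B →ₐ[A] A) ∧ Algebra.IsStandardSmooth R B := by
  classical
  obtain ⟨n, f, hf⟩ :=
    Algebra.FiniteType.iff_quotient_mvPolynomial''.1 (inferInstance : Algebra.FiniteType R A)
  let x : Fin n → A := fun j => f (MvPolynomial.X j)
  -- the differentials of the generators span
  have hspan : Submodule.span A (Set.range fun j => D R A (x j)) = ⊤ := by
    rw [eq_top_iff, ← span_range_derivation R A]
    refine Submodule.span_le.2 ?_
    rintro _ ⟨a, rfl⟩
    obtain ⟨F, rfl⟩ := hf a
    induction F using MvPolynomial.induction_on with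
    | C r =>
      rw [MvPolynomial.algHom_C, Derivation.map_algebraMap]
      exact Submodule.zero_mem _
    | add F G hF hG =>
      rw [map_add, map_add]
      exact Submodule.add_mem _ hF hG
    | mul_X F j hF =>
      rw [map_mul, Derivation.leibniz]
      exact Submodule.add_mem _ (Submodule.smul_mem _ _ (Submodule.subset_span ⟨j, rfl⟩))
        (Submodule.smul_mem _ _ hF)
  have hu : Function.Surjective (uMap R x) := by
    rw [← LinearMap.range_eq_top, uMap, Fintype.range_linearCombination, hspan]
  obtain ⟨s, hs⟩ := Module.projective_lifting_property (uMap R x) LinearMap.id hu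
  have hus : ∀ ω, uMap R x (s ω) = ω := fun ω => congrArg (fun g => g ω) hs
  let q : (Fin n → A) →ₗ[A] PP R x :=
    (LinearMap.id - s ∘ₗ uMap R x).codRestrict (PP R x) (fun v => by
      rw [LinearMap.mem_ker, LinearMap.sub_apply, LinearMap.id_apply, LinearMap.comp_apply,
        map_sub, hus, sub_self])
  have hq : ∀ v, (q v : Fin n → A) = v - s (uMap R x v) := fun v => rfl
  have hqP : ∀ p : PP R x, q p = p := by
    intro p
    apply Subtype.ext
    have hp : uMap R x (p : Fin n → A) = 0 := p.2
    rw [hq, hp, map_zero, sub_zero]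
  haveI : Module.Projective A (PP R x) :=
    Module.Projective.of_split (PP R x).subtype q (by
      ext p : 1
      exact hqP p)
  haveI : Algebra.FormallySmooth A (BB R x) := formallySmooth_sym (PP R x)
  haveI : Algebra.FinitePresentation A (BB R x) := finitePresentation_sym (PP R x) q hqP
  haveI : Algebra.Smooth A (BB R x) := ⟨inferInstance, inferInstance⟩
  haveI : Algebra.Smooth R (BB R x) := Algebra.Smooth.comp R A (BB R x)
  obtain ⟨Dv, hDv⟩ := H2 x q s hq
  obtain ⟨g, hg, hstd⟩ := Groth.Agent.Lib.Helper27.StdSmoothNbhd.core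
    (RingHom.ker (rho R x)) (bb x q) (H1 x q s hus hq) Dv hDv
  have hρg : rho R x g = 1 := by
    rw [RingHom.mem_ker, map_sub, map_one, sub_eq_zero] at hg
    exact hg
  haveI : Algebra.Smooth (BB R x) (Localization.Away g) :=
    Algebra.Smooth.of_isLocalization_Away g
  refine ⟨Localization.Away g, inferInstance, inferInstance, inferInstance, inferInstance,
    Algebra.Smooth.comp A (BB R x) (Localization.Away g), ⟨?_⟩, hstd⟩
  refine IsLocalization.liftAlgHom (M := Submonoid.powers g) (f := rho R x) ?_
  rintro ⟨_, k, rfl⟩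
  rw [map_pow, hρg, one_pow]
  exact isUnit_one

end Groth.Agent.Lib.Helper27.StdSmoothRetract
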