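import Mathlib
import Groth.Prelude.Def_Smoothing
import Groth.Agent.Lib.Helper27.LiftStdSmooth
import Groth.Agent.Lib.Helper27.StdSmoothRetract

/-!
Ind-smoothness and nilpotent ideals: the square zero factorization step.
-/

namespace Groth.Agent.Lib.Helper27.SmoothNilp

universe u

open MvPolynomial

/-- A map from a finitely presented algebra to an ind-smooth algebra factors through a standard
smooth algebra. -/
theorem indSmooth_stdSmooth {R Λ : Type u} [CommRing R] [CommRing Λ] [Algebra R Λ]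
    (h : Smoothing.IndSmooth R Λ) (A : Type u) [CommRing A] [Algebra R A]
    [Algebra.FinitePresentation R A] (f : A →ₐ[R] Λ) :
    ∃ (B : Type u) (_ : CommRing B) (_ : Algebra R B), Algebra.IsStandardSmooth R B ∧
      ∃ (g : A →ₐ[R] B) (k : B →ₐ[R] Λ), k.comp g = f := by
  obtain ⟨B₀, _, _, hsm, g₀, k₀, hk₀⟩ := h A inferInstance f
  obtain ⟨B, _, _, _, _, _, ⟨ρ⟩, hstd⟩ :=
    StdSmoothRetract.exists_stdSmooth_retract (R := R) (A := B₀)
  refine ⟨B, inferInstance, inferInstance, hstd, (IsScalarTower.toAlgHom R B₀ B).comp g₀,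
    k₀.comp (ρ.restrictScalars R), ?_⟩
  ext a
  have : ρ (algebraMap B₀ B (g₀ a)) = g₀ a := by
    rw [AlgHom.commutes]
    rfl
  change k₀ (ρ (algebraMap B₀ B (g₀ a))) = f a
  rw [this, ← hk₀]
  rfl

/-- decomposition of elements of an extended ideal -/
theorem mem_map_decomp {R B : Type*} [CommRing R] [CommRing B] [Algebra R B] (I : Ideal R)
    {x : B} (hx : x ∈ I.map (algebraMap R B)) :
    ∃ (n : ℕ) (ε : Fin n → R) (b : Fin n → B), (∀ l, ε l ∈ I) ∧
      x = ∑ l, algebraMap R B (ε l) * b l := by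
  rw [Ideal.map, Ideal.span, Submodule.mem_span_set'] at hx
  obtain ⟨n, c, g, rfl⟩ := hx
  choose ε hε hεg using fun i => (g i).2
  refine ⟨n, ε, c, hε, ?_⟩
  refine Finset.sum_congr rfl (fun i _ => ?_)
  rw [hεg, smul_eq_mul, mul_comm]

/-- `I • IB = 0` when `I² = 0`. -/
theorem sq_zero_mul {R B : Type*} [CommRing R] [CommRing B] [Algebra R B] (I : Ideal R)
    (hI : I ^ 2 = ⊥) {ε : R} (hε : ε ∈ I) {e : B} (he : e ∈ I.map (algebraMap R B)) :
    algebraMap R B ε * e = 0 := by
  have h1 : algebraMap R B ε * e ∈ I.map (algebraMap R B) * I.map (algebraMap R B) :=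
    Ideal.mul_mem_mul (Ideal.mem_map_of_mem _ hε) he
  rw [← Ideal.map_mul, ← pow_two, hI, Ideal.map_bot] at h1
  exact h1

theorem map_sq_zero {R B : Type*} [CommRing R] [CommRing B] [Algebra R B] (I : Ideal R)
    (hI : I ^ 2 = ⊥) : (I.map (algebraMap R B)) ^ 2 = ⊥ := by
  rw [← Ideal.map_pow, hI, Ideal.map_bot]

/-- Reduction modulo `I`: a map from a finitely presented `R`-algebra to `Λ/IΛ` factors through a
standard smooth `R/I`-algebra. -/
theorem reduce_mod {R Λ : Type u} [CommRing R] [CommRing Λ] [Algebra R Λ] (I : Ideal R)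
    (h : Smoothing.IndSmooth (R ⧸ I) (Λ ⧸ I.map (algebraMap R Λ)))
    (A : Type u) [CommRing A] [Algebra R A] [Algebra.FinitePresentation R A]
    (φ : A →ₐ[R] Λ ⧸ I.map (algebraMap R Λ)) :
    ∃ (C : Type u) (_ : CommRing C) (_ : Algebra (R ⧸ I) C),
      Algebra.IsStandardSmooth (R ⧸ I) C ∧
      ∃ (g : A →+* C) (k : C →ₐ[R ⧸ I] Λ ⧸ I.map (algebraMap R Λ)),
        (∀ r, g (algebraMap R A r) = algebraMap (R ⧸ I) C (Ideal.Quotient.mk I r)) ∧
          ∀ a, k (g a) = φ a := by
  haveI : Algebra.FinitePresentation (R ⧸ I) (TensorProduct R (R ⧸ I) A) :=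
    Algebra.FinitePresentation.baseChange (R ⧸ I)
  let f' : TensorProduct R (R ⧸ I) A →ₐ[R ⧸ I] Λ ⧸ I.map (algebraMap R Λ) :=
    Algebra.TensorProduct.lift (Algebra.ofId (R ⧸ I) _) φ (fun _ _ => Commute.all _ _)
  obtain ⟨C, _, _, hstd, g, k, hk⟩ := indSmooth_stdSmooth h (TensorProduct R (R ⧸ I) A) f'
  refine ⟨C, inferInstance, inferInstance, hstd,
    g.toRingHom.comp (Algebra.TensorProduct.includeRight : A →ₐ[R] TensorProduct R (R ⧸ I) A).toRingHom,
    k, ?_, ?_⟩
  · intro r
    change g ((1 : R ⧸ I) ⊗ₜ[R] (algebraMap R A r)) = _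
    rw [Algebra.algebraMap_eq_smul_one, ← TensorProduct.smul_tmul, ← Algebra.algebraMap_eq_smul_one]
    have : (algebraMap R (R ⧸ I) r) ⊗ₜ[R] (1 : A) =
        algebraMap (R ⧸ I) (TensorProduct R (R ⧸ I) A) (Ideal.Quotient.mk I r) := rfl
    rw [this, AlgHom.commutes]
  · intro a
    change k (g ((1 : R ⧸ I) ⊗ₜ[R] a)) = _
    have : k (g ((1 : R ⧸ I) ⊗ₜ[R] a)) = (k.comp g) ((1 : R ⧸ I) ⊗ₜ[R] a) := rfl
    rw [this, hk]
    simp [f']

/-- The square zero factorization step. -/
theorem sqZero_factor {R Λ A : Type u} [CommRing R] [CommRing Λ] [Algebra R Λ] (I : Ideal R)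
    (hI : I ^ 2 = ⊥) (h : Smoothing.IndSmooth (R ⧸ I) (Λ ⧸ I.map (algebraMap R Λ)))
    [CommRing A] [Algebra R A] [Algebra.FinitePresentation R A] (φ : A →ₐ[R] Λ) :
    ∃ (B : Type u) (_ : CommRing B) (_ : Algebra R B), Algebra.Smooth R B ∧
      ∃ J : Ideal B, J ≤ I.map (algebraMap R B) ∧ J.FG ∧
        ∃ (g : A →ₐ[R] B ⧸ J) (k : (B ⧸ J) →ₐ[R] Λ), k.comp g = φ := by
  classical
  obtain ⟨Sb, _, _, hstdb, gb, kb, hgb, hkb⟩ :=
    reduce_mod I h A ((Ideal.Quotient.mkₐ R (I.map (algebraMap R Λ))).comp φ)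
  obtain ⟨S, _, _, hstd, π, hπsurj, hπalg, hπker⟩ := LiftStdSmooth.liftSS I (Bb := Sb)
  -- lift to Λ
  let f₀ : S →ₐ[R] Λ ⧸ I.map (algebraMap R Λ) :=
    { toRingHom := kb.toRingHom.comp π
      commutes' := fun r => by
        change kb (π (algebraMap R S r)) = _
        rw [hπalg, AlgHom.commutes]
        rfl }
  have hf₀ : ∀ c, f₀ c = kb (π c) := fun c => rfl
  have hnil : IsNilpotent (RingHom.ker
      ((Ideal.Quotient.mkₐ R (I.map (algebraMap R Λ)) : Λ →ₐ[R] _) :
        Λ →+* Λ ⧸ I.map (algebraMap R Λ))) := by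
    refine ⟨2, ?_⟩
    rw [Ideal.Quotient.mkₐ_ker, map_sq_zero I hI]
    rfl
  let β₀ : S →ₐ[R] Λ := Algebra.FormallySmooth.liftOfSurjective f₀
    (Ideal.Quotient.mkₐ R (I.map (algebraMap R Λ)))
    (Ideal.Quotient.mkₐ_surjective R _) hnil
  have hβ₀ : ∀ c, Ideal.Quotient.mk (I.map (algebraMap R Λ)) (β₀ c) = kb (π c) := fun c =>
    Algebra.FormallySmooth.liftOfSurjective_apply f₀ _ _ hnil c
  -- presentation of A
  obtain ⟨n, f, hfsurj, hfker⟩ := Algebra.FinitePresentation.out (R := R) (A := A)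
  choose b hb using fun k : Fin n => hπsurj (gb (f (X k)))
  have hd : ∀ k : Fin n, φ (f (X k)) - β₀ (b k) ∈ I.map (algebraMap R Λ) := by
    intro k
    rw [← Ideal.Quotient.eq, hβ₀, hb, hkb]
    rfl
  choose N ε lam hε hdec using fun k => mem_map_decomp I (hd k)
  -- the smooth algebra
  haveI : Algebra.Smooth S (MvPolynomial (Σ k : Fin n, Fin (N k)) S) := {}
  haveI : Algebra.Smooth R (MvPolynomial (Σ k : Fin n, Fin (N k)) S) :=
    Algebra.Smooth.comp R S _
  let β' : MvPolynomial (Σ k : Fin n, Fin (N k)) S →ₐ[R] Λ :=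
    aevalTower β₀ (fun p => lam p.1 p.2)
  let b' : Fin n → MvPolynomial (Σ k : Fin n, Fin (N k)) S := fun k =>
    MvPolynomial.C (b k) + ∑ l : Fin (N k), MvPolynomial.C (algebraMap R S (ε k l)) * X ⟨k, l⟩
  have hβ'b' : ∀ k, β' (b' k) = φ (f (X k)) := by
    intro k
    simp only [β', b', map_add, map_sum, map_mul, aevalTower_C, aevalTower_X, AlgHom.commutes]
    rw [← hdec k]
    ring
  let F : MvPolynomial (Fin n) R →ₐ[R] MvPolynomial (Σ k : Fin n, Fin (N k)) S := aeval b'
  have hβ'F : β'.comp F = φ.comp f := by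
    apply MvPolynomial.algHom_ext
    intro k
    change β' (aeval b' (X k)) = φ (f (X k))
    rw [aeval_X, hβ'b']
  have hβ'F' : ∀ p, β' (F p) = φ (f p) := fun p => congrArg (fun g => g p) hβ'F
  -- reduction map
  let red : MvPolynomial (Σ k : Fin n, Fin (N k)) S →+* MvPolynomial (Σ k : Fin n, Fin (N k)) Sb :=
    MvPolynomial.map π
  have hredker : RingHom.ker red = I.map (algebraMap R (MvPolynomial (Σ k : Fin n, Fin (N k)) S)) := by
    rw [MvPolynomial.ker_map, hπker, Ideal.map_map]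
    rfl
  have hredF : red.comp F.toRingHom = ((MvPolynomial.C : Sb →+* _).comp gb).comp f.toRingHom := by
    apply MvPolynomial.ringHom_ext
    · intro r
      change red (F (MvPolynomial.C r)) = MvPolynomial.C (gb (f (MvPolynomial.C r)))
      have h1 : F (MvPolynomial.C r) = MvPolynomial.C (algebraMap R S r) := by
        change aeval b' (MvPolynomial.C r) = _
        rw [aeval_C]
        rfl
      have h2 : f (MvPolynomial.C r) = algebraMap R A r := by
        rw [← MvPolynomial.algebraMap_eq, AlgHom.commutes]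
      rw [h1, h2, hgb]
      change MvPolynomial.map π (MvPolynomial.C _) = _
      rw [MvPolynomial.map_C, hπalg]
    · intro k
      change red (F (X k)) = MvPolynomial.C (gb (f (X k)))
      have h1 : F (X k) = b' k := aeval_X _ _
      rw [h1]
      simp only [red, b', map_add, map_sum, map_mul, MvPolynomial.map_C, MvPolynomial.map_X]
      rw [hb]
      have : ∀ l : Fin (N k), π (algebraMap R S (ε k l)) = 0 := by
        intro l
        rw [hπalg, (Ideal.Quotient.eq_zero_iff_mem).2 (hε k l), map_zero]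
      simp [this]
  refine ⟨MvPolynomial (Σ k : Fin n, Fin (N k)) S, inferInstance, inferInstance, inferInstance,
    (RingHom.ker f.toRingHom).map F.toRingHom, ?_, hfker.map _, ?_⟩
  · rw [Ideal.map_le_iff_le_comap]
    intro t ht
    rw [Ideal.mem_comap, ← hredker, RingHom.mem_ker]
    have h1 : red (F.toRingHom t) = (red.comp F.toRingHom) t := rfl
    rw [h1, hredF]
    change MvPolynomial.C (gb (f.toRingHom t)) = 0
    rw [(RingHom.mem_ker).1 ht, map_zero, map_zero]
  · have hkill : ∀ a ∈ (RingHom.ker f.toRingHom).map F.toRingHom, β' a = 0 := by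
      have : (RingHom.ker f.toRingHom).map F.toRingHom ≤ RingHom.ker β'.toRingHom := by
        rw [Ideal.map_le_iff_le_comap]
        intro t ht
        rw [Ideal.mem_comap, RingHom.mem_ker]
        change β' (F t) = 0
        rw [hβ'F']
        have : f t = 0 := ht
        rw [this, map_zero]
      exact fun a ha => this ha
    have hkill2 : ∀ a ∈ RingHom.ker f,
        ((Ideal.Quotient.mkₐ R ((RingHom.ker f.toRingHom).map F.toRingHom)).comp F) a = 0 := by
      intro a ha
      change Ideal.Quotient.mk _ (F a) = 0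
      rw [Ideal.Quotient.eq_zero_iff_mem]
      exact Ideal.mem_map_of_mem _ ha
    refine ⟨(Ideal.Quotient.liftₐ (RingHom.ker f)
        ((Ideal.Quotient.mkₐ R ((RingHom.ker f.toRingHom).map F.toRingHom)).comp F) hkill2).comp
          (Ideal.quotientKerAlgEquivOfSurjective hfsurj).symm.toAlgHom,
      Ideal.Quotient.liftₐ _ β' hkill, ?_⟩
    ext a
    obtain ⟨p, rfl⟩ := hfsurj a
    have h1 : ((Ideal.quotientKerAlgEquivOfSurjective hfsurj).symm :
        A →ₐ[R] MvPolynomial (Fin n) R ⧸ RingHom.ker f) (f p) = Ideal.Quotient.mk _ p := by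
      change (Ideal.quotientKerAlgEquivOfSurjective hfsurj).symm (f p) = _
      rw [AlgEquiv.symm_apply_eq]
      rfl
    simp only [AlgHom.comp_apply, AlgEquiv.toAlgHom_eq_coe]
    rw [h1]
    change β' (F p) = _
    exact hβ'F' p

end Groth.Agent.Lib.Helper27.SmoothNilp
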