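import Mathlib
import Groth.Prelude.Def_Smoothing
import Groth.Agent.Lib.Helper27.SmoothNilp

/-!
Ind-smoothness and nilpotent ideals: killing an ideal `J ⊆ IB` (square zero case).
-/

namespace Groth.Agent.Lib.Helper27.SmoothNilp

universe u

open MvPolynomial

/-- Killing `J ⊆ IB`, exact version. -/
theorem sqZero_kill {R Λ B : Type u} [CommRing R] [CommRing Λ] [Algebra R Λ] [Module.Flat R Λ]
    (I : Ideal R) (hI : I ^ 2 = ⊥) (h : Smoothing.IndSmooth (R ⧸ I) (Λ ⧸ I.map (algebraMap R Λ)))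
    [CommRing B] [Algebra R B] [Algebra.Smooth R B] (φ : B →ₐ[R] Λ) (J : Ideal B)
    (hJ : J ≤ I.map (algebraMap R B)) (hJfg : J.FG) (hφJ : ∀ x ∈ J, φ x = 0) :
    ∃ (B' : Type u) (_ : CommRing B') (_ : Algebra R B'), Algebra.Smooth R B' ∧
      ∃ (α : B →ₐ[R] B') (β : B' →ₐ[R] Λ), (∀ x ∈ J, α x = 0) ∧ β.comp α = φ := by
  classical
  obtain ⟨T, hT⟩ := hJfg
  have hTJ : ∀ t : ↥T, (t : B) ∈ J := fun t => hT ▸ Ideal.subset_span t.2
  choose n ε b hε hdec using fun t : ↥T => mem_map_decomp I (hJ (hTJ t))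
  have hrel : ∀ t : ↥T, ∑ l, ε t l • φ (b t l) = 0 := by
    intro t
    have h1 : φ (t : B) = 0 := hφJ _ (hTJ t)
    rw [hdec t, map_sum] at h1
    rw [← h1]
    refine Finset.sum_congr rfl (fun l _ => ?_)
    rw [map_mul, AlgHom.commutes, Algebra.smul_def]
  choose k a y hy ha using fun t =>
    Module.Flat.isTrivialRelation_of_sum_smul_eq_zero (R := R) (M := Λ) (f := ε t)
      (x := fun l => φ (b t l)) (hrel t)
  -- the finitely presented algebra
  let rel : (Σ t : ↥T, Fin (n t)) → MvPolynomial (Σ t : ↥T, Fin (k t)) B := fun p =>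
    C (b p.1 p.2) - ∑ j : Fin (k p.1), C (algebraMap R B (a p.1 p.2 j)) * X ⟨p.1, j⟩
  have hKfg : (Ideal.span (Set.range rel)).FG := Submodule.fg_span (Set.finite_range rel)
  haveI : Algebra.FinitePresentation R B := Algebra.Smooth.finitePresentation
  haveI : Algebra.FinitePresentation R (MvPolynomial (Σ t : ↥T, Fin (k t)) B) :=
    Algebra.FinitePresentation.trans R B _
  haveI : Algebra.FinitePresentation R
      (MvPolynomial (Σ t : ↥T, Fin (k t)) B ⧸ Ideal.span (Set.range rel)) :=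
    Algebra.FinitePresentation.quotient hKfg
  let φP : MvPolynomial (Σ t : ↥T, Fin (k t)) B →ₐ[R] Λ := aevalTower φ (fun p => y p.1 p.2)
  have hkill : ∀ x ∈ Ideal.span (Set.range rel), φP x = 0 := by
    have : Ideal.span (Set.range rel) ≤ RingHom.ker φP.toRingHom := by
      rw [Ideal.span_le]
      rintro _ ⟨p, rfl⟩
      change φP (rel p) = 0
      simp only [φP, rel, map_sub, map_sum, map_mul, aevalTower_C, aevalTower_X,
        AlgHom.commutes]
      have hy' : ∀ t l, φ (b t l) = ∑ j, a t l j • y t j := hy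
      rw [hy', sub_eq_zero]
      refine Finset.sum_congr rfl (fun j _ => ?_)
      rw [Algebra.smul_def]
    exact fun x hx => this hx
  obtain ⟨S, _, _, hsm, J', hJ', hJ'fg, g, κ, hκ⟩ :=
    sqZero_factor I hI h (Ideal.Quotient.liftₐ (Ideal.span (Set.range rel)) φP hkill)
  let ι : B →ₐ[R] MvPolynomial (Σ t : ↥T, Fin (k t)) B ⧸ Ideal.span (Set.range rel) :=
    (Ideal.Quotient.mkₐ R _).comp (IsScalarTower.toAlgHom R B _)
  have hι : ∀ x, ι x = Ideal.Quotient.mk _ (C x) := fun x => rfl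
  have hnil : IsNilpotent (RingHom.ker
      ((Ideal.Quotient.mkₐ R J' : S →ₐ[R] _) : S →+* S ⧸ J')) := by
    refine ⟨2, ?_⟩
    rw [Ideal.Quotient.mkₐ_ker]
    have := Ideal.pow_right_mono hJ' 2
    rw [map_sq_zero I hI] at this
    exact le_bot_iff.1 this
  haveI : Algebra.FormallySmooth R B := Algebra.Smooth.formallySmooth
  let ψ : B →ₐ[R] S := Algebra.FormallySmooth.liftOfSurjective (g.comp ι)
    (Ideal.Quotient.mkₐ R J') (Ideal.Quotient.mkₐ_surjective R _) hnil
  have hψ : ∀ x, Ideal.Quotient.mk J' (ψ x) = g (ι x) := fun x =>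
    Algebra.FormallySmooth.liftOfSurjective_apply (g.comp ι) _ _ hnil x
  refine ⟨S, inferInstance, inferInstance, hsm, ψ, κ.comp (Ideal.Quotient.mkₐ R J'), ?_, ?_⟩
  · choose c hc using fun p : (Σ t : ↥T, Fin (k t)) =>
      Ideal.Quotient.mk_surjective (g (Ideal.Quotient.mk _ (X p)))
    have he : ∀ (t : ↥T) (l : Fin (n t)),
        ψ (b t l) - ∑ j, algebraMap R S (a t l j) * c ⟨t, j⟩ ∈ J' := by
      intro t l
      rw [← Ideal.Quotient.eq_zero_iff_mem, map_sub, map_sum, hψ, hι]
      have h1 : ∀ j : Fin (k t), Ideal.Quotient.mk J' (algebraMap R S (a t l j) * c ⟨t, j⟩) =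
          g (Ideal.Quotient.mk _ (C (algebraMap R B (a t l j)) * X ⟨t, j⟩)) := by
        intro j
        rw [map_mul, hc, map_mul, map_mul]
        congr 1
        have : (Ideal.Quotient.mk (Ideal.span (Set.range rel))) (C (algebraMap R B (a t l j))) =
          algebraMap R _ (a t l j) := rfl
        rw [this, AlgHom.commutes]
        rfl
      rw [Finset.sum_congr rfl (fun j _ => h1 j), ← map_sum, ← map_sum, ← map_sub, ← map_sub]
      have h2 : (Ideal.Quotient.mk (Ideal.span (Set.range rel)))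
          (C (b t l) - ∑ j, C (algebraMap R B (a t l j)) * X ⟨t, j⟩) = 0 := by
        rw [Ideal.Quotient.eq_zero_iff_mem]
        exact Ideal.subset_span ⟨⟨t, l⟩, rfl⟩
      rw [h2, map_zero]
    have hψT : ∀ t : ↥T, ψ (t : B) = 0 := by
      intro t
      rw [hdec t, map_sum]
      have h1 : ∀ l : Fin (n t), ψ (algebraMap R B (ε t l) * b t l) =
          algebraMap R S (ε t l) * (ψ (b t l) - ∑ j, algebraMap R S (a t l j) * c ⟨t, j⟩) +
            ∑ j, algebraMap R S (ε t l * a t l j) * c ⟨t, j⟩ := by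
        intro l
        have h3 : algebraMap R S (ε t l) * ∑ j, algebraMap R S (a t l j) * c ⟨t, j⟩ =
            ∑ j, algebraMap R S (ε t l * a t l j) * c ⟨t, j⟩ := by
          rw [Finset.mul_sum]
          refine Finset.sum_congr rfl (fun j _ => ?_)
          rw [map_mul, mul_assoc]
        rw [map_mul, AlgHom.commutes, mul_sub, h3, sub_add_cancel]
      rw [Finset.sum_congr rfl (fun l _ => h1 l), Finset.sum_add_distrib]
      have h2 : ∀ l : Fin (n t),
          algebraMap R S (ε t l) * (ψ (b t l) - ∑ j, algebraMap R S (a t l j) * c ⟨t, j⟩) = 0 :=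
        fun l => sq_zero_mul I hI (hε t l) (hJ' (he t l))
      rw [Finset.sum_congr rfl (fun l _ => h2 l), Finset.sum_const_zero, zero_add,
        Finset.sum_comm]
      refine Finset.sum_eq_zero (fun j _ => ?_)
      rw [← Finset.sum_mul, ← map_sum, ha, map_zero, zero_mul]
    have : J ≤ RingHom.ker ψ.toRingHom := by
      rw [← hT, Ideal.span_le]
      intro t ht
      exact hψT ⟨t, ht⟩
    exact fun x hx => this hx
  · ext x
    change κ (Ideal.Quotient.mk J' (ψ x)) = φ x
    rw [hψ]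
    have : κ (g (ι x)) = (κ.comp g) (ι x) := rfl
    rw [this, hκ, hι]
    change φP (C x) = φ x
    exact aevalTower_C _ _ _

end Groth.Agent.Lib.Helper27.SmoothNilp
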