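import Mathlib
import Groth.Prelude.Def_Smoothing
import Groth.Agent.Lib.Helper27.SmoothNilp2

/-!
Ind-smoothness and nilpotent ideals: the nilpotent case.
-/

namespace Groth.Agent.Lib.Helper27.SmoothNilp

universe u

/-- The square zero case. -/
theorem sqZero_indSmooth {R Λ : Type u} [CommRing R] [CommRing Λ] [Algebra R Λ] [Module.Flat R Λ]
    (I : Ideal R) (hI : I ^ 2 = ⊥)
    (h : Smoothing.IndSmooth (R ⧸ I) (Λ ⧸ I.map (algebraMap R Λ))) :
    Smoothing.IndSmooth R Λ := by
  intro A _ _ hfp φ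
  obtain ⟨B₁, _, _, hsm₁, J₁, hJ₁, hJ₁fg, g₁, k₁, hk₁⟩ := sqZero_factor I hI h φ
  obtain ⟨B', _, _, hsm', α, β, hα, hβ⟩ :=
    sqZero_kill I hI h (k₁.comp (Ideal.Quotient.mkₐ R J₁)) J₁ hJ₁ hJ₁fg (fun x hx => by
      change k₁ (Ideal.Quotient.mk J₁ x) = 0
      rw [Ideal.Quotient.eq_zero_iff_mem.2 hx, map_zero])
  refine ⟨B', inferInstance, inferInstance, hsm', (Ideal.Quotient.liftₐ J₁ α hα).comp g₁, β, ?_⟩
  ext a
  obtain ⟨b, hb⟩ := Ideal.Quotient.mk_surjective (g₁ a)
  change β (Ideal.Quotient.liftₐ J₁ α hα (g₁ a)) = φ a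
  rw [← hb]
  change β (α b) = φ a
  have h1 : β (α b) = (β.comp α) b := rfl
  rw [h1, hβ, ← hk₁]
  change k₁ (Ideal.Quotient.mk J₁ b) = k₁ (g₁ a)
  rw [hb]

/-- Transport of ind-smoothness along compatible ring isomorphisms. -/
theorem indSmooth_of_ringEquiv {R R' Λ Λ' : Type u} [CommRing R] [CommRing R'] [CommRing Λ]
    [CommRing Λ'] [Algebra R Λ] [Algebra R' Λ'] (e : R ≃+* R') (ε : Λ ≃+* Λ')
    (hcomm : ∀ r, ε (algebraMap R Λ r) = algebraMap R' Λ' (e r))
    (h : Smoothing.IndSmooth R Λ) : Smoothing.IndSmooth R' Λ' := by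
  intro A' _ _ hfp f'
  letI : Algebra R R' := e.toRingHom.toAlgebra
  letI : Algebra R A' := ((algebraMap R' A').comp e.toRingHom).toAlgebra
  haveI : IsScalarTower R R' A' := IsScalarTower.of_algebraMap_eq (fun _ => rfl)
  haveI : Algebra.FinitePresentation R R' :=
    Algebra.FinitePresentation.equiv (AlgEquiv.ofRingEquiv (f := e) (fun _ => rfl))
  haveI : Algebra.FinitePresentation R A' := Algebra.FinitePresentation.trans R R' A'
  let f : A' →ₐ[R] Λ :=
    { toRingHom := ε.symm.toRingHom.comp f'.toRingHom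
      commutes' := fun r => by
        change ε.symm (f' (algebraMap R' A' (e r))) = algebraMap R Λ r
        rw [AlgHom.commutes, ← hcomm, RingEquiv.symm_apply_apply] }
  obtain ⟨B, _, _, hsm, g, k, hk⟩ := h A' inferInstance f
  letI : Algebra R' R := e.symm.toRingHom.toAlgebra
  letI : Algebra R' B := ((algebraMap R B).comp e.symm.toRingHom).toAlgebra
  haveI : IsScalarTower R' R B := IsScalarTower.of_algebraMap_eq (fun _ => rfl)
  haveI : Algebra.Smooth R' R' := {}
  haveI : Algebra.Smooth R' R :=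
    Algebra.Smooth.of_equiv (AlgEquiv.ofRingEquiv (f := e.symm) (fun _ => rfl) : R' ≃ₐ[R'] R)
  haveI : Algebra.Smooth R' B := Algebra.Smooth.comp R' R B
  refine ⟨B, inferInstance, inferInstance, inferInstance,
    { toRingHom := g.toRingHom
      commutes' := fun r' => ?_ },
    { toRingHom := ε.toRingHom.comp k.toRingHom
      commutes' := fun r' => ?_ }, ?_⟩
  · change g (algebraMap R' A' r') = algebraMap R B (e.symm r')
    rw [← AlgHom.commutes g]
    change g (algebraMap R' A' r') = g (algebraMap R' A' (e (e.symm r')))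
    rw [RingEquiv.apply_symm_apply]
  · change ε (k (algebraMap R B (e.symm r'))) = algebraMap R' Λ' r'
    rw [AlgHom.commutes, hcomm, RingEquiv.apply_symm_apply]
  · ext a
    change ε (k (g a)) = f' a
    have h1 : k (g a) = (k.comp g) a := rfl
    rw [h1, hk]
    change ε (ε.symm (f' a)) = f' a
    rw [RingEquiv.apply_symm_apply]

/-- flatness of the reduction -/
theorem flat_quot {R Λ : Type u} [CommRing R] [CommRing Λ] [Algebra R Λ] [Module.Flat R Λ]
    (I : Ideal R) : Module.Flat (R ⧸ I) (Λ ⧸ I.map (algebraMap R Λ)) :=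
  Module.Flat.of_linearEquiv
    (Algebra.TensorProduct.quotIdealMapEquivQuotTensor Λ I).toLinearEquiv

theorem nilp_indSmooth_aux (n : ℕ) : ∀ {R Λ : Type u} [CommRing R] [CommRing Λ] [Algebra R Λ]
    [Module.Flat R Λ] (I : Ideal R), I ^ n = ⊥ →
    Smoothing.IndSmooth (R ⧸ I) (Λ ⧸ I.map (algebraMap R Λ)) → Smoothing.IndSmooth R Λ := by
  induction n with
  | zero =>
    intro R Λ _ _ _ _ I hI h
    refine sqZero_indSmooth I ?_ h
    exact le_bot_iff.1 (hI ▸ Ideal.pow_le_pow_right (Nat.zero_le 2))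
  | succ n ih =>
    intro R Λ _ _ _ _ I hI h
    by_cases hn : n + 1 ≤ 2
    · refine sqZero_indSmooth I ?_ h
      exact le_bot_iff.1 (hI ▸ Ideal.pow_le_pow_right hn)
    · have hn2 : n + 1 ≤ n * 2 := by omega
      have hI'sq : (I ^ n) ^ 2 = ⊥ := by
        rw [← pow_mul]
        exact le_bot_iff.1 (hI ▸ Ideal.pow_le_pow_right hn2)
      have hle : I ^ n ≤ I := Ideal.pow_le_self (by omega)
      haveI := flat_quot (Λ := Λ) (I ^ n)
      refine sqZero_indSmooth (I ^ n) hI'sq ?_
      refine ih (I.map (Ideal.Quotient.mk (I ^ n))) ?_ ?_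
      · rw [← Ideal.map_pow, Ideal.map_quotient_self]
      · have hle' : (I ^ n).map (algebraMap R Λ) ≤ I.map (algebraMap R Λ) := Ideal.map_mono hle
        have hideal : (I.map (algebraMap R Λ)).map (Ideal.Quotient.mk ((I ^ n).map (algebraMap R Λ)))
            = (I.map (Ideal.Quotient.mk (I ^ n))).map
              (algebraMap (R ⧸ I ^ n) (Λ ⧸ (I ^ n).map (algebraMap R Λ))) := by
          rw [Ideal.map_map, Ideal.map_map]
          rfl
        refine indSmooth_of_ringEquiv (DoubleQuot.quotQuotEquivQuotOfLE hle).symm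
          ((DoubleQuot.quotQuotEquivQuotOfLE hle').symm.trans (Ideal.quotEquivOfEq hideal)) ?_ h
        intro x
        obtain ⟨r, rfl⟩ := Ideal.Quotient.mk_surjective x
        rfl

theorem nilp_indSmooth {R Λ : Type u} [CommRing R] [CommRing Λ]
    [Algebra R Λ] (I : Ideal R) (hI : IsNilpotent I) [Module.Flat R Λ]
    (h : Smoothing.IndSmooth (R ⧸ I) (Λ ⧸ I.map (algebraMap R Λ))) :
    Smoothing.IndSmooth R Λ := by
  obtain ⟨n, hn⟩ := hI
  exact nilp_indSmooth_aux n I hn h

end Groth.Agent.Lib.Helper27.SmoothNilp
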