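import Groth.Agent.Lib.Helper72.ChamberSolid2
import Mathlib.Analysis.Convex.Combination

/-!
# Special facets of a root system with complementary convex solid (helper27)

Shared lemmas for the special-facet cluster of the `RootCh` family, on top of helper72's
`Chamber*` libraries:
* `closedChamber_le`, `closedChamber_le_solid`: `d b` minimises the pairing with every vector of the
  closed chamber of `b` (support function of the solid);
* `toLinearMap_eq_of_mem_cham`, `toLinearMap_eq_of_mem_dualSolid`: this pairing is constant on the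
  dual solid of a facet for vectors of the facet;
* `exists_cham_le`: refined gallery lemma with equality case;
* `eq_zero_of_fundWeight_of_root`: uniqueness of the point `y(F)`;
* `yLocus_subsingleton`, `yLocus_eq_singleton`.
-/

set_option autoImplicit false
set_option linter.unusedSectionVars false

namespace Groth.Agent.Lib.Helper27.Special

open RootCh Module RootPairing
open Groth.Agent.Lib.Helper27.Weyl
open Groth.Agent.Lib.Helper72.RootChLib
open Groth.Agent.Lib.Helper72.Chamber

universe u v w x

variable {ι : Type u} {R : Type v} {M : Type w} {N : Type x}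
variable [Field R] [LinearOrder R] [IsStrictOrderedRing R]
variable [AddCommGroup M] [Module R M] [AddCommGroup N] [Module R N]
variable {P : RootPairing ι R M N}
variable [P.IsRootSystem] [Finite ι] [P.IsCrystallographic] [P.IsReduced]
variable {d : P.Base → N}

section Support

/-- `d b` minimises the pairing with any vector of the closed chamber of `b`. -/
theorem closedChamber_le (hd : IsCCS d) {b : P.Base} {ξ : M} (hξ : ξ ∈ closedChamber b)
    (b' : P.Base) : P.toLinearMap ξ (d b) ≤ P.toLinearMap ξ (d b') := by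
  rw [toLinearMap_eq_sum_fundWeight b ξ (d b), toLinearMap_eq_sum_fundWeight b ξ (d b')]
  refine Finset.sum_le_sum fun i _ => ?_
  exact mul_le_mul_of_nonneg_left (corner_le hd (fundWeight_mem_baseCorners b i) b') (hξ i i.2)

theorem closedChamber_le_solid (hd : IsCCS d) {b : P.Base} {ξ : M} (hξ : ξ ∈ closedChamber b)
    {y : N} (hy : y ∈ solid d) : P.toLinearMap ξ (d b) ≤ P.toLinearMap ξ y := by
  have hconv : Convex R {y : N | P.toLinearMap ξ (d b) ≤ P.toLinearMap ξ y} :=
    convex_halfSpace_ge (P.toLinearMap ξ).isLinear _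
  refine convexHull_min ?_ hconv hy
  rintro _ ⟨b', rfl⟩
  exact closedChamber_le hd hξ b'

theorem toLinearMap_eq_of_mem_cham (hd : IsCCS d) {F : Facet P} {ξ : M} (hξ : ξ ∈ F.carrier)
    {b b' : P.Base} (hb : b ∈ F.cham) (hb' : b' ∈ F.cham) :
    P.toLinearMap ξ (d b) = P.toLinearMap ξ (d b') :=
  le_antisymm (closedChamber_le hd (hb hξ) b') (closedChamber_le hd (hb' hξ) b)

theorem toLinearMap_eq_of_mem_dualSolid (hd : IsCCS d) {F : Facet P} {ξ : M} (hξ : ξ ∈ F.carrier)
    {b : P.Base} (hb : b ∈ F.cham) {y : N} (hy : y ∈ dualSolid d F) :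
    P.toLinearMap ξ y = P.toLinearMap ξ (d b) := by
  have hconv : Convex R {y : N | P.toLinearMap ξ y = P.toLinearMap ξ (d b)} :=
    convex_hyperplane (P.toLinearMap ξ).isLinear _
  refine convexHull_min ?_ hconv hy
  rintro _ ⟨b', hb', rfl⟩
  exact toLinearMap_eq_of_mem_cham hd hξ hb' hb

lemma dualSolid_subset_solid (d : P.Base → N) (F : Facet P) : dualSolid d F ⊆ solid d :=
  convexHull_mono (Set.image_subset_range _ _)

/-- refined gallery lemma: for `ξ` in the facet `F` and any chamber `b'` there is a chamber `b`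
adjacent to `F` with `⟨ξ, d b⟩ ≤ ⟨ξ, d b'⟩`, and in case of equality `d b' = d b`. -/
theorem exists_cham_le (hd : IsCCS d) {F : Facet P} {ξ : M} (hξ : ξ ∈ F.carrier) (b' : P.Base) :
    ∃ b ∈ F.cham, P.toLinearMap ξ (d b) ≤ P.toLinearMap ξ (d b') ∧
      (P.toLinearMap ξ (d b) = P.toLinearMap ξ (d b') → d b' = d b) := by
  suffices H : ∀ n : ℕ, ∀ b' : P.Base, {i | b'.IsPos i ∧ P.coroot' i ξ < 0}.ncard = n →
      ∃ b ∈ F.cham, P.toLinearMap ξ (d b) ≤ P.toLinearMap ξ (d b') ∧
      (P.toLinearMap ξ (d b) = P.toLinearMap ξ (d b') → d b' = d b) from H _ b' rfl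
  intro n
  induction n with
  | zero =>
    intro b' hn
    have hfin : {i | b'.IsPos i ∧ P.coroot' i ξ < 0}.Finite := Set.toFinite _
    rw [Set.ncard_eq_zero hfin] at hn
    have hξb' : ξ ∈ closedChamber b' := by
      intro i hi
      by_contra hcon
      have : i ∈ {i | b'.IsPos i ∧ P.coroot' i ξ < 0} :=
        ⟨RootPairing.Base.isPos_of_mem_support hi, not_le.mp hcon⟩
      rw [hn] at this; exact this
    exact ⟨b', (Facet.mem_cham_iff_mem F hξ b').mpr hξb', le_rfl, fun _ => rfl⟩
  | succ n ih =>
    intro b' hn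
    by_cases hξb' : ξ ∈ closedChamber b'
    · exact ⟨b', (Facet.mem_cham_iff_mem F hξ b').mpr hξb', le_rfl, fun _ => rfl⟩
    · have : ∃ j ∈ b'.support, P.coroot' j ξ < 0 := by
        by_contra hcon
        push Not at hcon
        exact hξb' hcon
      obtain ⟨j, hj, hjw⟩ := this
      have hcard : {i | (reflBase b' j).IsPos i ∧ P.coroot' i ξ < 0}.ncard = n := by
        have hmem : j ∈ {i | b'.IsPos i ∧ P.coroot' i ξ < 0} :=
          ⟨RootPairing.Base.isPos_of_mem_support hj, hjw⟩
        rw [setOf_isPos_reflBase_coroot'_neg b' hj hjw,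
          Set.ncard_sdiff_singleton_of_mem hmem, hn]; rfl
      obtain ⟨b, hb, h1, h2⟩ := ih _ hcard
      obtain ⟨t, ht, htd⟩ := exists_wall_crossing hd b' hj
      rw [htd, map_add, map_smul, smul_eq_mul] at h1 h2
      have h3 : t * P.toLinearMap ξ (P.coroot j) ≤ 0 :=
        mul_nonpos_of_nonneg_of_nonpos ht hjw.le
      refine ⟨b, hb, by linarith, fun heq => ?_⟩
      have h4 : t * P.toLinearMap ξ (P.coroot j) = 0 := by linarith
      have ht0 : t = 0 := by
        rcases mul_eq_zero.mp h4 with h | h
        · exact h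
        · exact absurd h hjw.ne
      have h5 := h2 (by rw [ht0, zero_mul, add_zero]; exact heq)
      rw [ht0, zero_smul, add_zero] at h5
      exact h5

end Support

section Face

omit [P.IsRootSystem] [Finite ι] [P.IsCrystallographic] [P.IsReduced] in
/-- face lemma: a point of a convex hull on which a linear functional attains a lower bound of the
generating set is a convex combination of the generators where the bound is attained. -/
theorem mem_convexHull_face {E : Type*} [AddCommGroup E] [Module R E] (f : E →ₗ[R] R) (S : Set E)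
    (μ : R) (hS : ∀ s ∈ S, μ ≤ f s) {y : E} (hy : y ∈ convexHull R S) (hyμ : f y ≤ μ) :
    y ∈ convexHull R {s ∈ S | f s = μ} := by
  classical
  rw [convexHull_eq] at hy
  obtain ⟨κ, t, w, z, hw0, hw1, hz, rfl⟩ := hy
  have hfy : f (t.centerMass w z) = ∑ i ∈ t, w i * f (z i) := by
    rw [Finset.centerMass_eq_of_sum_1 _ _ hw1, map_sum]
    simp
  have hsum : ∑ i ∈ t, w i * (f (z i) - μ) = f (t.centerMass w z) - μ := by
    simp only [mul_sub]
    rw [Finset.sum_sub_distrib, ← Finset.sum_mul, hw1, one_mul, hfy]
  have hnn : ∀ i ∈ t, 0 ≤ w i * (f (z i) - μ) := fun i hi =>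
    mul_nonneg (hw0 i hi) (sub_nonneg.mpr (hS _ (hz i hi)))
  have hzero : ∑ i ∈ t, w i * (f (z i) - μ) = 0 :=
    le_antisymm (by rw [hsum]; linarith) (Finset.sum_nonneg hnn)
  have heach := (Finset.sum_eq_zero_iff_of_nonneg hnn).mp hzero
  rw [← Finset.centerMass_filter_ne_zero]
  refine Finset.centerMass_mem_convexHull _ ?_ ?_ ?_
  · intro i hi
    exact hw0 i (Finset.mem_filter.mp hi).1
  · rw [Finset.sum_filter_ne_zero, hw1]; exact one_pos
  · intro i hi
    rw [Finset.mem_filter] at hi
    refine ⟨hz i hi.1, ?_⟩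
    have := heach i hi.1
    rcases mul_eq_zero.mp this with h | h
    · exact absurd h hi.2
    · linarith

end Face

section YLocus

/-- a vector of `N` killed by the fundamental weights in `T` and by the simple roots outside `T`
is zero. -/
theorem eq_zero_of_fundWeight_of_root (b : P.Base) (T : Set b.support) {z : N}
    (h1 : ∀ i ∈ T, P.toLinearMap (fundWeight b i) z = 0)
    (h2 : ∀ i : b.support, i ∉ T → P.root' i z = 0) : z = 0 := by
  classical
  have : Fintype ι := Fintype.ofFinite ι
  have hform : ∀ i : b.support, i ∉ T → P.CorootForm (P.coroot i) z = 0 := by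
    intro i hi
    have h := rootForm_mul_coroot' (P := P.flip) (i : ι) z
    change P.CorootForm (P.coroot i) (P.coroot i) * P.root' i z = 2 * P.CorootForm (P.coroot i) z
      at h
    rw [h2 i hi, mul_zero] at h
    linarith
  have hzz : P.CorootForm z z = 0 := by
    have key : ∀ y : N, P.CorootForm y z =
        ∑ i : b.support, P.toLinearMap (fundWeight b i) y * P.CorootForm (P.coroot i) z := by
      intro y
      conv_lhs => rw [eq_sum_coroot b y]
      rw [map_sum, LinearMap.sum_apply]
      refine Finset.sum_congr rfl fun i _ => ?_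
      rw [map_smul, LinearMap.smul_apply, smul_eq_mul]
    rw [key z]
    refine Finset.sum_eq_zero fun i _ => ?_
    by_cases hi : i ∈ T
    · rw [h1 i hi, zero_mul]
    · rw [hform i hi, mul_zero]
  exact P.flip.rootForm_anisotropic z hzz

lemma root'_eq_zero_of_mem_span_dualCarrier {F : Facet P} {i : ι} (hi : F.sgn i = 0) {y : N}
    (hy : y ∈ Submodule.span R F.dualCarrier) : P.root' i y = 0 := by
  induction hy using Submodule.span_induction with
  | mem x hx =>
    have hx' : cosgnVec P x = F.sgn := hx
    have : cosgnVec P x i = 0 := by rw [hx', hi]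
    exact sign_eq_zero_iff.mp this
  | zero => simp
  | add x y _ _ hx hy => rw [map_add, hx, hy, add_zero]
  | smul a x _ hx => rw [map_smul, hx, smul_zero]

theorem yLocus_subsingleton (hd : IsCCS d) (F : Facet P) : (yLocus d F).Subsingleton := by
  intro y hy y' hy'
  obtain ⟨b, hb⟩ := Facet.exists_mem_cham F
  have hz := eq_zero_of_fundWeight_of_root b {i : b.support | F.sgn i = 1} (z := y - y') ?_ ?_
  · exact sub_eq_zero.mp hz
  · intro i hi
    have hm := Facet.fundWeight_mem_corners hb hi
    have e1 := hy.1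
    have e2 := hy'.1
    simp only [Set.mem_iInter] at e1 e2
    rw [map_sub, (mem_hyper_iff hd (fundWeight_mem_baseCorners b i) y).mp (e1 _ hm),
      (mem_hyper_iff hd (fundWeight_mem_baseCorners b i) y').mp (e2 _ hm), sub_self]
  · intro i hi
    have h0 : F.sgn i = 0 := Facet.sgn_eq_zero_of_ne_one hb i.2 hi
    rw [map_sub, root'_eq_zero_of_mem_span_dualCarrier h0 hy.2,
      root'_eq_zero_of_mem_span_dualCarrier h0 hy'.2, sub_self]

theorem mem_yLocus_of_mem_dualSolid (hd : IsCCS d) {F : Facet P} {y : N}
    (h1 : y ∈ Submodule.span R F.dualCarrier) (h2 : y ∈ dualSolid d F) : y ∈ yLocus d F :=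
  ⟨(dualSolid_subset_poly hd F h2).1, h1⟩

theorem yLocus_eq_singleton (hd : IsCCS d) {F : Facet P} {y : N}
    (h1 : y ∈ Submodule.span R F.dualCarrier) (h2 : y ∈ dualSolid d F) : yLocus d F = {y} := by
  have hy := mem_yLocus_of_mem_dualSolid hd h1 h2
  ext y'
  constructor
  · intro hy'
    exact yLocus_subsingleton hd F hy' hy
  · rintro rfl
    exact hy

end YLocus

section Form

/-- an invariant scalar product on `N` turns a vector `y₀` of `N` into a vector of `M` with the same
sign vector. -/
theorem exists_dual_vector (B : LinearMap.BilinForm R N) (hBs : ∀ y z : N, B y z = B z y)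
    (hBp : ∀ y : N, y ≠ 0 → 0 < B y y)
    (hBi : ∀ (i : ι) (y z : N), B (P.coreflection i y) (P.coreflection i z) = B y z) (y₀ : N) :
    ∃ ξ : M, (∀ z : N, P.toLinearMap ξ z = B y₀ z) ∧ sgnVec P ξ = cosgnVec P y₀ := by
  refine ⟨P.toPerfPair.symm (B y₀), ?_, ?_⟩
  · intro z
    rw [P.toLinearMap.apply_symm_toPerfPair_self (B y₀)]
  · funext i
    have h1 : P.coroot' i (P.toPerfPair.symm (B y₀)) = B y₀ (P.coroot i) := by
      change P.toLinearMap (P.toPerfPair.symm (B y₀)) (P.coroot i) = _
      rw [P.toLinearMap.apply_symm_toPerfPair_self (B y₀)]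
    have h2 : B (P.coroot i) (P.coroot i) * P.root' i y₀ = 2 * B y₀ (P.coroot i) := by
      have h := hBi i (P.coroot i) y₀
      rw [P.coreflection_apply_self, P.coreflection_apply, map_neg, LinearMap.neg_apply, map_sub,
        map_smul, smul_eq_mul] at h
      rw [hBs y₀ (P.coroot i)]
      change B (P.coroot i) (P.coroot i) * P.toLinearMap (P.root i) y₀ = _
      linarith
    change SignType.sign (P.coroot' i _) = SignType.sign (P.root' i y₀)
    rw [h1]
    exact (sign_eq_of_mul_eq (hBp _ (P.flip.ne_zero i)) h2).symm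

end Form

section Degree

omit [P.IsRootSystem] [Finite ι] [P.IsCrystallographic] [P.IsReduced] in
lemma sgn_mul_le (s : SignType) (a : R) :
    (s : R) * a ≤ (SignType.sign a : R) * a ∧
      ((s : R) * a = (SignType.sign a : R) * a → SignType.sign a = 0 ∨ SignType.sign a = s) := by
  rcases lt_trichotomy a 0 with h | h | h
  · rw [sign_neg h]
    rcases s with _ | _ | _
    · refine ⟨by simp; linarith, fun h' => ?_⟩
      simp at h'
      exact absurd h' h.ne
    · exact ⟨le_rfl, fun _ => Or.inr rfl⟩
    · refine ⟨by simp; linarith, fun h' => ?_⟩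
      simp at h'
      exfalso; linarith
  · subst h
    simp
  · rw [sign_pos h]
    rcases s with _ | _ | _
    · refine ⟨by simp; linarith, fun h' => ?_⟩
      simp at h'
      exact absurd h'.symm h.ne'
    · refine ⟨by simp; linarith, fun h' => ?_⟩
      simp at h'
      exfalso; linarith
    · exact ⟨le_rfl, fun _ => Or.inr rfl⟩

/-- twice the sum of an odd function over the parabolic set of a facet -/
lemma two_mul_sum_parab [Fintype ι] (G : Facet P) (r : ι → R)
    (hr : ∀ i, r (P.reflectionPerm i i) = - r i) :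
    2 * ∑ i ∈ (Set.toFinite G.parab).toFinset, r i = ∑ i, (G.sgn i : R) * r i := by
  classical
  let _ := P.indexNeg
  have hS : (Set.toFinite G.parab).toFinset = Finset.univ.filter (fun i => G.sgn i ≠ -1) := by
    ext i; simp [Facet.parab]
  have h1 : ∑ i ∈ (Set.toFinite G.parab).toFinset, r i =
      ∑ i, if G.sgn i ≠ -1 then r i else 0 := by
    rw [hS, Finset.sum_filter]
  have h2 : ∑ i ∈ (Set.toFinite G.parab).toFinset, r i =
      ∑ i, if G.sgn i ≠ 1 then - r i else 0 := by
    rw [h1, ← Equiv.sum_comp (Equiv.neg ι)]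
    refine Finset.sum_congr rfl fun i _ => ?_
    have e1 : (Equiv.neg ι) i = P.reflectionPerm i i := rfl
    rw [e1, Facet.sgn_neg, hr]
    by_cases h : G.sgn i = 1
    · simp [h]
    · have : -G.sgn i ≠ -1 := fun h' => h (neg_injective h')
      simp [h, this]
  rw [two_mul]
  nth_rewrite 1 [h1]
  rw [h2, ← Finset.sum_add_distrib]
  refine Finset.sum_congr rfl fun i _ => ?_
  rcases h : G.sgn i with _ | _ | _ <;> simp

/-- a facet whose dual facet meets its dual solid has maximal degree, and is the largest facet of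
that degree. -/
theorem deg_le_of_special (hd : IsCCS d) {F : Facet P} {b : P.Base} (hb : b ∈ F.cham) {y₀ : N}
    (h1 : y₀ ∈ F.dualCarrier) (h2 : y₀ ∈ dualSolid d F) (G : Facet P) {c : P.Base}
    (hc : c ∈ G.cham) :
    G.deg d c ≤ F.deg d b ∧ (G.deg d c = F.deg d b → G ≤ F) := by
  classical
  have : Fintype ι := Fintype.ofFinite ι
  set r : ι → R := fun i => P.root' i y₀ with hr_def
  have hr : ∀ i, r (P.reflectionPerm i i) = - r i := by
    intro i
    change P.toLinearMap (P.root (P.reflectionPerm i i)) y₀ = -(P.toLinearMap (P.root i) y₀)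
    rw [root_reflectionPerm_self', map_neg, LinearMap.neg_apply]
  have hsign : ∀ i, SignType.sign (r i) = F.sgn i := fun i => congrFun h1 i
  have hF : F.deg d b = ∑ i ∈ (Set.toFinite F.parab).toFinset, r i := by
    rw [Facet.deg_eq, ← toLinearMap_eq_of_mem_dualSolid hd (Facet.sum_root_parab_mem_carrier F) hb h2,
      map_sum, LinearMap.sum_apply]
  have hG : G.deg d c ≤ ∑ i ∈ (Set.toFinite G.parab).toFinset, r i := by
    have h3 := closedChamber_le_solid hd (hc (Facet.sum_root_parab_mem_carrier G))
      (dualSolid_subset_solid d F h2)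
    rw [← Facet.deg_eq, map_sum, LinearMap.sum_apply] at h3
    exact h3
  have h2F := two_mul_sum_parab F r hr
  have h2G := two_mul_sum_parab G r hr
  have hterm : ∀ i ∈ Finset.univ, (G.sgn i : R) * r i ≤ (F.sgn i : R) * r i := by
    intro i _
    rw [← hsign i]
    exact (sgn_mul_le (G.sgn i) (r i)).1
  have hle : ∑ i, (G.sgn i : R) * r i ≤ ∑ i, (F.sgn i : R) * r i := Finset.sum_le_sum hterm
  refine ⟨by linarith, fun heq => ?_⟩
  have hsumeq : ∑ i, (G.sgn i : R) * r i = ∑ i, (F.sgn i : R) * r i := by
    apply le_antisymm hle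
    linarith
  have heach := (Finset.sum_eq_sum_iff_of_le hterm).mp hsumeq
  intro i
  have h3 := heach i (Finset.mem_univ i)
  rw [← hsign i] at h3 ⊢
  exact (sgn_mul_le (G.sgn i) (r i)).2 h3

end Degree

end Groth.Agent.Lib.Helper27.Special
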