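import Groth.Agent.Lib.Helper27.Special
import Groth.Agent.Lib.Helper72.ChamberSpecial

/-!
# Facets of maximal degree are special (helper27)

Key results:
* `exists_yPoint`: the point `y(F)` exists for every facet (dimension count);
* `isSpecial_of_max`: a facet of maximal degree which is maximal (for the closure order) among the
  facets of that degree is special.
-/

set_option autoImplicit false
set_option linter.unusedSectionVars false

namespace Groth.Agent.Lib.Helper27.Special

open RootCh Module RootPairing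
open Groth.Agent.Lib.Helper27.Weyl
open Groth.Agent.Lib.Helper72.RootChLib
open Groth.Agent.Lib.Helper72.Chamber

universe u v w x

variable {ι : Type u} {R : Type v} {M : Type w} {N : Type x}
variable [Field R] [LinearOrder R] [IsStrictOrderedRing R]
variable [AddCommGroup M] [Module R M] [AddCommGroup N] [Module R N]
variable {P : RootPairing ι R M N}
variable [P.IsRootSystem] [Finite ι] [P.IsCrystallographic] [P.IsReduced]
variable {d : P.Base → N}

section YPoint

/-- prescribing the pairings with the fundamental weights in `T` and with the simple roots outside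
`T` determines a (unique) vector of `N`. -/
theorem exists_yPoint (b : P.Base) (T : Set b.support) (v : b.support → R) :
    ∃ y : N, (∀ i ∈ T, P.toLinearMap (fundWeight b i) y = v i) ∧
      (∀ i : b.support, i ∉ T → P.root' i y = v i) := by
  classical
  let φ : N →ₗ[R] (b.support → R) :=
    LinearMap.pi (fun i => if i ∈ T then P.toLinearMap (fundWeight b i) else P.root' i)
  have hφ : ∀ (y : N) (i : b.support),
      φ y i = if i ∈ T then P.toLinearMap (fundWeight b i) y else P.root' i y := by
    intro y i
    change (if i ∈ T then P.toLinearMap (fundWeight b i) else P.root' i) y = _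
    split_ifs <;> rfl
  have hinj : Function.Injective φ := by
    rw [injective_iff_map_eq_zero]
    intro z hz
    refine eq_zero_of_fundWeight_of_root b T (fun i hi => ?_) (fun i hi => ?_)
    · have := congrFun hz i
      rw [hφ, if_pos hi] at this
      exact this
    · have := congrFun hz i
      rw [hφ, if_neg hi] at this
      exact this
  have : Module.Finite R N := Module.Finite.of_basis b.toCoweightBasis
  have hrank : Module.finrank R N = Module.finrank R (b.support → R) := by
    rw [Module.finrank_eq_card_basis b.toCoweightBasis, Module.finrank_fintype_fun_eq_card]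
  have hsurj := (LinearMap.injective_iff_surjective_of_finrank_eq_finrank hrank).mp hinj
  obtain ⟨y, hy⟩ := hsurj v
  refine ⟨y, fun i hi => ?_, fun i hi => ?_⟩
  · have := congrFun hy i
    rw [hφ, if_pos hi] at this
    exact this
  · have := congrFun hy i
    rw [hφ, if_neg hi] at this
    exact this

end YPoint

section Diff

lemma Facet.sgn_reflectionPerm_of_sgn_eq_zero {F : Facet P} {j : ι} (hj : F.sgn j = 0) (i : ι) :
    F.sgn (P.reflectionPerm j i) = F.sgn i := by
  obtain ⟨ξ₀, hξ₀⟩ := F.exists_sgnVec_eq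
  have hξj : P.coroot' j ξ₀ = 0 := by
    rw [← hξ₀, sgnVec_apply, sign_eq_zero_iff] at hj; exact hj
  rw [← hξ₀, sgnVec_apply, sgnVec_apply, ← P.coroot'_reflection,
    reflection_eq_self_of_coroot'_eq_zero hξj]

/-- the roots vanishing on `F` and negative on `Q` -/
noncomputable def diffSet [Fintype ι] (F Q : Facet P) : Finset ι := by
  classical
  exact Finset.univ.filter (fun i => F.sgn i = 0 ∧ Q.sgn i = -1)

lemma mem_diffSet [Fintype ι] {F Q : Facet P} {i : ι} :
    i ∈ diffSet F Q ↔ F.sgn i = 0 ∧ Q.sgn i = -1 := by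
  classical
  simp [diffSet]

lemma sum_parab_eq_add [Fintype ι] {A : Type*} [AddCommMonoid A] {F Q : Facet P} (h : Q ≤ F)
    (r : ι → A) :
    ∑ i ∈ (Set.toFinite F.parab).toFinset, r i =
      ∑ i ∈ (Set.toFinite Q.parab).toFinset, r i + ∑ i ∈ diffSet F Q, r i := by
  classical
  have hdisj : Disjoint (Set.toFinite Q.parab).toFinset (diffSet F Q) := by
    rw [Finset.disjoint_left]
    intro i hi hi'
    rw [Set.Finite.mem_toFinset] at hi
    exact hi (mem_diffSet.mp hi').2
  rw [← Finset.sum_union hdisj]
  refine Finset.sum_congr ?_ fun _ _ => rfl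
  ext i
  rw [Finset.mem_union, Set.Finite.mem_toFinset, Set.Finite.mem_toFinset, mem_diffSet]
  change F.sgn i ≠ -1 ↔ Q.sgn i ≠ -1 ∨ _
  rcases h i with h0 | h0
  · rw [h0]
    by_cases hq : Q.sgn i = -1
    · simp [hq]
    · simp [hq]
  · rw [h0]
    by_cases hq : Q.sgn i = -1
    · simp [hq]
    · simp [hq]

lemma coroot'_sum_diffSet_eq_zero [Fintype ι] {F Q : Facet P} {j : ι} (hF : F.sgn j = 0)
    (hQ : Q.sgn j = 0) : P.coroot' j (∑ i ∈ diffSet F Q, P.root i) = 0 := by
  apply coroot'_sum_root_eq_zero_of_stable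
  intro i
  rw [mem_diffSet, mem_diffSet, Facet.sgn_reflectionPerm_of_sgn_eq_zero hF,
    Facet.sgn_reflectionPerm_of_sgn_eq_zero hQ]

lemma deg_eq_add [Fintype ι] {F Q : Facet P} (h : Q ≤ F) (d : P.Base → N) (c : P.Base) :
    F.deg d c = Q.deg d c + P.toLinearMap (∑ i ∈ diffSet F Q, P.root i) (d c) := by
  rw [Facet.deg, Facet.deg, sum_parab_eq_add h, map_sum, LinearMap.sum_apply]

lemma fundCoweight_mem_dualClosure {G : Facet P} {b : P.Base} (hb : b ∈ G.cham) {j : b.support}
    (hj : G.sgn j = 1) : fundCoweight b j ∈ G.dualClosure := by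
  have h : fundCoweight b j ∈ G.dualCorners := by
    rw [Facet.dualCorners_eq hb]; exact ⟨j, hj, rfl⟩
  exact h.2

/-- pairing of a vector of `M` with a vector of `N` through the coordinates w.r.t. a base -/
lemma toLinearMap_eq_sum_coroot (b : P.Base) (v : M) (z : N) :
    P.toLinearMap v z = ∑ j : b.support, P.toLinearMap (fundWeight b j) z * P.coroot' j v := by
  conv_lhs => rw [eq_sum_coroot b z]
  rw [map_sum]
  refine Finset.sum_congr rfl fun j _ => ?_
  rw [map_smul, smul_eq_mul]
  rfl

lemma root'_eq_sum_fundCoweight (b : P.Base) (i : ι) (y : N) :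
    P.root' i y = ∑ j : b.support, P.root' j y * P.root' i (fundCoweight b j) :=
  toLinearMap_eq_sum_fundWeight (P := P.flip) b.flip y (P.root i)

end Diff

section Max

/-- (S1) for a facet of maximal degree, maximal among the facets of that degree: the point `y(F)`
pairs positively with the simple roots positive on `F`. -/
theorem root'_pos_of_max (hd : IsCCS d) {F : Facet P} {b : P.Base} (hb : b ∈ F.cham)
    (hmax : ∀ (G : Facet P) (c : P.Base), c ∈ G.cham → G.deg d c ≤ F.deg d b)
    (hmaxl : ∀ (G : Facet P) (c : P.Base), c ∈ G.cham → G.deg d c = F.deg d b → F ≤ G → G = F)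
    {y₁ : N}
    (h1 : ∀ i : b.support, F.sgn i = 1 →
      P.toLinearMap (fundWeight b i) y₁ = P.toLinearMap (fundWeight b i) (d b))
    (h2 : ∀ i : b.support, F.sgn i ≠ 1 → P.root' i y₁ = 0)
    (k : b.support) (hk : F.sgn k = 1) : 0 < P.root' k y₁ := by
  classical
  have : Fintype ι := Fintype.ofFinite ι
  by_contra hcon
  rw [not_lt] at hcon
  obtain ⟨Q, hQb, hQT⟩ := exists_facet_of_pattern b ({i : b.support | F.sgn i = 1} \ {k})
  have hFQ : F ≤ Q := Facet.le_of_pattern hQb hb fun i hi h => ((hQT ⟨i, hi⟩).mp h).1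
  have hQk : Q.sgn k = 0 :=
    Facet.sgn_eq_zero_of_ne_one hQb k.2 fun h => ((hQT k).mp h).2 rfl
  have hdeg := deg_eq_add hFQ d b
  -- the difference of degrees is computed at `y₁`
  have hz : P.toLinearMap (∑ i ∈ diffSet Q F, P.root i) (d b - y₁) = 0 := by
    rw [toLinearMap_eq_sum_coroot b]
    refine Finset.sum_eq_zero fun j _ => ?_
    by_cases hj : F.sgn j = 1
    · rw [map_sub, h1 j hj, sub_self, zero_mul]
    · have hFj : F.sgn j = 0 := Facet.sgn_eq_zero_of_ne_one hb j.2 hj
      have hQj : Q.sgn j = 0 :=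
        Facet.sgn_eq_zero_of_ne_one hQb j.2 fun h => hj ((hQT j).mp h).1
      rw [coroot'_sum_diffSet_eq_zero hQj hFj, mul_zero]
  rw [map_sub, sub_eq_zero] at hz
  have hnn : 0 ≤ P.toLinearMap (∑ i ∈ diffSet Q F, P.root i) y₁ := by
    rw [map_sum, LinearMap.sum_apply]
    refine Finset.sum_nonneg fun i hi => ?_
    rw [mem_diffSet] at hi
    change 0 ≤ P.root' i y₁
    rw [root'_eq_sum_fundCoweight b i y₁]
    refine Finset.sum_nonneg fun j _ => ?_
    by_cases hj : F.sgn j = 1
    · by_cases hjk : j = k
      · subst hjk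
        have hcl := fundCoweight_mem_dualClosure hb hj i
        have h3 : P.root' i (fundCoweight b j) ≤ 0 := by
          rcases hcl with h | h
          · exact (sign_eq_zero_iff.mp h).le
          · rw [hi.2] at h
            exact (sign_eq_neg_one_iff.mp h).le
        exact mul_nonneg_of_nonpos_of_nonpos hcon h3
      · have hQj : Q.sgn j = 1 := (hQT j).mpr ⟨hj, hjk⟩
        have hcl := fundCoweight_mem_dualClosure hQb hQj i
        have h3 : P.root' i (fundCoweight b j) = 0 := by
          rcases hcl with h | h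
          · exact sign_eq_zero_iff.mp h
          · rw [hi.1] at h
            exact sign_eq_zero_iff.mp h
        rw [h3, mul_zero]
    · rw [h2 j hj, zero_mul]
  have hge : F.deg d b ≤ Q.deg d b := by
    rw [hdeg, hz]; linarith
  have heq : Q.deg d b = F.deg d b := le_antisymm (hmax Q b hQb) hge
  have := hmaxl Q b hQb heq hFQ
  rw [this, hk] at hQk
  exact absurd hQk (by decide)

/-- (S2) for a facet of maximal degree, the point `y(F)` satisfies the inequalities of the corners
of the adjacent chambers. -/
theorem le_of_max (hd : IsCCS d) {F : Facet P} {b : P.Base} (hb : b ∈ F.cham)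
    (hmax : ∀ (G : Facet P) (c : P.Base), c ∈ G.cham → G.deg d c ≤ F.deg d b)
    {y₁ : N} (hy₁ : y₁ ∈ yLocus d F) {b' : P.Base} (hb' : b' ∈ F.cham) (i' : b'.support) :
    P.toLinearMap (fundWeight b' i') (d b') ≤ P.toLinearMap (fundWeight b' i') y₁ := by
  classical
  have : Fintype ι := Fintype.ofFinite ι
  have hhyp : ∀ j : b'.support, F.sgn j = 1 →
      P.toLinearMap (fundWeight b' j) y₁ = P.toLinearMap (fundWeight b' j) (d b') := by
    intro j hj
    have e1 := hy₁.1
    simp only [Set.mem_iInter] at e1
    exact (mem_hyper_iff hd (fundWeight_mem_baseCorners b' j) y₁).mp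
      (e1 _ (Facet.fundWeight_mem_corners hb' hj))
  by_cases hi' : F.sgn i' = 1
  · exact (hhyp i' hi').ge
  · by_contra hcon
    rw [not_le] at hcon
    obtain ⟨Q, hQb, hQT⟩ := exists_facet_of_pattern b' ({i : b'.support | F.sgn i = 1} ∪ {i'})
    have hQF : Q ≤ F := Facet.le_of_pattern hb' hQb fun i hi h => (hQT ⟨i, hi⟩).mpr (Or.inl h)
    have hQi' : Q.sgn i' = 1 := (hQT i').mpr (Or.inr rfl)
    have hFi' : F.sgn i' = 0 := Facet.sgn_eq_zero_of_ne_one hb' i'.2 hi'
    have hdeg := deg_eq_add hQF d b'
    have hdegF : F.deg d b' = F.deg d b := by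
      rw [Facet.deg_eq, Facet.deg_eq]
      exact toLinearMap_eq_of_mem_cham hd (Facet.sum_root_parab_mem_carrier F) hb' hb
    have hy0 : P.toLinearMap (∑ i ∈ diffSet F Q, P.root i) y₁ = 0 := by
      rw [map_sum, LinearMap.sum_apply]
      refine Finset.sum_eq_zero fun i hi => ?_
      exact root'_eq_zero_of_mem_span_dualCarrier (mem_diffSet.mp hi).1 hy₁.2
    have hcor : P.coroot' i' (∑ i ∈ diffSet F Q, P.root i) < 0 := by
      have hsum := sum_parab_eq_add hQF (fun i => P.root i)
      have hFc := (Facet.mem_carrier_iff hb' _).mp (Facet.sum_root_parab_mem_carrier F) i' i'.2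
      have hQc := (Facet.mem_carrier_iff hQb _).mp (Facet.sum_root_parab_mem_carrier Q) i' i'.2
      have h3 := hFc.2 hi'
      have h4 := hQc.1 hQi'
      rw [hsum, map_add] at h3
      linarith
    have hz : P.toLinearMap (∑ i ∈ diffSet F Q, P.root i) (d b' - y₁) < 0 := by
      rw [toLinearMap_eq_sum_coroot b', Finset.sum_eq_single i']
      · apply mul_neg_of_pos_of_neg _ hcor
        rw [map_sub]; linarith
      · intro j _ hj
        by_cases hFj : F.sgn j = 1
        · rw [map_sub, hhyp j hFj, sub_self, zero_mul]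
        · have hFj0 : F.sgn j = 0 := Facet.sgn_eq_zero_of_ne_one hb' j.2 hFj
          have hQj : Q.sgn j = 0 := by
            refine Facet.sgn_eq_zero_of_ne_one hQb j.2 fun h => ?_
            rcases (hQT j).mp h with h' | h'
            · exact hFj h'
            · exact hj h'
          rw [coroot'_sum_diffSet_eq_zero hFj0 hQj, mul_zero]
      · intro h; exact absurd (Finset.mem_univ _) h
    rw [map_sub, hy0, sub_zero] at hz
    have := hmax Q b' hQb
    linarith

/-- a facet of maximal degree which is maximal among the facets of that degree is special. -/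
theorem isSpecial_of_max (hd : IsCCS d) {F : Facet P} {b : P.Base} (hb : b ∈ F.cham)
    (hmax : ∀ (G : Facet P) (c : P.Base), c ∈ G.cham → G.deg d c ≤ F.deg d b)
    (hmaxl : ∀ (G : Facet P) (c : P.Base), c ∈ G.cham → G.deg d c = F.deg d b → F ≤ G → G = F) :
    IsSpecial d F := by
  classical
  obtain ⟨y₁, h1, h2⟩ := exists_yPoint b {i : b.support | F.sgn i = 1}
    (fun i => if F.sgn i = 1 then P.toLinearMap (fundWeight b i) (d b) else 0)
  have h1' : ∀ i : b.support, F.sgn i = 1 →
      P.toLinearMap (fundWeight b i) y₁ = P.toLinearMap (fundWeight b i) (d b) := by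
    intro i hi
    have := h1 i hi
    rwa [if_pos hi] at this
  have h2' : ∀ i : b.support, F.sgn i ≠ 1 → P.root' i y₁ = 0 := by
    intro i hi
    have := h2 i hi
    rwa [if_neg hi] at this
  have hspan : y₁ ∈ Submodule.span R F.dualCarrier := by
    rw [Facet.mem_span_dualCarrier_iff hb]
    intro j hj hj1
    exact h2' ⟨j, hj⟩ hj1
  have hhyper : y₁ ∈ ⋂ m ∈ F.corners, hyper d m := by
    simp only [Set.mem_iInter]
    intro m hm
    obtain ⟨i, hi, rfl⟩ := Facet.exists_of_mem_corners hb hm
    rw [mem_hyper_iff hd (fundWeight_mem_baseCorners b i)]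
    exact h1' i hi
  have hy₁ : y₁ ∈ yLocus d F := ⟨hhyper, hspan⟩
  refine ⟨y₁, ?_, ?_⟩
  · rw [← dualFacet_carrier, Facet.mem_carrier_iff (Facet.flip_mem_dual_cham hb)]
    intro i hi
    exact ⟨fun h => root'_pos_of_max hd hb hmax hmaxl h1' h2' ⟨i, hi⟩ h,
      fun h => h2' ⟨i, hi⟩ h⟩
  · rw [dualSolid_eq_poly hd]
    refine ⟨hhyper, ?_⟩
    simp only [Set.mem_iInter]
    intro m hm
    obtain ⟨b', hb', i', rfl⟩ := Facet.exists_of_mem_corners' hm
    rw [mem_halfClosed_iff hd (fundWeight_mem_baseCorners b' i')]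
    exact le_of_max hd hb hmax hy₁ hb' i'

end Max

end Groth.Agent.Lib.Helper27.Special
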