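import Mathlib

/-! Steinitz: over a Dedekind domain `I ⊕ J ≅ R ⊕ IJ` for nonzero ideals (helper27). -/

set_option autoImplicit false

namespace Groth.Agent.Lib.Helper27.Steinitz

section Coprime

variable {R : Type*} [CommRing R]

/-- Coprime Steinitz: if `a₀ ∈ I`, `b₀ ∈ J`, `a₀ + b₀ = 1` then `I × J ≃ R × IJ`. -/
noncomputable def coprimeEquiv (I J : Ideal R) (a₀ b₀ : R) (ha : a₀ ∈ I) (hb : b₀ ∈ J)
    (hab : a₀ + b₀ = 1) : (I × J) ≃ₗ[R] (R × ↥(I * J)) := by
  refine LinearEquiv.ofLinear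
    { toFun := fun p => (p.1.1 + p.2.1, ⟨p.1.1 * b₀ - p.2.1 * a₀, ?_⟩)
      map_add' := ?_
      map_smul' := ?_ }
    { toFun := fun q => (⟨q.1 * a₀ + q.2.1, ?_⟩, ⟨q.1 * b₀ - q.2.1, ?_⟩)
      map_add' := ?_
      map_smul' := ?_ } ?_ ?_
  · refine sub_mem (Ideal.mul_mem_mul p.1.2 hb) ?_
    rw [mul_comm (p.2 : R) a₀]
    exact Ideal.mul_mem_mul ha p.2.2
  · intro p q
    refine Prod.ext ?_ (Subtype.ext ?_)
    · simp only [Prod.fst_add, Prod.snd_add, Submodule.coe_add]; ring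
    · simp only [Prod.fst_add, Prod.snd_add, Submodule.coe_add]; ring
  · intro r p
    refine Prod.ext ?_ (Subtype.ext ?_)
    · simp only [Prod.smul_fst, Prod.smul_snd, Submodule.coe_smul, smul_eq_mul, RingHom.id_apply]
      ring
    · simp only [Prod.smul_fst, Prod.smul_snd, Submodule.coe_smul, smul_eq_mul, RingHom.id_apply]
      ring
  · exact add_mem (Ideal.mul_mem_left _ _ ha) (Ideal.mul_le_left q.2.2)
  · exact sub_mem (Ideal.mul_mem_left _ _ hb) (Ideal.mul_le_right q.2.2)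
  · intro p q
    refine Prod.ext (Subtype.ext ?_) (Subtype.ext ?_)
    · simp only [Prod.fst_add, Prod.snd_add, Submodule.coe_add]; ring
    · simp only [Prod.fst_add, Prod.snd_add, Submodule.coe_add]; ring
  · intro r p
    refine Prod.ext (Subtype.ext ?_) (Subtype.ext ?_)
    · simp only [Prod.smul_fst, Prod.smul_snd, Submodule.coe_smul, smul_eq_mul, RingHom.id_apply]
      ring
    · simp only [Prod.smul_fst, Prod.smul_snd, Submodule.coe_smul, smul_eq_mul, RingHom.id_apply]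
      ring
  · refine LinearMap.ext fun q => Prod.ext ?_ (Subtype.ext ?_)
    · simp only [LinearMap.coe_comp, LinearMap.coe_mk, AddHom.coe_mk, Function.comp_apply,
        LinearMap.id_coe, id_eq]
      linear_combination q.1 * hab
    · simp only [LinearMap.coe_comp, LinearMap.coe_mk, AddHom.coe_mk, Function.comp_apply,
        LinearMap.id_coe, id_eq]
      linear_combination (q.2 : R) * hab
  · refine LinearMap.ext fun p => Prod.ext (Subtype.ext ?_) (Subtype.ext ?_)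
    · simp only [LinearMap.coe_comp, LinearMap.coe_mk, AddHom.coe_mk, Function.comp_apply,
        LinearMap.id_coe, id_eq]
      linear_combination (p.1 : R) * hab
    · simp only [LinearMap.coe_comp, LinearMap.coe_mk, AddHom.coe_mk, Function.comp_apply,
        LinearMap.id_coe, id_eq]
      linear_combination (p.2 : R) * hab

end Coprime

section Domain

variable {R : Type*} [CommRing R] [IsDomain R]

/-- Multiplication by a nonzero element: `I ≃ (s) * I`. -/
noncomputable def scaleEquiv (I : Ideal R) (s : R) (hs : s ≠ 0) :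
    I ≃ₗ[R] ↥(Ideal.span {s} * I) := by
  refine LinearEquiv.ofBijective
    (LinearMap.codRestrict (Ideal.span {s} * I) ((LinearMap.mulLeft R s).comp I.subtype)
      (fun y => Ideal.mul_mem_mul (Ideal.mem_span_singleton_self s) y.2)) ⟨?_, ?_⟩
  · intro y y' h
    have h' := congrArg Subtype.val h
    simp only [LinearMap.codRestrict_apply, LinearMap.coe_comp, Function.comp_apply,
      Submodule.subtype_apply, LinearMap.mulLeft_apply] at h'
    exact Subtype.ext (mul_left_cancel₀ hs h')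
  · rintro ⟨z, hz⟩
    obtain ⟨y, hy, rfl⟩ := Ideal.mem_span_singleton_mul.mp hz
    exact ⟨⟨y, hy⟩, Subtype.ext rfl⟩

/-- If `(b) * I = (a) * I'` with `a, b ≠ 0` then `I ≃ I'`. -/
noncomputable def equivOfSpanMulEq (I I' : Ideal R) (a b : R) (ha : a ≠ 0) (hb : b ≠ 0)
    (h : Ideal.span {b} * I = Ideal.span {a} * I') : I ≃ₗ[R] I' :=
  (scaleEquiv I b hb).trans ((LinearEquiv.ofEq _ _ h).trans (scaleEquiv I' a ha).symm)

end Domain

section Dedekind

variable {R : Type*} [CommRing R] [IsDedekindDomain R]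

/-- Moving lemma. -/
lemma exists_coprime_equiv (I J : Ideal R) (hI : I ≠ ⊥) (hJ : J ≠ ⊥) (hJt : J ≠ ⊤) :
    ∃ (I' : Ideal R) (a b : R), a ≠ 0 ∧ b ≠ 0 ∧
      Ideal.span {b} * I = Ideal.span {a} * I' ∧ I' ⊔ J = ⊤ := by
  obtain ⟨a, haI, ha0⟩ := Submodule.exists_mem_ne_zero_of_ne_bot hI
  obtain ⟨K₁, hK₁⟩ : I ∣ Ideal.span {a} :=
    Ideal.dvd_iff_le.mpr ((Ideal.span_singleton_le_iff_mem I).mpr haI)
  have hK₁0 : K₁ ≠ ⊥ := by
    rintro rfl
    rw [Ideal.mul_bot, Ideal.span_singleton_eq_bot] at hK₁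
    exact ha0 hK₁
  have hKJ : K₁ * J ≠ 0 := mul_ne_zero hK₁0 hJ
  obtain ⟨b, hb⟩ := IsDedekindDomain.exists_sup_span_eq (I := K₁ * J) (J := K₁)
    Ideal.mul_le_left hKJ
  have hbK : b ∈ K₁ := by
    rw [← hb]; exact Ideal.mem_sup_right (Ideal.mem_span_singleton_self b)
  obtain ⟨I', hI'⟩ : K₁ ∣ Ideal.span {b} :=
    Ideal.dvd_iff_le.mpr ((Ideal.span_singleton_le_iff_mem K₁).mpr hbK)
  have hcop : J ⊔ I' = ⊤ := by
    have h1 : K₁ * (J ⊔ I') = K₁ * ⊤ := by
      rw [Ideal.mul_sup, ← hI', hb, Ideal.mul_top]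
    exact mul_left_cancel₀ hK₁0 h1
  have hb0 : b ≠ 0 := by
    rintro rfl
    have h0 : K₁ * I' = ⊥ := by rw [← hI']; simp
    have hI'0 : I' = ⊥ := by
      rcases Ideal.mul_eq_bot.mp h0 with h | h
      · exact absurd h hK₁0
      · exact h
    rw [hI'0, sup_bot_eq] at hcop
    exact hJt hcop
  refine ⟨I', a, b, ha0, hb0, ?_, by rw [sup_comm]; exact hcop⟩
  have h2 : (Ideal.span {b} * I) * K₁ = (Ideal.span {a} * I') * K₁ := by
    rw [mul_assoc, ← hK₁, mul_assoc, mul_comm I' K₁, ← hI', mul_comm]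
  exact mul_right_cancel₀ hK₁0 h2

/-- Steinitz: `I × J ≃ R × IJ`. -/
theorem steinitz (I J : Ideal R) (hI : I ≠ ⊥) (hJ : J ≠ ⊥) :
    Nonempty ((I × J) ≃ₗ[R] (R × ↥(I * J))) := by
  by_cases hJt : J = ⊤
  · subst hJt
    refine ⟨(LinearEquiv.prodComm R I (⊤ : Ideal R)).trans
      (LinearEquiv.prodCongr Submodule.topEquiv (LinearEquiv.ofEq _ _ (Ideal.mul_top I).symm))⟩
  · obtain ⟨I', a, b, ha, hb, hab, hcop⟩ := exists_coprime_equiv I J hI hJ hJt
    obtain ⟨a₀, ha₀, b₀, hb₀, h1⟩ := Submodule.mem_sup.mp ((Ideal.eq_top_iff_one _).mp hcop)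
    have e1 : I ≃ₗ[R] I' := equivOfSpanMulEq I I' a b ha hb hab
    have hab' : Ideal.span {b} * (I * J) = Ideal.span {a} * (I' * J) := by
      rw [← mul_assoc, hab, mul_assoc]
    have e2 : ↥(I * J) ≃ₗ[R] ↥(I' * J) := equivOfSpanMulEq (I * J) (I' * J) a b ha hb hab'
    exact ⟨(LinearEquiv.prodCongr e1 (LinearEquiv.refl R J)).trans
      ((coprimeEquiv I' J a₀ b₀ ha₀ hb₀ h1).trans
        (LinearEquiv.prodCongr (LinearEquiv.refl R R) e2.symm))⟩

/-- `(Fin n → R) × R ≃ (Fin (n+1) → R)` -/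
noncomputable def snocEquiv (n : ℕ) : ((Fin n → R) × R) ≃ₗ[R] (Fin (n + 1) → R) :=
  (LinearEquiv.prodComm R (Fin n → R) R).trans (Fin.consLinearEquiv R (fun _ : Fin (n + 1) => R))

theorem pow_steinitz (I : Ideal R) (hI : I ≠ ⊥) : ∀ n : ℕ,
    Nonempty ((Fin (n + 1) → I) ≃ₗ[R] ((Fin n → R) × ↥(I ^ (n + 1)))) := by
  intro n
  induction n with
  | zero =>
    exact ⟨(LinearEquiv.funUnique (Fin 1) R I).trans
      ((LinearEquiv.ofEq _ _ (pow_one I).symm).trans
        (LinearEquiv.uniqueProd (R := R) (M := ↥(I ^ (0 + 1))) (M₂ := Fin 0 → R)).symm)⟩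
  | succ n ih =>
    obtain ⟨e⟩ := ih
    have hIn : I ^ (n + 1) ≠ ⊥ := pow_ne_zero _ hI
    obtain ⟨st⟩ := steinitz I (I ^ (n + 1)) hI hIn
    have e1 : (Fin (n + 2) → I) ≃ₗ[R] (I × (Fin (n + 1) → I)) :=
      (Fin.consLinearEquiv R (fun _ : Fin (n + 2) => ↥I)).symm
    have e2 : (I × (Fin (n + 1) → I)) ≃ₗ[R] (I × ((Fin n → R) × ↥(I ^ (n + 1)))) :=
      LinearEquiv.prodCongr (LinearEquiv.refl R I) e
    have e3 : (I × ((Fin n → R) × ↥(I ^ (n + 1)))) ≃ₗ[R]
        ((Fin n → R) × (I × ↥(I ^ (n + 1)))) :=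
      (LinearEquiv.prodAssoc R I (Fin n → R) ↥(I ^ (n + 1))).symm.trans
        ((LinearEquiv.prodCongr (LinearEquiv.prodComm R I (Fin n → R))
          (LinearEquiv.refl R ↥(I ^ (n + 1)))).trans
          (LinearEquiv.prodAssoc R (Fin n → R) I ↥(I ^ (n + 1))))
    have e4 : ((Fin n → R) × (I × ↥(I ^ (n + 1)))) ≃ₗ[R]
        ((Fin n → R) × (R × ↥(I ^ (n + 1 + 1)))) :=
      LinearEquiv.prodCongr (LinearEquiv.refl R _)
        (st.trans (LinearEquiv.prodCongr (LinearEquiv.refl R R)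
          (LinearEquiv.ofEq _ _ (pow_succ' I (n + 1)).symm)))
    have e5 : ((Fin n → R) × (R × ↥(I ^ (n + 1 + 1)))) ≃ₗ[R]
        ((Fin (n + 1) → R) × ↥(I ^ (n + 1 + 1))) :=
      (LinearEquiv.prodAssoc R (Fin n → R) R ↥(I ^ (n + 1 + 1))).symm.trans
        (LinearEquiv.prodCongr (snocEquiv n) (LinearEquiv.refl R _))
    exact ⟨e1.trans (e2.trans (e3.trans (e4.trans e5)))⟩

open CommRing Pic nonZeroDivisors in
theorem pow_equiv_of_pic (N : Type*) [AddCommGroup N] [Module R N] [Module.Invertible R N]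
    (I : Ideal R) (hI : I ≠ ⊥) (e : N ≃ₗ[R] I) (n : ℕ) (h : Pic.mk R N ^ n = 1) :
    Nonempty (↥(I ^ n) ≃ₗ[R] R) := by
  let K := FractionRing R
  have hF : (I : FractionalIdeal R⁰ K) ≠ 0 := FractionalIdeal.coeIdeal_ne_zero.mpr hI
  let u : (FractionalIdeal R⁰ K)ˣ := Units.mk0 _ hF
  let U : (Submodule R K)ˣ := FractionalIdeal.unitsMulEquivSubmodule u
  have hU : (U : Submodule R K) = IsLocalization.coeSubmodule K I :=
    FractionalIdeal.coe_coeIdeal (S := R⁰) (P := K) I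
  have eI : ∀ J : Ideal R, J ≃ₗ[R] ↥(IsLocalization.coeSubmodule K J) := fun J =>
    Submodule.equivMapOfInjective (Algebra.linearMap R K) (IsFractionRing.injective R K) J
  have h1 : Submodule.unitsToPic R K U = Pic.mk R N := by
    rw [Submodule.unitsToPic_apply, Pic.mk_eq_mk_iff]
    exact ⟨(LinearEquiv.ofEq _ _ hU).trans ((eI I).symm.trans e.symm)⟩
  have h2 : Submodule.unitsToPic R K (U ^ n) = 1 := by rw [map_pow, h1, h]
  rw [Submodule.unitsToPic_apply, Pic.mk_eq_one_iff] at h2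
  obtain ⟨e2⟩ := h2
  have hpow : ∀ m : ℕ, (IsLocalization.coeSubmodule K I) ^ m
      = IsLocalization.coeSubmodule K (I ^ m) := by
    intro m
    induction m with
    | zero => rw [pow_zero, pow_zero, Ideal.one_eq_top, IsLocalization.coeSubmodule_top]
    | succ m ih => rw [pow_succ, pow_succ, ih, IsLocalization.coeSubmodule_mul]
  have hUn : ((U ^ n : (Submodule R K)ˣ) : Submodule R K)
      = IsLocalization.coeSubmodule K (I ^ n) := by
    rw [Units.val_pow_eq_pow_val, hU, hpow]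
  exact ⟨(eI (I ^ n)).trans ((LinearEquiv.ofEq _ _ hUn.symm).trans e2)⟩

theorem main (N : Type*) [AddCommGroup N] [Module R N] [Module.Invertible R N]
    (n : ℕ) (h : CommRing.Pic.mk R N ^ n = 1) :
    Nonempty ((Fin n → N) ≃ₗ[R] (Fin n → R)) := by
  obtain ⟨I, ⟨e⟩⟩ := Module.Invertible.exists_linearEquiv_ideal R N
  have hI : I ≠ ⊥ := by
    rintro rfl
    have hsub : Subsingleton N := e.toEquiv.subsingleton
    have hinj := (Module.Invertible.toModuleEnd_bijective R N).injective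
    have : (0 : R) = 1 := hinj (by ext x; exact Subsingleton.elim _ _)
    exact zero_ne_one this
  rcases n with _ | m
  · exact ⟨LinearEquiv.ofSubsingleton _ _⟩
  · obtain ⟨e1⟩ := pow_steinitz I hI m
    obtain ⟨e2⟩ := pow_equiv_of_pic N I hI e (m + 1) h
    exact ⟨(LinearEquiv.piCongrRight fun _ => e).trans (e1.trans
      ((LinearEquiv.prodCongr (LinearEquiv.refl R _) e2).trans (snocEquiv m)))⟩

end Dedekind

end Groth.Agent.Lib.Helper27.Steinitz
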