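import Mathlib.RingTheory.Smooth.Basic
import Mathlib.RingTheory.Ideal.Quotient.Operations

/-! Lifting semilinear ring maps along square-zero extensions using formal smoothness (helper27). -/

set_option autoImplicit false

namespace Groth.Agent.Lib.Helper27.TwistLift

universe u v

variable {R : Type u} {S : Type v} [CommRing R] [CommRing S] [Algebra R S]

/-- `S` with the `R`-algebra structure twisted by an endomorphism `φ` of `R`. -/
def Tw (_φ : R →+* R) : Type v := S

variable (φ : R →+* R)

instance : CommRing (Tw (S := S) φ) := inferInstanceAs (CommRing S)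

instance : Algebra R (Tw (S := S) φ) := ((algebraMap R S).comp φ).toAlgebra

/-- the identity ring isomorphism -/
def toTw : S ≃+* Tw (S := S) φ := RingEquiv.refl S

theorem algebraMap_tw (r : R) : algebraMap R (Tw (S := S) φ) r = toTw φ (algebraMap R S (φ r)) :=
  rfl

/-- Lifting a `φ`-semilinear ring map along a square-zero extension of a formally smooth algebra. -/
theorem exists_semilinear_lift [Algebra.FormallySmooth R S] (N : Ideal S) (hN : N ^ 2 = ⊥)
    (g₀ : S →+* S ⧸ N)
    (hg₀ : ∀ r : R, g₀ (algebraMap R S r) = Ideal.Quotient.mk N (algebraMap R S (φ r))) :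
    ∃ Ψ : S →+* S, (∀ r : R, Ψ (algebraMap R S r) = algebraMap R S (φ r)) ∧
      ∀ s : S, Ideal.Quotient.mk N (Ψ s) = g₀ s := by
  let N' : Ideal (Tw (S := S) φ) := N
  have hN' : N' ^ 2 = ⊥ := hN
  let g : S →ₐ[R] (Tw (S := S) φ) ⧸ N' :=
    { toRingHom := g₀
      commutes' := fun r => by
        change g₀ (algebraMap R S r) = _
        rw [hg₀]
        rfl }
  obtain ⟨f, hf⟩ := Algebra.FormallySmooth.comp_surjective R S N' hN' g
  refine ⟨f.toRingHom, fun r => ?_, fun s => ?_⟩
  · exact f.commutes r
  · have := congrArg (fun h : S →ₐ[R] (Tw (S := S) φ) ⧸ N' => h s) hf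
    exact this

end Groth.Agent.Lib.Helper27.TwistLift
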