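import Mathlib

/-!
# The obstruction computation for lifting the split ordinary double point over `W₂(k)`
(helper library for S13146 and S19564)

* `hpoly p x y = ((x+y)^p - x^p - y^p)/p` as a universal expression;
* the identity (`bside`) in a ring `B` with `π₀^2 = 0`, `p = π₀`, for elements `z i` with `∑ z i = π₀ β`;
* a linear functional `lam` on `k[x_i, y_i]` killing the ideal `(∑ x_i y_i, x_v^p, x_i y_i (i ∉ {i₀,i₁,i₂}))`
  and the constants, with `lam (hpoly (x_{i₀} y_{i₀}) (x_{i₁} y_{i₁})) = 1`.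
-/

set_option autoImplicit false
universe u

namespace Groth.Agent.Lib.Helper27.W2Obst

open Finset

section hpoly

variable {R : Type*} [CommRing R]

/-- `((x+y)^p - x^p - y^p)/p` -/
def hpoly (p : ℕ) (x y : R) : R :=
  ∑ j ∈ range (p - 1), ((p.choose (j + 1) / p : ℕ) : R) * x ^ (j + 1) * y ^ (p - (j + 1))

lemma add_pow_eq_hpoly (p : ℕ) (hp : p.Prime) (x y : R) :
    (x + y) ^ p = x ^ p + y ^ p + (p : R) * hpoly p x y := by
  obtain ⟨m, rfl⟩ : ∃ m, p = m + 1 := ⟨p - 1, by have := hp.pos; omega⟩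
  rw [add_pow, Finset.sum_range_succ, Finset.sum_range_succ']
  simp only [Nat.choose_self, Nat.cast_one, mul_one, Nat.sub_self, pow_zero, Nat.choose_zero_right,
    one_mul, Nat.sub_zero]
  rw [hpoly, Finset.mul_sum]
  have hsum : ∑ k ∈ range m, x ^ (k + 1) * y ^ (m + 1 - (k + 1)) * ((m + 1).choose (k + 1) : R) =
      ∑ j ∈ range (m + 1 - 1), ((m + 1 : ℕ) : R) * ((((m + 1).choose (j + 1) / (m + 1) : ℕ) : R) *
        x ^ (j + 1) * y ^ (m + 1 - (j + 1))) := by
    rw [Nat.add_sub_cancel]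
    refine Finset.sum_congr rfl fun j hj => ?_
    rw [Finset.mem_range] at hj
    have hdvd : (m + 1) ∣ (m + 1).choose (j + 1) :=
      hp.dvd_choose_self (Nat.succ_ne_zero j) (by omega)
    obtain ⟨c, hc⟩ := hdvd
    rw [hc, Nat.mul_div_cancel_left c hp.pos]
    push_cast
    ring
  rw [hsum]
  ring

lemma hpoly_eq_mul_left (p : ℕ) (x y : R) : ∃ u, hpoly p x y = x * u := by
  refine ⟨∑ j ∈ range (p - 1), ((p.choose (j + 1) / p : ℕ) : R) * x ^ j * y ^ (p - (j + 1)), ?_⟩
  rw [hpoly, Finset.mul_sum]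
  refine Finset.sum_congr rfl fun j _ => ?_
  rw [pow_succ]; ring

lemma hpoly_eq_mul_right (p : ℕ) (x y : R) : ∃ u, hpoly p x y = y * u := by
  refine ⟨∑ j ∈ range (p - 1), ((p.choose (j + 1) / p : ℕ) : R) * x ^ (j + 1) * y ^ (p - (j + 1) - 1), ?_⟩
  rw [hpoly, Finset.mul_sum]
  refine Finset.sum_congr rfl fun j hj => ?_
  rw [Finset.mem_range] at hj
  have : p - (j + 1) = (p - (j + 1) - 1) + 1 := by omega
  rw [this, pow_succ, Nat.add_sub_cancel]; ring

lemma map_hpoly {S : Type*} [CommRing S] (f : R →+* S) (p : ℕ) (x y : R) :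
    f (hpoly p x y) = hpoly p (f x) (f y) := by
  simp only [hpoly, map_sum, map_mul, map_pow, map_natCast]

end hpoly

section bside

variable {B : Type*} [CommRing B] (p : ℕ) (hp : p.Prime) (π₀ : B) (hπ : π₀ * π₀ = 0)
  (hpB : (p : B) = π₀)

include hp hπ hpB

/-- adding a multiple of `π₀` does not change `p`-th powers -/
lemma add_mul_pow (u β : B) : (u + π₀ * β) ^ p = u ^ p := by
  rw [add_pow_eq_hpoly p hp, hpB]
  obtain ⟨w, hw⟩ := hpoly_eq_mul_right p u (π₀ * β)
  have h1 : (π₀ * β) ^ p = 0 := by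
    obtain ⟨m, rfl⟩ : ∃ m, p = m + 2 := ⟨p - 2, by have := hp.two_le; omega⟩
    rw [pow_add, pow_two]
    have : π₀ * β * (π₀ * β) = (π₀ * π₀) * (β * β) := by ring
    rw [this, hπ]; ring
  rw [h1, hw]
  have : π₀ * (π₀ * β * w) = (π₀ * π₀) * (β * w) := by ring
  rw [this, hπ]; ring

omit hπ in
/-- `(∑_{i∈T} z i)^p = ∑ (z i)^p + π₀ α` with `α` in the ideal generated by the `z i`, `i ∈ T`. -/
lemma sum_pow_eq {ι' : Type*} [DecidableEq ι'] (z : ι' → B) (T : Finset ι') :
    ∃ α ∈ Ideal.span (z '' (T : Set ι')), (∑ i ∈ T, z i) ^ p = ∑ i ∈ T, z i ^ p + π₀ * α := by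
  induction T using Finset.induction_on with
  | empty =>
    refine ⟨0, zero_mem _, ?_⟩
    simp [hp.ne_zero]
  | insert a T ha ih =>
    obtain ⟨α, hα, hα2⟩ := ih
    obtain ⟨u, hu⟩ := hpoly_eq_mul_left p (z a) (∑ i ∈ T, z i)
    have hsub : Ideal.span (z '' (T : Set ι')) ≤ Ideal.span (z '' ((insert a T : Finset ι') : Set ι')) := by
      apply Ideal.span_mono
      apply Set.image_mono
      simp
    have hza : z a ∈ Ideal.span (z '' ((insert a T : Finset ι') : Set ι')) := by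
      apply Ideal.subset_span
      exact ⟨a, by simp, rfl⟩
    refine ⟨z a * u + α, add_mem (Ideal.mul_mem_right _ _ hza) (hsub hα), ?_⟩
    rw [Finset.sum_insert ha, Finset.sum_insert ha, add_pow_eq_hpoly p hp, hα2, hpB, hu]
    ring

/-- The key identity. -/
lemma bside {ι' : Type*} [Fintype ι'] [DecidableEq ι'] (z : ι' → B) (β : B)
    (hz : ∑ i, z i = π₀ * β) (i₀ i₁ i₂ : ι') (h01 : i₀ ≠ i₁) (h02 : i₀ ≠ i₂) (h12 : i₁ ≠ i₂) :
    ∃ α ∈ Ideal.span (z '' {i | i ≠ i₀ ∧ i ≠ i₁ ∧ i ≠ i₂}),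
      z i₀ ^ p + z i₁ ^ p + π₀ * hpoly p (z i₀) (z i₁) =
        (-1) ^ p * (∑ i ∈ (univ.erase i₀).erase i₁, z i ^ p + π₀ * α) := by
  classical
  set rest : Finset ι' := (univ.erase i₀).erase i₁ with hrest
  set T' : Finset ι' := rest.erase i₂ with hT'
  have hi2 : i₂ ∈ rest := by
    rw [hrest, Finset.mem_erase, Finset.mem_erase]
    exact ⟨h12.symm, h02.symm, Finset.mem_univ _⟩
  have hi1 : i₁ ∈ univ.erase i₀ := by
    rw [Finset.mem_erase]; exact ⟨h01.symm, Finset.mem_univ _⟩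
  have hT'set : (T' : Set ι') = {i | i ≠ i₀ ∧ i ≠ i₁ ∧ i ≠ i₂} := by
    ext i
    simp only [hT', hrest, Finset.coe_erase, Finset.coe_univ, Set.mem_sdiff, Set.mem_univ, true_and,
      Set.mem_singleton_iff, Set.mem_ofPred_eq]
    tauto
  -- total sum split
  have hsplit : ∑ i, z i = z i₀ + z i₁ + ∑ i ∈ rest, z i := by
    rw [← Finset.add_sum_erase univ z (Finset.mem_univ i₀), ← Finset.add_sum_erase _ z hi1]
    ring
  set r : B := ∑ i ∈ rest, z i with hr
  have hS : z i₀ + z i₁ = (-r) + π₀ * β := by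
    rw [← hz, hsplit]; ring
  -- S^p = (-r)^p
  have hSp : (z i₀ + z i₁) ^ p = (-r) ^ p := by
    rw [hS, add_mul_pow p hp π₀ hπ hpB]
  -- r^p
  have hrsplit : r = z i₂ + ∑ i ∈ T', z i := by
    rw [hr, hT', Finset.add_sum_erase _ z hi2]
  obtain ⟨α', hα', hα'2⟩ := sum_pow_eq p hp π₀ hpB z T'
  obtain ⟨u, hu⟩ := hpoly_eq_mul_right p (z i₂) (∑ i ∈ T', z i)
  have hr'mem : ∑ i ∈ T', z i ∈ Ideal.span (z '' (T' : Set ι')) := by
    apply Ideal.sum_mem
    intro i hi
    exact Ideal.subset_span ⟨i, hi, rfl⟩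
  refine ⟨(∑ i ∈ T', z i) * u + α', ?_, ?_⟩
  · rw [← hT'set]
    exact add_mem (Ideal.mul_mem_right _ _ hr'mem) hα'
  · have hrp : r ^ p = ∑ i ∈ rest, z i ^ p + π₀ * ((∑ i ∈ T', z i) * u + α') := by
      rw [hrsplit, add_pow_eq_hpoly p hp, hα'2, hpB, hu, hT', ← Finset.add_sum_erase _ (fun i => z i ^ p) hi2]
      ring
    have h3 : (-1 : B) ^ p * r ^ p = (-r) ^ p := by
      rw [← mul_pow, neg_one_mul]
    rw [← hrp, h3, ← hSp, add_pow_eq_hpoly p hp, hpB]

end bside

section lam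

open MvPolynomial

variable (k : Type u) [Field k] (p : ℕ) [hpF : Fact p.Prime] [CharP k p] {n : ℕ}
  (i₀ i₁ i₂ : Fin n)

/-- exponent vector of `x_i y_i` -/
noncomputable def dl (i : Fin n) : (Fin n × Fin 2) →₀ ℕ :=
  Finsupp.single (i, 0) 1 + Finsupp.single (i, 1) 1

lemma dl_apply (i i' : Fin n) (j : Fin 2) : dl i (i', j) = if i = i' then 1 else 0 := by
  unfold dl
  rw [Finsupp.add_apply, Finsupp.single_apply, Finsupp.single_apply]
  fin_cases j <;> by_cases h : i = i' <;> simp [h]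

/-- diagonal exponent vectors supported on the three special indices -/
def DP (m : (Fin n × Fin 2) →₀ ℕ) : Prop :=
  (∀ i, m (i, 0) = m (i, 1)) ∧ (∀ i, i ≠ i₀ → i ≠ i₁ → i ≠ i₂ → m (i, 0) = 0)

open Classical in
/-- the weight as a function of the three exponents -/
noncomputable def gW (a b c : ℕ) : k :=
  if a + b + c = p ∧ a ≤ 1 then (-1) ^ c * ((c.choose (1 - a) : ℕ) : k) else 0

open Classical in
/-- the weight of a monomial -/
noncomputable def W (m : (Fin n × Fin 2) →₀ ℕ) : k :=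
  if DP i₀ i₁ i₂ m then gW k p (m (i₀, 0)) (m (i₁, 0)) (m (i₂, 0)) else 0

/-- the obstruction functional -/
noncomputable def lam : MvPolynomial (Fin n × Fin 2) k →ₗ[k] k :=
  (MvPolynomial.basisMonomials (Fin n × Fin 2) k).constr k (W k p i₀ i₁ i₂)

lemma lam_monomial (m : (Fin n × Fin 2) →₀ ℕ) (c : k) :
    lam k p i₀ i₁ i₂ (monomial m c) = c * W k p i₀ i₁ i₂ m := by
  have h1 : monomial m c = c • (MvPolynomial.basisMonomials (Fin n × Fin 2) k) m := by
    rw [MvPolynomial.coe_basisMonomials, MvPolynomial.smul_monomial, smul_eq_mul, mul_one]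
  rw [h1, map_smul, lam, Module.Basis.constr_basis, smul_eq_mul]

lemma lam_mul_of_monomial (g : MvPolynomial (Fin n × Fin 2) k)
    (h : ∀ m c, lam k p i₀ i₁ i₂ (monomial m c * g) = 0) (f : MvPolynomial (Fin n × Fin 2) k) :
    lam k p i₀ i₁ i₂ (f * g) = 0 := by
  induction f using MvPolynomial.induction_on' with
  | monomial m c => exact h m c
  | add f₁ f₂ h₁ h₂ => rw [add_mul, map_add, h₁, h₂, add_zero]

lemma gW_pascal (a b c : ℕ) :
    gW k p (a + 1) b c + gW k p a (b + 1) c + gW k p a b (c + 1) = 0 := by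
  unfold gW
  by_cases hs : a + b + c + 1 = p
  · rcases a with _ | _ | a
    · rw [if_pos ⟨by omega, by omega⟩, if_pos ⟨by omega, by omega⟩, if_pos ⟨by omega, by omega⟩]
      simp only [Nat.sub_self, Nat.choose_zero_right, Nat.sub_zero, Nat.choose_one_right, pow_succ]
      push_cast
      ring
    · rw [if_neg (by omega), if_pos ⟨by omega, by omega⟩, if_pos ⟨by omega, by omega⟩]
      simp only [Nat.sub_self, Nat.choose_zero_right, pow_succ]
      push_cast
      ring
    · rw [if_neg (by omega), if_neg (by omega), if_neg (by omega)]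
      ring
  · rw [if_neg (by omega), if_neg (by omega), if_neg (by omega)]
    ring

lemma gW_zero_of_ge (a b c : ℕ) (h : p ≤ a ∨ p ≤ b ∨ p ≤ c) : gW k p a b c = 0 := by
  unfold gW
  have hp2 := hpF.out.two_le
  split_ifs with hc
  · obtain ⟨hsum, ha⟩ := hc
    rcases h with h | h | h
    · omega
    · have hc0 : c = 0 := by omega
      have ha0 : a = 0 := by omega
      subst hc0; subst ha0
      simp
    · have hcp : c = p := by omega
      have ha0 : a = 0 := by omega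
      subst ha0
      rw [hcp]
      simp [CharP.cast_eq_zero k p]
  · rfl

variable {i₀ i₁ i₂} (h01 : i₀ ≠ i₁) (h02 : i₀ ≠ i₂) (h12 : i₁ ≠ i₂)

lemma DP_add_dl_iff (m : (Fin n × Fin 2) →₀ ℕ) (i : Fin n) (hi : i = i₀ ∨ i = i₁ ∨ i = i₂) :
    DP i₀ i₁ i₂ (m + dl i) ↔ DP i₀ i₁ i₂ m := by
  unfold DP
  simp only [Finsupp.add_apply, dl_apply]
  constructor
  · rintro ⟨h1, h2⟩
    refine ⟨fun i' => by have := h1 i'; omega, fun i' a b c => ?_⟩
    have := h2 i' a b c
    omega
  · rintro ⟨h1, h2⟩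
    refine ⟨fun i' => by rw [h1 i'], fun i' a b c => ?_⟩
    have hne : i ≠ i' := by
      rcases hi with rfl | rfl | rfl
      · exact fun h => a h.symm
      · exact fun h => b h.symm
      · exact fun h => c h.symm
    rw [h2 i' a b c, if_neg hne]

lemma not_DP_add_dl (m : (Fin n × Fin 2) →₀ ℕ) (i : Fin n) (hi0 : i ≠ i₀) (hi1 : i ≠ i₁)
    (hi2 : i ≠ i₂) : ¬ DP i₀ i₁ i₂ (m + dl i) := by
  rintro ⟨-, h2⟩
  have := h2 i hi0 hi1 hi2
  rw [Finsupp.add_apply, dl_apply, if_pos rfl] at this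
  omega

lemma X_mul_X_eq_monomial (i : Fin n) :
    (X (i, (0 : Fin 2)) * X (i, (1 : Fin 2)) : MvPolynomial (Fin n × Fin 2) k) = monomial (dl i) 1 := by
  rw [X, X, monomial_mul, one_mul, dl]

include h01 h02 h12 in
lemma W_pascal (m : (Fin n × Fin 2) →₀ ℕ) :
    W k p i₀ i₁ i₂ (m + dl i₀) + W k p i₀ i₁ i₂ (m + dl i₁) + W k p i₀ i₁ i₂ (m + dl i₂) = 0 := by
  unfold W
  rw [DP_add_dl_iff m i₀ (Or.inl rfl), DP_add_dl_iff m i₁ (Or.inr (Or.inl rfl)),
    DP_add_dl_iff m i₂ (Or.inr (Or.inr rfl))]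
  by_cases hD : DP i₀ i₁ i₂ m
  · rw [if_pos hD, if_pos hD, if_pos hD]
    simp only [Finsupp.add_apply, dl_apply, if_pos, if_neg h01, if_neg h02, if_neg h12,
      if_neg h01.symm, if_neg h02.symm, if_neg h12.symm, add_zero, if_true]
    exact gW_pascal k p _ _ _
  · rw [if_neg hD, if_neg hD, if_neg hD]
    ring

include h01 h02 h12 in
lemma lam_mul_q (f : MvPolynomial (Fin n × Fin 2) k) :
    lam k p i₀ i₁ i₂ (f * ∑ i : Fin n, X (i, (0 : Fin 2)) * X (i, (1 : Fin 2))) = 0 := by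
  classical
  apply lam_mul_of_monomial
  intro m c
  rw [Finset.mul_sum, map_sum]
  have hterm : ∀ i : Fin n, lam k p i₀ i₁ i₂ (monomial m c * (X (i, (0 : Fin 2)) * X (i, (1 : Fin 2)))) =
      c * W k p i₀ i₁ i₂ (m + dl i) := by
    intro i
    rw [X_mul_X_eq_monomial, monomial_mul, mul_one, lam_monomial]
  simp only [hterm]
  rw [← Finset.mul_sum]
  have hsub : ∑ i : Fin n, W k p i₀ i₁ i₂ (m + dl i) =
      ∑ i ∈ ({i₀, i₁, i₂} : Finset (Fin n)), W k p i₀ i₁ i₂ (m + dl i) := by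
    symm
    apply Finset.sum_subset (Finset.subset_univ _)
    intro i _ hi
    simp only [Finset.mem_insert, Finset.mem_singleton, not_or] at hi
    unfold W
    rw [if_neg (not_DP_add_dl m i hi.1 hi.2.1 hi.2.2)]
  rw [hsub, Finset.sum_insert (by simp [h01, h02]), Finset.sum_insert (by simp [h12]),
    Finset.sum_singleton, ← add_assoc, W_pascal k p h01 h02 h12, mul_zero]

lemma lam_mul_Z (i : Fin n) (hi0 : i ≠ i₀) (hi1 : i ≠ i₁) (hi2 : i ≠ i₂)
    (f : MvPolynomial (Fin n × Fin 2) k) :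
    lam k p i₀ i₁ i₂ (f * (X (i, (0 : Fin 2)) * X (i, (1 : Fin 2)))) = 0 := by
  apply lam_mul_of_monomial
  intro m c
  rw [X_mul_X_eq_monomial, monomial_mul, mul_one, lam_monomial]
  unfold W
  rw [if_neg (not_DP_add_dl m i hi0 hi1 hi2), mul_zero]

lemma lam_mul_X_pow (v : Fin n × Fin 2) (f : MvPolynomial (Fin n × Fin 2) k) :
    lam k p i₀ i₁ i₂ (f * X v ^ p) = 0 := by
  apply lam_mul_of_monomial
  intro m c
  rw [X_pow_eq_monomial, monomial_mul, mul_one, lam_monomial]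
  have hp0 := hpF.out.pos
  suffices h : W k p i₀ i₁ i₂ (m + Finsupp.single v p) = 0 by rw [h, mul_zero]
  unfold W
  split_ifs with hD
  · obtain ⟨hdiag, hsupp⟩ := hD
    obtain ⟨i, j⟩ := v
    have hge : p ≤ (m + Finsupp.single (i, j) p) (i, 0) := by
      have h1 : p ≤ (m + Finsupp.single (i, j) p) (i, j) := by
        rw [Finsupp.add_apply, Finsupp.single_eq_same]; omega
      fin_cases j
      · exact h1
      · rw [hdiag i]; exact h1
    apply gW_zero_of_ge
    by_cases h0 : i = i₀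
    · subst h0; exact Or.inl hge
    by_cases h1 : i = i₁
    · subst h1; exact Or.inr (Or.inl hge)
    by_cases h2 : i = i₂
    · subst h2; exact Or.inr (Or.inr hge)
    · have := hsupp i h0 h1 h2
      omega
  · rfl

lemma lam_C (c : k) : lam k p i₀ i₁ i₂ (C c) = 0 := by
  have hp0 := hpF.out.pos
  rw [← monomial_zero', lam_monomial]
  unfold W gW
  split_ifs with h1 h2
  · exfalso
    simp only [Finsupp.coe_zero, Pi.zero_apply] at h2
    omega
  · rw [mul_zero]
  · rw [mul_zero]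

include h01 h02 h12 in
lemma lam_hpoly :
    lam k p i₀ i₁ i₂ (hpoly p (X (i₀, (0 : Fin 2)) * X (i₀, (1 : Fin 2)))
      (X (i₁, (0 : Fin 2)) * X (i₁, (1 : Fin 2)))) = 1 := by
  classical
  have hp2 := hpF.out.two_le
  unfold hpoly
  rw [map_sum]
  have hterm : ∀ j ∈ Finset.range (p - 1),
      lam k p i₀ i₁ i₂ (((p.choose (j + 1) / p : ℕ) : MvPolynomial (Fin n × Fin 2) k) *
        (X (i₀, (0 : Fin 2)) * X (i₀, (1 : Fin 2))) ^ (j + 1) *
        (X (i₁, (0 : Fin 2)) * X (i₁, (1 : Fin 2))) ^ (p - (j + 1))) =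
      if j = 0 then 1 else 0 := by
    intro j hj
    rw [Finset.mem_range] at hj
    rw [X_mul_X_eq_monomial, X_mul_X_eq_monomial, monomial_pow, monomial_pow, one_pow, one_pow,
      ← C_eq_coe_nat, C_mul_monomial, mul_one, monomial_mul, mul_one, lam_monomial]
    unfold W
    have hD : DP i₀ i₁ i₂ ((j + 1) • dl i₀ + (p - (j + 1)) • dl i₁) := by
      constructor
      · intro i
        simp only [Finsupp.add_apply, Finsupp.smul_apply, dl_apply]
      · intro i a b c
        simp only [Finsupp.add_apply, Finsupp.smul_apply, dl_apply, if_neg (Ne.symm a),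
          if_neg (Ne.symm b), smul_zero, add_zero]
    rw [if_pos hD]
    simp only [Finsupp.add_apply, Finsupp.smul_apply, dl_apply, if_true, if_neg h01,
      if_neg h01.symm, if_neg h02, if_neg h02.symm, if_neg h12, smul_zero, add_zero, zero_add,
      smul_eq_mul, mul_one, mul_zero, if_neg (Ne.symm h01)]
    unfold gW
    by_cases hj0 : j = 0
    · subst hj0
      rw [if_pos ⟨by omega, by omega⟩, if_pos rfl]
      have hc : p.choose (0 + 1) / p = 1 := by
        rw [zero_add, Nat.choose_one_right, Nat.div_self hpF.out.pos]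
      rw [hc]
      simp
    · rw [if_neg (by omega), if_neg hj0, mul_zero]
  rw [Finset.sum_congr rfl hterm, Finset.sum_ite_eq' (Finset.range (p - 1)) 0, if_pos]
  rw [Finset.mem_range]; omega

end lam

end Groth.Agent.Lib.Helper27.W2Obst
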