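import Groth.Prelude.Def_W4c1liftfrobW2
import Groth.Agent.Lib.Helper27.W2Obst

/-!
# Explicit ring law of `W₂(A)` on Witt components (helper library for S13147, S13150)
-/

set_option autoImplicit false
universe u v

namespace Groth.Agent.Lib.Helper27.W2Coeff

open FrobAlg Groth.Agent.Lib.Helper27.W2Obst

section full

variable (p : ℕ) [hp : Fact p.Prime]

/-- ghost component 1 in coordinates -/
lemma ghost_one {R : Type*} [CommRing R] (x : WittVector p R) :
    WittVector.ghostComponent 1 x = (p : R) * x.coeff 1 + x.coeff 0 ^ p := by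
  rw [WittVector.ghostComponent_apply, wittPolynomial_one]
  simp

/-- the polynomial ring over `ℤ` used as a `p`-torsion free cover -/
lemma cancel_p {σ : Type*} (a b : MvPolynomial σ ℤ) (h : (p : MvPolynomial σ ℤ) * a = p * b) :
    a = b := by
  have hp0 : (p : MvPolynomial σ ℤ) ≠ 0 := by
    exact_mod_cast hp.out.ne_zero
  exact mul_left_cancel₀ hp0 h

lemma coeff_add_one_tf {σ : Type*} (x y : WittVector p (MvPolynomial σ ℤ)) :
    (x + y).coeff 1 = x.coeff 1 + y.coeff 1 - hpoly p (x.coeff 0) (y.coeff 0) := by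
  have h := map_add (WittVector.ghostComponent (p := p) (R := MvPolynomial σ ℤ) 1) x y
  rw [ghost_one, ghost_one, ghost_one, WittVector.add_coeff_zero,
    add_pow_eq_hpoly p hp.out] at h
  apply cancel_p p
  linear_combination h

lemma coeff_mul_one_tf {σ : Type*} (x y : WittVector p (MvPolynomial σ ℤ)) :
    (x * y).coeff 1 = x.coeff 0 ^ p * y.coeff 1 + x.coeff 1 * y.coeff 0 ^ p +
      (p : MvPolynomial σ ℤ) * x.coeff 1 * y.coeff 1 := by
  have h := map_mul (WittVector.ghostComponent (p := p) (R := MvPolynomial σ ℤ) 1) x y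
  rw [ghost_one, ghost_one, ghost_one, WittVector.mul_coeff_zero, mul_pow] at h
  apply cancel_p p
  linear_combination h

variable {A : Type*} [CommRing A]

/-- a surjection from a polynomial ring over `ℤ` -/
noncomputable def cover (A : Type*) [CommRing A] : MvPolynomial A ℤ →+* A :=
  (MvPolynomial.aeval (R := ℤ) (fun a : A => a)).toRingHom

lemma cover_surjective : Function.Surjective (cover A) := fun a =>
  ⟨MvPolynomial.X a, by simp [cover]⟩

lemma coeff_add_one_full (x y : WittVector p A) :
    (x + y).coeff 1 = x.coeff 1 + y.coeff 1 - hpoly p (x.coeff 0) (y.coeff 0) := by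
  obtain ⟨X, rfl⟩ := WittVector.map_surjective (p := p) (cover A) cover_surjective x
  obtain ⟨Y, rfl⟩ := WittVector.map_surjective (p := p) (cover A) cover_surjective y
  rw [← map_add]
  simp only [WittVector.map_coeff]
  rw [coeff_add_one_tf, map_sub, map_add, map_hpoly]

lemma coeff_mul_one_full (x y : WittVector p A) :
    (x * y).coeff 1 = x.coeff 0 ^ p * y.coeff 1 + x.coeff 1 * y.coeff 0 ^ p +
      (p : A) * x.coeff 1 * y.coeff 1 := by
  obtain ⟨X, rfl⟩ := WittVector.map_surjective (p := p) (cover A) cover_surjective x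
  obtain ⟨Y, rfl⟩ := WittVector.map_surjective (p := p) (cover A) cover_surjective y
  rw [← map_mul]
  simp only [WittVector.map_coeff]
  rw [coeff_mul_one_tf]
  simp only [map_add, map_mul, map_pow, map_natCast]

end full

section trunc

variable (p : ℕ) [hp : Fact p.Prime] {A : Type u} [CommRing A]

lemma coeff_zero_add (x y : W2 p A) : (x + y).coeff 0 = x.coeff 0 + y.coeff 0 := by
  rw [← res_apply, ← res_apply, ← res_apply, map_add]

lemma coeff_zero_mul (x y : W2 p A) : (x * y).coeff 0 = x.coeff 0 * y.coeff 0 := by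
  rw [← res_apply, ← res_apply, ← res_apply, map_mul]

lemma coeff_one_add (x y : W2 p A) :
    (x + y).coeff 1 = x.coeff 1 + y.coeff 1 - hpoly p (x.coeff 0) (y.coeff 0) := by
  obtain ⟨X, rfl⟩ := WittVector.truncate_surjective p 2 A x
  obtain ⟨Y, rfl⟩ := WittVector.truncate_surjective p 2 A y
  rw [← map_add]
  simp only [WittVector.coeff_truncate]
  exact coeff_add_one_full p X Y

lemma coeff_one_mul (x y : W2 p A) :
    (x * y).coeff 1 = x.coeff 0 ^ p * y.coeff 1 + x.coeff 1 * y.coeff 0 ^ p +
      (p : A) * x.coeff 1 * y.coeff 1 := by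
  obtain ⟨X, rfl⟩ := WittVector.truncate_surjective p 2 A x
  obtain ⟨Y, rfl⟩ := WittVector.truncate_surjective p 2 A y
  rw [← map_mul]
  simp only [WittVector.coeff_truncate]
  exact coeff_mul_one_full p X Y

/-- extensionality for `W₂` -/
lemma ext2 {x y : W2 p A} (h0 : x.coeff 0 = y.coeff 0) (h1 : x.coeff 1 = y.coeff 1) : x = y := by
  apply TruncatedWittVector.ext
  intro i
  fin_cases i
  · exact h0
  · exact h1

end trunc

end Groth.Agent.Lib.Helper27.W2Coeff
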