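import Groth.Agent.Lib.Helper27.W2Lift

/-!
# Descent of flat `W₂(k)`-liftings along a linearly split ring map
(helper library for S13143 and S13144)

Given `A → B` with an `A`-linear retraction `r : B → A` and a flat lifting `(B', ιB, πB)` of `B`,
the ring `S/K`, where `S = πB⁻¹(A) ⊆ B'` and `K = p · πB⁻¹(ker r)`, is a flat lifting of `A`.
-/

set_option autoImplicit false
universe u v

namespace Groth.Agent.Lib.Helper27.W2Descent

noncomputable section

open FrobAlg Groth.Agent.Lib.Helper27.W2Lift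

section criteria

variable (p : ℕ) [Fact p.Prime] (k : Type u) [Field k] [CharP k p] [PerfectRing k p]
  {A : Type v} [CommRing A] [Algebra k A] {B : Type v} [CommRing B] (ι : W2 p k →+* B)
  (π : B →+* A)

lemma flat_of_torsion (htors : ∀ b : B, (p : B) * b = 0 → ∃ b', b = (p : B) * b') : ι.Flat := by
  letI := ι.toAlgebra
  have hsmul : ∀ x : B, (p : W2 p k) • x = (p : B) * x := by
    intro x
    rw [Algebra.smul_def, RingHom.algebraMap_toAlgebra, map_natCast]
  show Module.Flat (W2 p k) B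
  rw [Groth.Agent.S13136.result p k B]
  intro m hm
  rw [hsmul] at hm
  obtain ⟨m', hm'⟩ := htors m hm
  exact ⟨m', by rw [hsmul, hm']⟩

lemma isLift_of (hsurj : Function.Surjective π)
    (hcomm : π.comp ι = (algebraMap k A).comp (res p k))
    (hker : ∀ b, π b = 0 ↔ ∃ c, b = (p : B) * c)
    (htors : ∀ b : B, (p : B) * b = 0 → ∃ b', b = (p : B) * b') : IsLift p k A B ι π where
  flat := flat_of_torsion p k ι htors
  surj := hsurj
  ker_eq := by
    apply le_antisymm
    · intro b hb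
      obtain ⟨c, rfl⟩ := (hker b).1 hb
      have : (p : B) = ι (p : W2 p k) := (map_natCast ι p).symm
      rw [this]
      apply Ideal.mul_mem_right
      apply Ideal.mem_map_of_mem
      rw [RingHom.mem_ker, map_natCast, CharP.cast_eq_zero]
    · rw [Ideal.map_le_iff_le_comap]
      intro w hw
      rw [RingHom.mem_ker, res_apply] at hw
      obtain ⟨y, hy⟩ := Groth.Agent.S13136.w2_mul_p p k w hw
      rw [Ideal.mem_comap, RingHom.mem_ker, hy, map_mul, map_natCast]
      exact (hker _).2 ⟨ι y, rfl⟩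
  comm := hcomm

/-- a morphism of flat liftings inducing the identity on the reduction is bijective -/
lemma bijective_of_hom {A₁ A₂ : Type v} [CommRing A₁] [CommRing A₂] {ι₁ : W2 p k →+* A₁}
    {π₁ : A₁ →+* A} {ι₂ : W2 p k →+* A₂} {π₂ : A₂ →+* A} (h₁ : IsLift p k A A₁ ι₁ π₁)
    (h₂ : IsLift p k A A₂ ι₂ π₂) (g : A₁ →+* A₂) (hg : ∀ x, π₂ (g x) = π₁ x) :
    Function.Bijective g := by
  constructor
  · rw [injective_iff_map_eq_zero]
    intro x hx
    have h1 : π₁ x = 0 := by rw [← hg, hx, map_zero]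
    obtain ⟨y, rfl⟩ := (mem_ker_iff p k h₁ x).1 h1
    rw [map_mul, map_natCast] at hx
    obtain ⟨c, hc⟩ := torsion p k h₂ _ hx
    have h2 : π₁ y = 0 := by rw [← hg, hc, map_mul, map_p_eq_zero p k h₂, zero_mul]
    obtain ⟨y', rfl⟩ := (mem_ker_iff p k h₁ y).1 h2
    rw [← mul_assoc, p_sq p k ι₁, zero_mul]
  · intro x
    obtain ⟨a, ha⟩ := h₁.surj (π₂ x)
    have h1 : π₂ (x - g a) = 0 := by rw [map_sub, hg, ha, sub_self]
    obtain ⟨y, hy⟩ := (mem_ker_iff p k h₂ _).1 h1
    obtain ⟨a', ha'⟩ := h₁.surj (π₂ y)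
    have h2 : π₂ (y - g a') = 0 := by rw [map_sub, hg, ha', sub_self]
    obtain ⟨y', hy'⟩ := (mem_ker_iff p k h₂ _).1 h2
    refine ⟨a + (p : A₁) * a', ?_⟩
    rw [map_add, map_mul, map_natCast]
    have hx : x = g a + (p : A₂) * y := by rw [← hy]; ring
    have hy2 : y = g a' + (p : A₂) * y' := by rw [← hy']; ring
    rw [hx, hy2, mul_add, ← mul_assoc, p_sq p k ι₂, zero_mul, add_zero]

end criteria

section descent

variable (p : ℕ) [Fact p.Prime] (k : Type u) [Field k] [CharP k p] [PerfectRing k p]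
  {A B : Type v} [CommRing A] [CommRing B] [Algebra k A] [Algebra k B] [Algebra A B]
  [IsScalarTower k A B]
  (r : B →ₗ[A] A) (hr : ∀ a : A, r (algebraMap A B a) = a)
  {B' : Type v} [CommRing B'] (ιB : W2 p k →+* B') (πB : B' →+* B)

/-- the subring `πB⁻¹(A)` of `B'` -/
def S (A : Type v) [CommRing A] [Algebra A B] : Subring B' := (algebraMap A B).range.comap πB

lemma mem_S (x : B') : x ∈ S πB A ↔ ∃ a : A, algebraMap A B a = πB x := by
  unfold S
  rw [Subring.mem_comap, RingHom.mem_range]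

include hr in
lemma alg_r_eq (x : S πB A) : algebraMap A B (r (πB x)) = πB x := by
  obtain ⟨a, ha⟩ := (mem_S πB (x : B')).1 x.2
  rw [← ha, hr]

/-- the reduction map `S → A` -/
def ρ : S πB A →+* A where
  toFun s := r (πB s)
  map_one' := by
    show r (πB ((1 : S πB A) : B')) = 1
    rw [Subring.coe_one, map_one, ← map_one (algebraMap A B), hr]
  map_mul' s t := by
    show r (πB ((s * t : S πB A) : B')) = r (πB s) * r (πB t)
    rw [Subring.coe_mul, map_mul, ← alg_r_eq r hr πB s, ← Algebra.smul_def, map_smul, smul_eq_mul,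
      alg_r_eq r hr πB s]
  map_zero' := by
    show r (πB ((0 : S πB A) : B')) = 0
    rw [Subring.coe_zero, map_zero, map_zero]
  map_add' s t := by
    show r (πB ((s + t : S πB A) : B')) = r (πB s) + r (πB t)
    rw [Subring.coe_add, map_add, map_add]

lemma ρ_apply (s : S πB A) : ρ r hr πB s = r (πB s) := rfl

/-- the ideal `p · πB⁻¹(ker r)` of `S` -/
def K : Ideal (S πB A) where
  carrier := {s | ∃ b' : B', (s : B') = (p : B') * b' ∧ r (πB b') = 0}
  zero_mem' := ⟨0, by simp, by simp⟩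
  add_mem' := by
    rintro s t ⟨b₁, h₁, h₁'⟩ ⟨b₂, h₂, h₂'⟩
    refine ⟨b₁ + b₂, ?_, ?_⟩
    · rw [Subring.coe_add, h₁, h₂, mul_add]
    · rw [map_add, map_add, h₁', h₂', add_zero]
  smul_mem' := by
    rintro t s ⟨b₁, h₁, h₁'⟩
    refine ⟨(t : B') * b₁, ?_, ?_⟩
    · rw [smul_eq_mul, Subring.coe_mul, h₁]; ring
    · obtain ⟨a, ha⟩ := (mem_S πB (t : B')).1 t.2
      rw [map_mul, ← ha, ← Algebra.smul_def, map_smul, h₁', smul_zero]

lemma mem_K (s : S πB A) :
    s ∈ K p r πB ↔ ∃ b' : B', (s : B') = (p : B') * b' ∧ r (πB b') = 0 := Iff.rfl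

/-- the structure map `W₂(k) → S` -/
def ιS (hcomm : πB.comp ιB = (algebraMap k B).comp (res p k)) : W2 p k →+* S πB A :=
  ιB.codRestrict (S πB A) (fun w => by
    rw [mem_S]
    refine ⟨algebraMap k A (res p k w), ?_⟩
    rw [← IsScalarTower.algebraMap_apply]
    exact (RingHom.congr_fun hcomm w).symm)

lemma coe_ιS (hcomm : πB.comp ιB = (algebraMap k B).comp (res p k)) (w : W2 p k) :
    ((ιS p k ιB πB hcomm w : S πB A) : B') = ιB w := rfl

lemma K_le_ker (hB : IsLift p k B B' ιB πB) : ∀ s ∈ K p r πB, ρ r hr πB s = 0 := by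
  rintro s ⟨b', h1, -⟩
  rw [ρ_apply, h1, map_mul, map_p_eq_zero p k hB, zero_mul, map_zero]

/-- the reduction map of the descended lifting -/
def πQ (hB : IsLift p k B B' ιB πB) : (S πB A ⧸ K p r πB) →+* A :=
  Ideal.Quotient.lift (K p r πB) (ρ r hr πB) (K_le_ker p k r hr ιB πB hB)

lemma πQ_mk (hB : IsLift p k B B' ιB πB) (s : S πB A) :
    πQ p k r hr ιB πB hB (Ideal.Quotient.mk _ s) = r (πB s) := rfl

/-- the structure map of the descended lifting -/
def ιQ (hB : IsLift p k B B' ιB πB) : W2 p k →+* (S πB A ⧸ K p r πB) :=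
  (Ideal.Quotient.mk (K p r πB)).comp (ιS p k ιB πB hB.comm)

theorem descent_isLift (hB : IsLift p k B B' ιB πB) :
    IsLift p k A (S πB A ⧸ K p r πB) (ιQ p k r ιB πB hB) (πQ p k r hr ιB πB hB) := by
  have hker1 : ∀ x : S πB A ⧸ K p r πB, πQ p k r hr ιB πB hB x = 0 →
      ∃ c, x = (p : S πB A ⧸ K p r πB) * c := by
    intro x hx
    obtain ⟨s, rfl⟩ := Ideal.Quotient.mk_surjective x
    rw [πQ_mk] at hx
    have h1 : πB (s : B') = 0 := by rw [← alg_r_eq r hr πB s, hx, map_zero]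
    obtain ⟨b', hb'⟩ := (mem_ker_iff p k hB _).1 h1
    obtain ⟨t', ht'⟩ := hB.surj (algebraMap A B (r (πB b')))
    have ht'S : t' ∈ S πB A := (mem_S πB t').2 ⟨_, ht'.symm⟩
    refine ⟨Ideal.Quotient.mk _ ⟨t', ht'S⟩, ?_⟩
    rw [← map_natCast (Ideal.Quotient.mk (K p r πB)), ← map_mul, Ideal.Quotient.eq, mem_K]
    refine ⟨b' - t', ?_, ?_⟩
    · rw [AddSubgroupClass.coe_sub, Subring.coe_mul, Subring.coe_natCast, hb']
      ring
    · rw [map_sub, map_sub, ht', hr, sub_self]
  apply isLift_of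
  · intro a
    obtain ⟨b', hb'⟩ := hB.surj (algebraMap A B a)
    have hb'S : b' ∈ S πB A := (mem_S πB b').2 ⟨_, hb'.symm⟩
    refine ⟨Ideal.Quotient.mk _ ⟨b', hb'S⟩, ?_⟩
    rw [πQ_mk]
    show r (πB b') = a
    rw [hb', hr]
  · ext w
    show r (πB (ιB w)) = algebraMap k A (res p k w)
    have := RingHom.congr_fun hB.comm w
    rw [RingHom.comp_apply] at this
    rw [this, RingHom.comp_apply, IsScalarTower.algebraMap_apply k A B, hr]
  · intro x
    refine ⟨hker1 x, ?_⟩
    rintro ⟨c, rfl⟩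
    rw [map_mul, map_natCast, ← map_natCast (algebraMap k A), CharP.cast_eq_zero k p, map_zero,
      zero_mul]
  · intro x hx
    apply hker1
    obtain ⟨s, rfl⟩ := Ideal.Quotient.mk_surjective x
    rw [← map_natCast (Ideal.Quotient.mk (K p r πB)), ← map_mul, Ideal.Quotient.eq_zero_iff_mem,
      mem_K] at hx
    obtain ⟨b', h1, h2⟩ := hx
    rw [Subring.coe_mul, Subring.coe_natCast] at h1
    have h3 : (p : B') * ((s : B') - b') = 0 := by rw [mul_sub, h1, sub_self]
    obtain ⟨c, hc⟩ := torsion p k hB _ h3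
    have h4 : πB (s : B') = πB b' := by
      have := congrArg πB hc
      rw [map_sub, map_mul, map_p_eq_zero p k hB, zero_mul, sub_eq_zero] at this
      exact this
    rw [πQ_mk, h4, h2]

end descent

end

end Groth.Agent.Lib.Helper27.W2Descent
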