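import Groth.Prelude.Def_W4c1liftfrobW2
import Groth.Agent.S13136
import Groth.Agent.Lib.Helper27.W2Obst

/-!
# Basic consequences of `FrobAlg.IsLift` (helper library for S13146 and S19564)
-/

set_option autoImplicit false
universe u v

namespace Groth.Agent.Lib.Helper27.W2Lift

open FrobAlg Groth.Agent.Lib.Helper27.W2Obst

section lift

variable (p : ℕ) [Fact p.Prime] (k : Type u) [Field k] [CharP k p] [PerfectRing k p]
  {A : Type v} [CommRing A] [Algebra k A] {B : Type v} [CommRing B] {ι : W2 p k →+* B}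
  {π : B →+* A}

include k in
lemma p_sq (ι : W2 p k →+* B) : (p : B) * (p : B) = 0 := by
  have := congrArg ι (Groth.Agent.S13136.w2_p_sq p k)
  simpa using this

lemma torsion (h : IsLift p k A B ι π) (b : B) (hb : (p : B) * b = 0) :
    ∃ b', b = (p : B) * b' := by
  letI := ι.toAlgebra
  have hflat : Module.Flat (W2 p k) B := h.flat
  have hsmul : ∀ x : B, (p : W2 p k) • x = (p : B) * x := by
    intro x
    rw [Algebra.smul_def, RingHom.algebraMap_toAlgebra, map_natCast]
  obtain ⟨b', hb'⟩ := (Groth.Agent.S13136.result p k B).1 hflat b (by rw [hsmul, hb])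
  exact ⟨b', by rw [hb', hsmul]⟩

lemma map_p_eq_zero (h : IsLift p k A B ι π) : π (p : B) = 0 := by
  rw [map_natCast, ← map_natCast (algebraMap k A), CharP.cast_eq_zero k p, map_zero]

lemma mem_ker_iff (h : IsLift p k A B ι π) (b : B) : π b = 0 ↔ ∃ c, b = (p : B) * c := by
  constructor
  · intro hb
    have hmem : b ∈ Ideal.map ι (RingHom.ker (res p k)) := by
      rw [← h.ker_eq]; exact hb
    have hle : Ideal.map ι (RingHom.ker (res p k)) ≤ Ideal.span {(p : B)} := by
      rw [Ideal.map_le_iff_le_comap]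
      intro w hw
      rw [RingHom.mem_ker, res_apply] at hw
      obtain ⟨y, hy⟩ := Groth.Agent.S13136.w2_mul_p p k w hw
      rw [Ideal.mem_comap, hy, map_mul, map_natCast]
      exact Ideal.mul_mem_right _ _ (Ideal.subset_span rfl)
    obtain ⟨c, hc⟩ := Ideal.mem_span_singleton'.mp (hle hmem)
    exact ⟨c, by rw [← hc, mul_comm]⟩
  · rintro ⟨c, rfl⟩
    rw [map_mul, map_p_eq_zero p k h, zero_mul]

end lift

section lam

open MvPolynomial

variable (k : Type u) [Field k] (p : ℕ) [hpF : Fact p.Prime] [CharP k p] {n : ℕ}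
  (i₀ i₁ i₂ : Fin n)

lemma lam_span_eq_zero (G : Set (MvPolynomial (Fin n × Fin 2) k))
    (hG : ∀ g ∈ G, ∀ f, lam k p i₀ i₁ i₂ (f * g) = 0) :
    ∀ x ∈ Ideal.span G, lam k p i₀ i₁ i₂ x = 0 := by
  intro x hx
  have key : ∀ f, lam k p i₀ i₁ i₂ (f * x) = 0 := by
    induction hx using Submodule.span_induction with
    | mem g hg => exact hG g hg
    | zero => intro f; rw [mul_zero, map_zero]
    | add y z _ _ hy hz => intro f; rw [mul_add, map_add, hy, hz, add_zero]
    | smul a y _ hy => intro f; rw [smul_eq_mul, ← mul_assoc]; exact hy _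
  have := key 1
  rwa [one_mul] at this

lemma lam_pow_p (f : MvPolynomial (Fin n × Fin 2) k) : lam k p i₀ i₁ i₂ (f ^ p) = 0 := by
  induction f using MvPolynomial.induction_on with
  | C a => rw [← map_pow]; exact lam_C k p _
  | add f g hf hg => rw [add_pow_char, map_add, hf, hg, add_zero]
  | mul_X f v _ => rw [mul_pow]; exact lam_mul_X_pow k p v _

end lam

end Groth.Agent.Lib.Helper27.W2Lift
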