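import Groth.Agent.Lib.Helper27.W2Lift

/-!
# Polynomial rings over `W₂(k)`: Frobenius lifts and their Taylor expansion
(helper library for S13138, S13139)
-/

set_option autoImplicit false
universe u

namespace Groth.Agent.Lib.Helper27.W2Poly

open FrobAlg MvPolynomial Groth.Agent.Lib.Helper27.W2Obst

noncomputable section

variable (p : ℕ) [Fact p.Prime] (k : Type u) [Field k] [CharP k p] [PerfectRing k p] (n : ℕ)

lemma p_sq : (p : MvPolynomial (Fin n) (W2 p k)) * (p : MvPolynomial (Fin n) (W2 p k)) = 0 := by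
  have := congrArg (C : W2 p k →+* MvPolynomial (Fin n) (W2 p k)) (Groth.Agent.S13136.w2_p_sq p k)
  simpa using this

lemma red_p : map (res p k) (p : MvPolynomial (Fin n) (W2 p k)) = 0 := by
  rw [map_natCast, CharP.cast_eq_zero]

lemma ker_red (g : MvPolynomial (Fin n) (W2 p k)) :
    map (res p k) g = 0 ↔ ∃ g', g = (p : MvPolynomial (Fin n) (W2 p k)) * g' := by
  constructor
  · intro hg
    have hmem : g ∈ RingHom.ker (map (res p k) :
        MvPolynomial (Fin n) (W2 p k) →+* MvPolynomial (Fin n) k) := hg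
    rw [MvPolynomial.ker_map] at hmem
    have hle : Ideal.map (C : W2 p k →+* MvPolynomial (Fin n) (W2 p k)) (RingHom.ker (res p k)) ≤
        Ideal.span {(p : MvPolynomial (Fin n) (W2 p k))} := by
      rw [Ideal.map_le_iff_le_comap]
      intro w hw
      rw [RingHom.mem_ker, res_apply] at hw
      obtain ⟨y, hy⟩ := Groth.Agent.S13136.w2_mul_p p k w hw
      rw [Ideal.mem_comap, hy, map_mul, map_natCast]
      exact Ideal.mul_mem_right _ _ (Ideal.subset_span rfl)
    obtain ⟨c, hc⟩ := Ideal.mem_span_singleton'.mp (hle hmem)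
    exact ⟨c, by rw [← hc, mul_comm]⟩
  · rintro ⟨g', rfl⟩
    rw [map_mul, red_p, zero_mul]

lemma red_surjective : Function.Surjective (map (res p k) :
    MvPolynomial (Fin n) (W2 p k) → MvPolynomial (Fin n) k) := by
  apply MvPolynomial.map_surjective
  intro a
  refine ⟨TruncatedWittVector.mk p ![a, 0], ?_⟩
  rw [res_apply, TruncatedWittVector.coeff_mk]
  rfl

lemma red_polyFrob (u : MvPolynomial (Fin n) (W2 p k)) :
    map (res p k) (polyFrob p k (Fin n) u) = (map (res p k) u) ^ p := by
  induction u using MvPolynomial.induction_on with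
  | C a =>
    have h1 : polyFrob p k (Fin n) (C a) = C (sigma p k a) := by
      unfold polyFrob
      rw [coe_eval₂Hom, eval₂_C]
      rfl
    rw [h1, map_C, map_C, ← map_pow, res_apply, res_apply]
    exact congrArg C (WittGrp.coeff_frob p 2 _ a 0)
  | add u v hu hv => rw [map_add, map_add, hu, hv, map_add, add_pow_char]
  | mul_X u i hu =>
    rw [map_mul, map_mul, hu, map_mul, mul_pow]
    congr 1
    have h1 : polyFrob p k (Fin n) (X i) = X i ^ p := by
      unfold polyFrob
      rw [coe_eval₂Hom, eval₂_X]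
    rw [h1, map_pow]

lemma polyFrob_sub_pow (u : MvPolynomial (Fin n) (W2 p k)) :
    ∃ v, polyFrob p k (Fin n) u - u ^ p = (p : MvPolynomial (Fin n) (W2 p k)) * v :=
  (ker_red p k n _).1 (by rw [map_sub, red_polyFrob, map_pow, sub_self])

lemma p_mul_polyFrob (u : MvPolynomial (Fin n) (W2 p k)) :
    (p : MvPolynomial (Fin n) (W2 p k)) * polyFrob p k (Fin n) u = p * u ^ p := by
  obtain ⟨v, hv⟩ := polyFrob_sub_pow p k n u
  have : polyFrob p k (Fin n) u = u ^ p + (p : MvPolynomial (Fin n) (W2 p k)) * v := by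
    rw [← hv]; ring
  rw [this, mul_add, ← mul_assoc, p_sq, zero_mul, add_zero]

/-- the `σ₂`-semilinear endomorphism of `W₂(k)[x]` with `x_i ↦ x_i^p + p g_i` -/
def twistFrob (g : Fin n → MvPolynomial (Fin n) (W2 p k)) :
    MvPolynomial (Fin n) (W2 p k) →+* MvPolynomial (Fin n) (W2 p k) :=
  eval₂Hom (C.comp (sigma p k)) fun i => X i ^ p + (p : MvPolynomial (Fin n) (W2 p k)) * g i

lemma twistFrob_C (g : Fin n → MvPolynomial (Fin n) (W2 p k)) (a : W2 p k) :
    twistFrob p k n g (C a) = C (sigma p k a) := by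
  unfold twistFrob
  rw [coe_eval₂Hom, eval₂_C]
  rfl

lemma twistFrob_X (g : Fin n → MvPolynomial (Fin n) (W2 p k)) (i : Fin n) :
    twistFrob p k n g (X i) = X i ^ p + (p : MvPolynomial (Fin n) (W2 p k)) * g i := by
  unfold twistFrob
  rw [coe_eval₂Hom, eval₂_X]

lemma polyFrob_C (a : W2 p k) : polyFrob p k (Fin n) (C a) = C (sigma p k a) := by
  unfold polyFrob
  rw [coe_eval₂Hom, eval₂_C]
  rfl

lemma polyFrob_X (i : Fin n) : polyFrob p k (Fin n) (X i) = X i ^ p := by
  unfold polyFrob
  rw [coe_eval₂Hom, eval₂_X]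

lemma twistFrob_eq (g : Fin n → MvPolynomial (Fin n) (W2 p k))
    (u : MvPolynomial (Fin n) (W2 p k)) :
    twistFrob p k n g u = polyFrob p k (Fin n) u +
      (p : MvPolynomial (Fin n) (W2 p k)) * ∑ j, polyFrob p k (Fin n) (pderiv j u) * g j := by
  induction u using MvPolynomial.induction_on with
  | C a =>
    rw [twistFrob_C, polyFrob_C]
    simp only [pderiv_C, map_zero, zero_mul, Finset.sum_const_zero, mul_zero, add_zero]
  | add u v hu hv =>
    rw [map_add, hu, hv, map_add]
    simp only [map_add, add_mul, Finset.sum_add_distrib]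
    ring
  | mul_X u i hu =>
    rw [map_mul, hu, twistFrob_X, map_mul, polyFrob_X]
    have hsum : ∑ j, polyFrob p k (Fin n) (pderiv j (u * X i)) * g j =
        (∑ j, polyFrob p k (Fin n) (pderiv j u) * g j) * X i ^ p + polyFrob p k (Fin n) u * g i := by
      have hterm : ∀ j, polyFrob p k (Fin n) (pderiv j (u * X i)) * g j =
          polyFrob p k (Fin n) (pderiv j u) * g j * X i ^ p +
            (if j = i then polyFrob p k (Fin n) u * g i else 0) := by
        intro j
        rw [pderiv_mul, map_add, map_mul, map_mul, polyFrob_X, pderiv_X]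
        by_cases hji : j = i
        · subst hji
          rw [Pi.single_eq_same, map_one, if_pos rfl]
          ring
        · rw [Pi.single_eq_of_ne (Ne.symm hji), map_zero, if_neg hji]
          ring
      rw [Finset.sum_congr rfl (fun j _ => hterm j), Finset.sum_add_distrib, Finset.sum_mul,
        Finset.sum_ite_eq' Finset.univ i, if_pos (Finset.mem_univ i)]
    rw [hsum]
    have : (polyFrob p k (Fin n) u +
        (p : MvPolynomial (Fin n) (W2 p k)) * ∑ j, polyFrob p k (Fin n) (pderiv j u) * g j) *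
          (X i ^ p + (p : MvPolynomial (Fin n) (W2 p k)) * g i) =
        polyFrob p k (Fin n) u * X i ^ p +
          (p : MvPolynomial (Fin n) (W2 p k)) *
            ((∑ j, polyFrob p k (Fin n) (pderiv j u) * g j) * X i ^ p +
              polyFrob p k (Fin n) u * g i) +
          ((p : MvPolynomial (Fin n) (W2 p k)) * (p : MvPolynomial (Fin n) (W2 p k))) *
            ((∑ j, polyFrob p k (Fin n) (pderiv j u) * g j) * g i) := by ring
    rw [this, p_sq, zero_mul, add_zero]

lemma twistFrob_eq' (g : Fin n → MvPolynomial (Fin n) (W2 p k))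
    (u : MvPolynomial (Fin n) (W2 p k)) :
    twistFrob p k n g u = polyFrob p k (Fin n) u +
      (p : MvPolynomial (Fin n) (W2 p k)) * ∑ j, pderiv j u ^ p * g j := by
  rw [twistFrob_eq, Finset.mul_sum, Finset.mul_sum]
  congr 1
  refine Finset.sum_congr rfl fun j _ => ?_
  rw [← mul_assoc, p_mul_polyFrob, mul_assoc]

lemma red_twistFrob (g : Fin n → MvPolynomial (Fin n) (W2 p k))
    (u : MvPolynomial (Fin n) (W2 p k)) :
    map (res p k) (twistFrob p k n g u) = (map (res p k) u) ^ p := by
  rw [twistFrob_eq, map_add, map_mul, red_p, zero_mul, add_zero, red_polyFrob]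

end

end Groth.Agent.Lib.Helper27.W2Poly
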