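import Mathlib.LinearAlgebra.RootSystem.Base
import Mathlib.LinearAlgebra.RootSystem.WeylGroup
import Mathlib.LinearAlgebra.RootSystem.Hom
import Mathlib.LinearAlgebra.RootSystem.Reduced

/-! Helper lemmas on Weyl groups of root pairings (helper27). -/

set_option autoImplicit false
open RootPairing

namespace Groth.Agent.Lib.Helper27.Weyl

variable {ι R M N : Type*} [CommRing R] [AddCommGroup M] [Module R M]
    [AddCommGroup N] [Module R N] (P : RootPairing ι R M N)

lemma smul_def (g : P.Aut) (i : ι) : g • i = g.indexEquiv i := rfl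

lemma root_smul (g : P.Aut) (i : ι) : P.root (g • i) = g • P.root i :=
  Equiv.root_indexEquiv_eq_smul (P := P) i g

lemma reflection_smul_idx (i j : ι) : Equiv.reflection P i • j = P.reflectionPerm i j := rfl

lemma toLinearMap_smul (g : P.Aut) (m : M) (i : ι) :
    P.toLinearMap (g • m) (P.coroot (g • i)) = P.toLinearMap m (P.coroot i) := by
  have h := Hom.weight_coweight_transpose_apply P P (P.coroot (g • i)) g.toHom
  have h2 := Hom.coroot_coweightMap_apply P P (g • i) g.toHom
  have h3 : g.indexEquiv.symm (g • i) = i := by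
    rw [smul_def]; simp
  rw [h3] at h2
  rw [h2] at h
  have := LinearMap.congr_fun h m
  have h4 : (g.toHom.weightMap m) = g • m := rfl
  simpa [h4] using this

lemma conj_reflection (g : P.Aut) (i : ι) :
    g * Equiv.reflection P i * g⁻¹ = Equiv.reflection P (g • i) := by
  apply Equiv.weightHom_injective P
  ext x
  change g • (P.reflection i (g⁻¹ • x)) = P.reflection (g • i) x
  rw [reflection_apply, reflection_apply, smul_sub, smul_inv_smul, smul_comm, ← root_smul]
  congr 2
  have := toLinearMap_smul P g (g⁻¹ • x) i
  rw [smul_inv_smul] at this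
  simpa [RootPairing.coroot'] using this.symm

lemma smul_neg_idx (g : P.Aut) (i : ι) :
    g • (P.reflectionPerm i i) = P.reflectionPerm (g • i) (g • i) := by
  apply P.root.injective
  rw [root_smul, root_reflectionPerm, reflection_apply_self, root_reflectionPerm,
    reflection_apply_self, smul_neg, root_smul]

section Base

variable {P}
variable (b : P.Base)

/-- The subgroup generated by the simple reflections. -/
noncomputable def simpleSubgroup : Subgroup P.Aut :=
  Subgroup.closure ((fun i : ι => Equiv.reflection P i) '' (b.support : Set ι))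

lemma simple_mem {j : ι} (hj : j ∈ b.support) : Equiv.reflection P j ∈ simpleSubgroup b :=
  Subgroup.subset_closure ⟨j, hj, rfl⟩

lemma simpleSubgroup_le : simpleSubgroup b ≤ P.weylGroup := by
  rw [simpleSubgroup, Subgroup.closure_le]
  rintro _ ⟨j, _, rfl⟩
  exact P.reflection_mem_weylGroup j

variable [CharZero R] [IsDomain R] [Finite ι] [P.IsCrystallographic] [P.IsReduced]

/-- every root is conjugate to a simple root under the subgroup generated by simple reflections -/
lemma exists_smul_simple (i : ι) :
    ∃ g : P.Aut, g ∈ simpleSubgroup b ∧ ∃ j ∈ b.support, g • j = i := by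
  refine b.induction_reflect i (p := fun i => ∃ g : P.Aut, g ∈ simpleSubgroup b ∧
    ∃ j ∈ b.support, g • j = i) ?_ ?_ ?_
  · rintro i ⟨g, hg, j, hj, rfl⟩
    refine ⟨g * Equiv.reflection P j, mul_mem hg (simple_mem b hj), j, hj, ?_⟩
    rw [mul_smul, reflection_smul_idx, smul_neg_idx]
  · intro i hi
    exact ⟨1, one_mem _, i, hi, one_smul _ _⟩
  · rintro i j ⟨g, hg, k, hk, rfl⟩ hj
    refine ⟨Equiv.reflection P j * g, mul_mem (simple_mem b hj) hg, k, hk, ?_⟩
    rw [mul_smul, reflection_smul_idx]

lemma simpleSubgroup_eq : simpleSubgroup b = P.weylGroup := by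
  apply le_antisymm (simpleSubgroup_le b)
  rw [weylGroup, Subgroup.closure_le]
  rintro _ ⟨i, rfl⟩
  obtain ⟨g, hg, j, hj, rfl⟩ := exists_smul_simple b i
  rw [← conj_reflection]
  exact mul_mem (mul_mem hg (simple_mem b hj)) (inv_mem hg)

end Base

section Words

/-- product of reflections along a list of indices -/
noncomputable def wprod (L : List ι) : P.Aut := (L.map (Equiv.reflection P)).prod

@[simp] lemma wprod_nil : wprod P [] = 1 := rfl

@[simp] lemma wprod_cons (a : ι) (L : List ι) :
    wprod P (a :: L) = Equiv.reflection P a * wprod P L := by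
  simp [wprod]

@[simp] lemma wprod_append (L₁ L₂ : List ι) :
    wprod P (L₁ ++ L₂) = wprod P L₁ * wprod P L₂ := by
  simp [wprod]

lemma reflection_mul_self (i : ι) : Equiv.reflection P i * Equiv.reflection P i = 1 := by
  rw [mul_eq_one_iff_eq_inv, Equiv.reflection_inv]

lemma wprod_reverse (L : List ι) : wprod P L.reverse = (wprod P L)⁻¹ := by
  induction L with
  | nil => simp
  | cons a L ih =>
    rw [List.reverse_cons, wprod_append, ih, wprod_cons (L := L), mul_inv_rev,
      Equiv.reflection_inv, wprod_cons, wprod_nil, mul_one]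

variable {P}
variable (b : P.Base)

lemma exists_list_of_mem_simpleSubgroup {g : P.Aut} (hg : g ∈ simpleSubgroup b) :
    ∃ L : List ι, (∀ x ∈ L, x ∈ b.support) ∧ wprod P L = g := by
  induction hg using Subgroup.closure_induction with
  | mem x hx =>
    obtain ⟨j, hj, rfl⟩ := hx
    exact ⟨[j], by simpa using hj, by simp⟩
  | one => exact ⟨[], by simp, rfl⟩
  | mul x y _ _ hx hy =>
    obtain ⟨L₁, h₁, rfl⟩ := hx
    obtain ⟨L₂, h₂, rfl⟩ := hy
    refine ⟨L₁ ++ L₂, ?_, by simp⟩
    intro x hx
    rcases List.mem_append.mp hx with h | h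
    · exact h₁ x h
    · exact h₂ x h
  | inv x _ hx =>
    obtain ⟨L, h, rfl⟩ := hx
    exact ⟨L.reverse, fun x hx => h x (List.mem_reverse.mp hx), wprod_reverse P L⟩

variable [CharZero R] [IsDomain R] [Finite ι] [P.IsCrystallographic] [P.IsReduced]

lemma deletion (L : List ι) (hL : ∀ x ∈ L, x ∈ b.support) (t : ι) (ht : t ∈ b.support)
    (hneg : ¬ b.IsPos (wprod P L • t)) :
    ∃ L' : List ι, (∀ x ∈ L', x ∈ b.support) ∧ L'.length < L.length ∧
      wprod P L' = wprod P L * Equiv.reflection P t := by
  induction L with
  | nil =>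
    exfalso
    apply hneg
    simpa using RootPairing.Base.isPos_of_mem_support ht
  | cons a L ih =>
    have ha : a ∈ b.support := hL a (by simp)
    have hL' : ∀ x ∈ L, x ∈ b.support := fun x hx => hL x (by simp [hx])
    by_cases hpos : b.IsPos (wprod P L • t)
    · -- then `wprod L • t = a`
      have hβ : wprod P L • t = a := by
        by_contra hne
        apply hneg
        rw [wprod_cons, mul_smul, reflection_smul_idx]
        exact hpos.reflectionPerm ha hne
      refine ⟨L, hL', by simp, ?_⟩
      rw [wprod_cons, ← hβ, ← conj_reflection, inv_mul_cancel_right, mul_assoc,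
        reflection_mul_self, mul_one]
    · obtain ⟨L', h1, h2, h3⟩ := ih hL' hpos
      refine ⟨a :: L', ?_, by simpa using h2, ?_⟩
      · intro x hx
        rcases List.mem_cons.mp hx with rfl | h
        · exact ha
        · exact h1 x h
      · rw [wprod_cons, wprod_cons, h3, mul_assoc]

lemma wprod_eq_one_of_pos (n : ℕ) : ∀ L : List ι, L.length = n → (∀ x ∈ L, x ∈ b.support) →
    (∀ i, b.IsPos i → b.IsPos (wprod P L • i)) → wprod P L = 1 := by
  induction n using Nat.strongRecOn with
  | ind n ih =>
    intro L hn hL hpos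
    rcases List.eq_nil_or_concat L with rfl | ⟨L', t, rfl⟩
    · rfl
    · rw [List.concat_eq_append] at *
      have ht : t ∈ b.support := hL t (by simp)
      have hL' : ∀ x ∈ L', x ∈ b.support := fun x hx => hL x (by simp [hx])
      have h1 := hpos t (RootPairing.Base.isPos_of_mem_support ht)
      rw [wprod_append, mul_smul] at h1
      have h2 : wprod P [t] • t = P.reflectionPerm t t := by simp [reflection_smul_idx]
      rw [h2, smul_neg_idx] at h1
      have h3 : ¬ b.IsPos (wprod P L' • t) := by
        have := RootPairing.Base.IsPos.neg_iff_not b (wprod P L' • t)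
        simp only [RootPairing.indexNeg_neg] at this
        exact this.mp h1
      obtain ⟨L'', h4, h5, h6⟩ := deletion b L' hL' t ht h3
      have h7 : wprod P (L' ++ [t]) = wprod P L'' := by
        rw [h6, wprod_append]; simp
      rw [h7]
      apply ih L''.length _ L'' rfl h4
      · rw [← h7]; exact hpos
      · rw [← hn]; simp; omega

/-- An element of the Weyl group preserving the positive roots is trivial. -/
lemma eq_one_of_pos {g : P.Aut} (hg : g ∈ P.weylGroup)
    (hpos : ∀ i, b.IsPos i → b.IsPos (g • i)) : g = 1 := by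
  rw [← simpleSubgroup_eq b] at hg
  obtain ⟨L, hL, rfl⟩ := exists_list_of_mem_simpleSubgroup b hg
  exact wprod_eq_one_of_pos b _ L rfl hL hpos

end Words

end Groth.Agent.Lib.Helper27.Weyl
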