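import Groth.Agent.Lib.Helper27.Weyl

/-! Transport of bases along automorphisms, simple transitivity of the Weyl group (helper27). -/

set_option autoImplicit false
open RootPairing

namespace Groth.Agent.Lib.Helper27.Weyl

variable {ι R M N : Type*} [CommRing R] [AddCommGroup M] [Module R M]
    [AddCommGroup N] [Module R N] {P : RootPairing ι R M N}

lemma coroot_smul (g : P.Aut) (i : ι) : P.coroot (g • i) = (g⁻¹).coweightMap (P.coroot i) := by
  have := Hom.coroot_coweightMap_apply P P i (g⁻¹).toHom
  rw [this]
  rfl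

lemma root_comp_smul (g : P.Aut) : P.root ∘ g.indexEquiv = g.weightMap ∘ P.root :=
  g.root_weightMap.symm

lemma coroot_comp_smul (g : P.Aut) : P.coroot ∘ g.indexEquiv = (g⁻¹).coweightMap ∘ P.coroot := by
  funext i
  exact coroot_smul g i

lemma root_eq_smul_root_inv (g : P.Aut) (i : ι) : P.root i = g.weightMap (P.root (g⁻¹ • i)) := by
  have : g.weightMap (P.root (g⁻¹ • i)) = g • P.root (g⁻¹ • i) := rfl
  rw [this, ← root_smul, smul_inv_smul]

lemma coroot_eq_smul_coroot_inv (g : P.Aut) (i : ι) :
    P.coroot i = (g⁻¹).coweightMap (P.coroot (g⁻¹ • i)) := by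
  rw [← coroot_smul, smul_inv_smul]

/-- image of a base under an automorphism -/
noncomputable def smulBase (g : P.Aut) (b : P.Base) : P.Base where
  support := b.support.map g.indexEquiv.toEmbedding
  linearIndepOn_root := by
    rw [Finset.coe_map]
    change LinearIndepOn R P.root (g.indexEquiv '' b.support)
    rw [← linearIndepOn_equiv, root_comp_smul]
    exact b.linearIndepOn_root.map_injOn _ (g.bijective_weightMap.injective.injOn)
  linearIndepOn_coroot := by
    rw [Finset.coe_map]
    change LinearIndepOn R P.coroot (g.indexEquiv '' b.support)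
    rw [← linearIndepOn_equiv, coroot_comp_smul]
    exact b.linearIndepOn_coroot.map_injOn _ ((g⁻¹).bijective_coweightMap.injective.injOn)
  root_mem_or_neg_mem i := by
    have himg : (P.root '' ((b.support.map g.indexEquiv.toEmbedding : Finset ι) : Set ι)) =
        g.weightMap.toAddMonoidHom '' (P.root '' (b.support : Set ι)) := by
      rw [Finset.coe_map, Set.image_image, Set.image_image]
      apply Set.image_congr
      intro j _
      exact (congrFun (root_comp_smul g) j)
    rw [himg, ← AddMonoidHom.map_mclosure, root_eq_smul_root_inv g i]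
    rcases b.root_mem_or_neg_mem (g⁻¹ • i) with h | h
    · left
      exact AddSubmonoid.mem_map_of_mem _ h
    · right
      rw [← map_neg]
      exact AddSubmonoid.mem_map_of_mem (g.weightMap.toAddMonoidHom) h
  coroot_mem_or_neg_mem i := by
    have himg : (P.coroot '' ((b.support.map g.indexEquiv.toEmbedding : Finset ι) : Set ι)) =
        (g⁻¹).coweightMap.toAddMonoidHom '' (P.coroot '' (b.support : Set ι)) := by
      rw [Finset.coe_map, Set.image_image, Set.image_image]
      apply Set.image_congr
      intro j _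
      exact (congrFun (coroot_comp_smul g) j)
    rw [himg, ← AddMonoidHom.map_mclosure, coroot_eq_smul_coroot_inv g i]
    rcases b.coroot_mem_or_neg_mem (g⁻¹ • i) with h | h
    · left
      exact AddSubmonoid.mem_map_of_mem _ h
    · right
      rw [← map_neg]
      exact AddSubmonoid.mem_map_of_mem ((g⁻¹).coweightMap.toAddMonoidHom) h

lemma smul_mem_smulBase_support (g : P.Aut) (b : P.Base) (i : ι) :
    g • i ∈ (smulBase g b).support ↔ i ∈ b.support := by
  change g.indexEquiv i ∈ b.support.map g.indexEquiv.toEmbedding ↔ _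
  simp

lemma mem_smulBase_support (g : P.Aut) (b : P.Base) (i : ι) :
    i ∈ (smulBase g b).support ↔ g⁻¹ • i ∈ b.support := by
  rw [← smul_mem_smulBase_support g b (g⁻¹ • i), smul_inv_smul]

section CharZero

variable [CharZero R]

lemma height_smulBase (g : P.Aut) (b : P.Base) (i : ι) :
    (smulBase g b).height (g • i) = b.height i := by
  obtain ⟨f, -, -, hf⟩ := b.exists_root_eq_sum_int i
  have h : P.root (g • i) =
      ∑ j ∈ (smulBase g b).support, (f ∘ g.indexEquiv.symm) j • P.root j := by
    change _ = ∑ j ∈ b.support.map g.indexEquiv.toEmbedding, _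
    rw [Finset.sum_map, root_smul, hf, Finset.smul_sum]
    apply Finset.sum_congr rfl
    intro j _
    have h1 : P.root (g.indexEquiv.toEmbedding j) = g • P.root j := root_smul P g j
    rw [h1]
    simp only [Function.comp_apply, Equiv.coe_toEmbedding, Equiv.symm_apply_apply]
    rw [smul_comm]
  rw [RootPairing.Base.height_eq_sum h, RootPairing.Base.height_eq_sum hf]
  change ∑ j ∈ b.support.map g.indexEquiv.toEmbedding, _ = _
  rw [Finset.sum_map]
  simp

lemma isPos_smulBase (g : P.Aut) (b : P.Base) (i : ι) :
    (smulBase g b).IsPos (g • i) ↔ b.IsPos i := by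
  rw [RootPairing.Base.isPos_iff, RootPairing.Base.isPos_iff, height_smulBase]

lemma isPos_smulBase' (g : P.Aut) (b : P.Base) (i : ι) :
    (smulBase g b).IsPos i ↔ b.IsPos (g⁻¹ • i) := by
  rw [← isPos_smulBase g b (g⁻¹ • i), smul_inv_smul]

lemma height_eq_of_support_eq {b b' : P.Base} (h : b.support = b'.support) (i : ι) :
    b.height i = b'.height i := by
  obtain ⟨f, -, -, hf⟩ := b.exists_root_eq_sum_int i
  have hf' : P.root i = ∑ j ∈ b'.support, f j • P.root j := by rw [← h]; exact hf
  rw [RootPairing.Base.height_eq_sum hf, RootPairing.Base.height_eq_sum hf', h]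

lemma isPos_iff_of_support_eq {b b' : P.Base} (h : b.support = b'.support) (i : ι) :
    b.IsPos i ↔ b'.IsPos i := by
  rw [RootPairing.Base.isPos_iff, RootPairing.Base.isPos_iff, height_eq_of_support_eq h]

lemma not_isPos_neg (b : P.Base) {i : ι} (h : b.IsPos i) : ¬ b.IsPos (P.reflectionPerm i i) := by
  have := RootPairing.Base.IsPos.neg_iff_not b i
  simp only [RootPairing.indexNeg_neg] at this
  intro h'
  exact (this.mp h') h

lemma isPos_neg_of_not (b : P.Base) {i : ι} (h : ¬ b.IsPos i) : b.IsPos (P.reflectionPerm i i) := by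
  have := RootPairing.Base.IsPos.neg_iff_not b i
  simp only [RootPairing.indexNeg_neg] at this
  exact this.mpr h

variable [IsDomain R] [Finite ι] [P.IsCrystallographic]

/-- simple roots are exactly the indecomposable positive roots -/
lemma mem_support_iff (b : P.Base) (i : ι) :
    i ∈ b.support ↔ b.IsPos i ∧
      ∀ k l, b.IsPos k → b.IsPos l → P.root i ≠ P.root k + P.root l := by
  constructor
  · intro hi
    refine ⟨RootPairing.Base.isPos_of_mem_support hi, fun k l hk hl h => ?_⟩
    have h1 := b.height_add h
    rw [RootPairing.Base.height_one_of_mem_support hi] at h1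
    rw [RootPairing.Base.isPos_iff] at hk hl
    omega
  · rintro ⟨hpos, hind⟩
    by_contra hi
    obtain ⟨j, hj, hj'⟩ := hpos.exists_mem_support_pos_pairingIn
    rw [P.zero_lt_pairingIn_iff'] at hj'
    have hij : i ≠ j := fun h => hi (h ▸ hj)
    obtain ⟨k, hk⟩ := P.root_sub_root_mem_of_pairingIn_pos hj' hij
    exact hind k j (hpos.sub hj hk) (RootPairing.Base.isPos_of_mem_support hj)
      (by rw [hk]; abel)

lemma support_eq_of_isPos_iff {b b' : P.Base} (h : ∀ i, b.IsPos i ↔ b'.IsPos i) :
    b.support = b'.support := by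
  ext i
  rw [mem_support_iff, mem_support_iff]
  simp only [h]

omit [IsDomain R] [Finite ι] [P.IsCrystallographic] in
lemma isPos_iff_of_imp {b b' : P.Base} (h : ∀ i, b.IsPos i → b'.IsPos i) (i : ι) :
    b.IsPos i ↔ b'.IsPos i := by
  refine ⟨h i, fun hi => ?_⟩
  by_contra hn
  exact not_isPos_neg b' hi (h _ (isPos_neg_of_not b hn))

lemma exists_simple_not_isPos {b b' : P.Base} (h : ∃ i, b.IsPos i ∧ ¬ b'.IsPos i) :
    ∃ j ∈ b.support, ¬ b'.IsPos j := by
  by_contra hcon
  push Not at hcon
  obtain ⟨i, hi, hi'⟩ := h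
  apply hi'
  exact hi.induction_on_add (p := b'.IsPos) hcon (fun i j k hk hi hj => hi.add (hcon j hj) hk)

variable [P.IsReduced]

lemma isPos_reflectionPerm_iff (b : P.Base) {i j : ι} (hj : j ∈ b.support) (h1 : i ≠ j)
    (h2 : i ≠ P.reflectionPerm j j) : b.IsPos (P.reflectionPerm j i) ↔ b.IsPos i := by
  constructor
  · intro h
    have h3 : P.reflectionPerm j i ≠ j := by
      intro h4
      apply h2
      calc i = P.reflectionPerm j (P.reflectionPerm j i) := (P.reflectionPerm_self j i).symm
        _ = P.reflectionPerm j j := by rw [h4]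
    have := h.reflectionPerm hj h3
    rwa [P.reflectionPerm_self] at this
  · intro h
    exact h.reflectionPerm hj h1

lemma exists_weyl_smul_support (n : ℕ) : ∀ b b' : P.Base,
    {i | b.IsPos i ∧ ¬ b'.IsPos i}.ncard = n →
    ∃ g ∈ P.weylGroup, ∀ i, g • i ∈ b'.support ↔ i ∈ b.support := by
  induction n with
  | zero =>
    intro b b' h
    have hfin : {i | b.IsPos i ∧ ¬ b'.IsPos i}.Finite := Set.toFinite _
    rw [Set.ncard_eq_zero hfin] at h
    have h1 : ∀ i, b.IsPos i → b'.IsPos i := by
      intro i hi
      by_contra hn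
      have : i ∈ {i | b.IsPos i ∧ ¬ b'.IsPos i} := ⟨hi, hn⟩
      rw [h] at this; exact this
    have h2 := support_eq_of_isPos_iff (isPos_iff_of_imp h1)
    exact ⟨1, one_mem _, fun i => by rw [one_smul, h2]⟩
  | succ n ih =>
    intro b b' h
    have hne : {i | b.IsPos i ∧ ¬ b'.IsPos i}.Nonempty := by
      rw [← Set.ncard_pos]; omega
    obtain ⟨j, hj, hj'⟩ := exists_simple_not_isPos hne
    have hjpos : b.IsPos j := RootPairing.Base.isPos_of_mem_support hj
    have key : {i | (smulBase (Equiv.reflection P j) b).IsPos i ∧ ¬ b'.IsPos i} =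
        {i | b.IsPos i ∧ ¬ b'.IsPos i} \ {j} := by
      ext i
      simp only [Set.mem_ofPred_eq, Set.mem_sdiff, Set.mem_singleton_iff]
      rw [isPos_smulBase', Equiv.reflection_inv, reflection_smul_idx]
      by_cases hij : i = j
      · subst hij
        simp [not_isPos_neg b hjpos]
      · by_cases hij' : i = P.reflectionPerm j j
        · subst hij'
          have h1 : b'.IsPos (P.reflectionPerm j j) := isPos_neg_of_not b' hj'
          simp [h1]
        · have h1 := isPos_reflectionPerm_iff b hj hij hij'
          simp [h1, hij]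
    have hcard : {i | (smulBase (Equiv.reflection P j) b).IsPos i ∧ ¬ b'.IsPos i}.ncard = n := by
      have hmem : j ∈ {i | b.IsPos i ∧ ¬ b'.IsPos i} := ⟨hjpos, hj'⟩
      rw [key, Set.ncard_sdiff_singleton_of_mem hmem, h]; rfl
    obtain ⟨g, hg, hg'⟩ := ih _ b' hcard
    refine ⟨g * Equiv.reflection P j, mul_mem hg (P.reflection_mem_weylGroup j), fun i => ?_⟩
    rw [mul_smul, hg', mem_smulBase_support, Equiv.reflection_inv, ← mul_smul,
      reflection_mul_self, one_smul]

/-- The Weyl group acts transitively on bases. -/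
lemma exists_weyl_smul_support' (b b' : P.Base) :
    ∃ g ∈ P.weylGroup, ∀ i, g • i ∈ b'.support ↔ i ∈ b.support :=
  exists_weyl_smul_support _ b b' rfl

/-- An element of the Weyl group stabilising a base is trivial. -/
lemma eq_one_of_smul_support (b : P.Base) {g : P.Aut} (hg : g ∈ P.weylGroup)
    (h : ∀ i, g • i ∈ b.support ↔ i ∈ b.support) : g = 1 := by
  apply eq_one_of_pos b hg
  intro i hi
  have h1 : (smulBase g b).support = b.support := by
    ext k
    rw [mem_smulBase_support, ← h (g⁻¹ • k), smul_inv_smul]
  rw [← isPos_iff_of_support_eq h1, isPos_smulBase]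
  exact hi

end CharZero

end Groth.Agent.Lib.Helper27.Weyl
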