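import Groth.Agent.Lib.Helper27.WeylBase

/-! Length function on the Weyl group, rank-two lemmas (helper27). -/

set_option autoImplicit false
open RootPairing

namespace Groth.Agent.Lib.Helper27.Weyl

variable {ι R M N : Type*} [CommRing R] [AddCommGroup M] [Module R M]
    [AddCommGroup N] [Module R N] {P : RootPairing ι R M N}

section Len

variable (b : P.Base)

/-- lengths of words in simple reflections representing `w`. -/
def lenSet (w : P.Aut) : Set ℕ :=
  {n | ∃ L : List ι, (∀ x ∈ L, x ∈ b.support) ∧ L.length = n ∧ wprod P L = w}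

/-- the length of `w` w.r.t. the simple reflections of `b` (junk value `0` outside `W`). -/
noncomputable def len (w : P.Aut) : ℕ := sInf (lenSet b w)

lemma len_le_of_word (L : List ι) (hL : ∀ x ∈ L, x ∈ b.support) :
    len b (wprod P L) ≤ L.length :=
  Nat.sInf_le ⟨L, hL, rfl, rfl⟩

variable [CharZero R] [IsDomain R] [Finite ι] [P.IsCrystallographic] [P.IsReduced]

lemma exists_word_len {w : P.Aut} (hw : w ∈ P.weylGroup) :
    ∃ L : List ι, (∀ x ∈ L, x ∈ b.support) ∧ L.length = len b w ∧ wprod P L = w := by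
  rw [← simpleSubgroup_eq b] at hw
  obtain ⟨L, hL, rfl⟩ := exists_list_of_mem_simpleSubgroup b hw
  exact Nat.sInf_mem (s := lenSet b (wprod P L)) ⟨L.length, L, hL, rfl, rfl⟩

lemma len_mul_simple_lt {w : P.Aut} (hw : w ∈ P.weylGroup) {t : ι} (ht : t ∈ b.support)
    (hneg : ¬ b.IsPos (w • t)) : len b (w * Equiv.reflection P t) < len b w := by
  obtain ⟨L, hL, hlen, rfl⟩ := exists_word_len b hw
  obtain ⟨L', h1, h2, h3⟩ := deletion b L hL t ht hneg
  rw [← h3]
  calc len b (wprod P L') ≤ L'.length := len_le_of_word b L' h1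
    _ < L.length := h2
    _ = len b (wprod P L) := hlen

end Len

section Coeff

variable [CharZero R] (b : P.Base)

lemma coeff_unique {f g : ι → ℤ}
    (h : ∑ j ∈ b.support, f j • P.root j = ∑ j ∈ b.support, g j • P.root j) :
    ∀ j ∈ b.support, f j = g j := by
  intro j hj
  rw [b.support.sum_subtype (p := (· ∈ b.support)) (by simp) (F := inferInstance),
    b.support.sum_subtype (p := (· ∈ b.support)) (by simp) (F := inferInstance)] at h
  have aux (j : b.support) := Fintype.linearIndependent_iffₛ.mp
      (b.linearIndepOn_root.restrict_scalars' ℤ) (f ∘ (↑)) (g ∘ (↑)) (by simpa) j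
  simpa using aux ⟨j, hj⟩

lemma sign_of_root_eq_pair {δ α γ : ι} (hα : α ∈ b.support) (hγ : γ ∈ b.support)
    (hne : α ≠ γ) {a c : ℤ} (h : P.root δ = a • P.root α + c • P.root γ) :
    (0 ≤ a ∧ 0 ≤ c) ∨ (a ≤ 0 ∧ c ≤ 0) := by
  classical
  obtain ⟨f, -, hf, hf'⟩ := b.exists_root_eq_sum_int δ
  have h2 : P.root δ = ∑ j ∈ b.support,
      (fun j => if j = α then a else if j = γ then c else 0) j • P.root j := by
    rw [h, Finset.sum_eq_add α γ hne]
    · simp [hne.symm]
    · intro k _ hk
      simp [hk.1, hk.2]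
    · intro h; exact absurd hα h
    · intro h; exact absurd hγ h
  have := coeff_unique b (hf'.symm.trans h2)
  have ha : f α = a := by simpa using this α hα
  have hc : f γ = c := by simpa [hne.symm] using this γ hγ
  rcases hf with h | h
  · left; exact ⟨ha ▸ h.le α, hc ▸ h.le γ⟩
  · right; exact ⟨ha ▸ h.le α, hc ▸ h.le γ⟩

lemma height_eq_of_root_eq_pair {i k l : ι} {a c : ℤ}
    (h : P.root i = a • P.root k + c • P.root l) :
    b.height i = a * b.height k + c * b.height l := by
  obtain ⟨f, -, -, hf⟩ := b.exists_root_eq_sum_int k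
  obtain ⟨g, -, -, hg⟩ := b.exists_root_eq_sum_int l
  have hfg : P.root i = ∑ j ∈ b.support, (a • f + c • g) j • P.root j := by
    simp_rw [Pi.add_apply, Pi.smul_apply, add_smul, smul_assoc, Finset.sum_add_distrib,
      ← Finset.smul_sum, ← hf, ← hg, h]
  simp_rw [RootPairing.Base.height_eq_sum hf, RootPairing.Base.height_eq_sum hg,
    RootPairing.Base.height_eq_sum hfg, Pi.add_apply, Pi.smul_apply,
    Finset.sum_add_distrib, ← Finset.smul_sum, smul_eq_mul]

end Coeff

section RankTwo

variable [P.IsCrystallographic]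

lemma reflection_mem_span_pair (α γ k : ι) (hk : k = α ∨ k = γ) :
    ∀ x ∈ Submodule.span ℤ ({P.root α, P.root γ} : Set M),
      P.reflection k x ∈ Submodule.span ℤ ({P.root α, P.root γ} : Set M) := by
  intro x hx
  have hkmem : P.root k ∈ Submodule.span ℤ ({P.root α, P.root γ} : Set M) := by
    rcases hk with rfl | rfl
    · exact Submodule.subset_span (by simp)
    · exact Submodule.subset_span (by simp)
  induction hx using Submodule.span_induction with
  | mem y hy =>
    have hy' : ∃ j, y = P.root j ∧ (j = α ∨ j = γ) := by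
      rcases hy with rfl | hy
      · exact ⟨α, rfl, Or.inl rfl⟩
      · rw [Set.mem_singleton_iff] at hy
        exact ⟨γ, hy, Or.inr rfl⟩
    obtain ⟨j, rfl, hj⟩ := hy'
    rw [P.reflection_apply_root' ℤ]
    refine Submodule.sub_mem _ ?_ (Submodule.smul_mem _ _ hkmem)
    rcases hj with rfl | rfl
    · exact Submodule.subset_span (by simp)
    · exact Submodule.subset_span (by simp)
  | zero => simp
  | add y z _ _ hy hz => rw [map_add]; exact Submodule.add_mem _ hy hz
  | smul n y _ hy => rw [map_zsmul]; exact Submodule.smul_mem _ _ hy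

lemma smul_mem_span_pair (α γ : ι) {v : P.Aut}
    (hv : v ∈ Subgroup.closure ({Equiv.reflection P α, Equiv.reflection P γ} : Set P.Aut)) :
    ∀ x ∈ Submodule.span ℤ ({P.root α, P.root γ} : Set M),
      v • x ∈ Submodule.span ℤ ({P.root α, P.root γ} : Set M) := by
  induction hv using Subgroup.closure_induction'' with
  | mem g hg =>
    intro x hx
    rcases hg with rfl | hg
    · exact reflection_mem_span_pair α γ α (Or.inl rfl) x hx
    · rw [Set.mem_singleton_iff] at hg
      subst hg
      exact reflection_mem_span_pair α γ γ (Or.inr rfl) x hx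
  | inv_mem g hg =>
    intro x hx
    rcases hg with rfl | hg
    · rw [Equiv.reflection_inv]
      exact reflection_mem_span_pair α γ α (Or.inl rfl) x hx
    · rw [Set.mem_singleton_iff] at hg
      subst hg
      rw [Equiv.reflection_inv]
      exact reflection_mem_span_pair α γ γ (Or.inr rfl) x hx
  | one => intro x hx; simpa using hx
  | mul g₁ g₂ _ _ h₁ h₂ =>
    intro x hx
    rw [mul_smul]
    exact h₁ _ (h₂ x hx)

lemma exists_root_smul_eq_pair (α γ : ι) {v : P.Aut}
    (hv : v ∈ Subgroup.closure ({Equiv.reflection P α, Equiv.reflection P γ} : Set P.Aut)) :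
    ∃ a c : ℤ, P.root (v • α) = a • P.root α + c • P.root γ := by
  have h := smul_mem_span_pair α γ hv (P.root α) (Submodule.subset_span (by simp))
  rw [Submodule.mem_span_pair] at h
  obtain ⟨a, c, h⟩ := h
  exact ⟨a, c, by rw [root_smul, h]⟩

end RankTwo

section Tits

variable [CharZero R] [IsDomain R] [Finite ι] [P.IsCrystallographic] [P.IsReduced]

lemma exists_simple_neg_of_ne_one (b : P.Base) {w : P.Aut} (hw : w ∈ P.weylGroup) (hw1 : w ≠ 1) :
    ∃ γ ∈ b.support, ¬ b.IsPos (w • γ) := by
  have h1 : ¬ ∀ i, b.IsPos i → b.IsPos (w • i) := fun h => hw1 (eq_one_of_pos b hw h)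
  push Not at h1
  obtain ⟨i, hi, hi'⟩ := h1
  have h2 : ∃ i, b.IsPos i ∧ ¬ (smulBase w⁻¹ b).IsPos i := by
    refine ⟨i, hi, ?_⟩
    rw [isPos_smulBase', inv_inv]
    exact hi'
  obtain ⟨γ, hγ, hγ'⟩ := exists_simple_not_isPos h2
  refine ⟨γ, hγ, ?_⟩
  rw [isPos_smulBase', inv_inv] at hγ'
  exact hγ'

/-- minimal coset representative for a rank-two parabolic -/
lemma exists_min_coset_rep (b : P.Base) {w : P.Aut} (hw : w ∈ P.weylGroup) {α γ : ι}
    (hα : α ∈ b.support) (hγ : γ ∈ b.support) (hneg : ¬ b.IsPos (w • γ)) :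
    ∃ v ∈ Subgroup.closure ({Equiv.reflection P α, Equiv.reflection P γ} : Set P.Aut),
      len b (w * v⁻¹) < len b w ∧ b.IsPos ((w * v⁻¹) • α) ∧ b.IsPos ((w * v⁻¹) • γ) := by
  set H := Subgroup.closure ({Equiv.reflection P α, Equiv.reflection P γ} : Set P.Aut) with hH
  have hαH : Equiv.reflection P α ∈ H := Subgroup.subset_closure (by simp)
  have hγH : Equiv.reflection P γ ∈ H := Subgroup.subset_closure (by simp)
  have hHW : H ≤ P.weylGroup := by
    rw [hH, Subgroup.closure_le]
    rintro g (rfl | hg)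
    · exact P.reflection_mem_weylGroup α
    · rw [Set.mem_singleton_iff] at hg
      subst hg
      exact P.reflection_mem_weylGroup γ
  obtain ⟨v, hvH, hvmin⟩ : ∃ v ∈ H, ∀ v' ∈ H, len b (w * v⁻¹) ≤ len b (w * v'⁻¹) := by
    obtain ⟨v, hv, hmin⟩ := WellFounded.has_min
      (InvImage.wf (fun v : P.Aut => len b (w * v⁻¹)) Nat.lt_wfRel.wf) (H : Set P.Aut)
      ⟨1, one_mem _⟩
    exact ⟨v, hv, fun v' hv' => not_lt.mp (hmin v' hv')⟩
  have hw' : w * v⁻¹ ∈ P.weylGroup := mul_mem hw (inv_mem (hHW hvH))
  refine ⟨v, hvH, ?_, ?_, ?_⟩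
  · calc len b (w * v⁻¹) ≤ len b (w * (Equiv.reflection P γ)⁻¹) := hvmin _ hγH
      _ = len b (w * Equiv.reflection P γ) := by rw [Equiv.reflection_inv]
      _ < len b w := len_mul_simple_lt b hw hγ hneg
  · by_contra hn
    have h1 := len_mul_simple_lt b hw' hα hn
    have h2 := hvmin (Equiv.reflection P α * v) (mul_mem hαH hvH)
    rw [mul_inv_rev, Equiv.reflection_inv, ← mul_assoc] at h2
    omega
  · by_contra hn
    have h1 := len_mul_simple_lt b hw' hγ hn
    have h2 := hvmin (Equiv.reflection P γ * v) (mul_mem hγH hvH)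
    rw [mul_inv_rev, Equiv.reflection_inv, ← mul_assoc] at h2
    omega

omit [IsDomain R] [Finite ι] [P.IsReduced] in
/-- if `w'` maps the simple roots `α`, `γ` to positive roots and `w' v α` is simple
for `v ∈ ⟨s_α, s_γ⟩` then `v α ∈ {α, γ}`. -/
lemma smul_eq_or_eq_of_simple (b : P.Base) {w' v : P.Aut} {α γ β : ι}
    (hα : α ∈ b.support) (hγ : γ ∈ b.support) (hne : α ≠ γ) (hβ : β ∈ b.support)
    (hv : v ∈ Subgroup.closure ({Equiv.reflection P α, Equiv.reflection P γ} : Set P.Aut))
    (hposα : b.IsPos (w' • α)) (hposγ : b.IsPos (w' • γ)) (hβ' : w' • (v • α) = β) :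
    v • α = α ∨ v • α = γ := by
  obtain ⟨a, c, hac⟩ := exists_root_smul_eq_pair α γ hv
  have hsign := sign_of_root_eq_pair b hα hγ hne hac
  have h1 : P.root β = a • P.root (w' • α) + c • P.root (w' • γ) := by
    rw [← hβ', root_smul, hac, smul_add, root_smul, root_smul]
    congr 1
    · exact (DistribSMul.toAddMonoidHom M w').map_zsmul _ _
    · exact (DistribSMul.toAddMonoidHom M w').map_zsmul _ _
  have h2 := height_eq_of_root_eq_pair b h1
  rw [RootPairing.Base.height_one_of_mem_support hβ] at h2
  rw [RootPairing.Base.isPos_iff] at hposα hposγ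
  have hcase : (a = 1 ∧ c = 0) ∨ (a = 0 ∧ c = 1) := by
    rcases hsign with ⟨ha, hc⟩ | ⟨ha, hc⟩
    · rcases ha.eq_or_lt with ha0 | ha0
      · right
        refine ⟨ha0.symm, ?_⟩
        rw [← ha0] at h2
        have : c * b.height (w' • γ) = 1 := by linarith
        nlinarith
      · left
        have h3 : 0 ≤ c * b.height (w' • γ) := mul_nonneg hc hposγ.le
        have h4 : a ≤ a * b.height (w' • α) := by nlinarith
        have ha1 : a = 1 := by omega
        refine ⟨ha1, ?_⟩
        rw [ha1] at h2
        have : c * b.height (w' • γ) ≤ 0 := by linarith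
        by_contra hc0
        have : 0 < c := lt_of_le_of_ne hc (Ne.symm hc0)
        nlinarith
    · exfalso
      have h3 : a * b.height (w' • α) ≤ 0 := mul_nonpos_of_nonpos_of_nonneg ha hposα.le
      have h4 : c * b.height (w' • γ) ≤ 0 := mul_nonpos_of_nonpos_of_nonneg hc hposγ.le
      omega
  rcases hcase with ⟨rfl, rfl⟩ | ⟨rfl, rfl⟩
  · left
    apply P.root.injective
    rw [hac]; simp
  · right
    apply P.root.injective
    rw [hac]; simp

theorem tits_decomposition (b : P.Base) (n : ℕ) :
    ∀ (w : P.Aut), w ∈ P.weylGroup → len b w = n → ∀ α β : ι, α ∈ b.support → β ∈ b.support →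
    w • α = β →
    ∃ (m : ℕ) (a : Fin (m + 1) → ι) (ws : Fin m → P.Aut),
      (∀ i, a i ∈ b.support) ∧ a 0 = α ∧ a (Fin.last m) = β ∧
      (∀ i, ws i ∈ P.weylGroup) ∧
      w = (List.ofFn fun i : Fin m => ws (Fin.rev i)).prod ∧
      (∀ i : Fin m, ws i • a (Fin.castSucc i) = a (Fin.succ i)) ∧
      ∀ i : Fin m, ∃ γ ∈ b.support,
        ws i ∈ Subgroup.closure {Equiv.reflection P (a (Fin.castSucc i)), Equiv.reflection P γ} ∧
        (a (Fin.castSucc i) ≠ a (Fin.succ i) → γ = a (Fin.succ i)) := by
  induction n using Nat.strongRecOn with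
  | ind n ih =>
    intro w hw hn α β hα hβ hwα
    by_cases hw1 : w = 1
    · subst hw1
      refine ⟨0, fun _ => α, Fin.elim0, fun _ => hα, rfl, ?_, fun i => i.elim0, by simp,
        fun i => i.elim0, fun i => i.elim0⟩
      simpa using hwα
    · obtain ⟨γ, hγ, hneg⟩ := exists_simple_neg_of_ne_one b hw hw1
      have hne : α ≠ γ := by
        rintro rfl
        apply hneg
        rw [hwα]
        exact RootPairing.Base.isPos_of_mem_support hβ
      obtain ⟨v, hvH, hlen, hposα, hposγ⟩ := exists_min_coset_rep b hw hα hγ hneg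
      have hHW : Subgroup.closure ({Equiv.reflection P α, Equiv.reflection P γ} : Set P.Aut) ≤
          P.weylGroup := by
        rw [Subgroup.closure_le]
        rintro g (rfl | hg)
        · exact P.reflection_mem_weylGroup α
        · rw [Set.mem_singleton_iff] at hg
          subst hg
          exact P.reflection_mem_weylGroup γ
      have hw' : w * v⁻¹ ∈ P.weylGroup := mul_mem hw (inv_mem (hHW hvH))
      have hβ' : (w * v⁻¹) • (v • α) = β := by
        rw [← mul_smul, inv_mul_cancel_right, hwα]
      have hδ := smul_eq_or_eq_of_simple b hα hγ hne hβ hvH hposα hposγ hβ'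
      have hδs : v • α ∈ b.support := by
        rcases hδ with h | h
        · rw [h]; exact hα
        · rw [h]; exact hγ
      obtain ⟨m', a', ws', h1, h2, h3, h4, h5, h6, h7⟩ :=
        ih (len b (w * v⁻¹)) (hn ▸ hlen) (w * v⁻¹) hw' rfl (v • α) β hδs hβ hβ'
      refine ⟨m' + 1, Fin.cons α a', Fin.cons v ws', ?_, ?_, ?_, ?_, ?_, ?_, ?_⟩
      · intro i
        refine Fin.cases ?_ (fun k => ?_) i
        · simpa using hα
        · simpa using h1 k
      · simp
      · rw [← Fin.succ_last, Fin.cons_succ]
        exact h3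
      · intro i
        refine Fin.cases ?_ (fun k => ?_) i
        · simpa using hHW hvH
        · simpa using h4 k
      · rw [List.ofFn_succ', List.concat_eq_append, List.prod_append]
        have e1 : (fun i : Fin m' => (Fin.cons v ws' : Fin (m' + 1) → P.Aut)
            (Fin.rev (Fin.castSucc i))) = fun i : Fin m' => ws' (Fin.rev i) := by
          funext i
          rw [Fin.rev_castSucc, Fin.cons_succ]
        have e2 : (Fin.cons v ws' : Fin (m' + 1) → P.Aut) (Fin.rev (Fin.last m')) = v := by
          rw [Fin.rev_last, Fin.cons_zero]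
        rw [e1, e2, ← h5, List.prod_singleton, inv_mul_cancel_right]
      · intro i
        refine Fin.cases ?_ (fun k => ?_) i
        · simp only [Fin.castSucc_zero, Fin.cons_zero, Fin.cons_succ]
          exact h2.symm
        · rw [← Fin.succ_castSucc, Fin.cons_succ, Fin.cons_succ, Fin.cons_succ]
          exact h6 k
      · intro i
        refine Fin.cases ?_ (fun k => ?_) i
        · refine ⟨γ, hγ, ?_, ?_⟩
          · simpa using hvH
          · simp only [Fin.castSucc_zero, Fin.cons_zero, Fin.cons_succ]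
            rw [h2]
            intro hne'
            rcases hδ with h | h
            · exact absurd h.symm hne'
            · exact h.symm
        · obtain ⟨γ', hγ', h8, h9⟩ := h7 k
          refine ⟨γ', hγ', ?_, ?_⟩
          · rw [← Fin.succ_castSucc, Fin.cons_succ, Fin.cons_succ]
            exact h8
          · rw [← Fin.succ_castSucc, Fin.cons_succ, Fin.cons_succ]
            exact h9

end Tits

end Groth.Agent.Lib.Helper27.Weyl
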